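import Cfsg.Agent.CharBasic.Complete
import Cfsg.Agent.CharInduce.Ops
import Cfsg.Agent.BlockBasic.Basic
import Cfsg.Agent.Cores.Basic
import Cfsg.Agent.Cores.PCore
import Mathlib.GroupTheory.Abelianization.Finite
import Mathlib.RingTheory.RootsOfUnity.AlgebraicallyClosed
import Cfsg.Prelude.Def_CaseTheorems

/-!
# Characters with `χ(1) - χ(u)` constant or `χ(u) = 0`
-/

set_option linter.style.haveILetI false

namespace Cfsg.Agent.H84

open Cfsg.Agent
open scoped ComplexConjugate

variable {G : Type*} [Group G] [Finite G]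

/-- A finite group that is not perfect has a nontrivial homomorphism to `ℂˣ`. -/
theorem exists_hom_ne_one_of_imperfect (h : commutator G ≠ ⊤) : ∃ l : G →* ℂˣ, l ≠ 1 := by
  obtain ⟨a, ha⟩ : ∃ a : Abelianization G, a ≠ 1 := by
    by_contra hall
    push Not at hall
    refine h (eq_top_iff.2 fun g _ => ?_)
    rw [← Abelianization.ker_of G]
    exact hall _
  cases nonempty_fintype G
  obtain ⟨φ, hφ⟩ := CommGroup.exists_apply_ne_one_of_hasEnoughRootsOfUnity (Abelianization G) ℂ ha
  obtain ⟨g, rfl⟩ := QuotientGroup.mk_surjective a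
  refine ⟨φ.comp Abelianization.of, fun h1 => hφ ?_⟩
  exact congrArg (fun f : G →* ℂˣ => f g) h1

/-- An element of order 2 whose centralizer is itself lies in Sylow subgroups of order 2. -/
theorem not_four_dvd_of_centralizer_eq (u : G) (hu : orderOf u = 2)
    (hC : Nat.card (Subgroup.centralizer ({u} : Set G)) = 2) : ¬ 4 ∣ Nat.card G := by
  haveI : Fact (Nat.Prime 2) := ⟨Nat.prime_two⟩
  have hp : IsPGroup 2 (Subgroup.zpowers u) := IsPGroup.of_card (n := 1) (by simp [hu])
  obtain ⟨P, hP⟩ := hp.exists_le_sylow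
  have huP : u ∈ (P : Subgroup G) := hP (Subgroup.mem_zpowers u)
  haveI : Nontrivial (P : Subgroup G) :=
    ⟨⟨⟨u, huP⟩, 1, fun h => by simp [Subtype.ext_iff] at h; simp [h] at hu⟩⟩
  haveI := IsPGroup.center_nontrivial P.isPGroup'
  obtain ⟨z, hz⟩ := exists_ne (1 : Subgroup.center (P : Subgroup G))
  have hzC : ((z : (P : Subgroup G)) : G) ∈ Subgroup.centralizer ({u} : Set G) := by
    rw [Subgroup.mem_centralizer_singleton_iff]
    exact congrArg Subtype.val ((Subgroup.mem_center_iff.1 z.2 ⟨u, huP⟩).symm)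
  have hCeq : Subgroup.zpowers u = Subgroup.centralizer ({u} : Set G) := by
    refine Subgroup.eq_of_le_of_card_ge ?_ (by rw [hC, Nat.card_zpowers, hu])
    rw [Subgroup.zpowers_le, Subgroup.mem_centralizer_singleton_iff]
  have hzu : ((z : (P : Subgroup G)) : G) = u := by
    rw [← hCeq] at hzC
    obtain ⟨k, hk⟩ := Subgroup.mem_zpowers_iff.1 hzC
    rw [← zpow_mod_orderOf, hu] at hk
    rcases Int.emod_two_eq_zero_or_one k with h | h <;> rw [Nat.cast_two, h] at hk
    · exact absurd (Subtype.ext (Subtype.ext (by rw [← hk, zpow_zero]; rfl))) hz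
    · rw [← hk, zpow_one]
  have hle : (P : Subgroup G) ≤ Subgroup.centralizer ({u} : Set G) := fun x hx => by
    rw [Subgroup.mem_centralizer_singleton_iff, ← hzu]
    exact congrArg Subtype.val (Subgroup.mem_center_iff.1 z.2 ⟨x, hx⟩)
  intro h4
  have h1 : 2 ^ 2 ∣ Nat.card G := h4
  have h3 : Nat.card (P : Subgroup G) ≤ 2 := (Subgroup.card_le_of_le hle).trans hC.le
  rw [P.card_eq_multiplicity] at h3
  have := Nat.pow_le_pow_right (show 0 < 2 by norm_num)
    ((Nat.Prime.pow_dvd_iff_le_factorization Nat.prime_two Nat.card_pos.ne').1 h1)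
  omega

/-- S4757. -/
theorem constant_minus_or_zero (u : G) (hu : u ≠ 1) (c : ℂ)
    (hyp : ∀ χ : Cfsg.IrrCharacter G, (χ : G → ℂ) ≠ (fun _ => (1 : ℂ)) →
      ((χ : G → ℂ) 1 - (χ : G → ℂ) u = c ∨ (χ : G → ℂ) u = 0)) :
    ((orderOf u = 2 ∧ Subgroup.zpowers u ⊔ Cfsg.oddCore G = ⊤ ∧
      Subgroup.centralizer ({u} : Set G) = Subgroup.zpowers u) ↔ commutator G ≠ ⊤) ∧
    (commutator G ≠ ⊤ ↔ c = 2) := by
  classical
  cases nonempty_fintype G
  let one : Cfsg.IrrCharacter G := ⟨fun _ => 1, CharBasic.isIrrCharacter_one⟩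
  let T : Finset (Cfsg.IrrCharacter G) := Finset.univ.filter fun χ =>
    χ ≠ one ∧ (χ : G → ℂ) u ≠ 0
  let d : Cfsg.IrrCharacter G → ℕ := fun χ => Cfsg.charDegree (χ : G → ℂ)
  have hd : ∀ χ : Cfsg.IrrCharacter G, (χ : G → ℂ) 1 = (d χ : ℂ) :=
    fun χ => BlockBasic.apply_one_eq_charDegree χ
  have hd1 : ∀ χ : Cfsg.IrrCharacter G, 1 ≤ d χ := fun χ => BlockBasic.charDegree_pos χ
  have hT : ∀ χ ∈ T, (χ : G → ℂ) u = (d χ : ℂ) - c := fun χ hχ => by
    simp only [T, Finset.mem_filter] at hχ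
    rcases hyp χ (fun h => hχ.2.1 (Subtype.ext h)) with h | h
    · rw [← h, hd χ]; ring
    · exact absurd h hχ.2.2
  have hsplit : ∀ F : Cfsg.IrrCharacter G → ℂ, (∀ χ : Cfsg.IrrCharacter G,
      (χ : G → ℂ) u = 0 → F χ = 0) →
      ∑ χ : Cfsg.IrrCharacter G, F χ = F one + ∑ χ ∈ T, F χ := by
    intro F hF
    rw [← Finset.add_sum_erase _ _ (Finset.mem_univ one)]
    congr 1
    symm
    refine Finset.sum_subset (fun χ hχ => ?_) fun χ hχ hχT => ?_
    · simp only [T, Finset.mem_filter] at hχ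
      exact Finset.mem_erase.2 ⟨hχ.2.1, Finset.mem_univ _⟩
    · refine hF χ ?_
      by_contra h
      exact hχT (Finset.mem_filter.2 ⟨Finset.mem_univ _, (Finset.mem_erase.1 hχ).1, h⟩)
  have E1 : 1 + ∑ χ ∈ T, (d χ : ℂ) * ((d χ : ℂ) - c) = 0 := by
    have h := CharBasic.sum_degree_mul_apply u
    rw [if_neg hu, hsplit _ (fun χ h0 => by rw [h0, mul_zero])] at h
    rw [← h]
    congr 1
    · simp [one]
    · exact Finset.sum_congr rfl fun χ hχ => by rw [hd χ, hT χ hχ]
  obtain ⟨r, rfl⟩ : ∃ r : ℝ, c = (r : ℂ) := by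
    have h := congrArg conj E1
    simp only [map_add, map_one, map_sum, map_mul, map_sub, Complex.conj_natCast, map_zero] at h
    have h2 : (conj c - c) * ∑ χ ∈ T, (d χ : ℂ) = 0 := by
      rw [Finset.mul_sum]
      have h3 : ∑ χ ∈ T, ((d χ : ℂ) * ((d χ : ℂ) - c) - (d χ : ℂ) * ((d χ : ℂ) - conj c)) = 0 := by
        rw [Finset.sum_sub_distrib]
        linear_combination E1 - h
      rw [← h3]
      exact Finset.sum_congr rfl fun χ _ => by ring
    rcases mul_eq_zero.1 h2 with h4 | h4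
    · exact ⟨c.re, (Complex.conj_eq_iff_re.1 (sub_eq_zero.1 h4)).symm⟩
    · rw [← Nat.cast_sum, Nat.cast_eq_zero, Finset.sum_eq_zero_iff] at h4
      have : T = ∅ := Finset.eq_empty_of_forall_notMem fun χ hχ => by
        have := h4 χ hχ; have := hd1 χ; omega
      rw [this] at E1
      simp at E1
  have E1r : 1 + ∑ χ ∈ T, (d χ : ℝ) * ((d χ : ℝ) - r) = 0 := by exact_mod_cast E1
  have E2 : (Nat.card (Subgroup.centralizer ({u} : Set G)) : ℝ) =
      -r * ∑ χ ∈ T, ((d χ : ℝ) - r) := by
    have h := CharBasic.second_orthogonality_self u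
    rw [hsplit _ (fun χ h0 => by rw [h0, zero_mul])] at h
    have h1 : (one : G → ℂ) u * conj ((one : G → ℂ) u) +
        ∑ χ ∈ T, (χ : G → ℂ) u * conj ((χ : G → ℂ) u) =
        ((1 + ∑ χ ∈ T, ((d χ : ℝ) - r) * ((d χ : ℝ) - r) : ℝ) : ℂ) := by
      push_cast
      congr 1
      · simp [one]
      · exact Finset.sum_congr rfl fun χ hχ => by
          rw [hT χ hχ]; simp
    rw [h1] at h
    have h2 : (1 + ∑ χ ∈ T, ((d χ : ℝ) - r) * ((d χ : ℝ) - r) : ℝ) =
        (Nat.card (Subgroup.centralizer ({u} : Set G)) : ℝ) := by exact_mod_cast h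
    rw [← h2, Finset.mul_sum]
    have : ∑ χ ∈ T, ((d χ : ℝ) - r) * ((d χ : ℝ) - r) = ∑ χ ∈ T, (d χ : ℝ) * ((d χ : ℝ) - r) +
        ∑ χ ∈ T, -r * ((d χ : ℝ) - r) := by
      rw [← Finset.sum_add_distrib]
      exact Finset.sum_congr rfl fun χ _ => by ring
    linarith
  obtain ⟨χ₀, hχ₀, hlt⟩ : ∃ χ ∈ T, (d χ : ℝ) < r := by
    by_contra hc
    push Not at hc
    have : (0 : ℝ) ≤ ∑ χ ∈ T, (d χ : ℝ) * ((d χ : ℝ) - r) :=
      Finset.sum_nonneg fun χ hχ => mul_nonneg (Nat.cast_nonneg _) (sub_nonneg.2 (hc χ hχ))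
    linarith
  have hr1 : 1 < r := lt_of_le_of_lt (by exact_mod_cast hd1 χ₀) hlt
  -- linear characters
  have hlin : ∀ l : G →* ℂˣ, l ≠ 1 →
      (⟨fun g => (l g : ℂ), CharInduce.isIrrCharacter_hom l⟩ : Cfsg.IrrCharacter G) ∈ T ∧
        (l u : ℂ) = -1 ∧ r = 2 := by
    intro l hl
    set χ : Cfsg.IrrCharacter G := ⟨fun g => (l g : ℂ), CharInduce.isIrrCharacter_hom l⟩
    have hm : χ ∈ T := Finset.mem_filter.2 ⟨Finset.mem_univ _, fun h => hl (MonoidHom.ext fun g =>
      Units.ext (congrFun (congrArg Subtype.val h) g)), Units.ne_zero _⟩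
    have hd' : d χ = 1 := by simp [d, χ, Cfsg.charDegree]
    have hv : (l u : ℂ) = ((1 - r : ℝ) : ℂ) := by
      have := hT χ hm
      rw [hd'] at this
      push_cast
      simpa [χ] using this
    have hn := CharInduce.norm_hom l u
    rw [hv, Complex.norm_real, Real.norm_eq_abs, abs_of_neg (by linarith)] at hn
    have h2 : r = 2 := by linarith
    exact ⟨hm, by rw [hv, h2]; norm_num, h2⟩
  have hbc : commutator G ≠ ⊤ → r = 2 := fun h => by
    obtain ⟨l, hl⟩ := exists_hom_ne_one_of_imperfect h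
    exact (hlin l hl).2.2
  have hcb : r = 2 → commutator G ≠ ⊤ := by
    intro h2 htop
    have hd' : d χ₀ = 1 := by
      have h3 : (d χ₀ : ℝ) < 2 := h2 ▸ hlt
      have h4 : d χ₀ < 2 := by exact_mod_cast h3
      have := hd1 χ₀
      omega
    obtain ⟨l, hl⟩ := CharInduce.IsChar.exists_hom_of_degree_one
      (CharBasic.IsIrr.isCharacter χ₀.2) (by rw [hd χ₀, hd', Nat.cast_one])
    apply (Finset.mem_filter.1 hχ₀).2.1
    refine Subtype.ext (funext fun g => ?_)
    have : g ∈ l.ker := Abelianization.commutator_subset_ker l (by rw [htop]; trivial)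
    rw [MonoidHom.mem_ker] at this
    simp [one, hl, this]
  refine ⟨⟨?_, fun hb => ?_⟩, fun h => by rw [hbc h]; norm_num, fun h => hcb (by exact_mod_cast h)⟩
  · rintro ⟨ho, hgen, -⟩ htop
    haveI : (Cfsg.oddCore G).Normal := by
      show (Cfsg.pPrimeCore 2 G).Normal
      infer_instance
    have hab : commutator G ≤ Cfsg.oddCore G := by
      rw [commutator_def, Subgroup.commutator_le]
      intro a _ b _
      have hcyc : ∀ g : G, ∃ k : ℤ, (g : G ⧸ Cfsg.oddCore G) =
          (u : G ⧸ Cfsg.oddCore G) ^ k := by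
        intro g
        have hg : g ∈ Subgroup.zpowers u ⊔ Cfsg.oddCore G := by rw [hgen]; trivial
        obtain ⟨y, hy, z, hz, rfl⟩ := Subgroup.mem_sup_of_normal_right.1 hg
        obtain ⟨k, rfl⟩ := Subgroup.mem_zpowers_iff.1 hy
        refine ⟨k, ?_⟩
        rw [QuotientGroup.mk_mul, (QuotientGroup.eq_one_iff z).2 hz, mul_one]
        rfl
      obtain ⟨i, hi⟩ := hcyc a
      obtain ⟨j, hj⟩ := hcyc b
      rw [← QuotientGroup.eq_one_iff, commutatorElement_def]
      simp only [QuotientGroup.mk_mul, QuotientGroup.mk_inv, hi, hj]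
      group
    rw [htop, top_le_iff] at hab
    have hcop := Cores.coprime_card_pPrimeCore (p := 2) (G := G)
    rw [show Cfsg.pPrimeCore 2 G = ⊤ from hab, Subgroup.card_top] at hcop
    have h2 : 2 ∣ Nat.card G := ho ▸ orderOf_dvd_natCard u
    exact absurd (Nat.eq_one_of_dvd_coprimes hcop h2 dvd_rfl) (by norm_num)
  · have h2 := hbc hb
    obtain ⟨l, hl⟩ := exists_hom_ne_one_of_imperfect hb
    obtain ⟨hlT, hlu, -⟩ := hlin l hl
    set χl : Cfsg.IrrCharacter G := ⟨fun g => (l g : ℂ), CharInduce.isIrrCharacter_hom l⟩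
    have huniq : ∀ m : G →* ℂˣ, m ≠ 1 → m = l := by
      intro m hm
      have key : ∀ m' : G →* ℂˣ, m' ≠ 1 → m' * l = 1 := fun m' hm' => by
        by_contra hne
        have h3 := (hlin _ hne).2.1
        rw [MonoidHom.mul_apply, Units.val_mul, hlu, (hlin m' hm').2.1] at h3
        norm_num at h3
      have h3 := key m hm
      rw [← key l hl] at h3
      exact mul_right_cancel h3
    have hnonneg : ∀ χ ∈ T.erase χl, (0 : ℝ) ≤ (d χ : ℝ) - r := by
      intro χ hχ
      obtain ⟨hne, hχT⟩ := Finset.mem_erase.1 hχ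
      have h3 : 2 ≤ d χ := by
        by_contra hlt2
        have hd' : d χ = 1 := by have := hd1 χ; omega
        obtain ⟨m, hm⟩ := CharInduce.IsChar.exists_hom_of_degree_one
          (CharBasic.IsIrr.isCharacter χ.2) (by rw [hd χ, hd', Nat.cast_one])
        apply hne
        refine Subtype.ext (funext fun g => ?_)
        have hm1 : m ≠ 1 := fun h => (Finset.mem_filter.1 hχT).2.1
          (Subtype.ext (funext fun g => by simp [one, hm, h]))
        simp [χl, hm, huniq m hm1]
      have : (2 : ℝ) ≤ (d χ : ℝ) := by exact_mod_cast h3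
      linarith
    have hS : -1 ≤ ∑ χ ∈ T, ((d χ : ℝ) - r) := by
      rw [← Finset.add_sum_erase _ _ hlT]
      have := Finset.sum_nonneg hnonneg
      have h3 : (d χl : ℝ) = 1 := by simp [d, χl, Cfsg.charDegree]
      linarith
    have hC2 : Nat.card (Subgroup.centralizer ({u} : Set G)) ≤ 2 := by
      have : (Nat.card (Subgroup.centralizer ({u} : Set G)) : ℝ) ≤ 2 := by
        rw [E2, h2]; rw [h2] at hS; linarith
      exact_mod_cast this
    have hle : Subgroup.zpowers u ≤ Subgroup.centralizer ({u} : Set G) := by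
      rw [Subgroup.zpowers_le, Subgroup.mem_centralizer_singleton_iff]
    have ho : orderOf u = 2 := by
      have h3 := Subgroup.card_le_of_le hle
      rw [Nat.card_zpowers] at h3
      have h4 : orderOf u ≠ 1 := fun h => hu (orderOf_eq_one_iff.1 h)
      have h5 := orderOf_pos u
      omega
    have hC : Subgroup.zpowers u = Subgroup.centralizer ({u} : Set G) :=
      Subgroup.eq_of_le_of_card_ge hle (by rw [Nat.card_zpowers, ho]; exact hC2)
    refine ⟨ho, ?_, hC.symm⟩
    set K := l.ker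
    have hsq : ∀ g : G, l g * l g = 1 := fun g => by
      by_contra hg
      have hne : l * l ≠ 1 := fun h => hg (congrArg (fun f : G →* ℂˣ => f g) h)
      have h3 := (hlin _ hne).2.1
      rw [MonoidHom.mul_apply, Units.val_mul, hlu] at h3
      norm_num at h3
    have huK : u ∉ K := fun h => by
      rw [MonoidHom.mem_ker] at h
      rw [h] at hlu
      norm_num at hlu
    have hidx : K.index = 2 := Subgroup.index_eq_two_iff.2 ⟨u, fun b => by
      have hb : (l b : ℂ) = 1 ∨ (l b : ℂ) = -1 := by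
        have := congrArg Units.val (hsq b)
        rw [Units.val_mul, Units.val_one] at this
        exact mul_self_eq_one_iff.1 this
      rcases hb with hb | hb
      · refine Or.inr ⟨by rw [MonoidHom.mem_ker]; exact Units.ext hb, fun h => huK ?_⟩
        rw [MonoidHom.mem_ker, map_mul, show l b = 1 from Units.ext hb, one_mul] at h
        exact h
      · refine Or.inl ⟨?_, fun h => ?_⟩
        · rw [MonoidHom.mem_ker]
          refine Units.ext ?_
          rw [map_mul, Units.val_mul, hb, hlu, Units.val_one]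
          norm_num
        · rw [MonoidHom.mem_ker] at h
          rw [h] at hb
          norm_num at hb⟩
    have hodd : (Nat.card K).Coprime 2 := by
      rw [Nat.coprime_comm, Nat.Prime.coprime_iff_not_dvd Nat.prime_two]
      rintro ⟨k, hk⟩
      refine not_four_dvd_of_centralizer_eq u ho (by rw [← hC, Nat.card_zpowers, ho]) ⟨k, ?_⟩
      rw [← K.card_mul_index, hidx, hk]; ring
    refine top_le_iff.1 fun g _ => ?_
    have hKle : K ≤ Cfsg.oddCore G := le_sSup ⟨inferInstance, hodd⟩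
    by_cases hg : g ∈ K
    · exact Subgroup.mem_sup_right (hKle hg)
    · have hgu : g * u ∈ K := by
        rw [Subgroup.mul_mem_iff_of_index_two hidx]
        exact ⟨fun h => absurd h hg, fun h => absurd h huK⟩
      have : g = (g * u) * u⁻¹ := by group
      rw [this]
      exact mul_mem (Subgroup.mem_sup_right (hKle hgu))
        (inv_mem (Subgroup.mem_sup_left (Subgroup.mem_zpowers u)))

end Cfsg.Agent.H84
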