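import Cfsg.Agent.CharBasic.Complete
import Cfsg.Agent.CharBasic.Kernel
import Cfsg.Agent.CharInduce.Ops
import Cfsg.Agent.BlockBasic.Basic
import Cfsg.Agent.PGroups.Extraspecial
import Cfsg.Agent.PGroups.Basic
import Cfsg.Agent.Cores.Basic
import Cfsg.Agent.S0154
import Cfsg.Agent.H84.ConstantMinus

/-!
# Groups with exactly one irreducible character of degree divisible by `p`
-/

set_option linter.style.haveILetI false

namespace Cfsg.Agent.H84

open Cfsg.Agent
open scoped ComplexConjugate commutatorElement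

variable {G : Type*} [Group G] [Finite G]

/-- Twisting an irreducible character by a linear one. -/
theorem isIrr_hom_mul (l : G →* ℂˣ) (χ : Cfsg.IrrCharacter G) :
    Cfsg.IsIrrCharacter G (fun g => (l g : ℂ) * (χ : G → ℂ) g) := by
  cases nonempty_fintype G
  refine CharInduce.isIrr_of_norm_one (CharInduce.IsChar.mul (CharInduce.isCharacter_hom l)
    (CharBasic.IsIrr.isCharacter χ.2)) ?_
  refine Eq.trans ?_ (CharBasic.classInner_irr_self χ.2)
  rw [CharBasic.classInner_def, CharBasic.classInner_def]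
  congr 1
  refine Finset.sum_congr rfl fun g _ => ?_
  simp only [Pi.mul_apply, map_mul]
  have : (l g : ℂ) * conj (l g : ℂ) = 1 := by
    rw [Complex.mul_conj', CharInduce.norm_hom]
    simp
  linear_combination ((χ : G → ℂ) g * conj ((χ : G → ℂ) g)) * this

theorem normSq_le_degree_sq (χ : Cfsg.IrrCharacter G) (g : G) :
    Complex.normSq ((χ : G → ℂ) g) ≤ (Cfsg.charDegree (χ : G → ℂ) : ℝ) ^ 2 := by
  have h := CharBasic.IsChar.norm_le (CharBasic.IsIrr.isCharacter χ.2) g
  rw [BlockBasic.apply_one_eq_charDegree, Complex.norm_natCast] at h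
  rw [Complex.normSq_eq_norm_sq]
  exact pow_le_pow_left₀ (norm_nonneg _) h 2

theorem sum_normSq (g : G) [Fintype (Cfsg.IrrCharacter G)] :
    ∑ ψ : Cfsg.IrrCharacter G, Complex.normSq ((ψ : G → ℂ) g) =
      (Nat.card (Subgroup.centralizer ({g} : Set G)) : ℝ) := by
  have h := CharBasic.second_orthogonality_self g
  simp only [Complex.mul_conj] at h
  apply_fun Complex.re at h
  simp only [Complex.re_sum, Complex.ofReal_re, Complex.natCast_re] at h
  convert h using 2
  exact Finset.ext fun x => by simp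

theorem sum_degree_sq_real [Fintype (Cfsg.IrrCharacter G)] :
    ∑ ψ : Cfsg.IrrCharacter G, (Cfsg.charDegree (ψ : G → ℂ) : ℝ) ^ 2 = (Nat.card G : ℝ) := by
  have h := CharBasic.sum_sq_degree (G := G)
  simp only [BlockBasic.apply_one_eq_charDegree] at h
  have h2 : ∑ ψ : Cfsg.IrrCharacter G, Cfsg.charDegree (ψ : G → ℂ) ^ 2 = Nat.card G := by
    have h3 : ((∑ ψ : Cfsg.IrrCharacter G, Cfsg.charDegree (ψ : G → ℂ) ^ 2 : ℕ) : ℂ) =
        (Nat.card G : ℂ) := by
      push_cast
      convert h using 2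
      exact Finset.ext fun x => by simp
    exact_mod_cast h3
  exact_mod_cast h2

/-- Central elements take values of absolute value `χ(1)`. -/
theorem normSq_of_mem_center (χ : Cfsg.IrrCharacter G) {z : G} (hz : z ∈ Subgroup.center G) :
    Complex.normSq ((χ : G → ℂ) z) = (Cfsg.charDegree (χ : G → ℂ) : ℝ) ^ 2 := by
  cases nonempty_fintype (Cfsg.IrrCharacter G)
  have hC : Subgroup.centralizer ({z} : Set G) = ⊤ := eq_top_iff.2 fun x _ => by
    rw [Subgroup.mem_centralizer_singleton_iff]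
    exact Subgroup.mem_center_iff.1 hz x
  have h := sum_normSq z
  rw [hC, Subgroup.card_top, ← sum_degree_sq_real] at h
  exact (Finset.sum_eq_sum_iff_of_le fun ψ _ => normSq_le_degree_sq ψ z).1 h χ (Finset.mem_univ _)

/-- The number of linear characters. -/
theorem card_degree_one :
    Nat.card {χ : Cfsg.IrrCharacter G // Cfsg.charDegree (χ : G → ℂ) = 1} =
      (commutator G).index := by
  rw [← S0154.result (G := G)]
  refine Nat.card_congr (Equiv.subtypeEquivRight fun χ => ?_)
  rw [BlockBasic.apply_one_eq_charDegree, Nat.cast_eq_one]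

/-- `|G| = [G : G'] + ∑ χ(1)²` over nonlinear `χ`. -/
theorem card_eq_index_add_sum [Fintype (Cfsg.IrrCharacter G)] :
    Nat.card G = (commutator G).index +
      ∑ χ ∈ Finset.univ.filter (fun χ : Cfsg.IrrCharacter G =>
        ¬ Cfsg.charDegree (χ : G → ℂ) = 1), Cfsg.charDegree (χ : G → ℂ) ^ 2 := by
  classical
  have h := sum_degree_sq_real (G := G)
  have h2 : ∑ ψ : Cfsg.IrrCharacter G, Cfsg.charDegree (ψ : G → ℂ) ^ 2 = Nat.card G := by
    exact_mod_cast h
  rw [← h2, ← Finset.sum_filter_add_sum_filter_not Finset.univ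
    (fun χ : Cfsg.IrrCharacter G => Cfsg.charDegree (χ : G → ℂ) = 1), ← card_degree_one,
    Nat.card_eq_fintype_card, Fintype.card_subtype]
  congr 1
  rw [Finset.card_eq_sum_ones]
  exact Finset.sum_congr rfl fun χ hχ => by rw [(Finset.mem_filter.1 hχ).2, one_pow]

/-- An extraspecial 2-group has exactly one character of even degree. -/
theorem unique_even_degree_of_extraspecial (hE : Cfsg.IsExtraspecial 2 G) :
    Nat.card {χ : Cfsg.IrrCharacter G // 2 ∣ Cfsg.charDegree (χ : G → ℂ)} = 1 := by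
  classical
  haveI : Fact (Nat.Prime 2) := ⟨Nat.prime_two⟩
  cases nonempty_fintype G
  cases nonempty_fintype (Cfsg.IrrCharacter G)
  obtain ⟨n, hn, hcard⟩ := PGroups.isExtraspecial_card hE
  set m := (commutator G).index with hm
  have hGm : Nat.card G = 2 * m := by
    rw [← (commutator G).card_mul_index, hE.1.2.2, hE.2, hm, hE.1.2.2]
  have hm2 : m = (2 ^ n) ^ 2 := by
    have : 2 * m = 2 ^ (2 * n + 1) := hGm ▸ hcard
    rw [pow_succ, pow_mul, mul_comm] at this
    rw [← pow_mul, mul_comm n 2, pow_mul]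
    omega
  let N : Finset (Cfsg.IrrCharacter G) :=
    Finset.univ.filter fun χ => ¬ Cfsg.charDegree (χ : G → ℂ) = 1
  have hvan : ∀ χ ∈ N, ∀ g, g ∉ Subgroup.center G → Complex.normSq ((χ : G → ℂ) g) = 0 := by
    intro χ hχ g hg
    have hC : Nat.card (Subgroup.centralizer ({g} : Set G)) ≤ m := by
      have hne : Subgroup.centralizer ({g} : Set G) ≠ ⊤ := fun h =>
        hg (Subgroup.mem_center_iff.2 fun x =>
          Subgroup.mem_centralizer_singleton_iff.1 (h ▸ Subgroup.mem_top x))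
      have h1 := (Subgroup.centralizer ({g} : Set G)).card_mul_index
      have h2 : 2 ≤ (Subgroup.centralizer ({g} : Set G)).index := by
        have := Nat.pos_of_ne_zero (Subgroup.centralizer ({g} : Set G)).index_ne_zero_of_finite
        have : (Subgroup.centralizer ({g} : Set G)).index ≠ 1 := mt Subgroup.index_eq_one.1 hne
        omega
      rw [hGm] at h1
      nlinarith
    have h := sum_normSq g
    rw [← Finset.sum_filter_add_sum_filter_not Finset.univ
      (fun χ : Cfsg.IrrCharacter G => Cfsg.charDegree (χ : G → ℂ) = 1)] at h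
    have h1 : ∑ ψ ∈ Finset.univ.filter
        (fun χ : Cfsg.IrrCharacter G => Cfsg.charDegree (χ : G → ℂ) = 1),
        Complex.normSq ((ψ : G → ℂ) g) = (m : ℝ) := by
      rw [hm, ← card_degree_one, Nat.card_eq_fintype_card, Fintype.card_subtype,
        Finset.card_eq_sum_ones]
      push_cast
      refine Finset.sum_congr rfl fun ψ hψ => ?_
      obtain ⟨l, hl⟩ := CharInduce.IsChar.exists_hom_of_degree_one
        (CharBasic.IsIrr.isCharacter ψ.2)
        (by rw [BlockBasic.apply_one_eq_charDegree, (Finset.mem_filter.1 hψ).2, Nat.cast_one])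
      rw [hl, Complex.normSq_eq_norm_sq, CharInduce.norm_hom, one_pow]
    rw [h1] at h
    have h2 : (Nat.card (Subgroup.centralizer ({g} : Set G)) : ℝ) ≤ m := by exact_mod_cast hC
    have h3 : Complex.normSq ((χ : G → ℂ) g) ≤ ∑ ψ ∈ Finset.univ.filter
        (fun χ : Cfsg.IrrCharacter G => ¬ Cfsg.charDegree (χ : G → ℂ) = 1),
        Complex.normSq ((ψ : G → ℂ) g) :=
      Finset.single_le_sum (f := fun ψ : Cfsg.IrrCharacter G => Complex.normSq ((ψ : G → ℂ) g))
        (fun ψ _ => Complex.normSq_nonneg _) hχ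
    have h4 := Complex.normSq_nonneg ((χ : G → ℂ) g)
    linarith
  have hdeg : ∀ χ ∈ N, Cfsg.charDegree (χ : G → ℂ) = 2 ^ n := by
    intro χ hχ
    have h := CharBasic.classInner_irr_self χ.2
    rw [CharBasic.classInner_def, inv_mul_eq_one₀ (Nat.cast_ne_zero.2 Nat.card_pos.ne')] at h
    simp only [Complex.mul_conj] at h
    rw [← Complex.ofReal_sum] at h
    have h1 : (Nat.card G : ℝ) = ∑ g : G, Complex.normSq ((χ : G → ℂ) g) := by
      exact_mod_cast h
    rw [← Finset.sum_subset (Finset.subset_univ (Finset.univ.filter (· ∈ Subgroup.center G)))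
      (fun g _ hg => hvan χ hχ g (by simpa using hg)),
      Finset.sum_congr rfl fun z hz => normSq_of_mem_center χ (Finset.mem_filter.1 hz).2,
      Finset.sum_const, ← Fintype.card_subtype, ← Nat.card_eq_fintype_card, nsmul_eq_mul] at h1
    have hz : Nat.card {z // z ∈ Subgroup.center G} = 2 := hE.2
    rw [hz] at h1
    have h2 : Nat.card G = 2 * Cfsg.charDegree (χ : G → ℂ) ^ 2 := by exact_mod_cast h1
    exact Nat.pow_left_injective two_ne_zero (show _ ^ 2 = (2 ^ n) ^ 2 by omega)
  have hNcard : N.card = 1 := by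
    have h := card_eq_index_add_sum (G := G)
    rw [show (∑ χ ∈ N, Cfsg.charDegree (χ : G → ℂ) ^ 2) = N.card * m by
      rw [Finset.sum_congr rfl fun χ hχ => by rw [hdeg χ hχ], Finset.sum_const, smul_eq_mul, hm2]]
      at h
    have hmpos : 0 < m := by rw [hm2]; positivity
    rw [hGm, ← hm] at h
    nlinarith
  rw [Nat.card_eq_fintype_card, Fintype.card_subtype, ← hNcard]
  congr 1
  ext χ
  simp only [N, Finset.mem_filter, Finset.mem_univ, true_and]
  refine ⟨fun h h1 => by rw [h1] at h; norm_num at h, fun h => ?_⟩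
  rw [hdeg χ (Finset.mem_filter.2 ⟨Finset.mem_univ _, h⟩)]
  exact dvd_pow_self 2 (by omega)

/-- A `p`-group with exactly one nonlinear irreducible character is extraspecial and `p = 2`. -/
theorem extraspecial_of_unique_p_singular {p : ℕ} [hp : Fact p.Prime] (hG : IsPGroup p G)
    (hone : Nat.card {χ : Cfsg.IrrCharacter G // p ∣ Cfsg.charDegree (χ : G → ℂ)} = 1) :
    p = 2 ∧ Cfsg.IsExtraspecial 2 G := by
  classical
  cases nonempty_fintype (Cfsg.IrrCharacter G)
  obtain ⟨n, hn⟩ := IsPGroup.iff_card.1 hG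
  obtain ⟨⟨⟨χ, hχ⟩⟩, -⟩ := Nat.card_pos_iff.1 (hone ▸ Nat.one_pos)
  have huniq : ∀ ψ : Cfsg.IrrCharacter G, p ∣ Cfsg.charDegree (ψ : G → ℂ) → ψ = χ := by
    intro ψ hψ
    haveI := (Nat.card_eq_one_iff_unique.1 hone).1
    exact congrArg Subtype.val (Subsingleton.elim
      (⟨ψ, hψ⟩ : {χ : Cfsg.IrrCharacter G // p ∣ Cfsg.charDegree (χ : G → ℂ)}) ⟨χ, hχ⟩)
  have hnl : ∀ ψ : Cfsg.IrrCharacter G, ¬ Cfsg.charDegree (ψ : G → ℂ) = 1 → ψ = χ := by
    intro ψ hψ
    apply huniq
    obtain ⟨j, -, hj⟩ := (Nat.dvd_prime_pow hp.out).1 (hn ▸ BlockBasic.charDegree_dvd ψ)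
    rw [hj] at hψ ⊢
    exact dvd_pow_self p fun h => hψ (by rw [h, pow_zero])
  obtain ⟨k, -, hk⟩ := (Nat.dvd_prime_pow hp.out).1 (hn ▸ BlockBasic.charDegree_dvd χ)
  have hsum := card_eq_index_add_sum (G := G)
  have hfil : Finset.univ.filter (fun ψ : Cfsg.IrrCharacter G =>
      ¬ Cfsg.charDegree (ψ : G → ℂ) = 1) = {χ} := by
    ext ψ
    simp only [Finset.mem_filter, Finset.mem_univ, true_and, Finset.mem_singleton]
    refine ⟨hnl ψ, ?_⟩
    rintro rfl h
    rw [h] at hχ
    exact hp.out.not_dvd_one hχ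
  rw [hfil, Finset.sum_singleton, ← (commutator G).card_mul_index, hk] at hsum
  obtain ⟨b, -, hb⟩ := (Nat.dvd_prime_pow hp.out).1 (hn ▸ (commutator G).card_subgroup_dvd_card)
  have hi0 : 0 < (commutator G).index := Nat.pos_of_ne_zero Subgroup.index_ne_zero_of_finite
  have hb1 : 1 < Nat.card (commutator G) := by
    have : 0 < (p ^ k) ^ 2 := pow_pos (pow_pos hp.out.pos _) _
    by_contra h
    have : Nat.card (commutator G) = 1 := le_antisymm (by omega) Nat.card_pos
    rw [this] at hsum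
    omega
  have hb2 : Nat.card (commutator G) = 2 := by
    have h1 : Nat.card (commutator G) - 1 ∣ (p ^ k) ^ 2 := by
      refine ⟨(commutator G).index, ?_⟩
      rw [Nat.sub_mul, one_mul, hsum]
      omega
    have h2 : (Nat.card (commutator G) - 1).Coprime p := by
      rw [Nat.coprime_comm, hp.out.coprime_iff_not_dvd]
      intro h
      have h3 : p ∣ Nat.card (commutator G) := by
        rw [hb]
        exact dvd_pow_self p fun h0 => by rw [hb, h0] at hb1; simp at hb1
      have := Nat.dvd_sub h3 h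
      rw [show Nat.card (commutator G) - (Nat.card (commutator G) - 1) = 1 by omega] at this
      exact hp.out.not_dvd_one this
    have := Nat.eq_one_of_dvd_coprimes ((h2.pow_right k).pow_right 2) dvd_rfl h1
    omega
  have hp2 : p = 2 := by
    have h : p ∣ 2 := by
      rw [← hb2, hb]
      exact dvd_pow_self p fun h0 => by rw [hb, h0] at hb2; simp at hb2
    exact (Nat.prime_dvd_prime_iff_eq hp.out Nat.prime_two).1 h
  subst hp2
  refine ⟨rfl, ?_⟩
  have hle : commutator G ≤ Subgroup.center G :=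
    PGroups.le_center_of_card_eq hG (commutator G) hb2
  have hZ : Subgroup.center G ≤ commutator G := by
    intro z hz
    by_contra hzc
    cases nonempty_fintype G
    have ha : Abelianization.of z ≠ 1 := fun h => hzc (by
      rw [← Abelianization.ker_of G]; exact h)
    obtain ⟨φ, hφ⟩ :=
      CommGroup.exists_apply_ne_one_of_hasEnoughRootsOfUnity (Abelianization G) ℂ ha
    have hd : Cfsg.charDegree (fun g => ((φ.comp Abelianization.of) g : ℂ) * (χ : G → ℂ) g) =
        Cfsg.charDegree (χ : G → ℂ) := by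
      simp [Cfsg.charDegree]
    have heq := huniq ⟨_, isIrr_hom_mul (φ.comp Abelianization.of) χ⟩ (hd.symm ▸ hχ)
    have h := congrArg (fun ψ : Cfsg.IrrCharacter G => (ψ : G → ℂ) z) heq
    have h0 : (χ : G → ℂ) z = 0 := by
      by_contra h0
      exact hφ (Units.ext ((mul_eq_right₀ h0).1 h))
    have h1 := normSq_of_mem_center χ hz
    rw [h0, map_zero, hk] at h1
    have : (0 : ℝ) < (((2 ^ k : ℕ) : ℝ)) ^ 2 := by positivity
    linarith
  have hZeq : commutator G = Subgroup.center G := le_antisymm hle hZ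
  have hsq : ∀ x : G, x ^ 2 ∈ Subgroup.center G := fun x => by
    rw [Subgroup.mem_center_iff]
    intro g
    have hc : ⁅x, g⁆ ∈ Subgroup.center G := PGroups.commutatorElement_mem_center hle x g
    have h1 : ⁅x, g⁆ ^ 2 = 1 := by
      have h2 : (⟨⁅x, g⁆, Subgroup.commutator_mem_commutator trivial trivial⟩ : commutator G) ^ 2
          = 1 := hb2 ▸ pow_card_eq_one'
      exact congrArg Subtype.val h2
    rw [← PGroups.commutatorElement_pow_left_of_mem_center hc] at h1
    exact (commutatorElement_eq_one_iff_commute.1 h1).symm.eq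
  have hfr : frattini G = Subgroup.center G :=
    le_antisymm (PGroups.frattini_le_of_commutator_le (p := 2) _ hle hsq)
      (hZeq ▸ PGroups.commutator_le_frattini hG)
  exact ⟨⟨hG, hfr, hZeq⟩, hZeq ▸ hb2⟩

/-- In a product, one `p`-singular character forces a `p'`-factor to be trivial. -/
theorem subsingleton_of_unique_outer {A B : Type*} [Group A] [Group B] [Finite A] [Finite B]
    {p : ℕ} [hp : Fact p.Prime] (e : G ≃* A × B) (hB : (Nat.card B).Coprime p)
    (hone : Nat.card {χ : Cfsg.IrrCharacter G // p ∣ Cfsg.charDegree (χ : G → ℂ)} = 1) :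
    Nat.card B = 1 := by
  by_contra hB1
  obtain ⟨⟨⟨χ, hχ⟩⟩, -⟩ := Nat.card_pos_iff.1 (hone ▸ Nat.one_pos)
  obtain ⟨φ, θ, hφ, hθ, hprod⟩ := CharInduce.exists_outer_of_isIrr
    (CharInduce.IsIrr.comp χ.2 e.symm.toMonoidHom e.symm.surjective)
  have hχ' : ∀ g, (χ : G → ℂ) g = φ (e g).1 * θ (e g).2 := fun g => by
    have := congrFun hprod (e g)
    simpa using this
  have hφ1 : φ 1 = (Cfsg.charDegree φ : ℂ) :=
    BlockBasic.apply_one_eq_charDegree (⟨φ, hφ⟩ : Cfsg.IrrCharacter A)
  have hθ1 : θ 1 = (Cfsg.charDegree θ : ℂ) :=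
    BlockBasic.apply_one_eq_charDegree (⟨θ, hθ⟩ : Cfsg.IrrCharacter B)
  have hpφ : p ∣ Cfsg.charDegree φ := by
    have h1 := hχ' 1
    rw [map_one, BlockBasic.apply_one_eq_charDegree, Prod.fst_one, Prod.snd_one,
      hφ1, hθ1] at h1
    have h2 : Cfsg.charDegree (χ : G → ℂ) = Cfsg.charDegree φ * Cfsg.charDegree θ := by
      exact_mod_cast h1
    rw [h2] at hχ
    refine (hp.out.dvd_mul.1 hχ).resolve_right fun h => ?_
    have := h.trans (BlockBasic.charDegree_dvd (⟨θ, hθ⟩ : Cfsg.IrrCharacter B))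
    exact hp.out.not_dvd_one (hB.symm ▸ Nat.dvd_gcd dvd_rfl this)
  have hall : ∀ θ' : Cfsg.IrrCharacter B, (θ' : B → ℂ) = θ := by
    intro θ'
    let χ' : Cfsg.IrrCharacter G := ⟨_, CharInduce.IsIrr.comp
      (CharInduce.isIrrCharacter_outer hφ θ'.2) e.toMonoidHom e.surjective⟩
    have hd : p ∣ Cfsg.charDegree (χ' : G → ℂ) := by
      have : Cfsg.charDegree (χ' : G → ℂ) = Cfsg.charDegree φ * Cfsg.charDegree (θ' : B → ℂ) := by
        have h1 : (χ' : G → ℂ) 1 = φ 1 * (θ' : B → ℂ) 1 := by simp [χ']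
        rw [BlockBasic.apply_one_eq_charDegree, hφ1,
          BlockBasic.apply_one_eq_charDegree] at h1
        exact_mod_cast h1
      rw [this]
      exact hpφ.mul_right _
    haveI := (Nat.card_eq_one_iff_unique.1 hone).1
    have he : χ' = χ := congrArg Subtype.val (Subsingleton.elim
      (⟨χ', hd⟩ : {χ : Cfsg.IrrCharacter G // p ∣ Cfsg.charDegree (χ : G → ℂ)}) ⟨χ, hχ⟩)
    funext y
    have h := hχ' (e.symm (1, y))
    rw [← he] at h
    simp [χ'] at h
    exact h.resolve_right (CharBasic.IsIrr.one_ne_zero hφ)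
  haveI : Nontrivial B := Finite.one_lt_card_iff_nontrivial.1
    (by have : 0 < Nat.card B := Nat.card_pos; omega)
  obtain ⟨y, hy⟩ := exists_ne (1 : B)
  obtain ⟨ψ, hψ⟩ := CharBasic.exists_irr_ne_of_ne_one hy
  cases nonempty_fintype B
  rw [hall ψ, ← hall ⟨_, CharBasic.isIrrCharacter_one⟩] at hψ
  exact hψ rfl

/-- A nilpotent group splits as `p`-part times `p'`-part. -/
theorem exists_prod_of_nilpotent [Group.IsNilpotent G] (p : ℕ) [hp : Fact p.Prime] :
    ∃ (N P : Subgroup G) (_ : N.Normal) (_ : P.Normal) (_ : G ≃* (G ⧸ N) × (G ⧸ P)),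
      IsPGroup p (G ⧸ N) ∧ (Nat.card (G ⧸ P)).Coprime p := by
  have hall : ∀ (q : ℕ) (_ : Fact q.Prime) (Q : Sylow q G), (Q : Subgroup G).Normal :=
    (Group.isNilpotent_of_finite_tfae.out 0 3 rfl rfl).1 ‹_›
  set N : Subgroup G := Cfsg.pPrimeCore p G with hN
  obtain ⟨P⟩ : Nonempty (Sylow p G) := inferInstance
  haveI hPn : (P : Subgroup G).Normal := hall p hp P
  haveI hNn : N.Normal := by show (Cfsg.pPrimeCore p G).Normal; infer_instance
  have hNcop : (Nat.card N).Coprime p := Cores.coprime_card_pPrimeCore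
  have hidx : ∃ k, N.index = p ^ k := by
    refine ⟨_, Nat.eq_prime_pow_of_unique_prime_dvd Subgroup.index_ne_zero_of_finite
      fun {q} hq hqd => ?_⟩
    by_contra hne
    haveI := Fact.mk hq
    obtain ⟨Q⟩ : Nonempty (Sylow q G) := inferInstance
    haveI := hall q ⟨hq⟩ Q
    obtain ⟨a, ha⟩ := IsPGroup.iff_card.1 Q.isPGroup'
    have hQN : (Q : Subgroup G) ≤ N := le_sSup ⟨inferInstance,
      by rw [ha]; exact ((Nat.coprime_primes hq hp.out).2 hne).pow_left a⟩
    exact Q.not_dvd_index (hqd.trans (Subgroup.index_dvd_of_le hQN))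
  obtain ⟨k, hk⟩ := hidx
  obtain ⟨j, hj⟩ := IsPGroup.iff_card.1 P.isPGroup'
  have hPi : ((P : Subgroup G).index).Coprime p := by
    rw [Nat.coprime_comm, hp.out.coprime_iff_not_dvd]
    exact P.not_dvd_index
  let f : G →* (G ⧸ N) × (G ⧸ (P : Subgroup G)) :=
    (QuotientGroup.mk' N).prod (QuotientGroup.mk' (P : Subgroup G))
  have hinj : Function.Injective f := by
    rw [injective_iff_map_eq_one]
    intro g hg
    simp only [f, MonoidHom.prod_apply, Prod.mk_eq_one, QuotientGroup.mk'_apply,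
      QuotientGroup.eq_one_iff] at hg
    have h1 : orderOf g ∣ Nat.card N := Subgroup.orderOf_dvd_natCard N hg.1
    have h2 : orderOf g ∣ p ^ j := hj ▸ Subgroup.orderOf_dvd_natCard (P : Subgroup G) hg.2
    exact orderOf_eq_one_iff.1 (Nat.eq_one_of_dvd_coprimes (hNcop.pow_right j) h1 h2)
  have hcard : Nat.card G = Nat.card ((G ⧸ N) × (G ⧸ (P : Subgroup G))) := by
    rw [Nat.card_prod, ← Subgroup.index_eq_card, ← Subgroup.index_eq_card]
    have e1 := N.card_mul_index
    have e2 := (P : Subgroup G).card_mul_index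
    rw [hk] at e1 ⊢
    rw [hj] at e2
    have d1 : p ^ k ∣ p ^ j := (hPi.symm.pow_left k).dvd_of_dvd_mul_right
      ⟨Nat.card N, by rw [e2, ← e1, mul_comm]⟩
    have d2 : p ^ j ∣ p ^ k := (hNcop.symm.pow_left j).dvd_of_dvd_mul_left
      ⟨(P : Subgroup G).index, by rw [e1, e2]⟩
    rw [Nat.dvd_antisymm d1 d2, e2]
  refine ⟨N, P, hNn, hPn, MulEquiv.ofBijective f
    ((Nat.bijective_iff_injective_and_card _).2 ⟨hinj, hcard⟩),
    IsPGroup.of_card (n := k) (by rw [← Subgroup.index_eq_card, hk]), ?_⟩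
  rwa [← Subgroup.index_eq_card]

/-- S4762. -/
theorem unique_p_singular_iff_extraspecial [Group.IsNilpotent G] (p : ℕ) [hp : Fact p.Prime] :
    Nat.card {χ : Cfsg.IrrCharacter G // p ∣ Cfsg.charDegree (χ : G → ℂ)} = 1 ↔
      (p = 2 ∧ Cfsg.IsExtraspecial 2 G) := by
  refine ⟨fun h => ?_, ?_⟩
  · obtain ⟨N, P, _, _, e, hA, hB⟩ := exists_prod_of_nilpotent (G := G) p
    have h1 := subsingleton_of_unique_outer e hB h
    refine extraspecial_of_unique_p_singular ?_ h
    obtain ⟨k, hk⟩ := IsPGroup.iff_card.1 hA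
    exact IsPGroup.of_card (n := k) (by
      rw [Nat.card_congr e.toEquiv, Nat.card_prod, h1, hk, mul_one])
  · rintro ⟨rfl, hE⟩
    exact unique_even_degree_of_extraspecial hE

end Cfsg.Agent.H84
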