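import Cfsg.Agent.CharBasic.Integral
import Cfsg.Agent.CharInduce.Ops
import Cfsg.Agent.BlockBasic.Basic

/-!
# Kernels of irreducible characters, codegrees
-/

namespace Cfsg.Agent.H84

open Cfsg.Agent

variable {G : Type*} [Group G] [Finite G]

/-- The kernel of an irreducible character, with the quotient character. -/
theorem exists_kernel (χ : Cfsg.IrrCharacter G) :
    ∃ (K : Subgroup G) (_ : K.Normal), (∀ g : G, g ∈ K ↔ (χ : G → ℂ) g = (χ : G → ℂ) 1) ∧
      ∃ η : Cfsg.IrrCharacter (G ⧸ K), (∀ g : G, (η : G ⧸ K → ℂ) g = (χ : G → ℂ) g) ∧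
        Cfsg.charDegree (η : G ⧸ K → ℂ) = Cfsg.charDegree (χ : G → ℂ) ∧
        Cfsg.charDegree (χ : G → ℂ) ∣ K.index := by
  obtain ⟨n, ρ, hρ, he⟩ := χ.2
  have hmem : ∀ g : G, g ∈ MonoidHom.ker ρ ↔ (χ : G → ℂ) g = (χ : G → ℂ) 1 := fun g => by
    rw [← he, Representation.char_one, CharBasic.character_eq_finrank_iff]
    rfl
  haveI : (MonoidHom.ker ρ).Normal := inferInstance
  refine ⟨MonoidHom.ker ρ, inferInstance, hmem, ?_⟩
  obtain ⟨ψ, -, hψ, hirr⟩ := CharInduce.IsChar.exists_deflate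
    (CharBasic.IsIrr.isCharacter χ.2) (MonoidHom.ker ρ) (fun g hg => (hmem g).1 hg)
  refine ⟨⟨ψ, hirr χ.2⟩, fun g => (hψ g).symm, ?_, ?_⟩
  · simp only [Cfsg.charDegree, hψ 1]
    rfl
  · have h := BlockBasic.charDegree_dvd (⟨ψ, hirr χ.2⟩ : Cfsg.IrrCharacter (G ⧸ MonoidHom.ker ρ))
    rw [← Subgroup.index_eq_card] at h
    simp only [Cfsg.charDegree, hψ 1] at h ⊢
    exact h

/-- The number of elements in the kernel. -/
theorem card_kernel (χ : Cfsg.IrrCharacter G) (K : Subgroup G)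
    (hK : ∀ g : G, g ∈ K ↔ (χ : G → ℂ) g = (χ : G → ℂ) 1) :
    Nat.card {g : G // (χ : G → ℂ) g = (χ : G → ℂ) 1} = Nat.card K :=
  Nat.card_congr (Equiv.subtypeEquivRight fun g => (hK g).symm)

/-- The codegree is `[G : K] / χ(1)`. -/
theorem codegree_eq (χ : Cfsg.IrrCharacter G) (K : Subgroup G)
    (hK : ∀ g : G, g ∈ K ↔ (χ : G → ℂ) g = (χ : G → ℂ) 1) :
    Nat.card G / (Nat.card {g : G // (χ : G → ℂ) g = (χ : G → ℂ) 1} *
      Cfsg.charDegree (χ : G → ℂ)) = K.index / Cfsg.charDegree (χ : G → ℂ) := by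
  rw [card_kernel χ K hK, ← K.card_mul_index, Nat.mul_div_mul_left _ _ Nat.card_pos]

/-- The codegree divides the group order. -/
theorem codegree_dvd (χ : Cfsg.IrrCharacter G) :
    Nat.card G / (Nat.card {g : G // (χ : G → ℂ) g = (χ : G → ℂ) 1} *
      Cfsg.charDegree (χ : G → ℂ)) ∣ Nat.card G := by
  obtain ⟨K, _, hK, η, -, -, hd⟩ := exists_kernel χ
  rw [codegree_eq χ K hK]
  exact (Nat.div_dvd_of_dvd hd).trans K.index_dvd_card

/-- A simple group has, for each prime `r`, a nontrivial character of degree prime to `r`, as soon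
as `r` divides its order. -/
theorem exists_degree_not_dvd {r : ℕ} (hr : r.Prime) (hdvd : r ∣ Nat.card G) :
    ∃ χ : Cfsg.IrrCharacter G, (χ : G → ℂ) ≠ (fun _ => 1) ∧
      ¬ r ∣ Cfsg.charDegree (χ : G → ℂ) := by
  classical
  by_contra hc
  push Not at hc
  have h1 := CharBasic.sum_sq_degree (G := G)
  simp only [BlockBasic.apply_one_eq_charDegree] at h1
  have h2 : ∑ χ : Cfsg.IrrCharacter G, Cfsg.charDegree (χ : G → ℂ) ^ 2 = Nat.card G := by
    exact_mod_cast h1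
  let one : Cfsg.IrrCharacter G := ⟨fun _ => 1, CharBasic.isIrrCharacter_one⟩
  rw [← Finset.add_sum_erase _ _ (Finset.mem_univ one)] at h2
  have h3 : r ∣ ∑ χ ∈ Finset.univ.erase one, Cfsg.charDegree (χ : G → ℂ) ^ 2 :=
    Finset.dvd_sum fun χ hχ => dvd_pow (hc χ fun h => Finset.ne_of_mem_erase hχ (Subtype.ext h))
      two_ne_zero
  have h4 : Cfsg.charDegree ((one : Cfsg.IrrCharacter G) : G → ℂ) = 1 := by
    simp [one, Cfsg.charDegree]
  rw [h4, one_pow] at h2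
  exact hr.not_dvd_one ((Nat.dvd_add_left h3).1 (h2 ▸ hdvd))

/-- A `p`-defect zero character vanishes at elements of order `p`. -/
theorem apply_eq_zero_of_defect_zero {p : ℕ} [hp : Fact p.Prime] (χ : Cfsg.IrrCharacter G)
    (hχ : ¬ p ∣ Nat.card G / Cfsg.charDegree (χ : G → ℂ)) {g : G} (hg : p ∣ orderOf g) :
    (χ : G → ℂ) g = 0 := by
  obtain ⟨M, hM⟩ := BlockBasic.exists_isPModular hp.out
  have hB := (BlockBasic.blockOf_eq_singleton_iff hM χ).2 hχ
  cases nonempty_fintype G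
  have := BlockBasic.blockCoeff_eq_zero_of_singular hM
    (B := Cfsg.blockOf M (χ : G → ℂ)) ⟨χ, rfl⟩ hg
  rw [hB, Cfsg.blockCoeff, finsum_mem_singleton] at this
  simpa [BlockBasic.irr_one_ne_zero χ.2] using this

theorem codegree_simple {S : Type*} [Group S] [Finite S] [IsSimpleGroup S]
    (χ : Cfsg.IrrCharacter S) (hχ : (χ : S → ℂ) ≠ fun _ => 1) :
    Nat.card S / (Nat.card {g : S // (χ : S → ℂ) g = (χ : S → ℂ) 1} *
      Cfsg.charDegree (χ : S → ℂ)) = Nat.card S / Cfsg.charDegree (χ : S → ℂ) := by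
  obtain ⟨K, hKn, hK, η, hη, -, hd⟩ := exists_kernel χ
  rw [codegree_eq χ K hK]
  rcases hKn.eq_bot_or_eq_top with rfl | rfl
  · rw [Subgroup.index_bot]
  · exfalso
    rw [Subgroup.index_top, Nat.dvd_one] at hd
    apply hχ
    funext g
    rw [(hK g).1 trivial, BlockBasic.apply_one_eq_charDegree, hd, Nat.cast_one]

theorem card_dvd_of_codegrees {S : Type*} [Group S] [Finite S] [IsSimpleGroup S]
    (hsub : ∀ χ : Cfsg.IrrCharacter S, ∃ ψ : Cfsg.IrrCharacter G,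
      Nat.card S / (Nat.card {g : S // (χ : S → ℂ) g = (χ : S → ℂ) 1} *
        Cfsg.charDegree (χ : S → ℂ)) =
      Nat.card G / (Nat.card {g : G // (ψ : G → ℂ) g = (ψ : G → ℂ) 1} *
        Cfsg.charDegree (ψ : G → ℂ))) : Nat.card S ∣ Nat.card G := by
  refine (Nat.dvd_iff_prime_pow_dvd_dvd _ _).2 fun r k hr hrk => ?_
  rcases Nat.eq_zero_or_pos k with rfl | hk
  · simp
  obtain ⟨χ, hχ, hrd⟩ := exists_degree_not_dvd hr ((dvd_pow_self r hk.ne').trans hrk)
  obtain ⟨ψ, hψ⟩ := hsub χ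
  rw [codegree_simple χ hχ] at hψ
  refine dvd_trans ?_ (codegree_dvd ψ)
  rw [← hψ]
  have hcop : Nat.Coprime (r ^ k) (Cfsg.charDegree (χ : S → ℂ)) :=
    Nat.Coprime.pow_left k (hr.coprime_iff_not_dvd.2 hrd)
  refine Nat.Coprime.dvd_of_dvd_mul_left hcop ?_
  rwa [Nat.mul_div_cancel' (BlockBasic.charDegree_dvd χ)]

/-- `π(G) = π(cod G)`. -/
theorem exists_dvd_codegree {p : ℕ} [hp : Fact p.Prime] (hdvd : p ∣ Nat.card G) :
    ∃ χ : Cfsg.IrrCharacter G, p ∣ Nat.card G /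
      (Nat.card {g : G // (χ : G → ℂ) g = (χ : G → ℂ) 1} * Cfsg.charDegree (χ : G → ℂ)) := by
  classical
  by_contra hc
  push Not at hc
  obtain ⟨x, hx⟩ := exists_prime_orderOf_dvd_card' p hdvd
  have hterm : ∀ χ : Cfsg.IrrCharacter G, (χ : G → ℂ) x = 0 ∨
      (χ : G → ℂ) x = (χ : G → ℂ) 1 := fun χ => by
    obtain ⟨K, _, hK, η, hη, hηd, -⟩ := exists_kernel χ
    by_cases hxK : x ∈ K
    · exact Or.inr ((hK x).1 hxK)
    refine Or.inl ?_
    rw [← hη x]
    refine apply_eq_zero_of_defect_zero (p := p) η ?_ ?_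
    · have h := hc χ
      rw [codegree_eq χ K hK] at h
      rwa [hηd, ← Subgroup.index_eq_card]
    · have hox : orderOf (x : G ⧸ K) = p := by
        refine orderOf_eq_prime ?_ ?_
        · rw [← QuotientGroup.mk_pow, ← hx, pow_orderOf_eq_one, QuotientGroup.mk_one]
        · rwa [Ne, QuotientGroup.eq_one_iff]
      rw [hox]
  have h0 := CharBasic.sum_degree_mul_apply x
  rw [if_neg (fun h : x = 1 => hp.out.ne_one (by rw [← hx, h, orderOf_one]))] at h0
  have h2 : ∀ χ : Cfsg.IrrCharacter G, ((χ : G → ℂ) 1 * (χ : G → ℂ) x).re =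
      if (χ : G → ℂ) x = 0 then 0 else (Cfsg.charDegree (χ : G → ℂ) : ℝ) ^ 2 := fun χ => by
    split_ifs with h
    · simp [h]
    · rw [(hterm χ).resolve_left h, BlockBasic.apply_one_eq_charDegree]
      simp [sq]
  have h3 := congrArg Complex.re h0
  rw [Complex.re_sum, Finset.sum_congr rfl fun χ _ => h2 χ, Complex.zero_re,
    Finset.sum_eq_zero_iff_of_nonneg fun χ _ => by split_ifs <;> positivity] at h3
  have := h3 ⟨fun _ => 1, CharBasic.isIrrCharacter_one⟩ (Finset.mem_univ _)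
  simp [Cfsg.charDegree] at this

theorem dvd_card_iff_exists_dvd_codegree {p : ℕ} (hp : p.Prime) :
    p ∣ Nat.card G ↔ ∃ χ : Cfsg.IrrCharacter G, p ∣ Nat.card G /
      (Nat.card {g : G // (χ : G → ℂ) g = (χ : G → ℂ) 1} * Cfsg.charDegree (χ : G → ℂ)) := by
  haveI := Fact.mk hp
  exact ⟨exists_dvd_codegree, fun ⟨χ, h⟩ => h.trans (codegree_dvd χ)⟩

end Cfsg.Agent.H84
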