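import Cfsg.Agent.H84.UniquePSingular

/-!
# Faithful irreducible characters of prime degree
-/

set_option linter.style.haveILetI false

namespace Cfsg.Agent.H84

open Cfsg.Agent
open scoped ComplexConjugate commutatorElement

variable {G : Type*} [Group G] [Finite G]

/-- S3968. -/
theorem center_ne_bot_of_prime_degree (p : ℕ) (hp : p.Prime) (χ : Cfsg.IrrCharacter G)
    (hdeg : χ.1 1 = p) (hfaith : ∀ g : G, χ.1 g = χ.1 1 → g = 1)
    (hdiv : p ^ 2 ∣ Nat.card G) : Subgroup.center G ≠ ⊥ := by
  classical
  haveI := Fact.mk hp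
  obtain ⟨P⟩ : Nonempty (Sylow p G) := inferInstance
  obtain ⟨j, hj⟩ := IsPGroup.iff_card.1 P.isPGroup'
  have hP2 : p ^ 2 ∣ Nat.card (P : Subgroup G) := by
    rw [P.card_eq_multiplicity]
    exact pow_dvd_pow p ((hp.pow_dvd_iff_le_factorization Nat.card_pos.ne').1 hdiv)
  -- a central element of `P` where the character does not vanish
  obtain ⟨z, hz1, hzc, hz0⟩ : ∃ z : (P : Subgroup G), z ≠ 1 ∧
      z ∈ Subgroup.center (P : Subgroup G) ∧ (χ : G → ℂ) z ≠ 0 := by
    by_contra hnone
    push Not at hnone
    cases nonempty_fintype (P : Subgroup G)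
    set r : ↥(P : Subgroup G) → ℂ := fun x => (χ : G → ℂ) x with hr
    have hrc : Cfsg.IsCharacter (P : Subgroup G) r :=
      CharInduce.IsChar.res (CharBasic.IsIrr.isCharacter χ.2) _
    have hexp := CharBasic.classFunction_expansion (CharBasic.IsChar.isClassFunction hrc)
    choose a ha using fun ψ : Cfsg.IrrCharacter (P : Subgroup G) =>
      CharBasic.classInner_isChar_nat hrc (CharBasic.IsIrr.isCharacter ψ.2)
    have hval : ∀ x : (P : Subgroup G),
        r x = ∑ ψ : Cfsg.IrrCharacter (P : Subgroup G),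
          (a ψ : ℂ) * (ψ : ↥(P : Subgroup G) → ℂ) x := by
      intro x
      have h := congrFun hexp x
      simp only [Finset.sum_apply, Pi.smul_apply, smul_eq_mul, ha] at h
      exact h
    have hsum : p = ∑ ψ : Cfsg.IrrCharacter (P : Subgroup G),
        a ψ * Cfsg.charDegree (ψ : ↥(P : Subgroup G) → ℂ) := by
      have h := hval 1
      simp only [hr, OneMemClass.coe_one, hdeg, BlockBasic.apply_one_eq_charDegree] at h
      exact_mod_cast h
    have hdeg1 : ∀ ψ : Cfsg.IrrCharacter (P : Subgroup G), a ψ ≠ 0 →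
        Cfsg.charDegree (ψ : ↥(P : Subgroup G) → ℂ) = 1 := by
      intro ψ hψ
      by_contra hd
      have hdd := BlockBasic.charDegree_dvd ψ
      rw [hj] at hdd
      obtain ⟨i, -, hi⟩ := (Nat.dvd_prime_pow hp).1 hdd
      have hi0 : i ≠ 0 := fun h => hd (by rw [hi, h, pow_zero])
      have hpd : p ≤ Cfsg.charDegree (ψ : ↥(P : Subgroup G) → ℂ) :=
        hi ▸ Nat.le_self_pow hi0 p
      have h1 : a ψ * Cfsg.charDegree (ψ : ↥(P : Subgroup G) → ℂ) ≤ p := by
        conv_rhs => rw [hsum]
        exact Finset.single_le_sum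
          (f := fun ψ : Cfsg.IrrCharacter (P : Subgroup G) =>
            a ψ * Cfsg.charDegree (ψ : ↥(P : Subgroup G) → ℂ))
          (fun _ _ => Nat.zero_le _) (Finset.mem_univ ψ)
      have ha1 : 1 ≤ a ψ := Nat.one_le_iff_ne_zero.2 hψ
      have hppos := hp.pos
      have ha2 : a ψ = 1 := by nlinarith
      rw [ha2, one_mul] at h1
      -- the restriction is `ψ`
      have hothers : ∀ φ, φ ≠ ψ → a φ = 0 := by
        intro φ hφ
        have h2 := hsum
        rw [← Finset.add_sum_erase _ _ (Finset.mem_univ ψ), ha2, one_mul] at h2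
        have h3 : ∑ φ ∈ Finset.univ.erase ψ,
            a φ * Cfsg.charDegree (φ : ↥(P : Subgroup G) → ℂ) = 0 := by omega
        have h4 := Finset.sum_eq_zero_iff.1 h3 φ (Finset.mem_erase.2 ⟨hφ, Finset.mem_univ _⟩)
        exact (Nat.mul_eq_zero.1 h4).resolve_right (BlockBasic.charDegree_pos φ).ne'
      haveI : Nontrivial (P : Subgroup G) := Finite.one_lt_card_iff_nontrivial.1
        (lt_of_lt_of_le (Nat.one_lt_pow two_ne_zero hp.one_lt) (Nat.le_of_dvd Nat.card_pos hP2))
      haveI := IsPGroup.center_nontrivial P.isPGroup'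
      obtain ⟨z, hz⟩ := exists_ne (1 : Subgroup.center (P : Subgroup G))
      have h5 : (ψ : ↥(P : Subgroup G) → ℂ) z = 0 := by
        have h6 := hnone z (fun h => hz (Subtype.ext h)) z.2
        have h7 := hval z
        rw [Finset.sum_eq_single ψ (fun φ _ hφ => by rw [hothers φ hφ, Nat.cast_zero, zero_mul])
          (fun h => absurd (Finset.mem_univ ψ) h), ha2, Nat.cast_one, one_mul] at h7
        rw [← h7]
        exact h6
      have h8 := normSq_of_mem_center ψ z.2
      rw [h5, map_zero] at h8
      have h9 : (0 : ℝ) < (Cfsg.charDegree (ψ : ↥(P : Subgroup G) → ℂ) : ℝ) :=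
        Nat.cast_pos.2 (BlockBasic.charDegree_pos ψ)
      nlinarith
    have hcomm : ∀ x : (P : Subgroup G), x ∈ Subgroup.center (P : Subgroup G) := by
      intro x
      rw [Subgroup.mem_center_iff]
      intro y
      have h : (χ : G → ℂ) ((⁅y, x⁆ : (P : Subgroup G)) : G) = (χ : G → ℂ) 1 := by
        have h1 := hval ⁅y, x⁆
        have h2 := hval 1
        simp only [hr, OneMemClass.coe_one] at h1 h2
        rw [h1, h2]
        refine Finset.sum_congr rfl fun ψ _ => ?_
        rcases Nat.eq_zero_or_pos (a ψ) with h0 | h0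
        · rw [h0, Nat.cast_zero, zero_mul, zero_mul]
        · obtain ⟨l, hl⟩ := CharInduce.IsChar.exists_hom_of_degree_one
            (CharBasic.IsIrr.isCharacter ψ.2)
            (by rw [BlockBasic.apply_one_eq_charDegree, hdeg1 ψ h0.ne', Nat.cast_one])
          rw [hl, hl, map_one, map_commutatorElement,
            commutatorElement_eq_one_iff_commute.2 (Commute.all _ _)]
      exact (commutatorElement_eq_one_iff_commute.1 (Subtype.ext (hfaith _ h))).eq
    -- the restriction is `p / |P|` times the regular character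
    obtain ⟨m, hm⟩ := CharBasic.classInner_isChar_nat hrc
      (CharBasic.IsIrr.isCharacter CharBasic.isIrrCharacter_one)
    rw [CharBasic.classInner_def, Finset.sum_eq_single (1 : (P : Subgroup G))
      (fun x _ hx => by
        show (χ : G → ℂ) x * conj (1 : ℂ) = 0
        rw [hnone x hx (hcomm x), zero_mul]) (fun h => absurd (Finset.mem_univ _) h),
      inv_mul_eq_iff_eq_mul₀ (Nat.cast_ne_zero.2 Nat.card_pos.ne')] at hm
    simp only [hr, OneMemClass.coe_one, hdeg, map_one, mul_one] at hm
    have hm' : p = Nat.card (P : Subgroup G) * m := by exact_mod_cast hm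
    have h10 : p ^ 2 ∣ p ^ 1 := by
      rw [pow_one]
      have := hP2.mul_right m
      rwa [← hm'] at this
    have := (Nat.pow_dvd_pow_iff_le_right hp.one_lt).1 h10
    omega
  -- it is scalar, hence central
  obtain ⟨n, ρ, hρ, he⟩ := χ.2
  have hn : (n : ℂ) = p := by
    rw [← hdeg, ← he, Representation.char_one, Module.finrank_fin_fun]
  have hn' : n = p := Nat.cast_injective hn
  have hcop : Nat.Coprime (Module.finrank ℂ (Fin n → ℂ))
      (Subgroup.centralizer ({(z : G)} : Set G)).index := by
    rw [Module.finrank_fin_fun, hn', hp.coprime_iff_not_dvd]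
    intro h
    refine P.not_dvd_index (h.trans (Subgroup.index_dvd_of_le fun x hx => ?_))
    rw [Subgroup.mem_centralizer_singleton_iff]
    exact congrArg Subtype.val (Subgroup.mem_center_iff.1 hzc ⟨x, hx⟩)
  rcases CharBasic.burnside_zero_or_scalar ρ (z : G) hcop with h | h
  · exact absurd (he ▸ h) hz0
  · obtain ⟨ω, hω⟩ := (CharBasic.norm_character_eq_iff ρ (z : G)).1 h
    intro hbot
    apply hz1
    have hzG : (z : G) ∈ Subgroup.center G := by
      rw [Subgroup.mem_center_iff]
      intro g
      have h1 : ρ (g * z * g⁻¹ * (z : G)⁻¹) = LinearMap.id := by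
        have hcomm : Commute (ρ g) (ρ (z : G)) := by
          rw [hω]
          exact (Commute.one_right (ρ g)).smul_right ω
        rw [map_mul, map_mul, map_mul, hcomm.eq, mul_assoc (ρ (z : G)), ← map_mul, mul_inv_cancel,
          map_one, mul_one, ← map_mul, mul_inv_cancel, map_one]
        rfl
      have h2 := hfaith (g * z * g⁻¹ * (z : G)⁻¹) (by
        rw [← he, Representation.char_one]
        exact (CharBasic.character_eq_finrank_iff ρ _).2 h1)
      calc g * (z : G) = (g * z * g⁻¹ * (z : G)⁻¹) * ((z : G) * g) := by group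
        _ = (z : G) * g := by rw [h2, one_mul]
    rw [hbot, Subgroup.mem_bot] at hzG
    exact Subtype.ext hzG

end Cfsg.Agent.H84
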