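import Cfsg.Agent.BlockBasic.Center
import Cfsg.Agent.BlockBasic.Basic
import Cfsg.Agent.CharInduce.Ops
import Mathlib.GroupTheory.Abelianization.Defs

/-!
# Products of conjugacy classes
-/

open scoped ComplexConjugate
open MonoidAlgebra

namespace Cfsg.Agent.H84

open Cfsg.Agent.BlockBasic

variable {G : Type*} [Group G] [Fintype G]

open scoped Classical in
theorem classSum_eq_sum (x : G) :
    classSum x = ∑ g ∈ Finset.univ.filter (fun g : G => IsConj x g),
      single g (1 : ℂ) := by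
  apply coeff_injective
  ext h
  rw [classSum, coeff_ofFun, coeff_sum, Finset.sum_apply']
  simp [coeff_single, Finsupp.single_apply]

open scoped Classical in
/-- The coefficient of `z` in a product of two class sums counts factorisations. -/
theorem coeff_classSum_mul (x y z : G) :
    (classSum x * classSum y).coeff z =
      ((Finset.univ.filter fun g : G => IsConj x g ∧ IsConj y (g⁻¹ * z)).card : ℂ) := by
  rw [classSum_eq_sum x, Finset.sum_mul, coeff_sum, Finset.sum_apply']
  simp only [coeff_single_mul_apply, one_mul, classSum, coeff_ofFun]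
  rw [← Finset.filter_filter, Finset.natCast_card_filter]
  refine Finset.sum_congr (by ext; simp) fun _ _ => ?_
  split_ifs <;> rfl

/-- The class multiplication formula. -/
theorem coeff_classSum_mul_eq (x y z : G) :
    (classSum x * classSum y).coeff z = (Nat.card G : ℂ)⁻¹ * ∑ χ : Cfsg.IrrCharacter G,
      (χ : G → ℂ) 1 * (Cfsg.centralChar (χ : G → ℂ) x * Cfsg.centralChar (χ : G → ℂ) y) *
        conj ((χ : G → ℂ) z) := by
  rw [coeff_eq_sum_omega ((isCentralElt_classSum x).mul (isCentralElt_classSum y))]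
  refine congrArg _ (Finset.sum_congr rfl fun χ _ => ?_)
  rw [omega_mul χ.2 (isCentralElt_classSum x),
    omega_classSum (CharBasic.IsIrr.isClassFunction χ.2),
    omega_classSum (CharBasic.IsIrr.isClassFunction χ.2)]

theorem exists_of_coeff_ne_zero {x y z : G} (h : (classSum x * classSum y).coeff z ≠ 0) :
    ∃ g : G, IsConj x g ∧ IsConj y (g⁻¹ * z) := by
  classical
  rw [coeff_classSum_mul] at h
  obtain ⟨g, hg⟩ : (Finset.univ.filter fun g : G => IsConj x g ∧ IsConj y (g⁻¹ * z)).Nonempty :=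
    Finset.card_ne_zero.1 fun h0 => h (by rw [h0]; simp)
  exact ⟨g, (Finset.mem_filter.1 hg).2⟩

/-- If the product of two classes is one class, the characters are multiplicative there. -/
theorem apply_mul_of_product (x y : G)
    (h : ∀ a b : G, IsConj (x * y) (a * x * a⁻¹ * (b * y * b⁻¹))) (χ : Cfsg.IrrCharacter G) :
    (χ : G → ℂ) 1 * (χ : G → ℂ) (x * y) = (χ : G → ℂ) x * (χ : G → ℂ) y := by
  classical
  have hcl := CharBasic.IsIrr.isClassFunction χ.2
  set w := classSum x * classSum y with hw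
  have hval : ∀ z, w.coeff z * (χ : G → ℂ) z = w.coeff z * (χ : G → ℂ) (x * y) := fun z => by
    by_cases h0 : w.coeff z = 0
    · rw [h0, zero_mul, zero_mul]
    obtain ⟨g, hg, hg'⟩ := exists_of_coeff_ne_zero h0
    obtain ⟨a, rfl⟩ := isConj_iff.1 hg
    obtain ⟨b, hb⟩ := isConj_iff.1 hg'
    have hc := h a b
    rw [hb, mul_inv_cancel_left] at hc
    obtain ⟨c, rfl⟩ := isConj_iff.1 hc
    rw [hcl]
  have h1 := omega_mul χ.2 (isCentralElt_classSum x) (classSum y)
  rw [omega_classSum hcl, omega_classSum hcl, ← hw, omega, chiLin,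
    Finset.sum_congr rfl fun z _ => hval z, ← Finset.sum_mul] at h1
  have h2 := omega_mul (χ := fun _ : G => (1 : ℂ)) CharBasic.isIrrCharacter_one
    (isCentralElt_classSum x) (classSum y)
  rw [omega_classSum (fun _ _ => rfl), omega_classSum (fun _ _ => rfl), ← hw, omega, chiLin] at h2
  simp only [mul_one, div_one, Cfsg.centralChar] at h2
  rw [h2, Cfsg.centralChar, Cfsg.centralChar] at h1
  have hne := irr_one_ne_zero χ.2
  have hx : ((Subgroup.centralizer ({x} : Set G)).index : ℂ) ≠ 0 :=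
    Nat.cast_ne_zero.2 Subgroup.FiniteIndex.index_ne_zero
  have hy : ((Subgroup.centralizer ({y} : Set G)).index : ℂ) ≠ 0 :=
    Nat.cast_ne_zero.2 Subgroup.FiniteIndex.index_ne_zero
  field_simp at h1
  linear_combination h1

omit [Fintype G] in
theorem product_mem (x y z : G) (h : IsConj (x * y) z) :
    ∃ a b : G, z = a * x * a⁻¹ * (b * y * b⁻¹) := by
  obtain ⟨c, rfl⟩ := isConj_iff.1 h
  exact ⟨c, c, by group⟩

theorem product_class_iff [Finite G] (x y : G) :
    (∀ z : G, IsConj (x * y) z ↔ ∃ a b : G, z = a * x * a⁻¹ * (b * y * b⁻¹)) ↔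
      ∀ (a b : G) (χ : Cfsg.IrrCharacter G), (χ : G → ℂ) 1 *
        (χ : G → ℂ) (a * x * a⁻¹ * (b * y * b⁻¹)) = (χ : G → ℂ) x * (χ : G → ℂ) y := by
  constructor
  · intro h a b χ
    have hc : ∀ a b : G, IsConj (x * y) (a * x * a⁻¹ * (b * y * b⁻¹)) := fun a b =>
      (h _).2 ⟨a, b, rfl⟩
    rw [← (CharBasic.isConj_iff_forall_irr _ _).1 (hc a b) χ]
    exact apply_mul_of_product x y hc χ
  · intro h z
    refine ⟨product_mem x y z, ?_⟩
    rintro ⟨a, b, rfl⟩
    refine (CharBasic.isConj_iff_forall_irr _ _).2 fun χ =>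
      mul_left_cancel₀ (irr_one_ne_zero χ.2) ?_
    have h1 := h 1 1 χ
    rw [one_mul, inv_one, mul_one, one_mul, mul_one] at h1
    rw [h a b χ, h1]

theorem product_class_of_multiplicative (x y : G)
    (h : ∀ (a b : G) (χ : Cfsg.IrrCharacter G), (χ : G → ℂ) (a * x * a⁻¹ * (b * y * b⁻¹)) =
      (χ : G → ℂ) (a * x * a⁻¹) * (χ : G → ℂ) (b * y * b⁻¹)) :
    (∀ z : G, IsConj (x * y) z ↔ ∃ a b : G, z = a * x * a⁻¹ * (b * y * b⁻¹)) ∧
    (∀ χ : Cfsg.IrrCharacter G, (χ : G → ℂ) 1 ≠ 1 → (χ : G → ℂ) (x * y) = 0) ∧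
    (∀ z : G, IsConj (x * y) z ↔ (x * y)⁻¹ * z ∈ commutator G) := by
  have hcl := fun χ : Cfsg.IrrCharacter G => CharBasic.IsIrr.isClassFunction χ.2
  have h1 : ∀ (a b : G) (χ : Cfsg.IrrCharacter G),
      (χ : G → ℂ) (a * x * a⁻¹ * (b * y * b⁻¹)) = (χ : G → ℂ) x * (χ : G → ℂ) y := fun a b χ => by
    rw [h, hcl χ x a, hcl χ y b]
  have h2 : ∀ χ : Cfsg.IrrCharacter G, (χ : G → ℂ) (x * y) = (χ : G → ℂ) x * (χ : G → ℂ) y :=
    fun χ => by simpa using h1 1 1 χ
  have hA : ∀ z : G, IsConj (x * y) z ↔ ∃ a b : G, z = a * x * a⁻¹ * (b * y * b⁻¹) := fun z => by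
    refine ⟨product_mem x y z, ?_⟩
    rintro ⟨a, b, rfl⟩
    exact (CharBasic.isConj_iff_forall_irr _ _).2 fun χ => by rw [h1, h2]
  have hB : ∀ χ : Cfsg.IrrCharacter G, (χ : G → ℂ) 1 ≠ 1 → (χ : G → ℂ) (x * y) = 0 := fun χ hχ => by
    have h3 := apply_mul_of_product x y (fun a b => (hA _).2 ⟨a, b, rfl⟩) χ
    rw [← h2] at h3
    refine (mul_eq_zero.1 (show ((χ : G → ℂ) 1 - 1) * (χ : G → ℂ) (x * y) = 0 by
      linear_combination h3)).resolve_left (sub_ne_zero.2 hχ)
  refine ⟨hA, hB, fun z => ⟨fun hz => ?_, fun hz => ?_⟩⟩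
  · obtain ⟨c, rfl⟩ := isConj_iff.1 hz
    rw [commutator_def]
    have := Subgroup.commutator_mem_commutator (Subgroup.mem_top (x * y)⁻¹) (Subgroup.mem_top c)
    rw [commutatorElement_def, inv_inv] at this
    simpa [mul_assoc] using this
  · by_contra hn
    have h0 := CharBasic.second_orthogonality_not_isConj hn
    have hlin : ∀ χ : Cfsg.IrrCharacter G,
        (χ : G → ℂ) (x * y) * conj ((χ : G → ℂ) z) =
          if (χ : G → ℂ) 1 = 1 then (1 : ℂ) else 0 := fun χ => by
      split_ifs with h1'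
      · obtain ⟨l, hl⟩ := CharInduce.IsChar.exists_hom_of_degree_one
          (CharBasic.IsIrr.isCharacter χ.2) h1'
        have hz1 : l z = l (x * y) := by
          have := Abelianization.commutator_subset_ker l hz
          rw [MonoidHom.mem_ker, map_mul, map_inv, inv_mul_eq_one] at this
          exact this.symm
        rw [hl, hl, hz1, Complex.mul_conj', CharInduce.norm_hom]
        simp
      · rw [hB χ h1', zero_mul]
    rw [Finset.sum_congr rfl fun χ _ => hlin χ, Finset.sum_boole, Nat.cast_eq_zero,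
      Finset.card_eq_zero, Finset.filter_eq_empty_iff] at h0
    exact h0 (x := ⟨fun _ => 1, CharBasic.isIrrCharacter_one⟩) (Finset.mem_univ _) rfl

end Cfsg.Agent.H84
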