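import Cfsg.Agent.H84.PComplementUnique
import Cfsg.Agent.CharInduce.CoprimeExt

/-!
# An invariant irreducible character above an invariant one for a coprime operator group
-/

set_option linter.style.haveILetI false

namespace Cfsg.Agent.H84

open Cfsg.Agent
open scoped ComplexConjugate commutatorElement

universe u

section Base

variable {G : Type u} [Group G] [Fintype G]

/-- Two characters with a common constituent are not orthogonal. -/
theorem inner_ne_zero_of_common {α β θ : G → ℂ} (hα : Cfsg.IsCharacter G α)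
    (hβ : Cfsg.IsCharacter G β) (hθ : Cfsg.IsIrrCharacter G θ)
    (h1 : Cfsg.classInner α θ ≠ 0) (h2 : Cfsg.classInner β θ ≠ 0) :
    Cfsg.classInner α β ≠ 0 := by
  obtain ⟨r, hr, rfl⟩ := CharInduce.IsChar.exists_eq_add hα hθ h1
  obtain ⟨n, hn⟩ := CharBasic.classInner_isChar_nat (CharBasic.IsIrr.isCharacter hθ) hβ
  obtain ⟨m, hm⟩ := CharBasic.classInner_isChar_nat hr hβ
  rw [CharBasic.classInner_add_left, hn, hm]
  have h3 : n ≠ 0 := fun h0 => h2 (by
    rw [← CharBasic.classInner_conj_symm, hn, h0, Nat.cast_zero, map_zero])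
  intro h
  have : ((n + m : ℕ) : ℂ) = 0 := by push_cast; exact h
  rw [Nat.cast_eq_zero] at this
  omega

variable {N : Subgroup G} [hN : N.Normal] [Fintype N]

/-- Above the same character of a normal subgroup with abelian quotient, two irreducible
characters differ by a linear character of the quotient. -/
theorem exists_hom_mul_eq (hab : ∀ a b : G, (b * a)⁻¹ * (a * b) ∈ N) {χ χ' : G → ℂ}
    (hχ : Cfsg.IsIrrCharacter G χ) (hχ' : Cfsg.IsIrrCharacter G χ') {θ : N → ℂ}
    (hθ : Cfsg.IsIrrCharacter N θ) (h1 : Cfsg.classInner (fun n : N => χ n) θ ≠ 0)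
    (h2 : Cfsg.classInner (fun n : N => χ' n) θ ≠ 0) :
    ∃ l : G →* ℂˣ, (∀ n ∈ N, l n = 1) ∧ χ = fun g => (l g : ℂ) * χ' g := by
  classical
  have hne := inner_ne_zero_of_common (CharInduce.IsChar.res (CharBasic.IsIrr.isCharacter hχ) N)
    (CharInduce.IsChar.res (CharBasic.IsIrr.isCharacter hχ') N) hθ h1 h2
  by_contra hcon
  push Not at hcon
  apply hne
  haveI : Finite (G ⧸ N →* ℂˣ) := finite_hom
  haveI : Fintype (G ⧸ N →* ℂˣ) := Fintype.ofFinite _
  let π := QuotientGroup.mk' N
  have hcomm : commutator (G ⧸ N) = ⊥ := by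
    rw [eq_bot_iff, commutator, Subgroup.commutator_le]
    intro a _ b _
    obtain ⟨x, rfl⟩ := QuotientGroup.mk'_surjective N a
    obtain ⟨y, rfl⟩ := QuotientGroup.mk'_surjective N b
    rw [Subgroup.mem_bot, commutatorElement_eq_one_iff_mul_comm, ← map_mul, ← map_mul]
    exact ((QuotientGroup.eq (s := N)).2 (hab x y)).symm
  have hsum : ∀ g : G, ∑ L : G ⧸ N →* ℂˣ, (L (π g) : ℂ) =
      if g ∈ N then (N.index : ℂ) else 0 := by
    intro g
    rw [sum_hom_apply]
    have e : π g ∈ commutator (G ⧸ N) ↔ g ∈ N := by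
      rw [hcomm, Subgroup.mem_bot]; exact QuotientGroup.eq_one_iff g
    simp only [e]
    rw [hcomm, Subgroup.index_bot, Subgroup.index_eq_card]
  have hzero : ∑ L : G ⧸ N →* ℂˣ, Cfsg.classInner χ (fun g => (L (π g) : ℂ) * χ' g) = 0 := by
    refine Finset.sum_eq_zero fun L _ => CharBasic.classInner_irr_of_ne hχ
      (CharInduce.isIrr_hom_mul hχ' (L.comp π)) ?_
    refine hcon (L.comp π) fun n hn => ?_
    rw [MonoidHom.comp_apply, show π n = 1 from (QuotientGroup.eq_one_iff n).2 hn, map_one]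
  simp only [CharBasic.classInner_def, map_mul, ← Finset.mul_sum] at hzero
  rw [Finset.sum_comm] at hzero
  have h3 : ∀ g : G, ∑ L : G ⧸ N →* ℂˣ, χ g * (conj (L (π g) : ℂ) * conj (χ' g)) =
      if g ∈ N then (N.index : ℂ) * (χ g * conj (χ' g)) else 0 := by
    intro g
    rw [← Finset.mul_sum, ← Finset.sum_mul, ← map_sum, hsum]
    split_ifs
    · rw [map_natCast]; ring
    · simp
  simp only [h3] at hzero
  rw [Finset.sum_ite, Finset.sum_const_zero, add_zero, ← Finset.mul_sum, mul_eq_zero,
    inv_eq_zero] at hzero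
  have h4 := hzero.resolve_left (by simp)
  rw [mul_eq_zero] at h4
  have h5 := h4.resolve_left (by exact_mod_cast Subgroup.index_ne_zero_of_finite)
  rw [CharBasic.classInner_def, mul_eq_zero]
  right
  rw [← h5]
  exact (Finset.sum_subtype (p := fun g => g ∈ N) _ (by simp)
    (fun g : G => χ g * conj (χ' g))).symm

omit hN in
/-- There is an irreducible character above a given one. -/
theorem exists_irr_above {θ : N → ℂ} (hθ : Cfsg.IsIrrCharacter N θ) :
    ∃ χ : Cfsg.IrrCharacter G, Cfsg.classInner (fun n : N => (χ : G → ℂ) n) θ ≠ 0 := by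
  have hne : Cfsg.indFun N θ ≠ 0 := fun e => by
    have h1 := congrFun e 1
    rw [CharInduce.indFun_one, Pi.zero_apply, mul_eq_zero] at h1
    rcases h1 with h1 | h1
    · exact Subgroup.index_ne_zero_of_finite (H := N) (by exact_mod_cast h1)
    · exact CharBasic.IsIrr.one_ne_zero hθ h1
  obtain ⟨χ, hχ⟩ := CharInduce.exists_constituent
    (CharInduce.IsChar.ind N (CharBasic.IsIrr.isCharacter hθ)) hne
  rw [CharInduce.classInner_indFun_left N _ _ (CharBasic.IsIrr.isClassFunction χ.2)] at hχ
  exact ⟨χ, fun h0 => hχ (by rw [← CharBasic.classInner_conj_symm, h0, map_zero])⟩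

/-- The abelian quotient case. -/
theorem exists_invariant_above_abelian {S : Type*} [Group S] [Fintype S] (φ : S →* MulAut G)
    (hφN : ∀ (s : S), ∀ n ∈ N, φ s n ∈ N) (hab : ∀ a b : G, (b * a)⁻¹ * (a * b) ∈ N)
    (hcop : N.index.Coprime (Nat.card S)) {θ : N → ℂ} (hθ : Cfsg.IsIrrCharacter N θ)
    (hinv : ∀ (s : S) (n : N), θ ⟨φ s n, hφN s n n.2⟩ = θ n) :
    ∃ χ : Cfsg.IrrCharacter G, Cfsg.classInner (fun n : N => (χ : G → ℂ) n) θ ≠ 0 ∧
      ∀ (s : S) (g : G), (χ : G → ℂ) (φ s g) = (χ : G → ℂ) g := by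
  classical
  obtain ⟨χ, hχ⟩ := exists_irr_above hθ
  have htw : ∀ s : S, Cfsg.classInner (fun n : N => (χ : G → ℂ) (φ s n)) θ ≠ 0 := by
    intro s
    let e : N ≃* N :=
      { toFun := fun n => ⟨φ s n, hφN s n n.2⟩
        invFun := fun n => ⟨φ s⁻¹ n, hφN s⁻¹ n n.2⟩
        left_inv := fun n => Subtype.ext (by simp [map_inv, MulAut.inv_apply_self])
        right_inv := fun n => Subtype.ext (by simp [map_inv, MulAut.apply_inv_self])
        map_mul' := fun a b => Subtype.ext (map_mul (φ s) _ _) }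
    intro h0
    apply hχ
    rw [← CharInduce.classInner_comp_mulEquiv e]
    rw [show (fun n : N => θ (e n)) = θ from funext fun n => hinv s n]
    exact h0
  choose c hcN hc using fun s : S => exists_hom_mul_eq hab
    (CharInduce.IsIrr.comp χ.2 (φ s).toMonoidHom (φ s).surjective) χ.2 hθ (htw s) hχ
  have hcs : ∀ (s : S) (g : G), (χ : G → ℂ) (φ s g) = (c s g : ℂ) * (χ : G → ℂ) g := fun s g =>
    congrFun (hc s) g
  let K : Subgroup (G →* ℂˣ) :=
    { carrier := {l | ∀ g, (l g : ℂ) * (χ : G → ℂ) g = (χ : G → ℂ) g}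
      one_mem' := fun g => by simp
      mul_mem' := fun {a b} ha hb g => by
        rw [MonoidHom.mul_apply, Units.val_mul, mul_assoc, hb g, ha g]
      inv_mem' := fun {a} ha g => by
        conv_lhs => rw [← ha g]
        rw [MonoidHom.inv_apply, ← mul_assoc, ← Units.val_mul, inv_mul_cancel, Units.val_one,
          one_mul] }
  haveI hKn : K.Normal := ⟨fun x hx g => by
    rw [show g * x * g⁻¹ = x from MonoidHom.ext fun y => by simp [mul_comm]]; exact hx⟩
  let q := QuotientGroup.mk' K
  have hq : ∀ l l' : G →* ℂˣ, q l = q l' ↔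
      ∀ g, (l g : ℂ) * (χ : G → ℂ) g = (l' g : ℂ) * (χ : G → ℂ) g := by
    intro l l'
    rw [QuotientGroup.mk'_apply, QuotientGroup.mk'_apply, QuotientGroup.eq]
    refine ⟨fun h g => ?_, fun h g => ?_⟩
    · conv_lhs => rw [← h g]
      rw [MonoidHom.mul_apply, MonoidHom.inv_apply, ← mul_assoc, ← Units.val_mul,
        mul_inv_cancel_left]
    · rw [MonoidHom.mul_apply, MonoidHom.inv_apply, Units.val_mul, mul_assoc, ← h g, ← mul_assoc,
        ← Units.val_mul, inv_mul_cancel, Units.val_one, one_mul]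
  -- the cocycle condition
  have hcoc : ∀ s t : S, q (c (s * t)) = q ((c s).comp (φ t).toMonoidHom) * q (c t) := by
    intro s t
    rw [← map_mul, hq]
    intro g
    rw [← hcs, map_mul, MulAut.mul_apply, hcs, hcs, ← mul_assoc, ← Units.val_mul]
    rfl
  obtain ⟨k, hk⟩ : ∃ k : ℕ, Nat.card S * k ≡ 1 [MOD N.index] := by
    rcases Nat.eq_or_lt_of_le (Nat.pos_of_ne_zero (Subgroup.index_ne_zero_of_finite (H := N))) with
      h1 | h1
    · exact ⟨0, by rw [show N.index = 1 from h1.symm]; exact Nat.modEq_one⟩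
    · obtain ⟨k, -, hk⟩ := Nat.exists_mul_mod_eq_one_of_coprime hcop.symm h1
      exact ⟨k, by rw [Nat.ModEq, hk, Nat.one_mod_eq_one.2 h1.ne']⟩
  set a : G →* ℂˣ := ∏ s, c s with ha
  have key : ∀ t : S, q ((a ^ k).comp (φ t).toMonoidHom * c t) = q (a ^ k) := by
    intro t
    have h1 : q a = q (a.comp (φ t).toMonoidHom) * q (c t) ^ Nat.card S := by
      rw [ha, ← Equiv.prod_comp (Equiv.mulRight t) c, map_prod]
      simp only [Equiv.coe_mulRight, hcoc]
      rw [Finset.prod_mul_distrib, Finset.prod_const, Finset.card_univ, ← Nat.card_eq_fintype_card,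
        ← map_prod]
      congr 2
      refine MonoidHom.ext fun g => ?_
      simp only [MonoidHom.finsetProd_apply, MonoidHom.comp_apply, MulEquiv.coe_toMonoidHom]
      exact (Equiv.prod_comp (Equiv.mulRight t) fun x => c x (φ t g)).symm
    have h2 : q (c t) ^ (Nat.card S * k) = q (c t) := by
      conv_rhs => rw [← pow_one (q (c t))]
      refine pow_eq_pow_iff_modEq.2 (Nat.ModEq.of_dvd (orderOf_dvd_of_pow_eq_one ?_) hk)
      rw [← map_pow, CharInduce.hom_pow_index N (c t) (hcN t), map_one]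
    rw [map_mul, map_pow q a, h1, mul_pow, ← pow_mul, h2]
    congr 1
  refine ⟨⟨fun g => ((a ^ k) g : ℂ) * (χ : G → ℂ) g, CharInduce.isIrr_hom_mul χ.2 (a ^ k)⟩, ?_,
    fun s g => ?_⟩
  · have hakN : ∀ n ∈ N, (a ^ k) n = 1 := fun n hn => by
      rw [MonoidHom.pow_apply, ha, MonoidHom.finsetProd_apply,
        Finset.prod_eq_one fun s _ => hcN s n hn, one_pow]
    show Cfsg.classInner (fun n : N => ((a ^ k) (n : G) : ℂ) * (χ : G → ℂ) n) θ ≠ 0
    simpa [show ∀ n : N, (a ^ k) (n : G) = 1 from fun n => hakN n n.2] using hχ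
  · show ((a ^ k) (φ s g) : ℂ) * (χ : G → ℂ) (φ s g) = ((a ^ k) g : ℂ) * (χ : G → ℂ) g
    rw [hcs, ← (hq _ _).1 (key s) g, ← mul_assoc, ← Units.val_mul]
    rfl

end Base

/-- An invariant irreducible character above an invariant one, solvable quotient. -/
theorem exists_invariant_above {S : Type*} [Group S] [Fintype S] :
    ∀ (n : ℕ) (G : Type u) [Group G] [Fintype G] (φ : S →* MulAut G) (N : Subgroup G) [N.Normal]
      [Fintype N], N.index ≤ n → Group.IsSolvable (G ⧸ N) → N.index.Coprime (Nat.card S) →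
      ∀ (hφN : ∀ (s : S), ∀ m ∈ N, φ s m ∈ N) (θ : N → ℂ), Cfsg.IsIrrCharacter N θ →
      (∀ (s : S) (m : N), θ ⟨φ s m, hφN s m m.2⟩ = θ m) →
      ∃ χ : Cfsg.IrrCharacter G, Cfsg.classInner (fun m : N => (χ : G → ℂ) m) θ ≠ 0 ∧
        ∀ (s : S) (g : G), (χ : G → ℂ) (φ s g) = (χ : G → ℂ) g := by
  intro n
  induction n with
  | zero =>
    intro G _ _ φ N _ _ hn
    exact absurd (Nat.le_zero.1 hn) Subgroup.index_ne_zero_of_finite
  | succ n ih =>
    intro G _ _ φ N _ _ hn hsolv hcop hφN θ hθ hinv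
    classical
    set M := commutator G ⊔ N with hM
    have hNM : N ≤ M := le_sup_right
    have habM : ∀ a b : G, (b * a)⁻¹ * (a * b) ∈ M := by
      intro a b
      refine Subgroup.mem_sup_left ?_
      rw [show (b * a)⁻¹ * (a * b) = ⁅a⁻¹, b⁻¹⁆ by rw [commutatorElement_def]; group]
      exact Subgroup.commutator_mem_commutator trivial trivial
    by_cases hMN : M = N
    · exact exists_invariant_above_abelian φ hφN (hMN ▸ habM) hcop hθ hinv
    have hMtop : M ≠ ⊤ := by
      intro htop
      haveI : Nontrivial (G ⧸ N) := by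
        rw [QuotientGroup.nontrivial_iff]
        exact fun h => hMN (by rw [htop, h])
      haveI := hsolv
      refine (Group.IsSolvable.commutator_lt_top_of_nontrivial (G ⧸ N)).ne ?_
      have h1 : M.map (QuotientGroup.mk' N) = commutator (G ⧸ N) := by
        rw [hM, Subgroup.map_sup, (Subgroup.map_eq_bot_iff _).2 (QuotientGroup.ker_mk' N).ge,
          sup_bot_eq, commutator, commutator, Subgroup.map_commutator,
          Subgroup.map_top_of_surjective _ (QuotientGroup.mk'_surjective N)]
      rw [← h1, htop, Subgroup.map_top_of_surjective _ (QuotientGroup.mk'_surjective N)]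
    haveI : Fintype M := Fintype.ofFinite M
    haveI : Fintype (N.subgroupOf M) := Fintype.ofFinite _
    have hφM : ∀ (s : S), ∀ m ∈ M, φ s m ∈ M := by
      intro s m hm
      have h1 : M.map (φ s).toMonoidHom ≤ M := by
        rw [hM, Subgroup.map_sup]
        refine sup_le_sup ?_ ?_
        · rw [commutator, Subgroup.map_commutator]
          exact Subgroup.commutator_mono le_top le_top
        · rintro _ ⟨y, hy, rfl⟩
          exact hφN s y hy
      exact h1 (Subgroup.mem_map_of_mem _ hm)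
    let φM : S →* MulAut M :=
      { toFun := fun s =>
          { toFun := fun m => ⟨φ s m, hφM s m m.2⟩
            invFun := fun m => ⟨φ s⁻¹ m, hφM s⁻¹ m m.2⟩
            left_inv := fun m => Subtype.ext (by simp [map_inv, MulAut.inv_apply_self])
            right_inv := fun m => Subtype.ext (by simp [map_inv, MulAut.apply_inv_self])
            map_mul' := fun a b => Subtype.ext (map_mul (φ s) _ _) }
        map_one' := MulEquiv.ext fun m => Subtype.ext (by simp)
        map_mul' := fun s t => MulEquiv.ext fun m => Subtype.ext (by simp) }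
    have hidx : (N.subgroupOf M).index * M.index = N.index := Subgroup.relIndex_mul_index hNM
    have hMi : 2 ≤ M.index := by
      have h1 : M.index ≠ 1 := fun h => hMtop (Subgroup.index_eq_one.1 h)
      have h2 : M.index ≠ 0 := Subgroup.index_ne_zero_of_finite
      omega
    have hlt : (N.subgroupOf M).index ≤ n := by
      have h3 : (N.subgroupOf M).index ≠ 0 := Subgroup.index_ne_zero_of_finite
      nlinarith
    let e := Subgroup.subgroupOfEquivOfLe hNM
    haveI hsM : Group.IsSolvable (M ⧸ N.subgroupOf M) := by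
      haveI := hsolv
      refine Group.isSolvable_of_isSolvable_injective
        (f := QuotientGroup.map (N.subgroupOf M) N M.subtype le_rfl) ?_
      rw [← MonoidHom.ker_eq_bot_iff, eq_bot_iff]
      intro x hx
      obtain ⟨y, rfl⟩ := QuotientGroup.mk'_surjective (N.subgroupOf M) x
      have hx' : ((M.subtype y : G) : G ⧸ N) = 1 := hx
      rw [QuotientGroup.eq_one_iff] at hx'
      exact Subgroup.mem_bot.2 ((QuotientGroup.eq_one_iff y).2 hx')
    obtain ⟨ψ, hψ, hψinv⟩ := ih M φM (N.subgroupOf M) hlt hsM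
      (hcop.coprime_dvd_left ⟨M.index, hidx.symm⟩) (fun s m hm => hφN s m.1 hm)
      (fun m => θ (e m)) (CharInduce.IsIrr.comp hθ e.toMonoidHom e.surjective)
      (fun s m => hinv s (e m))
    obtain ⟨χ, hχ, hχinv⟩ := exists_invariant_above_abelian φ hφM habM
      (hcop.coprime_dvd_left (Subgroup.index_dvd_of_le hNM)) ψ.2 hψinv
    refine ⟨χ, ?_, hχinv⟩
    obtain ⟨r, hr, hsum⟩ := CharInduce.IsChar.exists_eq_add
      (CharInduce.IsChar.res (CharBasic.IsIrr.isCharacter χ.2) M) ψ.2 hχ
    have hθ' := CharBasic.IsIrr.isCharacter (CharInduce.IsIrr.comp hθ e.toMonoidHom e.surjective)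
    obtain ⟨a, ha⟩ := CharBasic.classInner_isChar_nat
      (CharInduce.IsChar.res (CharBasic.IsIrr.isCharacter ψ.2) (N.subgroupOf M)) hθ'
    obtain ⟨b, hb⟩ := CharBasic.classInner_isChar_nat
      (CharInduce.IsChar.res hr (N.subgroupOf M)) hθ'
    have e1 : Cfsg.classInner (fun m : N => (χ : G → ℂ) m) θ = ((a + b : ℕ) : ℂ) := by
      rw [← CharInduce.classInner_comp_mulEquiv e]
      push_cast
      erw [← ha, ← hb, ← CharBasic.classInner_add_left]
      congr 1
      funext m
      show (χ : G → ℂ) ((m : M) : G) = _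
      exact congrFun hsum (m : M)
    rw [e1, Nat.cast_ne_zero]
    have ha0 : a ≠ 0 := fun h0 => hψ (by
      show Cfsg.classInner (fun m : N.subgroupOf M => (ψ : M → ℂ) m) (fun m => θ (e m)) = 0
      erw [ha, h0, Nat.cast_zero])
    omega

end Cfsg.Agent.H84
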