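import Cfsg.Agent.H84.PTwoLinear

/-!
# The group is the direct product of `SL(2, 2 ^ a)` and its centre
-/

set_option linter.unusedSectionVars false
set_option linter.style.haveILetI false
set_option maxHeartbeats 1000000

open scoped ComplexConjugate

namespace Cfsg.Agent.H84.PTwo

open CharBasic BlockBasic CycOne

universe u

variable {G : Type u} [Group G] [Fintype G] {p : ℕ} [hp : Fact p.Prime]

theorem exists_product (P : Sylow p G) (hP : Nat.card P = p) (hp5 : 5 < p)
    (hnn : ¬ (P : Subgroup G).Normal) {ζ : IrrCharacter G}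
    (hfaith : ∀ g : G, (ζ : G → ℂ) g = (ζ : G → ℂ) 1 → g = 1)
    (hdeg : charDegree (ζ : G → ℂ) = p - 2) :
    ∃ (a : ℕ) (F : Type) (_ : Field F) (_ : Fintype F), p = 2 ^ a + 1 ∧ Fintype.card F = 2 ^ a ∧
      Nonempty (G ≃* Matrix.SpecialLinearGroup (Fin 2) F × Subgroup.center G) := by
  classical
  letI : Fintype (cen P) := Fintype.ofFinite _
  letI : Fintype (nor P) := Fintype.ofFinite _
  obtain ⟨hc1, hc2, hc3⟩ := centralizer_structure P hP hp5.le hnn hfaith hdeg
  have h : TH P := ⟨hP, hp5.le, hc1, hc2, hc3⟩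
  have h7 : 7 ≤ p := by
    have : p ≠ 6 := fun e => by rw [e] at hp; exact absurd hp.out (by norm_num)
    omega
  obtain ⟨L, hL1, hLs⟩ := h.exists_linear h7 hdeg hfaith
  obtain ⟨l, hl⟩ := CharInduce.IsChar.exists_hom_of_degree_one (IsIrr.isCharacter L.2) hL1
  set Z := Subgroup.center G with hZdef
  have hlz : ∀ z ∈ Z, (l z : ℂ) = centralChar (ζ : G → ℂ) z := fun z hz => by
    rw [← hl, ← hLs z hz, H54.CB.centralChar_of_mem_center _ hz, hL1, div_one]
  have hnl : ∀ g, (l g : ℂ) * conj (l g : ℂ) = 1 := fun g => by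
    rw [Complex.mul_conj', CharInduce.norm_hom]; norm_num
  -- the twisted character on the quotient
  have hζ' : IsIrrCharacter G (fun g => (ζ : G → ℂ) g * conj (l g : ℂ)) := by
    refine CharInduce.isIrr_of_norm_one (CharInduce.IsChar.mul (IsIrr.isCharacter ζ.2)
      (CharInduce.IsChar.conj (CharInduce.isCharacter_hom l))) ?_
    refine Eq.trans ?_ (classInner_irr_self ζ.2)
    rw [classInner_def, classInner_def]
    refine congrArg _ (Finset.sum_congr rfl fun g _ => ?_)
    rw [map_mul, Complex.conj_conj]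
    calc (ζ : G → ℂ) g * conj (l g : ℂ) * (conj ((ζ : G → ℂ) g) * (l g : ℂ))
        = ((l g : ℂ) * conj (l g : ℂ)) * ((ζ : G → ℂ) g * conj ((ζ : G → ℂ) g)) := by ring
      _ = _ := by rw [hnl, one_mul]
  obtain ⟨ψ, hψc, hψg, hψi⟩ := CharInduce.IsChar.exists_deflate (IsIrr.isCharacter hζ') Z
    (fun z hz => by
      show (ζ : G → ℂ) z * conj (l z : ℂ) = (ζ : G → ℂ) 1 * conj (l 1 : ℂ)
      have h1 := H54.CB.apply_mul_center ζ hz 1
      rw [one_mul] at h1
      rw [h1, ← hlz z hz, map_one, Units.val_one, map_one, mul_one, mul_comm (l z : ℂ), mul_assoc,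
        hnl, mul_one])
  let Ψ : IrrCharacter (G ⧸ Z) := ⟨ψ, hψi hζ'⟩
  letI : Fintype (G ⧸ Z) := Fintype.ofFinite _
  let f := QuotientGroup.mk' Z
  have hf : Function.Surjective f := QuotientGroup.mk'_surjective Z
  have hΨ1 : (Ψ : G ⧸ Z → ℂ) 1 = (ζ : G → ℂ) 1 := by
    have h1 := hψg 1
    rw [QuotientGroup.mk_one] at h1
    show ψ 1 = _
    rw [← h1]
    simp
  have hΨdeg : charDegree (Ψ : G ⧸ Z → ℂ) = p - 2 := by
    rw [← hdeg]
    apply Nat.cast_injective (R := ℂ)
    rw [← apply_one_eq_charDegree, ← apply_one_eq_charDegree, hΨ1]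
  have hnormZ : ∀ g : G, ‖(Ψ : G ⧸ Z → ℂ) g‖ = ‖(Ψ : G ⧸ Z → ℂ) 1‖ → g ∈ Z := by
    intro g hg
    refine mem_center_of_norm ζ.2 hfaith ?_
    rw [← hΨ1, ← hg]
    show ‖(ζ : G → ℂ) g‖ = ‖ψ g‖
    rw [← hψg g, norm_mul, Complex.norm_conj, CharInduce.norm_hom, mul_one]
  have hΨfaith : ∀ x : G ⧸ Z, (Ψ : G ⧸ Z → ℂ) x = (Ψ : G ⧸ Z → ℂ) 1 → x = 1 := by
    intro x hx
    obtain ⟨g, rfl⟩ := hf x
    exact (QuotientGroup.eq_one_iff g).2 (hnormZ g (congrArg (‖·‖) hx))
  have hZbot : Subgroup.center (G ⧸ Z) = ⊥ := by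
    refine (Subgroup.eq_bot_iff_forall _).2 fun x hx => ?_
    obtain ⟨g, rfl⟩ := hf x
    refine (QuotientGroup.eq_one_iff g).2 (hnormZ g ?_)
    have h1 := H54.CB.apply_mul_center Ψ hx 1
    rw [one_mul] at h1
    show ‖(Ψ : G ⧸ Z → ℂ) (f g)‖ = _
    rw [h1, norm_mul, norm_centralChar Ψ hx, one_mul]
  -- the Sylow subgroup of the quotient
  let P' : Sylow p (G ⧸ Z) := P.mapSurjective hf
  have hP'coe : (P' : Subgroup (G ⧸ Z)) = (P : Subgroup G).map f := rfl
  have hP' : Nat.card P' = p := by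
    show Nat.card (P' : Subgroup (G ⧸ Z)) = p
    have hdvd : Nat.card ((P : Subgroup G).map f) ∣ p := by
      have := (P : Subgroup G).card_map_dvd f
      rwa [show Nat.card (P : Subgroup G) = p from hP] at this
    rw [hP'coe]
    rcases (Nat.dvd_prime hp.out).1 hdvd with e | e
    · exfalso
      rw [Subgroup.card_eq_one, Subgroup.map_eq_bot_iff, QuotientGroup.ker_mk'] at e
      haveI : Nontrivial (P : Subgroup G) :=
        Finite.one_lt_card_iff_nontrivial.1 (hP.symm ▸ hp.out.one_lt)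
      obtain ⟨y, hy⟩ := exists_ne (1 : (P : Subgroup G))
      exact hy (Subtype.ext (hc3 y y.2 (e y.2)))
    · exact e
  have hnn' : ¬ (P' : Subgroup (G ⧸ Z)).Normal := by
    intro hN
    refine hnn ⟨fun y hy g => ?_⟩
    have h1 := hN.conj_mem (f y) (by rw [hP'coe]; exact ⟨y, hy, rfl⟩) (f g)
    rw [hP'coe] at h1
    obtain ⟨y', hy', e⟩ := h1
    rw [← map_inv, ← map_mul, ← map_mul] at e
    obtain ⟨z, hz, e'⟩ : ∃ z ∈ Z, g * y * g⁻¹ = y' * z :=
      ⟨y'⁻¹ * (g * y * g⁻¹), QuotientGroup.eq.1 e, by group⟩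
    suffices z = 1 by rw [e', this, mul_one]; exact hy'
    have hy'p : ∀ v ∈ (P : Subgroup G), v ^ p = 1 := fun v hv => by
      rcases eq_or_ne v 1 with rfl | hv1
      · exact one_pow p
      · rw [← orderOf_dvd_iff_pow_eq_one, ← Nat.card_zpowers, zpowers_eq P hP hv hv1, hP]
    have h2 := congrArg (· ^ p) e'
    simp only [conj_pow] at h2
    rw [hy'p y hy, mul_one, mul_inv_cancel,
      (show Commute y' z from Subgroup.mem_center_iff.1 hz y').mul_pow, hy'p y' hy', one_mul] at h2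
    rcases (Nat.dvd_prime hp.out).1 (orderOf_dvd_of_pow_eq_one h2.symm) with e | e
    · exact orderOf_eq_one_iff.1 e
    · exact absurd (by rw [e]) (h.center_regular hz)
  letI : Fintype (cen P') := Fintype.ofFinite _
  letI : Fintype (nor P') := Fintype.ofFinite _
  obtain ⟨hd1, hd2, hd3⟩ := centralizer_structure P' hP' hp5.le hnn' hΨfaith hΨdeg
  have h' : TH P' := ⟨hP', hp5.le, hd1, hd2, hd3⟩
  obtain ⟨a, F, _, _, hpa, hF, ⟨e⟩⟩ := h'.iso_special hZbot hp5 hΨdeg hΨfaith
  obtain ⟨hperf, -, -, -⟩ := h'.core hZbot hΨdeg hΨfaith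
  -- the splitting
  let ω : Z →* ℂˣ := l.comp Z.subtype
  have hω : Function.Injective ω := by
    refine (injective_iff_map_eq_one ω).2 fun z hz => Subtype.ext ?_
    refine eq_one_of_centralChar hfaith z.2 ?_
    rw [← hlz z z.2]
    show ((ω z : ℂˣ) : ℂ) = 1
    rw [hz, Units.val_one]
  have hrange : ∀ g, l g ∈ ω.range := by
    intro g
    have h1 : f g ∈ (commutator G).map f := by
      rw [commutator_def, Subgroup.map_commutator, Subgroup.map_top_of_surjective f hf,
        ← commutator_def, hperf]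
      exact Subgroup.mem_top _
    obtain ⟨c, hc, e⟩ := h1
    refine ⟨⟨c⁻¹ * g, QuotientGroup.eq.1 e⟩, ?_⟩
    show l (c⁻¹ * g) = l g
    rw [map_mul, map_inv, MonoidHom.mem_ker.1 (Abelianization.commutator_subset_ker l hc), inv_one,
      one_mul]
  let s : G →* Z := (MonoidHom.ofInjective hω).symm.toMonoidHom.comp (l.codRestrict ω.range hrange)
  have hs : ∀ g, l (s g : G) = l g := fun g => by
    have h1 := MonoidHom.apply_ofInjective_symm hω ⟨l g, hrange g⟩
    exact h1
  have hsz : ∀ z : Z, s z = z := fun z => hω (show ω (s z) = ω z from hs z)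
  let Φ : G →* (G ⧸ Z) × Z := f.prod s
  have hΦ : Function.Bijective Φ := by
    constructor
    · refine (injective_iff_map_eq_one Φ).2 fun g hg => ?_
      have h1 : f g = 1 := congrArg Prod.fst hg
      have h2 : s g = 1 := congrArg Prod.snd hg
      have hgZ := (QuotientGroup.eq_one_iff g).1 h1
      rw [hsz ⟨g, hgZ⟩] at h2
      exact congrArg Subtype.val h2
    · rintro ⟨x, z⟩
      obtain ⟨g, rfl⟩ := hf x
      refine ⟨g * ((s g)⁻¹ * z : Z), Prod.ext ?_ ?_⟩
      · show f (g * _) = f g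
        rw [map_mul, show f (((s g)⁻¹ * z : Z) : G) = 1 from (QuotientGroup.eq_one_iff _).2 (SetLike.coe_mem _),
          mul_one]
      · show s (g * _) = z
        rw [map_mul, hsz, mul_inv_cancel_left]
  exact ⟨a, F, inferInstance, inferInstance, hpa, hF,
    ⟨(MulEquiv.ofBijective Φ hΦ).trans (e.prodCongr (MulEquiv.refl Z))⟩⟩

end Cfsg.Agent.H84.PTwo
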