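import Cfsg.Agent.H84.Separated
import Cfsg.Agent.H35.Consequences
import Mathlib.LinearAlgebra.Dimension.StrongRankCondition
import Mathlib.LinearAlgebra.Matrix.NonsingularInverse
import Mathlib.LinearAlgebra.Dimension.Constructions

/-!
# Blocks with a given defect group from `p`-separated classes
-/

set_option linter.style.haveILetI false
set_option linter.unusedSectionVars false

open scoped ComplexConjugate
open MonoidAlgebra

namespace Cfsg.Agent.H84

open Cfsg.Agent.BlockBasic

variable {G : Type*} [Group G] [Finite G] {p : ℕ} [hp : Fact p.Prime] {M : Ideal Cfsg.AlgInt}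

omit [Finite G] in
/-- A quotient of natural numbers with equal `p`-parts is a unit of the local ring. -/
theorem natCast_div_unit (hM : Cfsg.IsPModular p M) {a b : ℕ} (ha : a ≠ 0) (hb : b ≠ 0)
    (h : a.factorization p = b.factorization p) :
    Cfsg.MemLocalRing M ((a : ℂ) / (b : ℂ)) ∧ ¬ Cfsg.MemLocalIdeal M ((a : ℂ) / (b : ℂ)) := by
  have hp0 : ((p ^ b.factorization p : ℕ) : ℂ) ≠ 0 :=
    Nat.cast_ne_zero.2 (pow_ne_zero _ hp.out.ne_zero)
  have hA := Nat.not_dvd_ordCompl hp.out ha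
  have hB := Nat.not_dvd_ordCompl hp.out hb
  have e : (a : ℂ) / (b : ℂ) = ((a / p ^ a.factorization p : ℕ) : ℂ) *
      ((b / p ^ b.factorization p : ℕ) : ℂ)⁻¹ := by
    conv_lhs => rw [← Nat.ordProj_mul_ordCompl_eq_self a p, ← Nat.ordProj_mul_ordCompl_eq_self b p,
      Nat.cast_mul, Nat.cast_mul, h, mul_div_mul_left _ _ hp0]
    rw [div_eq_mul_inv, h]
  rw [e]
  refine ⟨memLocalRing_mul hM (memLocalRing_natCast hM _) (memLocalRing_natCast_inv hM hB), ?_⟩
  rw [memLocalIdeal_mul_iff hM (memLocalRing_natCast hM _) (memLocalRing_natCast_inv hM hB)]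
  rintro (h1 | h1)
  · exact hA ((memLocalIdeal_natCast_iff hM _).1 h1)
  · have h2 := memLocalIdeal_mul hM (memLocalRing_natCast hM (b / p ^ b.factorization p)) h1
    rw [mul_inv_cancel₀ (Nat.cast_ne_zero.2 fun h0 => hB (by rw [h0]; exact dvd_zero p))] at h2
    exact not_memLocalIdeal_one hM h2

omit [Finite G] hp in
theorem card_centralizer_inv (x : G) :
    Nat.card (Subgroup.centralizer ({x⁻¹} : Set G)) =
      Nat.card (Subgroup.centralizer ({x} : Set G)) := by rw [centralizer_inv]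

open scoped Classical in
/-- The separation identity: classes with quotients missing the nontrivial elements of `P`. -/
theorem separation_identity [Fintype G] (P : Sylow p G) [Fintype (P : Subgroup G)] {r : ℕ}
    (x : Fin r → G) (hx : ∀ i j : Fin r, IsConj (x i) (x j) → i = j)
    (hsep : ∀ i j : Fin r, ∀ g h : G, IsConj (x i) g → IsConj (x j) h → ∀ k : ℕ, 0 < k →
      orderOf (g * h⁻¹) ≠ p ^ k)
    (m : Cfsg.IrrCharacter G → ℕ)
    (hm : ∀ χ : Cfsg.IrrCharacter G, ∑ z : (P : Subgroup G), conj ((χ : G → ℂ) z) =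
      (Nat.card (P : Subgroup G) : ℂ) * m χ) (i j : Fin r) :
    ∑ χ : Cfsg.IrrCharacter G, (χ : G → ℂ) 1 * (Cfsg.centralChar (χ : G → ℂ) (x i) *
      Cfsg.centralChar (χ : G → ℂ) (x j)⁻¹) * m χ =
      if i = j then ((Subgroup.centralizer ({x i} : Set G)).index : ℂ) *
        (P : Subgroup G).index else 0 := by
  have hzero : ∀ z : (P : Subgroup G), (classSum (x i) * classSum (x j)⁻¹).coeff (z : G) =
      if z = 1 ∧ i = j then ((Subgroup.centralizer ({x i} : Set G)).index : ℂ) else 0 := fun z => by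
    rw [coeff_classSum_mul]
    split_ifs with hz
    · obtain ⟨rfl, rfl⟩ := hz
      rw [← card_class]
      congr 2
      ext g
      simp only [Finset.mem_filter, Finset.mem_univ, true_and, OneMemClass.coe_one, mul_one]
      exact ⟨fun h => h.1, fun h => ⟨h, isConj_inv_inv h⟩⟩
    · rw [Nat.cast_eq_zero, Finset.card_eq_zero, Finset.filter_eq_empty_iff]
      rintro g - ⟨hg, hg'⟩
      have hh : IsConj (x j) ((z : G)⁻¹ * g) := by simpa using isConj_inv_inv hg'
      by_cases hz1 : z = 1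
      · subst hz1
        exact hz ⟨rfl, hx i j (hg.trans (IsConj.symm (by simpa using hh)))⟩
      obtain ⟨k, hk⟩ := IsPGroup.iff_orderOf.1 P.isPGroup' z
      rw [← Subgroup.orderOf_coe] at hk
      refine hsep i j g _ hg hh k (Nat.pos_of_ne_zero fun h0 => hz1 ?_) ?_
      · rw [h0, pow_zero, orderOf_eq_one_iff] at hk
        exact Subtype.ext hk
      · rw [show g * ((z : G)⁻¹ * g)⁻¹ = (z : G) by group]
        exact hk
  have hsum : ∑ z : (P : Subgroup G), (classSum (x i) * classSum (x j)⁻¹).coeff (z : G) =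
      if i = j then ((Subgroup.centralizer ({x i} : Set G)).index : ℂ) else 0 := by
    simp [hzero, ite_and]
  simp only [coeff_classSum_mul_eq, ← Finset.mul_sum] at hsum
  rw [Finset.sum_comm] at hsum
  simp only [← Finset.mul_sum, hm] at hsum
  rw [← (P : Subgroup G).card_mul_index, Nat.cast_mul] at hsum
  have hP : (Nat.card (P : Subgroup G) : ℂ) ≠ 0 := Nat.cast_ne_zero.2 Nat.card_pos.ne'
  have hI : ((P : Subgroup G).index : ℂ) ≠ 0 := Nat.cast_ne_zero.2 Subgroup.FiniteIndex.index_ne_zero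
  have e : ∀ χ : Cfsg.IrrCharacter G, (χ : G → ℂ) 1 * (Cfsg.centralChar (χ : G → ℂ) (x i) *
      Cfsg.centralChar (χ : G → ℂ) (x j)⁻¹) * ((Nat.card (P : Subgroup G) : ℂ) * m χ) =
      (Nat.card (P : Subgroup G) : ℂ) * ((χ : G → ℂ) 1 * (Cfsg.centralChar (χ : G → ℂ) (x i) *
      Cfsg.centralChar (χ : G → ℂ) (x j)⁻¹) * m χ) := fun χ => by ring
  simp only [e, ← Finset.mul_sum] at hsum
  rw [← mul_assoc, mul_inv_rev, mul_assoc ((P : Subgroup G).index : ℂ)⁻¹, inv_mul_cancel₀ hP,
    mul_one, inv_mul_eq_iff_eq_mul₀ hI] at hsum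
  rw [hsum]
  split_ifs <;> ring

/-- Matrices with a left inverse have an invertible square submatrix. -/
theorem exists_det_ne_zero {K ι : Type*} [Field K] [Fintype ι] {r : ℕ} (W : ι → Fin r → K)
    (A : ι → Fin r → K) (h : ∀ i j, ∑ c, W c i * A c j = if i = j then 1 else 0) :
    ∃ f : Fin r → ι, (Matrix.of fun k i => W (f k) i).det ≠ 0 := by
  classical
  have htop : Submodule.span K (Set.range W) = ⊤ := by
    refine eq_top_iff.2 fun v _ => ?_
    have hv : v = ∑ c, (∑ j, A c j * v j) • W c := funext fun i => by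
      simp only [Finset.sum_apply, Pi.smul_apply, smul_eq_mul, Finset.sum_mul]
      rw [Finset.sum_comm]
      have e : ∀ j, ∑ c, A c j * v j * W c i = v j * ∑ c, W c i * A c j := fun j => by
        rw [Finset.mul_sum]; exact Finset.sum_congr rfl fun c _ => by ring
      simp [e, h]
    rw [hv]
    exact Submodule.sum_mem _ fun c _ => Submodule.smul_mem _ _ (Submodule.subset_span ⟨c, rfl⟩)
  obtain ⟨f, hf, -, hli⟩ := Submodule.exists_fun_fin_finrank_span_eq K (Set.range W)
  have hr : Module.finrank K (Submodule.span K (Set.range W)) = r := by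
    rw [htop, finrank_top, Module.finrank_fin_fun]
  choose a ha using hf
  refine ⟨fun k => a (Fin.cast hr.symm k), fun hdet => ?_⟩
  have h2 : LinearIndependent K (fun k : Fin r => W (a (Fin.cast hr.symm k))) := by
    simp only [ha]
    exact hli.comp _ (Fin.cast_injective _)
  have h3 : IsUnit (Matrix.of fun k i => W (a (Fin.cast hr.symm k)) i) :=
    Matrix.linearIndependent_rows_iff_isUnit.1 h2
  rw [Matrix.isUnit_iff_isUnit_det, hdet] at h3
  exact not_isUnit_zero h3

open scoped Classical in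
theorem exists_blocks_of_separated (hM : Cfsg.IsPModular p M) (D : Subgroup G) {r : ℕ}
    (x : Fin r → G) (hx : ∀ i j : Fin r, IsConj (x i) (x j) → i = j)
    (hD : ∀ i : Fin r, ∃ S : Sylow p (Subgroup.centralizer ({x i} : Set G)), H35.sylImage S = D)
    (hsep : ∀ i j : Fin r, ∀ g h : G, IsConj (x i) g → IsConj (x j) h → ∀ k : ℕ, 0 < k →
      orderOf (g * h⁻¹) ≠ p ^ k) :
    ∃ B : Fin r → Set (Cfsg.IrrCharacter G), Function.Injective B ∧
      (∀ i : Fin r, Cfsg.IsPBlock M (B i) ∧ Cfsg.IsDefectGroup p M (B i) D) ∧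
      ∀ χ : Fin r → Cfsg.IrrCharacter G,
        (∀ i : Fin r, χ i ∈ B i ∧ Cfsg.blockHeight p (B i) (χ i : G → ℂ) = 0) →
        ¬ Cfsg.MemLocalIdeal M
          (Matrix.det (Matrix.of fun i j : Fin r => (χ i : G → ℂ) (x j))) := by
  cases nonempty_fintype G
  haveI := locMax_isMaximal hM
  letI := Ideal.Quotient.field (locMax hM)
  let π := Ideal.Quotient.mk (locMax hM)
  have hπ : ∀ (z : ℂ) (hz : Cfsg.MemLocalRing M z), π ⟨z, hz⟩ = 0 ↔ Cfsg.MemLocalIdeal M z :=
    fun z hz => by rw [Ideal.Quotient.eq_zero_iff_mem, mem_locMax]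
  set a := (Nat.card G).factorization p
  obtain ⟨e, he⟩ : ∃ e : ℕ, ∀ i, ((Subgroup.centralizer ({x i} : Set G)).index).factorization p = e := by
    rcases Nat.eq_zero_or_pos r with rfl | hr
    · exact ⟨0, fun i => i.elim0⟩
    refine ⟨((Subgroup.centralizer ({x ⟨0, hr⟩} : Set G)).index).factorization p, fun i => ?_⟩
    obtain ⟨S, hS⟩ := hD i
    obtain ⟨T, hT⟩ := hD ⟨0, hr⟩
    have h1 := H35.card_sylImage S
    have h2 := H35.card_sylImage T
    rw [hS] at h1
    rw [hT, h1] at h2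
    have h3 := Nat.pow_right_injective hp.out.two_le h2
    have h4 := H35.factorization_index_add (p := p) (x i)
    have h5 := H35.factorization_index_add (p := p) (x ⟨0, hr⟩)
    omega
  let P : Sylow p G := default
  haveI : Fintype (P : Subgroup G) := Fintype.ofFinite _
  choose m hm using fun χ : Cfsg.IrrCharacter G => sum_subgroup_eq_mul χ (P : Subgroup G)
  set g' := (P : Subgroup G).index
  have hg' : ¬ p ∣ g' := P.not_dvd_index
  -- exact identity
  let c : Cfsg.IrrCharacter G → Fin r → ℂ := fun χ i => Cfsg.centralChar (χ : G → ℂ) (x i)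
  let y : Cfsg.IrrCharacter G → Fin r → ℂ := fun χ j =>
    (χ : G → ℂ) (x j)⁻¹ * ((m χ : ℂ) * (g' : ℂ)⁻¹)
  have hc : ∀ χ i, Cfsg.MemLocalRing M (c χ i) := fun χ i => memLocalRing_centralChar hM χ.2 _
  have hy : ∀ χ j, Cfsg.MemLocalRing M (y χ j) := fun χ j =>
    memLocalRing_mul hM (memLocalRing_of_isIntegral hM (isIntegral_apply χ _))
      (memLocalRing_mul hM (memLocalRing_natCast hM _) (memLocalRing_natCast_inv hM hg'))
  have hid : ∀ i j, ∑ χ, c χ i * y χ j = if i = j then 1 else 0 := fun i j => by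
    have h := separation_identity P x hx hsep m hm i j
    have hg0 : (g' : ℂ) ≠ 0 := Nat.cast_ne_zero.2 Subgroup.FiniteIndex.index_ne_zero
    have hj0 : ((Subgroup.centralizer ({x j} : Set G)).index : ℂ) ≠ 0 :=
      Nat.cast_ne_zero.2 Subgroup.FiniteIndex.index_ne_zero
    have e : ∀ χ : Cfsg.IrrCharacter G, (χ : G → ℂ) 1 * (Cfsg.centralChar (χ : G → ℂ) (x i) *
        Cfsg.centralChar (χ : G → ℂ) (x j)⁻¹) * m χ =
        ((Subgroup.centralizer ({x j} : Set G)).index : ℂ) * g' * (c χ i * y χ j) := fun χ => by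
      simp only [c, y, Cfsg.centralChar, centralizer_inv]
      field_simp [irr_one_ne_zero χ.2]
    simp only [e, ← Finset.mul_sum] at h
    split_ifs with hij
    · subst hij
      rw [if_pos rfl] at h
      exact mul_left_cancel₀ (mul_ne_zero hj0 hg0) (by rw [h, mul_one])
    · rw [if_neg hij] at h
      exact (mul_eq_zero.1 h).resolve_left (mul_ne_zero hj0 hg0)
  -- the characters of degree with `p`-part the class size
  let T := {χ : Cfsg.IrrCharacter G // (Cfsg.charDegree (χ : G → ℂ)).factorization p = e}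
  have hsmall : ∀ χ : Cfsg.IrrCharacter G, (Cfsg.charDegree (χ : G → ℂ)).factorization p ≠ e →
      ∀ i j, π ⟨c χ i, hc χ i⟩ * π ⟨y χ j, hy χ j⟩ = 0 := fun χ hχ i j => by
    rcases Nat.lt_or_gt_of_ne hχ with hlt | hgt
    · rw [(hπ _ (hc χ i)).2, zero_mul]
      by_contra hu
      have := H35.index_le_degree hM χ hu
      rw [he i] at this
      omega
    · rw [(hπ _ (hy χ j)).2, mul_zero]
      show Cfsg.MemLocalIdeal M ((χ : G → ℂ) (x j)⁻¹ * ((m χ : ℂ) * (g' : ℂ)⁻¹))
      rw [mul_comm]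
      refine memLocalIdeal_mul hM (memLocalRing_mul hM (memLocalRing_natCast hM _)
        (memLocalRing_natCast_inv hM hg')) ?_
      by_contra hu
      have := H35.degree_le_index hM χ hu
      rw [centralizer_inv, he j] at this
      omega
  have hmat : ∀ i j, ∑ t : T, π ⟨c t.1 i, hc _ i⟩ * π ⟨y t.1 j, hy _ j⟩ = if i = j then 1 else 0 := by
    intro i j
    calc ∑ t : T, π ⟨c t.1 i, hc _ i⟩ * π ⟨y t.1 j, hy _ j⟩
        = ∑ χ : Cfsg.IrrCharacter G, π ⟨c χ i, hc χ i⟩ * π ⟨y χ j, hy χ j⟩ := by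
          rw [← Finset.sum_subtype (Finset.univ.filter fun χ : Cfsg.IrrCharacter G =>
            (Cfsg.charDegree (χ : G → ℂ)).factorization p = e) (by simp)
            (fun χ => π ⟨c χ i, hc χ i⟩ * π ⟨y χ j, hy χ j⟩)]
          exact Finset.sum_filter_of_ne fun χ _ hne => by
            by_contra h
            exact hne (hsmall χ h i j)
      _ = π (∑ χ : Cfsg.IrrCharacter G, ⟨c χ i, hc χ i⟩ * ⟨y χ j, hy χ j⟩) := by
          rw [map_sum]; simp only [map_mul]
      _ = π (if i = j then 1 else 0) := by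
          refine congrArg π (Subtype.ext ?_)
          push_cast
          rw [hid]
          split_ifs <;> rfl
      _ = _ := by split_ifs <;> simp
  obtain ⟨f, hf⟩ := exists_det_ne_zero (fun (t : T) i => π ⟨c t.1 i, hc _ i⟩)
    (fun (t : T) j => π ⟨y t.1 j, hy _ j⟩) hmat
  let B : Fin r → Set (Cfsg.IrrCharacter G) := fun k => Cfsg.blockOf M ((f k).1 : G → ℂ)
  have hB : ∀ k, Cfsg.IsPBlock M (B k) := fun k => isPBlock_blockOf M _
  have hrow : ∀ k (χ : Cfsg.IrrCharacter G), χ ∈ B k → ∀ i,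
      π ⟨c χ i, hc χ i⟩ = π ⟨c (f k).1 i, hc _ i⟩ := fun k χ hχ i => by
    refine Ideal.Quotient.eq.2 ?_
    rw [mem_locMax]
    exact isPBlock_sameBlock hM (hB k) hχ (self_mem_blockOf hM _) (x i)
  have hdef : ∀ k, Cfsg.IsDefectGroup p M (B k) D ∧
      sInf ((fun χ : Cfsg.IrrCharacter G => (Cfsg.charDegree (χ : G → ℂ)).factorization p) '' B k)
        = e := fun k => by
    obtain ⟨i, hi⟩ : ∃ i, ¬ Cfsg.MemLocalIdeal M (c (f k).1 i) := by
      by_contra h
      push Not at h
      exact hf (Matrix.det_eq_zero_of_row_eq_zero k fun i => (hπ _ _).2 (h i))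
    obtain ⟨g, hg⟩ := exists_isDefectClass hM (hB k)
    obtain ⟨S, hS⟩ := hD i
    obtain ⟨d, hd⟩ := H35.exists_sylImage_le hM (hB k) (self_mem_blockOf hM _) hi hg.2.1 default S
    rw [hS] at hd
    have h1 := Subgroup.card_le_of_le hd
    rw [Subgroup.card_map_of_injective (MulAut.conj d).injective, ← hS, H35.card_sylImage,
      H35.card_sylImage, Nat.pow_le_pow_iff_right hp.out.one_lt] at h1
    have h2 := H35.index_le_degree hM (f k).1 (hg.2.2 _ (self_mem_blockOf hM _))
    rw [(f k).2] at h2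
    have h3 := H35.factorization_index_add (p := p) g
    have h4 := H35.factorization_index_add (p := p) (x i)
    rw [he i] at h4
    refine ⟨?_, by rw [H35.sInf_degree_eq hM (hB k) hg]; omega⟩
    set Q := H35.sylImage (default : Sylow p (Subgroup.centralizer ({g} : Set G))) with hQ
    have heq : Q = D.map (MulAut.conj d).toMonoidHom := by
      refine Subgroup.eq_of_le_of_card_ge hd (le_of_eq ?_)
      rw [Subgroup.card_map_of_injective (MulAut.conj d).injective, hQ, ← hS, H35.card_sylImage,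
        H35.card_sylImage]
      congr 1
      omega
    have h5 : Cfsg.IsDefectGroup p M (B k) Q := ⟨g, hg, _, rfl⟩
    have h6 := H35.isDefectGroup_conj h5 d⁻¹
    rw [heq, Subgroup.map_map] at h6
    have h7 : (MulAut.conj d⁻¹).toMonoidHom.comp (MulAut.conj d).toMonoidHom = MonoidHom.id G := by
      ext z; simp [mul_assoc]
    rwa [h7, Subgroup.map_id] at h6
  refine ⟨B, fun k l hkl => ?_, fun k => ⟨hB k, (hdef k).1⟩, fun χ hχ hdet => hf ?_⟩
  · by_contra hne
    exact hf (Matrix.det_zero_of_row_eq hne (funext fun i =>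
      (hrow l (f k).1 (hkl ▸ self_mem_blockOf hM _) i)))
  have hdeg : ∀ k, (Cfsg.charDegree (χ k : G → ℂ)).factorization p = e := fun k => by
    have h1 : e ≤ (Cfsg.charDegree (χ k : G → ℂ)).factorization p :=
      (hdef k).2 ▸ Nat.sInf_le ⟨_, (hχ k).1, rfl⟩
    have h2 := (hχ k).2
    rw [Cfsg.blockHeight, (hdef k).2] at h2
    omega
  set u : Fin r → ℂ := fun k => (Cfsg.charDegree (χ k : G → ℂ) : ℂ) / ((p ^ e : ℕ) : ℂ)
  set v : Fin r → ℂ := fun i => ((p ^ e : ℕ) : ℂ) / ((Subgroup.centralizer ({x i} : Set G)).index : ℂ)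
  have hpe : (p ^ e).factorization p = e := by
    rw [hp.out.factorization_pow, Finsupp.single_eq_same]
  have hu : ∀ k, Cfsg.MemLocalRing M (u k) ∧ ¬ Cfsg.MemLocalIdeal M (u k) := fun k =>
    natCast_div_unit hM (charDegree_pos _).ne' (pow_ne_zero _ hp.out.ne_zero)
      (by rw [hpe, hdeg])
  have hv : ∀ i, Cfsg.MemLocalRing M (v i) ∧ ¬ Cfsg.MemLocalIdeal M (v i) := fun i =>
    natCast_div_unit hM (pow_ne_zero _ hp.out.ne_zero) Subgroup.FiniteIndex.index_ne_zero
      (by rw [hpe, he])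
  let N : Matrix (Fin r) (Fin r) (locRing hM) := Matrix.of fun k i =>
    ⟨u k, (hu k).1⟩ * (⟨v i, (hv i).1⟩ * ⟨c (χ k) i, hc _ i⟩)
  have hN : (locRing hM).subtype.mapMatrix N =
      Matrix.of fun k i : Fin r => (χ k : G → ℂ) (x i) := by
    ext k i
    simp only [N, c, u, v, RingHom.mapMatrix_apply, Matrix.map_apply, Matrix.of_apply,
      Subring.subtype_apply, Subring.coe_mul, Cfsg.centralChar, apply_one_eq_charDegree]
    have h1 : (Cfsg.charDegree (χ k : G → ℂ) : ℂ) ≠ 0 := Nat.cast_ne_zero.2 (charDegree_pos _).ne'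
    have h2 : ((Subgroup.centralizer ({x i} : Set G)).index : ℂ) ≠ 0 :=
      Nat.cast_ne_zero.2 Subgroup.FiniteIndex.index_ne_zero
    have h3 : ((p ^ e : ℕ) : ℂ) ≠ 0 := Nat.cast_ne_zero.2 (pow_ne_zero _ hp.out.ne_zero)
    field_simp
  rw [← hN, ← RingHom.map_det] at hdet
  have hzero : π N.det = 0 := Ideal.Quotient.eq_zero_iff_mem.2 (mem_locMax.2 hdet)
  rw [RingHom.map_det] at hzero
  have hπN : π.mapMatrix N = Matrix.diagonal (fun k => π ⟨u k, (hu k).1⟩) *
      (Matrix.of fun k i => π ⟨c (f k).1 i, hc _ i⟩) *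
      Matrix.diagonal (fun i => π ⟨v i, (hv i).1⟩) := by
    ext k i
    rw [Matrix.mul_diagonal, Matrix.diagonal_mul]
    simp only [N, RingHom.mapMatrix_apply, Matrix.map_apply, Matrix.of_apply, map_mul,
      hrow k (χ k) (hχ k).1 i]
    ring
  rw [hπN, Matrix.det_mul, Matrix.det_mul, Matrix.det_diagonal, Matrix.det_diagonal] at hzero
  rcases mul_eq_zero.1 hzero with h1 | h1
  · rcases mul_eq_zero.1 h1 with h2 | h2
    · obtain ⟨k, -, hk⟩ := Finset.prod_eq_zero_iff.1 h2
      exact absurd ((hπ _ _).1 hk) (hu k).2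
    · exact h2
  · obtain ⟨i, -, hi⟩ := Finset.prod_eq_zero_iff.1 h1
    exact absurd ((hπ _ _).1 hi) (hv i).2

end Cfsg.Agent.H84
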