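import Cfsg.Agent.S0169
import Cfsg.Agent.CharBasic.Kernel
import Cfsg.Agent.H69.Basic
import Cfsg.Agent.Coprime.Action
import Cfsg.Agent.Cores.PSolvable
import Cfsg.Prelude.Def_Blocks

/-!
# All irreducible degrees prime to `p` in a `p`-solvable group
-/

namespace Cfsg.Agent.H84

open Cfsg.Agent

universe u

variable {G : Type u} [Group G] [Finite G] {p : ℕ} [hp : Fact p.Prime]

/-- A copy of `G` carrying the conjugation action. -/
def ConjPt (G : Type u) : Type u := G

/-- The element of `ConjPt G` attached to `x`. -/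
def toConjPt (x : G) : ConjPt G := x

/-- The underlying element. -/
def ofConjPt (x : ConjPt G) : G := x

instance conjPtAction : MulAction G (ConjPt G) where
  smul g x := toConjPt (g * ofConjPt x * g⁻¹)
  one_smul x := by
    have key : ∀ y : G, 1 * y * (1 : G)⁻¹ = y := fun y => by simp
    exact key (ofConjPt x)
  mul_smul g h x := by
    have key : ∀ y : G, g * h * y * (g * h)⁻¹ = g * (h * y * h⁻¹) * g⁻¹ := fun y => by group
    exact key (ofConjPt x)

theorem charDegree_of_eq {χ : G → ℂ} {n : ℕ} (h : χ 1 = n) : Cfsg.charDegree χ = n := by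
  rw [Cfsg.charDegree, h, Complex.natCast_re, Nat.floor_natCast]

theorem not_dvd_degree_of_normal_abelian_sylow (P : Sylow p G) (hn : (P : Subgroup G).Normal)
    (hab : IsMulCommutative (P : Subgroup G)) (χ : Cfsg.IrrCharacter G) :
    ¬ p ∣ Cfsg.charDegree (χ : G → ℂ) := by
  obtain ⟨n, ρ, hρ, he⟩ := χ.2
  have h := S0169.result ρ (P : Subgroup G) fun a ha b hb =>
    congrArg Subtype.val (hab.is_comm.comm (⟨a, ha⟩ : (P : Subgroup G)) ⟨b, hb⟩)
  have h1 : (χ : G → ℂ) 1 = (Module.finrank ℂ (Fin n → ℂ) : ℂ) := by rw [← he, Representation.char_one]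
  rw [charDegree_of_eq h1]
  exact fun hd => P.not_dvd_index (hd.trans h)

theorem p_group_linear (h : ∀ χ : Cfsg.IrrCharacter G, ¬ p ∣ Cfsg.charDegree (χ : G → ℂ))
    (hG : IsPGroup p G) : ∀ a b : G, a * b = b * a := by
  cases nonempty_fintype G
  refine CharBasic.commutative_iff_forall_linear.2 fun χ : Cfsg.IrrCharacter G => ?_
  obtain ⟨n, -, hn, hdvd, -⟩ := CharBasic.IsIrr.degree_dvd χ.2
  obtain ⟨k, hk⟩ := hG.exists_card_eq
  obtain ⟨i, -, rfl⟩ := (Nat.dvd_prime_pow hp.out).1 (hk ▸ hdvd)
  have h' := h χ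
  rw [charDegree_of_eq hn] at h'
  rcases i with - | i
  · simpa using hn
  · exact absurd (dvd_pow_self p i.succ_ne_zero) h'

/-- The degree hypothesis passes to normal subgroups, and the inertia index is prime to `p`. -/
theorem degree_below (h : ∀ χ : Cfsg.IrrCharacter G, ¬ p ∣ Cfsg.charDegree (χ : G → ℂ))
    (N : Subgroup G) [N.Normal] (θ : Cfsg.IrrCharacter N) :
    ¬ p ∣ Cfsg.charDegree (θ : N → ℂ) ∧ ¬ p ∣ (CharInduce.inertia N (θ : N → ℂ)).index := by
  classical
  cases nonempty_fintype G
  haveI : Fintype N := Fintype.ofFinite N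
  have hind := CharInduce.IsChar.ind N (CharBasic.IsIrr.isCharacter θ.2)
  have hne : Cfsg.indFun N (θ : N → ℂ) ≠ 0 := fun e => by
    have h1 := congrFun e 1
    rw [CharInduce.indFun_one, Pi.zero_apply, mul_eq_zero] at h1
    rcases h1 with h1 | h1
    · exact Subgroup.index_ne_zero_of_finite (H := N) (by exact_mod_cast h1)
    · exact CharBasic.IsIrr.one_ne_zero θ.2 h1
  obtain ⟨ψ, hψ⟩ := CharInduce.exists_constituent hind hne
  rw [CharInduce.classInner_indFun_left N _ _ (CharBasic.IsIrr.isClassFunction ψ.2)] at hψ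
  have h1 : Cfsg.classInner (fun n : N => (ψ : G → ℂ) n) (θ : N → ℂ) ≠ 0 := fun h0 =>
    hψ (by rw [← CharBasic.classInner_conj_symm, h0, map_zero])
  obtain ⟨e, he⟩ := CharBasic.classInner_isChar_nat
    (CharInduce.IsChar.res (CharBasic.IsIrr.isCharacter ψ.2) N) (CharBasic.IsIrr.isCharacter θ.2)
  obtain ⟨d, -, hd⟩ := CharBasic.IsIrr.exists_degree θ.2
  obtain ⟨n, -, hn⟩ := CharBasic.IsIrr.exists_degree ψ.2
  have h2 := CharInduce.clifford_degree N ψ.2 θ.2 h1
  rw [he, hd, hn] at h2
  have h3 : n = e * (CharInduce.inertia N (θ : N → ℂ)).index * d := by exact_mod_cast h2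
  have h4 := h ψ
  rw [charDegree_of_eq hn] at h4
  rw [charDegree_of_eq hd]
  refine ⟨fun hd' => h4 (h3 ▸ hd'.mul_left _), fun hd' => h4 ?_⟩
  rw [h3]
  exact (hd'.mul_left e).mul_right d

/-- A coprime normal subgroup whose characters are all fixed by `P` is centralised by `P`. -/
theorem le_centralizer_of_fixed (M : Subgroup G) [M.Normal] (P : Subgroup G) (hP : IsPGroup p P)
    (hcop : (Nat.card M).Coprime p)
    (hfix : ∀ (θ : Cfsg.IrrCharacter M) (x : G), x ∈ P →
      x ∈ CharInduce.inertia M (θ : M → ℂ)) :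
    P ≤ Subgroup.centralizer (M : Set G) := by
  classical
  cases nonempty_fintype G
  haveI : Fintype M := Fintype.ofFinite M
  obtain ⟨k, hk⟩ := hP.exists_card_eq
  have hcop' : (Nat.card P).Coprime (Nat.card M) := by
    rw [hk]; exact hcop.symm.pow_left k
  haveI : Group.IsNilpotent P := hP.isNilpotent
  have hnorm : P ≤ Subgroup.normalizer (M : Set G) :=
    le_top.trans (Subgroup.normalizer_eq_top_iff.2 inferInstance).ge
  let C : Subgroup M := (Subgroup.centralizer (P : Set G)).subgroupOf M
  suffices hC : C = ⊤ by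
    intro x hx
    rw [Subgroup.mem_centralizer_iff]
    intro m hm
    have h := (eq_top_iff.1 hC) (Subgroup.mem_top (⟨m, hm⟩ : M))
    rw [Subgroup.mem_subgroupOf, Subgroup.mem_centralizer_iff] at h
    exact (h x hx).symm
  by_contra hC
  obtain ⟨d, hd⟩ := H69.exists_not_conj_mem C hC
  have hsmul : ∀ g x : G, g • toConjPt x = toConjPt (g * x * g⁻¹) := fun g x => rfl
  let S : Set (ConjPt G) := {y | ∃ m : M, y = toConjPt ((m : G) * d * (m : G)⁻¹)}
  obtain ⟨y, ⟨m, rfl⟩, hy⟩ := Coprime.exists_fixed_point (A := P) (K := M) hnorm hcop'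
    (Or.inl inferInstance) (S := S) ⟨toConjPt (d : G), 1, by simp⟩ (by
      rintro a ha x ⟨m, rfl⟩
      have hconj : IsConj (⟨a * d * a⁻¹, ‹M.Normal›.conj_mem d d.2 a⟩ : M) d := by
        refine (CharBasic.isConj_iff_forall_irr _ _).2 fun θ => ?_
        exact congrFun (CharInduce.mem_inertia M |>.1 (hfix θ a ha)) d
      obtain ⟨c, hc⟩ := isConj_iff.1 hconj
      have hc' : (c : G) * (a * d * a⁻¹) * (c : G)⁻¹ = d := congrArg Subtype.val hc
      refine ⟨⟨a * m * a⁻¹, ‹M.Normal›.conj_mem m m.2 a⟩ * c⁻¹, ?_⟩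
      rw [hsmul]
      refine congrArg toConjPt ?_
      simp only [Subgroup.coe_mul, Subgroup.coe_inv]
      calc a * ((m : G) * d * (m : G)⁻¹) * a⁻¹
          = (a * m * a⁻¹) * (a * d * a⁻¹) * (a * m * a⁻¹)⁻¹ := by group
        _ = (a * m * a⁻¹) * ((c : G)⁻¹ * ((c : G) * (a * d * a⁻¹) * (c : G)⁻¹) * c) * (a * m * a⁻¹)⁻¹ := by
          group
        _ = _ := by rw [hc']; group)
    (by
      rintro x ⟨m, rfl⟩ y ⟨m', rfl⟩
      refine ⟨(m' : G) * (m : G)⁻¹, M.mul_mem m'.2 (M.inv_mem m.2), ?_⟩
      rw [hsmul]; refine congrArg toConjPt ?_; group)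
    (by
      rintro k hk x ⟨m, rfl⟩
      refine ⟨⟨k, hk⟩ * m, ?_⟩
      rw [hsmul]; refine congrArg toConjPt ?_; simp [mul_assoc])
  refine hd m⁻¹ ?_
  rw [Subgroup.mem_subgroupOf, Subgroup.mem_centralizer_iff]
  intro a ha
  have h := hy a ha
  rw [hsmul] at h
  replace h := mul_inv_eq_iff_eq_mul.1
    (show a * ((m : G) * d * (m : G)⁻¹) * a⁻¹ = (m : G) * d * (m : G)⁻¹ from h)
  simpa [mul_assoc] using h

/-- Itô–Michler for `p`-solvable groups. -/
theorem normal_abelian_sylow_of_degrees (hsolv : Cfsg.IsPSolvable p G)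
    (h : ∀ χ : Cfsg.IrrCharacter G, ¬ p ∣ Cfsg.charDegree (χ : G → ℂ)) (P : Sylow p G) :
    (P : Subgroup G).Normal ∧ ∀ a ∈ (P : Subgroup G), ∀ b ∈ (P : Subgroup G), a * b = b * a := by
  suffices hall : ∀ (n : ℕ) (G : Type u) [Group G] [Finite G], Nat.card G ≤ n →
      Cfsg.IsPSolvable p G → (∀ χ : Cfsg.IrrCharacter G, ¬ p ∣ Cfsg.charDegree (χ : G → ℂ)) →
      ∀ P : Sylow p G, (P : Subgroup G).Normal ∧
        ∀ a ∈ (P : Subgroup G), ∀ b ∈ (P : Subgroup G), a * b = b * a from
    hall _ G le_rfl hsolv h P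
  clear hsolv h P
  intro n
  induction n with
  | zero => intro G _ _ hn; exact absurd hn (by have := Nat.card_pos (α := G); omega)
  | succ n ih =>
    intro G _ _ hn hsolv h P
    classical
    cases nonempty_fintype G
    rcases subsingleton_or_nontrivial G with hss | hnt
    · refine ⟨⟨fun a ha g => ?_⟩, fun a _ b _ => Subsingleton.elim _ _⟩
      rwa [Subsingleton.elim (g * a * g⁻¹) a]
    obtain ⟨M, hMn, hMb, hmin⟩ := H69.exists_minimal_normal (G := G)
    haveI := hMn
    have hq : Nat.card (G ⧸ M) ≤ n := by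
      have h1 := Subgroup.card_eq_card_quotient_mul_card_subgroup M
      have h2 : 1 < Nat.card M := (Subgroup.one_lt_card_iff_ne_bot M).2 hMb
      have h3 := Nat.card_pos (α := G ⧸ M)
      nlinarith
    let π := QuotientGroup.mk' M
    have hsurj : Function.Surjective π := QuotientGroup.mk'_surjective M
    obtain ⟨hQn, hQab⟩ := ih (G ⧸ M) hq (Cores.isPSolvable_of_surjective hsolv π hsurj)
      (fun χ => h ⟨fun g => (χ : G ⧸ M → ℂ) (π g), CharInduce.IsIrr.comp χ.2 π hsurj⟩)
      (P.mapSurjective hsurj)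
    rw [Sylow.coe_mapSurjective] at hQn hQab
    let K := (P : Subgroup G) ⊔ M
    have hK : K.Normal := by
      have h1 := hQn.comap π
      rwa [Subgroup.comap_map_eq, QuotientGroup.ker_mk'] at h1
    haveI := hK
    by_cases hKtop : K = ⊤
    · rcases Cores.isPGroup_or_coprime_of_minimal_normal hsolv M hMb (fun L hL hLM => by
          by_cases hLb : L = ⊥
          · exact Or.inl hLb
          · exact Or.inr (hmin L hL hLb hLM)) with hMp | hMcop
      · have hMP : M ≤ (P : Subgroup G) := by
          obtain ⟨Q, hQ⟩ := hMp.exists_le_sylow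
          obtain ⟨g, rfl⟩ := MulAction.exists_smul_eq G P Q
          intro x hx
          have h1 := hQ (hMn.conj_mem x hx g)
          rw [Sylow.coe_subgroup_smul, Subgroup.mem_pointwise_smul_iff_inv_smul_mem] at h1
          simpa [mul_assoc] using h1
        have hPtop : (P : Subgroup G) = ⊤ := by
          rw [← hKtop]; exact (sup_eq_left.2 hMP).symm
        have hG : IsPGroup p G := by
          have := P.2
          rw [hPtop] at this
          exact this.of_equiv Subgroup.topEquiv
        exact ⟨hPtop ▸ inferInstance, fun a _ b _ => p_group_linear h hG a b⟩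
      · have hfix : ∀ (θ : Cfsg.IrrCharacter M) (x : G), x ∈ (P : Subgroup G) →
            x ∈ CharInduce.inertia M (θ : M → ℂ) := by
          intro θ x _
          haveI : Fintype M := Fintype.ofFinite M
          have hle : M ≤ CharInduce.inertia M (θ : M → ℂ) :=
            CharInduce.le_inertia M (CharBasic.IsIrr.isClassFunction θ.2)
          suffices hT : CharInduce.inertia M (θ : M → ℂ) = ⊤ by rw [hT]; trivial
          rw [← Subgroup.index_eq_one]
          have h1 : (CharInduce.inertia M (θ : M → ℂ)).index ∣ M.index :=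
            Subgroup.index_dvd_of_le hle
          have h2 : M.index ∣ Nat.card (P : Subgroup G) := by
            have h3 : M.relIndex ((P : Subgroup G) ⊔ M) = M.relIndex (P : Subgroup G) := by
              rw [sup_comm]; exact Subgroup.relIndex_sup_left _ _
            rw [show (P : Subgroup G) ⊔ M = ⊤ from hKtop, Subgroup.relIndex_top_right] at h3
            rw [h3]
            exact Subgroup.relIndex_dvd_card _ _
          obtain ⟨k, hk⟩ := P.2.exists_card_eq
          obtain ⟨i, -, hi⟩ := (Nat.dvd_prime_pow hp.out).1 (hk ▸ h1.trans h2)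
          rcases i with - | i
          · simpa using hi
          · exact absurd (hi ▸ dvd_pow_self p i.succ_ne_zero) (degree_below h M θ).2
        have hc := le_centralizer_of_fixed M (P : Subgroup G) P.2 hMcop hfix
        have hinf : (P : Subgroup G) ⊓ M = ⊥ := by
          obtain ⟨k, hk⟩ := P.2.exists_card_eq
          refine Subgroup.inf_eq_bot_of_coprime ?_
          rw [hk]; exact hMcop.symm.pow_left k
        refine ⟨?_, fun a ha b hb => ?_⟩
        · rw [← Subgroup.normalizer_eq_top_iff, eq_top_iff, ← hKtop]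
          refine sup_le Subgroup.le_normalizer fun m hm => ?_
          rw [Subgroup.mem_normalizer_iff]
          intro x
          have hcm : ∀ y ∈ (P : Subgroup G), m * y * m⁻¹ = y := fun y hy => by
            rw [Subgroup.mem_centralizer_iff.1 (hc hy) m hm]; group
          refine ⟨fun hx => by rw [hcm x hx]; exact hx, fun hx => ?_⟩
          have h1 := hcm _ hx
          rw [mul_left_inj, mul_right_inj] at h1
          exact h1 ▸ hx
        · have hab := hQab (π a) (Subgroup.mem_map_of_mem π ha) (π b) (Subgroup.mem_map_of_mem π hb)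
          have h1 : (b * a)⁻¹ * (a * b) ∈ (P : Subgroup G) ⊓ M := by
            refine ⟨(P : Subgroup G).mul_mem ((P : Subgroup G).inv_mem (mul_mem hb ha)) (mul_mem ha hb),
              ?_⟩
            show (b * a)⁻¹ * (a * b) ∈ M
            rw [← QuotientGroup.eq_one_iff]
            show π ((b * a)⁻¹ * (a * b)) = 1
            rw [map_mul, map_inv, map_mul, map_mul, hab, inv_mul_cancel]
          rw [hinf, Subgroup.mem_bot, inv_mul_eq_one] at h1
          exact h1.symm
    · have hlt : Nat.card K ≤ n := by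
        have h1 := Subgroup.card_mul_index K
        have h2 : K.index ≠ 1 := fun h0 => hKtop (Subgroup.index_eq_one.1 h0)
        have h3 : K.index ≠ 0 := Subgroup.index_ne_zero_of_finite
        have h4 := Nat.card_pos (α := K)
        have h5 : 2 ≤ K.index := by omega
        nlinarith
      have hPK : (P : Subgroup G) ≤ K := le_sup_left
      obtain ⟨hKn, hKab⟩ := ih K hlt (Cores.isPSolvable_subgroup hsolv K)
        (fun θ => (degree_below h K θ).1) (P.subtype hPK)
      rw [Sylow.coe_subtype] at hKn hKab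
      refine ⟨?_, fun a ha b hb => ?_⟩
      · haveI := hKn
        haveI : Subgroup.Characteristic ((P : Subgroup G).subgroupOf K) := by
          have := (P.subtype hPK).characteristic_of_normal (by rw [Sylow.coe_subtype]; exact hKn)
          rwa [Sylow.coe_subtype] at this
        have h1 : (((P : Subgroup G).subgroupOf K).map K.subtype).Normal := inferInstance
        rwa [Subgroup.map_subgroupOf_eq_of_le hPK] at h1
      · exact congrArg Subtype.val (hKab ⟨a, hPK ha⟩ ha ⟨b, hPK hb⟩ hb)

end Cfsg.Agent.H84
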