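import Mathlib

/-!
# Frobenius: the number of solutions of `g ^ m = 1`
-/

set_option autoImplicit false
set_option linter.style.haveILetI false

universe u

namespace Cfsg.Agent.H84

open Subgroup

theorem gcd_dvd_card_pow_eq_one {G : Type u} [Group G] [Finite G] (m : ℕ) :
    Nat.gcd m (Nat.card G) ∣ Nat.card {g : G // g ^ m = 1} := by
  suffices key : ∀ (N : ℕ) (H : Type u) [Group H] [Finite H], Nat.card H ≤ N → ∀ m : ℕ,
      m ∣ Nat.card H → m ∣ Nat.card {g : H // g ^ m = 1} by
    have e : Nat.card {g : G // g ^ m = 1} =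
        Nat.card {g : G // g ^ Nat.gcd m (Nat.card G) = 1} :=
      Nat.card_congr (Equiv.subtypeEquivRight fun g => ⟨fun h => pow_gcd_eq_one.2
        ⟨h, pow_card_eq_one'⟩, fun h => (pow_gcd_eq_one.1 h).1⟩)
    rw [e]
    exact key _ G le_rfl _ (Nat.gcd_dvd_right _ _)
  intro N
  induction N with
  | zero => intro H _ _ h; exact absurd Nat.card_pos (not_lt.2 h)
  | succ N ih =>
    intro H _ _ hH m hm
    obtain ⟨d, hd⟩ := hm
    induction d using Nat.strong_induction_on generalizing m with
    | _ d ihd =>
      rcases eq_or_ne d 1 with rfl | hd1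
      · rw [mul_one] at hd
        rw [Nat.card_congr (Equiv.subtypeUnivEquiv fun g => hd ▸ pow_card_eq_one'), hd]
      obtain ⟨p, hp, hpd⟩ := Nat.exists_prime_and_dvd hd1
      obtain ⟨c, rfl⟩ := hpd
      have hc0 : 0 < c := Nat.pos_of_ne_zero fun h => by
        rw [h, mul_zero, mul_zero] at hd; exact Nat.card_pos.ne' hd
      have h1 := ihd c (lt_mul_of_one_lt_left hc0 hp.one_lt) (m * p) (by rw [hd]; ring)
      have hsplit : Nat.card {g : H // g ^ (m * p) = 1} = Nat.card {g : H // g ^ m = 1} +
          Nat.card {g : H // g ^ (m * p) = 1 ∧ g ^ m ≠ 1} := by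
        classical
        haveI := Fintype.ofFinite H
        simp only [Nat.card_eq_fintype_card, Fintype.card_subtype]
        rw [← Finset.card_union_of_disjoint]
        · congr 1
          ext g
          by_cases hg : g ^ m = 1
          · simp [pow_mul, hg]
          · simp [hg]
        · rw [Finset.disjoint_filter]
          exact fun g _ hg hg' => hg'.2 hg
      suffices h2 : m ∣ Nat.card {g : H // g ^ (m * p) = 1 ∧ g ^ m ≠ 1} by
        exact (Nat.dvd_add_left h2).1 (hsplit ▸ dvd_trans (dvd_mul_right m p) h1)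
      have hmp0 : m * p ≠ 0 := fun h => Nat.card_pos.ne' (by
        rw [hd, ← mul_assoc, h, zero_mul] : Nat.card H = 0)
      set a := (m * p).factorization p with ha
      set m' := m * p / p ^ a with hm'
      have hmul : p ^ a * m' = m * p := Nat.ordProj_mul_ordCompl_eq_self (m * p) p
      have hco : p.Coprime m' := Nat.coprime_ordCompl hp hmp0
      have ha1 : 1 ≤ a := (hp.dvd_iff_one_le_factorization hmp0).1 (dvd_mul_left p m)
      have hm : m = p ^ (a - 1) * m' := by
        refine Nat.eq_of_mul_eq_mul_right hp.pos ?_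
        rw [← hmul, mul_right_comm, ← pow_succ]
        congr 3
        omega
      haveI : Fact p.Prime := ⟨hp⟩
      -- membership means: the order has full `p`-part
      have hS : ∀ g : H, (g ^ (m * p) = 1 ∧ g ^ m ≠ 1) ↔
          (orderOf g ∣ m * p ∧ p ^ a ∣ orderOf g) := by
        intro g
        rw [← orderOf_dvd_iff_pow_eq_one]
        refine ⟨fun ⟨h, h'⟩ => ⟨h, ?_⟩, fun ⟨h, h'⟩ => ⟨h, fun h'' => ?_⟩⟩
        · by_contra hn
          apply h'
          rw [← orderOf_dvd_iff_pow_eq_one]
          have ho := (orderOf_pos g).ne'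
          rw [← hmul] at h
          rw [hm]
          have hlt : (orderOf g).factorization p ≤ a - 1 := by
            by_contra hh
            exact hn ((pow_dvd_pow p (by omega : a ≤ (orderOf g).factorization p)).trans
              (Nat.ordProj_dvd _ p))
          rw [← Nat.ordProj_mul_ordCompl_eq_self (orderOf g) p]
          refine Nat.mul_dvd_mul (pow_dvd_pow p hlt) ?_
          exact ((Nat.coprime_ordCompl hp ho).symm.pow_right a).dvd_of_dvd_mul_left
            ((Nat.ordCompl_dvd (orderOf g) p).trans h)
        · rw [← orderOf_dvd_iff_pow_eq_one, hm] at h''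
          have h3 := h'.trans h''
          have h4 : p ^ a ∣ p ^ (a - 1) := (hco.pow_left a).dvd_of_dvd_mul_right h3
          have := (Nat.pow_dvd_pow_iff_le_right hp.one_lt).1 h4
          omega
      -- every cyclic group contributes a multiple of `p ^ (a - 1)`
      have hdiv1 : p ^ (a - 1) ∣ Nat.card {g : H // g ^ (m * p) = 1 ∧ g ^ m ≠ 1} := by
        classical
        haveI := Fintype.ofFinite H
        rw [Nat.card_eq_fintype_card, Fintype.card_subtype,
          Finset.card_eq_sum_card_image (fun g : H => zpowers g)]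
        refine Finset.dvd_sum fun K hK => ?_
        obtain ⟨g, hg, rfl⟩ := Finset.mem_image.1 hK
        rw [Finset.mem_filter] at hg
        have ho := ((hS g).1 hg.2)
        have hcard : (Finset.univ.filter fun x : zpowers g => orderOf x = orderOf g).card =
            ((Finset.univ.filter fun x : H => x ^ (m * p) = 1 ∧ x ^ m ≠ 1).filter
              fun x => zpowers x = zpowers g).card := by
          refine Finset.card_bij (fun x _ => (x : H)) (fun x hx => ?_)
            (fun x _ y _ h => Subtype.ext h) (fun y hy => ?_)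
          · simp only [Finset.mem_filter, Finset.mem_univ, true_and] at hx ⊢
            have hox : orderOf (x : H) = orderOf g := by rw [Subgroup.orderOf_coe, hx]
            refine ⟨(hS _).2 (by rw [hox]; exact ho), ?_⟩
            exact eq_of_le_of_card_ge (zpowers_le.2 x.2)
              (le_of_eq (by rw [Nat.card_zpowers, Nat.card_zpowers, hox]))
          · simp only [Finset.mem_filter, Finset.mem_univ, true_and] at hy
            refine ⟨⟨y, hy.2 ▸ mem_zpowers y⟩, ?_, rfl⟩
            simp only [Finset.mem_filter, Finset.mem_univ, true_and]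
            rw [Subgroup.orderOf_mk, ← Nat.card_zpowers, hy.2, Nat.card_zpowers]
        rw [← hcard, IsCyclic.card_orderOf_eq_totient
          (by rw [← Nat.card_eq_fintype_card, Nat.card_zpowers])]
        refine dvd_trans ?_ (Nat.totient_dvd_of_dvd ho.2)
        rw [Nat.totient_prime_pow hp (show 0 < a by omega)]
        exact dvd_mul_right _ _
      -- decomposition by the `p`-part
      have hdiv2 : m' ∣ Nat.card {g : H // g ^ (m * p) = 1 ∧ g ^ m ≠ 1} := by
        classical
        haveI := Fintype.ofFinite H
        obtain ⟨r, hr, hr'⟩ : ∃ r : ℕ, r % p ^ a = 1 % p ^ a ∧ r % m' = 0 := by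
          obtain ⟨r, hr1, hr2⟩ := Nat.chineseRemainder (hco.pow_left a) 1 0
          exact ⟨r, hr1, (show r % m' = 0 % m' from hr2).trans (Nat.zero_mod _)⟩
        have hpa1 : 1 < p ^ a := Nat.one_lt_pow (by omega) hp.one_lt
        let f : {g : H // g ^ (m * p) = 1 ∧ g ^ m ≠ 1} → H := fun g => (g : H) ^ r
        let F : H → ℕ := fun u => Nat.card {x // f x = u}
        have htot : Nat.card {g : H // g ^ (m * p) = 1 ∧ g ^ m ≠ 1} = ∑ u : H, F u := by
          rw [← Nat.card_congr (Equiv.sigmaFiberEquiv f), Nat.card_sigma]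
        rw [htot, ← Finset.sum_fiberwise Finset.univ (ConjClasses.mk (α := H)) F]
        refine Finset.dvd_sum fun C _ => ?_
        obtain ⟨u, rfl⟩ := ConjClasses.exists_rep C
        have hconst : ∀ v ∈ Finset.univ.filter (fun v => ConjClasses.mk v = ConjClasses.mk u),
            F v = F u := by
          intro v hv
          rw [Finset.mem_filter, ConjClasses.mk_eq_mk_iff_isConj, isConj_iff] at hv
          obtain ⟨x, hx⟩ := hv.2
          refine Nat.card_congr (Equiv.subtypeEquiv (Equiv.subtypeEquiv (MulAut.conj x).toEquiv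
            fun g => ?_) fun g => ?_)
          · show g ^ (m * p) = 1 ∧ g ^ m ≠ 1 ↔
              (MulAut.conj x) g ^ (m * p) = 1 ∧ (MulAut.conj x) g ^ m ≠ 1
            simp only [← map_pow, ne_eq, MulEquiv.map_eq_one_iff]
          · show (g : H) ^ r = v ↔ ((MulAut.conj x) (g : H)) ^ r = u
            rw [← map_pow, ← hx, MulAut.conj_apply]
            constructor
            · rintro rfl; rfl
            · intro h
              exact mul_left_cancel (mul_right_cancel h)
        rw [Finset.sum_congr rfl hconst, Finset.sum_const, smul_eq_mul]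
        by_cases hF : F u = 0
        · rw [hF, mul_zero]; exact dvd_zero _
        obtain ⟨⟨⟨g₀, hg₀⟩, hg₀u⟩⟩ := (Nat.card_pos_iff.1 (Nat.pos_of_ne_zero hF)).1
        have ho₀ := (hS g₀).1 hg₀
        have hupa : u ^ (p ^ a) = 1 := by
          rw [← hg₀u]
          show (g₀ ^ r) ^ (p ^ a) = 1
          obtain ⟨j, hj⟩ := Nat.dvd_of_mod_eq_zero hr'
          rw [← pow_mul, hj, show m' * j * p ^ a = (p ^ a * m') * j by ring, pow_mul, hmul, hg₀.1,
            one_pow]
        have hou : orderOf u = p ^ a := by
          refine Nat.dvd_antisymm (orderOf_dvd_of_pow_eq_one hupa) ?_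
          rw [← hg₀u]
          show p ^ a ∣ orderOf (g₀ ^ r)
          have h5 : (g₀ ^ r) ^ orderOf (g₀ ^ r) = 1 := pow_orderOf_eq_one _
          rw [← pow_mul, ← orderOf_dvd_iff_pow_eq_one] at h5
          refine ((Nat.Coprime.pow_left a ?_).dvd_of_dvd_mul_left (ho₀.2.trans h5))
          rw [hp.coprime_iff_not_dvd]
          intro hpr
          have h6 : p ∣ r % p ^ a :=
            (Nat.dvd_mod_iff (dvd_pow_self p (show a ≠ 0 by omega))).2 hpr
          rw [hr, Nat.mod_eq_of_lt hpa1] at h6
          exact hp.not_dvd_one h6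
        -- the fibre is the set of solutions in the centraliser modulo `⟨u⟩`
        let K := centralizer ({u} : Set H)
        have huK : u ∈ K := mem_centralizer_singleton_iff.2 rfl
        let U : Subgroup K := zpowers ⟨u, huK⟩
        haveI : U.Normal := ⟨fun x hx y => by
          obtain ⟨i, rfl⟩ := mem_zpowers_iff.1 hx
          have hc : Commute y (⟨u, huK⟩ : K) :=
            Subtype.ext (mem_centralizer_singleton_iff.1 y.2)
          rw [(hc.zpow_right i).eq, mul_inv_cancel_right]
          exact mem_zpowers_iff.2 ⟨i, rfl⟩⟩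
        have hUcard : Nat.card U = p ^ a := by rw [Nat.card_zpowers, Subgroup.orderOf_mk, hou]
        have hKq : Nat.card (K ⧸ U) * p ^ a = Nat.card K := by
          rw [← hUcard, ← index_eq_card, index_mul_card]
        have hFu : F u = Nat.card {v : K // v ^ m' = 1} := by
          refine Nat.card_congr
            { toFun := fun g => ⟨⟨(g.1 : H) * u⁻¹, ?_⟩, ?_⟩
              invFun := fun v => ⟨⟨(v : H) * u, ?_⟩, ?_⟩
              left_inv := fun g => Subtype.ext (Subtype.ext (by simp))
              right_inv := fun v => Subtype.ext (Subtype.ext (by simp)) }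
          · rw [mem_centralizer_singleton_iff]
            have hg : (g.1 : H) ^ r = u := g.2
            have hc : Commute (g.1 : H) u := by
              have h := Commute.self_pow (g.1 : H) r
              rwa [hg] at h
            exact (hc.mul_left (Commute.refl u).inv_left).eq
          · refine Subtype.ext ?_
            rw [SubmonoidClass.coe_pow, OneMemClass.coe_one]
            show ((g.1 : H) * u⁻¹) ^ m' = 1
            have hg : (g.1 : H) ^ r = u := g.2
            obtain ⟨j, hj⟩ : p ^ a * m' ∣ m' * r - m' := by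
              refine Nat.Coprime.mul_dvd_of_dvd_of_dvd (hco.pow_left a) ?_
                (Nat.dvd_sub (dvd_mul_right _ _) dvd_rfl)
              rw [show m' * r - m' = m' * (r - 1) by rw [Nat.mul_sub, mul_one]]
              exact dvd_mul_of_dvd_right (Nat.sub_mod_eq_zero_of_mod_eq hr |> Nat.dvd_of_mod_eq_zero) _
            have hr1 : 1 ≤ r := Nat.one_le_iff_ne_zero.2 fun h0 => by
              rw [h0, Nat.zero_mod, Nat.mod_eq_of_lt hpa1] at hr
              exact one_ne_zero hr.symm
            have h7 : ((g.1 : H)) ^ (m' * r) = (g.1 : H) ^ m' := by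
              have h8 : m' ≤ m' * r := Nat.le_mul_of_pos_right _ hr1
              rw [show m' * r = m' + (p ^ a * m') * j by omega, pow_add, pow_mul (g.1 : H),
                hmul, g.1.2.1, one_pow, mul_one]
            have hc : Commute (g.1 : H) u := by
              have h := Commute.self_pow (g.1 : H) r
              rwa [hg] at h
            rw [hc.inv_right.mul_pow, inv_pow, mul_inv_eq_one]
            calc (g.1 : H) ^ m' = (g.1 : H) ^ (m' * r) := h7.symm
              _ = ((g.1 : H) ^ r) ^ m' := by rw [← pow_mul, mul_comm r m']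
              _ = u ^ m' := by rw [hg]
          · have hv : (v : K) ^ m' = 1 := v.2
            have hv' : ((v : K) : H) ^ m' = 1 := by
              rw [← SubmonoidClass.coe_pow, hv, OneMemClass.coe_one]
            have hc : Commute ((v : K) : H) u := mem_centralizer_singleton_iff.1 (v : K).2
            refine (hS _).2 ?_
            have hov : orderOf ((v : K) : H) ∣ m' := orderOf_dvd_of_pow_eq_one hv'
            rw [hc.orderOf_mul_eq_mul_orderOf_of_coprime (by
              rw [hou]
              exact Nat.Coprime.coprime_dvd_left hov (hco.pow_left a).symm), hou, ← hmul]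
            exact ⟨by rw [mul_comm (p ^ a)]; exact Nat.mul_dvd_mul_right hov _, dvd_mul_left _ _⟩
          · show (((v : K) : H) * u) ^ r = u
            have hv : (v : K) ^ m' = 1 := v.2
            have hv' : ((v : K) : H) ^ m' = 1 := by
              rw [← SubmonoidClass.coe_pow, hv, OneMemClass.coe_one]
            have hc : Commute ((v : K) : H) u := mem_centralizer_singleton_iff.1 (v : K).2
            obtain ⟨j, hj⟩ := Nat.dvd_of_mod_eq_zero hr'
            rw [hc.mul_pow, hj, pow_mul, hv', one_pow, one_mul, ← hj, ← pow_mod_orderOf, hou, hr,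
              Nat.mod_eq_of_lt hpa1, pow_one]
        have hquot : Nat.card {v : K // v ^ m' = 1} = Nat.card {q : K ⧸ U // q ^ m' = 1} := by
          refine Nat.card_congr (Equiv.ofBijective
            (fun v => ⟨(v.1 : K ⧸ U), by rw [← QuotientGroup.mk_pow, v.2, QuotientGroup.mk_one]⟩)
            ⟨fun v w h => ?_, fun q => ?_⟩)
          · have h2 : (v.1 : K ⧸ U) = (w.1 : K ⧸ U) := congrArg Subtype.val h
            rw [QuotientGroup.eq] at h2
            obtain ⟨i, hi⟩ := mem_zpowers_iff.1 h2
            have hcu : ∀ x : K, Commute x (⟨u, huK⟩ : K) :=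
              fun x => Subtype.ext (mem_centralizer_singleton_iff.1 x.2)
            have hw : w.1 = v.1 * (⟨u, huK⟩ : K) ^ i := by rw [hi]; group
            have h3 : ((⟨u, huK⟩ : K) ^ i) ^ m' = 1 := by
              have := w.2
              rw [hw, ((hcu v.1).zpow_right i).mul_pow, v.2, one_mul] at this
              exact this
            have h4 : ((⟨u, huK⟩ : K) ^ i) ^ (p ^ a) = 1 := by
              rw [← zpow_natCast, ← zpow_mul, mul_comm, zpow_mul, zpow_natCast,
                show (⟨u, huK⟩ : K) ^ (p ^ a) = 1 from Subtype.ext hupa, one_zpow]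
            have h5 : (⟨u, huK⟩ : K) ^ i = 1 :=
              (pow_eq_one_iff_of_coprime (hco.pow_left a)).1 ⟨h4, h3⟩
            exact Subtype.ext (by rw [hw, h5, mul_one])
          · obtain ⟨x, hx⟩ := QuotientGroup.mk_surjective q.1
            obtain ⟨s, hs, hs'⟩ := Nat.chineseRemainder (hco.pow_left a) 0 1
            refine ⟨⟨x ^ s, ?_⟩, Subtype.ext ?_⟩
            · rw [← orderOf_dvd_iff_pow_eq_one]
              have h2 : x ^ (p ^ a * m') = 1 := by
                have h3 : (x : K ⧸ U) ^ m' = 1 := by rw [hx]; exact q.2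
                rw [← QuotientGroup.mk_pow, QuotientGroup.eq_one_iff] at h3
                obtain ⟨i, hi⟩ := mem_zpowers_iff.1 h3
                rw [mul_comm, pow_mul, ← hi, ← zpow_natCast, ← zpow_mul, mul_comm, zpow_mul,
                  zpow_natCast, show (⟨u, huK⟩ : K) ^ (p ^ a) = 1 from Subtype.ext hupa, one_zpow]
              rw [orderOf_dvd_iff_pow_eq_one, ← pow_mul]
              obtain ⟨j, hj⟩ := Nat.dvd_of_mod_eq_zero ((show s % p ^ a = 0 % p ^ a from hs).trans (Nat.zero_mod _))
              rw [hj, show p ^ a * j * m' = (p ^ a * m') * j by ring, pow_mul, h2, one_pow]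
            · show ((x ^ s : K) : K ⧸ U) = q.1
              rw [QuotientGroup.mk_pow, hx]
              conv_rhs => rw [← pow_one q.1]
              rw [← pow_mod_orderOf, ← pow_mod_orderOf q.1 1]
              congr 1
              exact Nat.ModEq.of_dvd (orderOf_dvd_of_pow_eq_one q.2) hs'
        rw [hFu, hquot]
        have hlt : Nat.card (K ⧸ U) ≤ N := by
          have h3 : Nat.card K ≤ N + 1 := (Subgroup.card_le_card_group K).trans hH
          have h4 : 0 < Nat.card (K ⧸ U) := Nat.card_pos
          nlinarith
        have hgcd := ih (K ⧸ U) hlt (Nat.gcd m' (Nat.card (K ⧸ U))) (Nat.gcd_dvd_right _ _)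
        rw [Nat.card_congr (Equiv.subtypeEquivRight (q := fun g : K ⧸ U => g ^ m' = 1) fun g =>
          ⟨fun h => (pow_gcd_eq_one.1 h).1,
            fun h => pow_gcd_eq_one.2 ⟨h, pow_card_eq_one'⟩⟩)] at hgcd
        refine dvd_trans ?_ (Nat.mul_dvd_mul_left _ hgcd)
        rw [← Nat.gcd_mul_left]
        refine Nat.dvd_gcd (dvd_mul_left _ _) ?_
        have hsz : (Finset.univ.filter (fun v : H => ConjClasses.mk v = ConjClasses.mk u)).card =
            K.index := by
          rw [← Fintype.card_subtype, ← Nat.card_eq_fintype_card]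
          have h := MulAction.index_stabilizer (ConjAct H) u
          rw [ConjAct.stabilizer_eq_centralizer, ← Nat.card_coe_set_eq] at h
          refine (Nat.card_congr (Equiv.subtypeEquivRight fun v => ?_)).trans h.symm
          rw [ConjAct.mem_orbit_conjAct, ConjClasses.mk_eq_mk_iff_isConj]
        have hH' : p ^ a * m' ∣ Nat.card H := by rw [hmul, hd]; exact ⟨c, by ring⟩
        rw [← K.index_mul_card, ← hKq, ← mul_assoc, hsz.symm] at hH'
        exact Nat.dvd_of_mul_dvd_mul_left (pow_pos hp.pos a) (by rwa [mul_comm _ (p ^ a)] at hH')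
      exact (congrArg (fun x => x ∣ _) hm).mpr
        ((hco.pow_left (a - 1)).mul_dvd_of_dvd_of_dvd hdiv1 hdiv2)

theorem dvd_card_pow_eq_one {G : Type u} [Group G] [Finite G] {m : ℕ} (hm : m ∣ Nat.card G) :
    m ∣ Nat.card {g : G // g ^ m = 1} :=
  (Nat.dvd_gcd dvd_rfl hm).trans (gcd_dvd_card_pow_eq_one m)

/-- Solutions of `g ^ m = 1` avoiding finitely many exponents. -/
theorem dvd_card_pow_eq_one_avoid {G : Type u} [Group G] [Finite G] {L : ℕ} (T : Finset ℕ)
    (hT : ∀ t ∈ T, L ∣ t) (m : ℕ) (hL : L ∣ m) (hm : m ∣ Nat.card G) :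
    L ∣ Nat.card {g : G // g ^ m = 1 ∧ ∀ t ∈ T, g ^ t ≠ 1} := by
  classical
  cases nonempty_fintype G
  induction T using Finset.induction generalizing m with
  | empty =>
    simp only [Finset.notMem_empty, false_implies, implies_true, and_true]
    exact hL.trans (dvd_card_pow_eq_one hm)
  | insert t T _ ih =>
    have h1 := ih (fun s hs => hT s (Finset.mem_insert_of_mem hs)) m hL hm
    have h2 := ih (fun s hs => hT s (Finset.mem_insert_of_mem hs)) (Nat.gcd m t)
      (Nat.dvd_gcd hL (hT t (Finset.mem_insert_self t T))) ((Nat.gcd_dvd_left m t).trans hm)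
    have h3 : Nat.card {g : G // g ^ m = 1 ∧ ∀ s ∈ T, g ^ s ≠ 1} =
        Nat.card {g : G // g ^ Nat.gcd m t = 1 ∧ ∀ s ∈ T, g ^ s ≠ 1} +
        Nat.card {g : G // g ^ m = 1 ∧ ∀ s ∈ insert t T, g ^ s ≠ 1} := by
      simp only [Nat.card_eq_fintype_card, Fintype.card_subtype]
      rw [← Finset.card_union_of_disjoint]
      · congr 1
        ext g
        simp only [Finset.mem_filter, Finset.mem_univ, true_and, Finset.mem_union,
          pow_gcd_eq_one, Finset.mem_insert]
        by_cases hg : g ^ t = 1
        · simp [hg]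
        · simp [hg]
      · rw [Finset.disjoint_filter]
        exact fun g _ hg hg' => hg'.2 t (Finset.mem_insert_self t T) (pow_gcd_eq_one.1 hg.1).2
    rw [h3] at h1
    exact (Nat.dvd_add_right h2).1 h1

/-- S3994. -/
theorem dvd_card_dvd_orderOf {G : Type u} [Group G] [Finite G] {n : ℕ} (hn : 0 < n) :
    Nat.card {g : G // n ∣ orderOf g} = 0 ∨
      (Nat.card G / Nat.gcd (Nat.card G) (n ^ Nat.card G)) ∣
        Nat.card {g : G // n ∣ orderOf g} := by
  classical
  rcases eq_or_ne (Nat.card {g : G // n ∣ orderOf g}) 0 with h0 | h0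
  · exact Or.inl h0
  right
  obtain ⟨⟨g₁, hg₁⟩⟩ := (Nat.card_pos_iff.1 (Nat.pos_of_ne_zero h0)).1
  have hnG : n ∣ Nat.card G := hg₁.trans (orderOf_dvd_natCard g₁)
  set L := Nat.card G / Nat.gcd (Nat.card G) (n ^ Nat.card G)
  have hLG : L ∣ Nat.card G := Nat.div_dvd_of_dvd (Nat.gcd_dvd_left _ _)
  have hG0 : Nat.card G ≠ 0 := Nat.card_pos.ne'
  let tq : ℕ → ℕ := fun q =>
    q ^ (n.factorization q - 1) * (Nat.card G / q ^ (Nat.card G).factorization q)
  have hL : ∀ t ∈ n.primeFactors.image tq, L ∣ t := by
    intro t ht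
    obtain ⟨q, hq, rfl⟩ := Finset.mem_image.1 ht
    refine Dvd.dvd.mul_left ?_ _
    have hqp := Nat.prime_of_mem_primeFactors hq
    have h1 : q ^ (Nat.card G).factorization q ∣ Nat.gcd (Nat.card G) (n ^ Nat.card G) := by
      refine Nat.dvd_gcd (Nat.ordProj_dvd _ _) ((pow_dvd_pow_of_dvd
        (Nat.dvd_of_mem_primeFactors hq) _).trans (pow_dvd_pow n ?_))
      exact (Nat.factorization_lt q hG0).le
    exact Nat.div_dvd_div_left (Nat.gcd_dvd_left _ _) h1
  have h := dvd_card_pow_eq_one_avoid (G := G) (n.primeFactors.image tq) hL (Nat.card G) hLG dvd_rfl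
  convert h using 1
  refine Nat.card_congr (Equiv.subtypeEquivRight fun g => ?_)
  have ho : orderOf g ∣ Nat.card G := orderOf_dvd_natCard g
  simp only [pow_card_eq_one', true_and, Finset.forall_mem_image, ne_eq,
    ← orderOf_dvd_iff_pow_eq_one]
  constructor
  · intro hng q hq hdvd
    have hqp := Nat.prime_of_mem_primeFactors hq
    have h1 : q ^ n.factorization q ∣ tq q := (Nat.ordProj_dvd n q).trans (hng.trans hdvd)
    have h2 : q ^ n.factorization q ∣ q ^ (n.factorization q - 1) :=
      ((Nat.coprime_ordCompl hqp hG0).pow_left _).dvd_of_dvd_mul_right h1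
    have h3 := (Nat.pow_dvd_pow_iff_le_right hqp.one_lt).1 h2
    have h4 := (hqp.dvd_iff_one_le_factorization hn.ne').1 (Nat.dvd_of_mem_primeFactors hq)
    omega
  · intro hall
    rw [← Nat.factorization_le_iff_dvd hn.ne' (orderOf_pos g).ne']
    intro q
    by_cases hq : q ∈ n.primeFactors
    · by_contra hlt
      have hqp := Nat.prime_of_mem_primeFactors hq
      apply hall hq
      rw [← Nat.ordProj_mul_ordCompl_eq_self (orderOf g) q]
      refine Nat.mul_dvd_mul (pow_dvd_pow q (by omega)) ?_
      refine ((Nat.coprime_ordCompl hqp (orderOf_pos g).ne').symm.pow_right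
        ((Nat.card G).factorization q)).dvd_of_dvd_mul_left ?_
      rw [Nat.ordProj_mul_ordCompl_eq_self]
      exact (Nat.ordCompl_dvd _ q).trans ho
    · rw [Finsupp.notMem_support_iff.1 (by rwa [Nat.support_factorization])]
      exact Nat.zero_le _

end Cfsg.Agent.H84
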