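import Cfsg.Agent.S0169
import Cfsg.Agent.S0178
import Cfsg.Agent.S4456
import Cfsg.Agent.CharInduce.Correspondence
import Cfsg.Agent.CharInduce.CoprimeExt
import Cfsg.Agent.CharInduce.Monomial
import Cfsg.Agent.H84.InvariantAbove
import Cfsg.Agent.H84.UniquePSingular
import Cfsg.Agent.H84.ItoSylow

/-!
# Groups with two character degrees: degrees, quotients and coprime actions
-/

set_option linter.style.haveILetI false

namespace Cfsg.Agent.H84

open Cfsg.Agent

universe u

variable {G : Type u} [Group G] [Finite G]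

/-- The degree of an irreducible character divides the index of an abelian normal subgroup. -/
theorem charDegree_dvd_index (A : Subgroup G) [A.Normal] (hA : ∀ a ∈ A, ∀ b ∈ A, a * b = b * a)
    (χ : Cfsg.IrrCharacter G) : Cfsg.charDegree (χ : G → ℂ) ∣ A.index := by
  obtain ⟨n, ρ, hρ, hρχ⟩ := χ.2
  haveI := hρ
  have h := S0169.result ρ A hA
  rw [charDegree_of_eq (n := Module.finrank ℂ (Fin n → ℂ)) (by rw [← hρχ]; exact ρ.char_one)]
  exact h

/-- The degree of an irreducible character is at most the index of an abelian subgroup. -/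
theorem charDegree_le_index (A : Subgroup G) (hA : ∀ a ∈ A, ∀ b ∈ A, a * b = b * a)
    (χ : Cfsg.IrrCharacter G) : Cfsg.charDegree (χ : G → ℂ) ≤ A.index := by
  obtain ⟨n, ρ, hρ, hρχ⟩ := χ.2
  haveI := hρ
  have h := S0178.result ρ A hA
  rw [charDegree_of_eq (n := Module.finrank ℂ (Fin n → ℂ)) (by rw [← hρχ]; exact ρ.char_one)]
  exact h

/-- An irreducible character of a quotient, on the whole group. -/
def inflateIrr (N : Subgroup G) [N.Normal] (χ : Cfsg.IrrCharacter (G ⧸ N)) :
    Cfsg.IrrCharacter G :=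
  ⟨(χ : G ⧸ N → ℂ) ∘ QuotientGroup.mk' N,
    CharInduce.IsIrr.comp χ.2 (QuotientGroup.mk' N) (QuotientGroup.mk'_surjective N)⟩

theorem charDegree_inflateIrr (N : Subgroup G) [N.Normal] (χ : Cfsg.IrrCharacter (G ⧸ N)) :
    Cfsg.charDegree (inflateIrr N χ : G → ℂ) = Cfsg.charDegree (χ : G ⧸ N → ℂ) := by
  refine charDegree_of_eq ?_
  show (χ : G ⧸ N → ℂ) (QuotientGroup.mk' N 1) = _
  rw [map_one, BlockBasic.apply_one_eq_charDegree]

/-- All the degrees of irreducible characters are `1` or `m`. -/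
def DegreesIn (G : Type u) [Group G] (m : ℕ) : Prop :=
  ∀ χ : Cfsg.IrrCharacter G, Cfsg.charDegree (χ : G → ℂ) = 1 ∨ Cfsg.charDegree (χ : G → ℂ) = m

theorem DegreesIn.quotient {m : ℕ} (h : DegreesIn G m) (N : Subgroup G) [N.Normal] :
    DegreesIn (G ⧸ N) m := fun χ => by
  have := h (inflateIrr N χ)
  rwa [charDegree_inflateIrr] at this

theorem commutative_of_linear
    (h : ∀ χ : Cfsg.IrrCharacter G, Cfsg.charDegree (χ : G → ℂ) = 1) (a b : G) :
    a * b = b * a :=
  CharBasic.commutative_iff_forall_linear.2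
    (fun χ => by rw [BlockBasic.apply_one_eq_charDegree, h χ, Nat.cast_one]) a b

theorem exists_nonlinear (h : ∃ a b : G, a * b ≠ b * a) :
    ∃ χ : Cfsg.IrrCharacter G, Cfsg.charDegree (χ : G → ℂ) ≠ 1 := by
  by_contra hc
  push Not at hc
  obtain ⟨a, b, hab⟩ := h
  exact hab (commutative_of_linear hc a b)

/-- A normal subgroup of order prime to `m` is abelian. -/
theorem DegreesIn.commutative_of_coprime {m : ℕ} (h : DegreesIn G m) (M : Subgroup G) [M.Normal]
    (hcop : (Nat.card M).Coprime m) : ∀ a ∈ M, ∀ b ∈ M, a * b = b * a := by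
  cases nonempty_fintype G
  haveI := Fintype.ofFinite M
  intro a ha b hb
  refine congrArg Subtype.val (commutative_of_linear (G := M) (fun ψ => ?_) ⟨a, ha⟩ ⟨b, hb⟩)
  obtain ⟨χ, hχ⟩ := exists_irr_above (N := M) ψ.2
  have hd := CharInduce.clifford_degree M χ.2 ψ.2 hχ
  obtain ⟨e, he⟩ := CharBasic.classInner_isChar_nat
    (CharInduce.IsChar.res (CharBasic.IsIrr.isCharacter χ.2) M) (CharBasic.IsIrr.isCharacter ψ.2)
  obtain ⟨d, -, hd1, hd2, -⟩ := CharBasic.IsIrr.degree_dvd ψ.2
  rw [charDegree_of_eq hd1]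
  rw [he, hd1, BlockBasic.apply_one_eq_charDegree] at hd
  have h2 : Cfsg.charDegree (χ : G → ℂ) =
      e * (CharInduce.inertia M (ψ : M → ℂ)).index * d := by exact_mod_cast hd
  rcases h χ with h3 | h3
  · rw [h3] at h2
    exact Nat.eq_one_of_mul_eq_one_left h2.symm
  · refine Nat.eq_one_of_dvd_coprimes hcop hd2 ?_
    rw [← h3, h2]
    exact dvd_mul_left d _

/-- If all nonlinear degrees equal `m`, some abelian normal subgroup has nilpotent quotient, and
order prime to its index. -/
theorem DegreesIn.exists_abelian_hall {m : ℕ} (h : DegreesIn G m) (hm : m ≠ 0) :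
    ∃ M : Subgroup G, ∃ _ : M.Normal, (∀ a ∈ M, ∀ b ∈ M, a * b = b * a) ∧
      (Nat.card M).Coprime M.index ∧ Group.IsNilpotent (G ⧸ M) := by
  classical
  have key : ∀ p : m.primeFactors, ∃ N : Subgroup G, N.Normal ∧ (Nat.card N).Coprime p ∧
      ∃ k : ℕ, N.index = (p : ℕ) ^ k := fun p => by
    refine S4456.result (p : ℕ) (Nat.prime_of_mem_primeFactors p.2) fun χ hχ => ?_
    rw [(h χ).resolve_left hχ]
    exact Nat.dvd_of_mem_primeFactors p.2
  choose N hNn hNcop k hNidx using key
  haveI := hNn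
  let f : G →* ∀ p : m.primeFactors, G ⧸ N p := Pi.monoidHom fun p => QuotientGroup.mk' (N p)
  have hker : ∀ p : m.primeFactors, f.ker ≤ N p := fun p x hx =>
    (QuotientGroup.eq_one_iff x).1 (congrFun (MonoidHom.mem_ker.1 hx) p)
  have hnil : Group.IsNilpotent (G ⧸ f.ker) := by
    haveI : ∀ p : m.primeFactors, Group.IsNilpotent (G ⧸ N p) := fun p => by
      haveI := Fact.mk (Nat.prime_of_mem_primeFactors p.2)
      have hp : IsPGroup (p : ℕ) (G ⧸ N p) :=
        IsPGroup.of_card (n := k p) (by rw [← Subgroup.index_eq_card, hNidx])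
      exact hp.isNilpotent
    refine isNilpotent_of_ker_le_center (QuotientGroup.kerLift f) ?_
    rw [(MonoidHom.ker_eq_bot_iff _).2 (QuotientGroup.kerLift_injective f)]
    exact bot_le
  have hcm : (Nat.card f.ker).Coprime m := by
    refine Nat.coprime_of_dvd fun q hq h1 h2 => ?_
    have hp : q ∈ m.primeFactors := Nat.mem_primeFactors.2 ⟨hq, h2, hm⟩
    exact (hq.coprime_iff_not_dvd.1 (hNcop ⟨q, hp⟩).symm)
      (h1.trans (Subgroup.card_dvd_of_le (hker ⟨q, hp⟩)))
  refine ⟨f.ker, inferInstance, h.commutative_of_coprime _ hcm, ?_, hnil⟩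
  refine Nat.coprime_of_dvd fun q hq h1 h2 => ?_
  have hd : q ∣ ∏ p : m.primeFactors, Nat.card (G ⧸ N p) := by
    rw [← Nat.card_pi]
    refine h2.trans ?_
    rw [Subgroup.index_ker]
    exact Subgroup.card_subgroup_dvd_card _
  obtain ⟨p, -, hp⟩ := (hq.prime.dvd_finset_prod_iff _).1 hd
  rw [← Subgroup.index_eq_card, hNidx] at hp
  have hqp := (Nat.prime_dvd_prime_iff_eq hq (Nat.prime_of_mem_primeFactors p.2)).1
    (hq.dvd_of_dvd_pow hp)
  refine hq.ne_one (Nat.eq_one_of_dvd_coprimes hcm h1 ?_)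
  rw [hqp]
  exact Nat.dvd_of_mem_primeFactors p.2

/-- Automorphisms of an abelian group, with the multiplication of the group structure. -/
abbrev CommAut (V : Type*) [CommGroup V] := MulAut V

section Action

variable {A : Type*} [Group A] {V : Type*} [CommGroup V] (ρ : A →* MulAut V)

/-- The stabiliser of a point in an action by automorphisms. -/
def actStab (v : V) : Subgroup A where
  carrier := {g | ρ g v = v}
  one_mem' := by simp
  mul_mem' := fun {a b} (ha : ρ a v = v) (hb : ρ b v = v) => by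
    show ρ (a * b) v = v
    rw [map_mul, MulAut.mul_apply, hb, ha]
  inv_mem' := fun {a} (ha : ρ a v = v) => by
    show ρ a⁻¹ v = v
    conv_lhs => rw [← ha]
    rw [map_inv, MulAut.inv_apply_self]

theorem mem_actStab {v : V} {g : A} : g ∈ actStab ρ v ↔ ρ g v = v := Iff.rfl

/-- In a coprime action all of whose non-trivial orbits have the same size, an element central
modulo the kernel that fixes a point moved by the group acts trivially. -/
theorem eq_one_of_fix_moved [Finite A] {m : ℕ}
    (hidx : ∀ v : V, actStab ρ v = ⊤ ∨ (actStab ρ v).index = m)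
    {z : A} (hz : ∀ g : A, Commute (ρ g) (ρ z)) {n e : ℕ} (hn : (ρ z) ^ n = 1)
    (he : ∀ v : V, v ^ e = 1) (hcop : n.Coprime e)
    {v : V} (hv : actStab ρ v ≠ ⊤) (hzv : ρ z v = v) : ρ z = 1 := by
  classical
  set ζ : V →* V := (ρ z).toMonoidHom with hζ
  have hζp : ∀ (i : ℕ) (x : V), ((ρ z) ^ (i + 1)) x = ρ z (((ρ z) ^ i) x) := fun i x => by
    rw [pow_succ', MulAut.mul_apply]
  let N : V →* V := ∏ i ∈ Finset.range n, ((ρ z) ^ i).toMonoidHom
  have hN : ∀ x, N x = ∏ i ∈ Finset.range n, ((ρ z) ^ i) x := fun x => by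
    simp [N, MonoidHom.finset_prod_apply]
  have hNfix : ∀ x, ρ z (N x) = N x := fun x => by
    rw [hN, map_prod]
    simp only [← hζp]
    have e1 := Finset.prod_range_succ' (fun i => ((ρ z) ^ i) x) n
    rw [Finset.prod_range_succ, hn, pow_zero] at e1
    exact (mul_right_cancel e1).symm
  have hNpow : ∀ x, ρ z x = x → N x = x ^ n := fun x hx => by
    rw [hN, Finset.prod_congr rfl (g := fun _ => x) (fun i _ => ?_), Finset.prod_const,
      Finset.card_range]
    induction i with
    | zero => rfl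
    | succ i ih => rw [hζp, ih (Finset.mem_range.2 ((Nat.lt_succ_self i).trans
        (Finset.mem_range.1 ‹_›))), hx]
  have hNcomm : ∀ (g : A) x, N (ρ g x) = ρ g (N x) := fun g x => by
    rw [hN, hN, map_prod]
    refine Finset.prod_congr rfl fun i _ => ?_
    have := DFunLike.congr_fun ((hz g).pow_right i).eq x
    rw [MulAut.mul_apply, MulAut.mul_apply] at this
    exact this.symm
  have hone : ∀ x, ρ z x = x → N x = 1 → x = 1 := fun x h1 h2 => by
    rw [hNpow x h1] at h2
    exact orderOf_eq_one_iff.1 (Nat.eq_one_of_dvd_coprimes hcop (orderOf_dvd_of_pow_eq_one h2)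
      (orderOf_dvd_of_pow_eq_one (he x)))
  refine MulEquiv.ext fun w => ?_
  rw [MulAut.one_apply]
  set u := w ^ n * (N w)⁻¹ with hu
  have hNu : N u = 1 := by
    rw [hu, map_mul, map_inv, map_pow, hNpow _ (hNfix w), mul_inv_cancel]
  have hu1 : u = 1 := by
    rcases hidx u with h | h
    · exact hone u ((mem_actStab ρ).1 (h ▸ Subgroup.mem_top z)) hNu
    · have hle : ∀ g, g ∈ actStab ρ (v * u) → g ∈ actStab ρ v ∧ g ∈ actStab ρ u := by
        intro g hg
        rw [mem_actStab, map_mul] at hg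
        set x := (ρ g v) * v⁻¹ with hx
        have hxu : x = u * (ρ g u)⁻¹ := by
          rw [hx, eq_mul_inv_iff_mul_eq, mul_right_comm, hg, mul_comm v u, mul_inv_cancel_right]
        have h1 : ρ z x = x := by
          have := DFunLike.congr_fun (hz g).eq v
          rw [MulAut.mul_apply, MulAut.mul_apply, hzv] at this
          rw [hx, map_mul, map_inv, hzv, ← this]
        have h2 : N x = 1 := by
          rw [hxu, map_mul, map_inv, hNcomm, hNu, map_one, inv_one, mul_one]
        have h3 := hone x h1 h2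
        rw [hx, mul_inv_eq_one] at h3
        refine ⟨h3, ?_⟩
        rw [mem_actStab]
        rw [h3] at hg
        exact mul_left_cancel hg
      have hne : actStab ρ (v * u) ≠ ⊤ := fun h0 => hv ((Subgroup.eq_top_iff' _).2 fun g =>
        (hle g (h0 ▸ Subgroup.mem_top g)).1)
      have h4 := (hidx (v * u)).resolve_left hne
      have h5 := (hidx v).resolve_left hv
      have hle1 : actStab ρ (v * u) ≤ actStab ρ v := fun g hg => (hle g hg).1
      have heq : actStab ρ (v * u) = actStab ρ v := by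
        refine Subgroup.eq_of_le_of_card_ge hle1 (le_of_eq ?_)
        have e1 := (actStab ρ (v * u)).card_mul_index
        rw [← (actStab ρ v).card_mul_index, h4, h5] at e1
        have hm0 : m ≠ 0 := h5 ▸ Subgroup.index_ne_zero_of_finite
        exact (Nat.eq_of_mul_eq_mul_right (Nat.pos_of_ne_zero hm0) e1).symm
      exact hone u ((hle z (heq ▸ hzv)).2) hNu
  have hwn : w ^ n = N w := mul_inv_eq_one.1 hu1
  have hxn : (ρ z w * w⁻¹) ^ n = 1 := by
    rw [mul_pow, inv_pow, ← map_pow, hwn, hNfix, mul_inv_cancel]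
  exact mul_inv_eq_one.1 (orderOf_eq_one_iff.1 (Nat.eq_one_of_dvd_coprimes hcop
    (orderOf_dvd_of_pow_eq_one hxn) (orderOf_dvd_of_pow_eq_one (he _))))

end Action

end Cfsg.Agent.H84
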