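import Cfsg.Agent.H84.TISylow
import Cfsg.Agent.Cores.Constrained

/-!
# Leonard's theorem for `p`-solvable groups
-/

open Module
open scoped Pointwise commutatorElement

set_option linter.style.haveILetI false

namespace Cfsg.Agent.H84

variable {G : Type*} [Group G] [Finite G] {p : ℕ} [Fact p.Prime]

/-- In a `p`-solvable group with trivial `O_p`, `C(O_{p'}) ≤ O_{p'}`. -/
theorem centralizer_pPrimeCore_le (hs : Cfsg.IsPSolvable p G) (h : Cfsg.pCore p G = ⊥) :
    Subgroup.centralizer (Cfsg.pPrimeCore p G : Set G) ≤ Cfsg.pPrimeCore p G := by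
  set K := Cfsg.pPrimeCore p G with hK
  set C := Subgroup.centralizer (K : Set G) with hC
  set Q := C.map (QuotientGroup.mk' K) with hQ
  rw [show (C ≤ K) ↔ Q = ⊥ by rw [hQ, Subgroup.map_eq_bot_iff, QuotientGroup.ker_mk']]
  by_contra hne
  haveI : Q.Normal := (inferInstance : C.Normal).map _ (QuotientGroup.mk'_surjective K)
  haveI : Nontrivial Q := (Subgroup.nontrivial_iff_ne_bot Q).mpr hne
  have hQs : Cfsg.IsPSolvable p Q := Cores.isPSolvable_of_surjective
    (Cores.isPSolvable_subgroup hs C)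
    ((QuotientGroup.mk' K).subgroupMap C) (MonoidHom.subgroupMap_surjective _ C)
  rcases Cores.pCore_ne_bot_or_pPrimeCore_ne_bot hQs with h' | h'
  swap
  · have h1 : (Cfsg.pPrimeCore p Q).map Q.subtype ≤ Cfsg.pPrimeCore p (G ⧸ K) :=
      Cores.map_pPrimeCore_le_of_normal Q
    rw [Cores.pPrimeCore_quotient_pPrimeCore, le_bot_iff,
      Subgroup.map_eq_bot_iff_of_injective _ Q.subtype_injective] at h1
    exact h' h1
  apply h'
  rw [← Subgroup.map_eq_bot_iff_of_injective _ Q.subtype_injective]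
  set R := (Cfsg.pCore p Q).map Q.subtype with hR
  set D := R.comap (QuotientGroup.mk' K) ⊓ C with hD
  have hmapD : D.map (QuotientGroup.mk' K) = R := by
    refine le_antisymm (Subgroup.map_le_iff_le_comap.mpr inf_le_left) fun z hz => ?_
    obtain ⟨c, hc, rfl⟩ : z ∈ Q := Subgroup.map_subtype_le _ hz
    exact ⟨c, ⟨hz, hc⟩, rfl⟩
  set Z := K.subgroupOf D with hZ
  obtain ⟨m, hm⟩ : ∃ m, Z.index = p ^ m := by
    show ∃ m, K.relIndex D = p ^ m
    rw [← Cores.card_map_mk', hmapD]
    exact IsPGroup.iff_card.mp (Cores.pCore_isPGroup.map _)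
  let S : Sylow p D := default
  have hcomm : ∀ x : Z, ∀ y : D, ((x : D) : D) * y = y * (x : D) := fun x y =>
    Subtype.ext (y.2.2 _ x.2)
  have hsup : Z ⊔ (S : Subgroup D) = ⊤ := by
    rw [← Subgroup.index_eq_one]
    have h1 : (Z ⊔ (S : Subgroup D)).index ∣ p ^ m :=
      hm ▸ Subgroup.index_dvd_of_le le_sup_left
    have h2 : (Z ⊔ (S : Subgroup D)).index ∣ (S : Subgroup D).index :=
      Subgroup.index_dvd_of_le le_sup_right
    exact Nat.eq_one_of_dvd_coprimes
      (((Fact.out : p.Prime).coprime_iff_not_dvd.mpr S.not_dvd_index).pow_left m) h1 h2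
  have hSn : (S : Subgroup D).Normal := by
    refine Subgroup.normalizer_eq_top_iff.mp (top_le_iff.mp ?_)
    rw [← hsup]
    refine sup_le (fun z hz => Subgroup.mem_normalizer_iff.mpr fun l => ?_) Subgroup.le_normalizer
    rw [hcomm ⟨z, hz⟩ l, mul_inv_cancel_right]
  haveI := hSn
  haveI : D.Normal := inferInstance
  have hSb : (S : Subgroup D).map D.subtype ≤ Cfsg.pCore p G :=
    (Subgroup.map_mono (Cores.le_pCore S.isPGroup')).trans (Cores.map_pCore_le_of_normal D)
  rw [h, le_bot_iff, Subgroup.map_eq_bot_iff_of_injective _ D.subtype_injective] at hSb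
  rw [hSb, sup_bot_eq, hZ, Subgroup.subgroupOf_eq_top] at hsup
  rw [← hmapD, Subgroup.map_eq_bot_iff, QuotientGroup.ker_mk']
  exact hsup

theorem normal_of_small_faithful (hs : Cfsg.IsPSolvable p G) (P : Sylow p G)
    (hTI : ∀ g : G, g ∉ Subgroup.normalizer ((P : Subgroup G) : Set G) →
      (P : Subgroup G) ⊓ (MulAut.conj g • (P : Subgroup G)) = ⊥)
    (χ : G → ℂ) (hχ : Cfsg.IsCharacter G χ) (hfaith : ∀ g : G, χ g = χ 1 → g = 1)
    (hdeg : Cfsg.charDegree χ ^ 2 ≤ Nat.card (P : Subgroup G)) : (P : Subgroup G).Normal := by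
  by_cases hcore : Cfsg.pCore p G = ⊥
  swap
  · refine Subgroup.normalizer_eq_top_iff.mp (top_le_iff.mp fun g _ => ?_)
    by_contra hg
    apply hcore
    rw [eq_bot_iff, ← hTI g hg]
    refine le_inf (Cores.pCore_le_sylow P) fun x hx => ?_
    have h1 := Cores.pCore_le_sylow (g • P) hx
    rwa [Sylow.coe_subgroup_smul] at h1
  rcases eq_or_ne (P : Subgroup G) ⊥ with hP | hP
  · rw [hP]; infer_instance
  exfalso
  haveI : Nontrivial (P : Subgroup G) := (Subgroup.nontrivial_iff_ne_bot _).mpr hP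
  haveI := P.isPGroup'.center_nontrivial
  obtain ⟨z, hz⟩ := exists_ne (1 : Subgroup.center (P : Subgroup G))
  have hzP : ((z : (P : Subgroup G)) : G) ∈ (P : Subgroup G) := SetLike.coe_mem _
  set K := Cfsg.pPrimeCore p G with hK
  have hinf : K ⊓ (P : Subgroup G) = ⊥ := by
    rw [inf_comm]
    exact Cores.disjoint_of_isPGroup_of_coprime P.isPGroup' Cores.coprime_card_pPrimeCore
  set N := Subgroup.normalizer ((P : Subgroup G) : Set G) with hN
  set G0 := K ⊔ (P : Subgroup G) with hG0
  obtain ⟨n, ρ, rfl⟩ := hχ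
  rw [degree_eq_of_character] at hdeg
  have hPG : (P : Subgroup G) ≤ G0 := le_sup_right
  have hmain := commute_of_commute (p := p) (ρ.comp G0.subtype)
    ((P : Subgroup G).subgroupOf G0) (N.subgroupOf G0) P.isPGroup'.comap_subtype
    (fun x hx => Subgroup.le_normalizer hx)
    (fun u hu hu1 g hg => free_of_TI P hTI (u : G) hu (fun h => hu1 (Subtype.ext h)) (g : G) hg)
    (by rw [Nat.card_congr (Subgroup.subgroupOfEquivOfLe hPG).toEquiv]; simpa using hdeg)
    (ρ ((z : (P : Subgroup G)) : G)) (fun g hg => by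
      show _ * ρ (g : G) = ρ (g : G) * _
      rw [← map_mul, ← map_mul]
      congr 1
      obtain ⟨k, hk, v, hv, hkv⟩ := Subgroup.mem_sup_of_normal_left.mp g.2
      have hkN : k ∈ N := by
        have hgN : (g : G) ∈ N := hg
        have := mul_mem hgN (inv_mem (Subgroup.le_normalizer hv : v ∈ N))
        simpa [← hkv, mul_assoc] using this
      have h2 : ((z : (P : Subgroup G)) : G) * v = v * ((z : (P : Subgroup G)) : G) :=
        congrArg Subtype.val (Subgroup.mem_center_iff.mp z.2 ⟨v, hv⟩).symm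
      have h3 : ((z : (P : Subgroup G)) : G) * k = k * ((z : (P : Subgroup G)) : G) := by
        have hmem : k * ((z : (P : Subgroup G)) : G) * k⁻¹ * ((z : (P : Subgroup G)) : G)⁻¹ ∈
            K ⊓ (P : Subgroup G) := by
          refine Subgroup.mem_inf.mpr ⟨?_, ?_⟩
          · have h := mul_mem hk (Subgroup.Normal.conj_mem (inferInstance : K.Normal) k⁻¹
              (inv_mem hk) ((z : (P : Subgroup G)) : G))
            rwa [← mul_assoc, ← mul_assoc] at h
          · exact mul_mem ((Subgroup.mem_normalizer_iff.mp hkN _).mp hzP) (inv_mem hzP)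
        rw [hinf, Subgroup.mem_bot, mul_inv_eq_one, mul_inv_eq_iff_eq_mul] at hmem
        exact hmem.symm
      rw [← hkv, ← mul_assoc, h3, mul_assoc, h2, ← mul_assoc])
  have hinj : Function.Injective ρ := fun a b hab => by
    refine (inv_mul_eq_one.mp (hfaith (a⁻¹ * b) ?_))
    rw [Representation.character, Representation.character, map_mul, ← hab, ← map_mul,
      inv_mul_cancel]
  have hzK : ((z : (P : Subgroup G)) : G) ∈ Subgroup.centralizer (K : Set G) := fun k hk => by
    refine hinj ?_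
    rw [map_mul, map_mul]
    exact (hmain ⟨k, (le_sup_left : K ≤ G0) hk⟩).symm
  have hbot : ((z : (P : Subgroup G)) : G) ∈ K ⊓ (P : Subgroup G) :=
    ⟨centralizer_pPrimeCore_le hs hcore hzK, hzP⟩
  rw [hinf, Subgroup.mem_bot] at hbot
  exact hz (Subtype.ext (Subtype.ext hbot))

end Cfsg.Agent.H84
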