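import Cfsg.Agent.H84.UniquePSingular
import Cfsg.Agent.H75.Basic

/-!
# A normal Sylow subgroup whose nontrivial elements have the same centralizer
-/

set_option linter.style.haveILetI false
set_option linter.unusedSectionVars false

namespace Cfsg.Agent.H84

open Cfsg.Agent
open scoped ComplexConjugate

/-- An irreducible character nontrivial on a normal subgroup sums to zero over its cosets. -/
theorem sum_coset_eq_zero {H : Type*} [Group H] [Finite H] (K : Subgroup H) [K.Normal] [Fintype K]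
    (ψ : Cfsg.IrrCharacter H) (hK : ∃ k ∈ K, (ψ : H → ℂ) k ≠ (ψ : H → ℂ) 1) (h : H) :
    ∑ k : K, (ψ : H → ℂ) (h * k) = 0 := by
  obtain ⟨n, ρ, hρ, he⟩ := ψ.2
  obtain ⟨k₀, hk₀, hne⟩ := hK
  set T : Module.End ℂ (Fin n → ℂ) := ∑ k : K, ρ (k : H) with hT
  have hcomm : ∀ g, T * ρ g = ρ g * T := by
    intro g
    rw [hT, Finset.sum_mul, Finset.mul_sum]
    refine Fintype.sum_equiv (MulAut.conjNormal (g⁻¹)).toEquiv _ _ fun k => ?_
    rw [← map_mul, ← map_mul]
    congr 1
    simp [MulAut.conjNormal_apply, mul_assoc]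
  obtain ⟨c, hc⟩ := CharBasic.schur_scalar ρ T hcomm
  have hfix : ρ k₀ * T = T := by
    rw [hT, Finset.mul_sum]
    exact Fintype.sum_equiv (Equiv.mulLeft (⟨k₀, hk₀⟩ : K)) _ _ fun k => by
      rw [← map_mul]; rfl
  have hc0 : c = 0 := by
    by_contra hc0
    apply hne
    rw [← he, Representation.char_one]
    refine (CharBasic.character_eq_finrank_iff ρ k₀).2 ?_
    rw [hc, mul_smul_comm] at hfix
    exact smul_right_injective _ hc0 hfix
  calc ∑ k : K, (ψ : H → ℂ) (h * k) = LinearMap.trace ℂ _ (ρ h * T) := by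
        rw [hT, Finset.mul_sum, map_sum, ← he]
        exact Finset.sum_congr rfl fun k _ => by rw [← map_mul]; rfl
    _ = 0 := by rw [hc, hc0, zero_smul, mul_zero, map_zero]

section Local

variable {H : Type*} [Group H] [Fintype H] {p : ℕ} [Fact p.Prime] (P : Sylow p H)

/-- The elements of `C(P)`. -/
noncomputable def cset : Finset H :=
  open scoped Classical in
  Finset.univ.filter fun h => h ∈ Subgroup.centralizer ((P : Subgroup H) : Set H)

/-- The `p`-regular elements of `C(P)`. -/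
noncomputable def aset : Finset H :=
  open scoped Classical in
  Finset.univ.filter fun h => h ∈ Subgroup.centralizer ((P : Subgroup H) : Set H) ∧ ¬ p ∣ orderOf h

theorem mem_cset {h : H} :
    h ∈ cset P ↔ h ∈ Subgroup.centralizer ((P : Subgroup H) : Set H) := by
  simp [cset]

theorem mem_aset {h : H} : h ∈ aset P ↔
    h ∈ Subgroup.centralizer ((P : Subgroup H) : Set H) ∧ ¬ p ∣ orderOf h := by
  simp [aset]

theorem one_mem_aset : (1 : H) ∈ aset P :=
  (mem_aset P).2 ⟨one_mem _, by rw [orderOf_one]; exact (Fact.out : p.Prime).not_dvd_one⟩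

theorem card_cset : (cset P).card = Nat.card (Subgroup.centralizer ((P : Subgroup H) : Set H)) := by
  classical
  rw [Nat.card_eq_fintype_card, Fintype.card_subtype]
  congr 1

variable (hstar : ∀ x ∈ (P : Subgroup H), x ≠ 1 → Subgroup.centralizer ({x} : Set H) =
  Subgroup.centralizer ((P : Subgroup H) : Set H))

include hstar

theorem le_centralizer_self : (P : Subgroup H) ≤
    Subgroup.centralizer ((P : Subgroup H) : Set H) := by
  intro x hx
  rcases eq_or_ne x 1 with rfl | h
  · exact one_mem _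
  · rw [← hstar x hx h, Subgroup.mem_centralizer_singleton_iff]

/-- `C(P)` is the product of its `p`-regular part and `P`. -/
theorem sum_cset {M : Type*} [AddCommMonoid M] [Fintype (P : Subgroup H)] (f : H → M) :
    ∑ c ∈ cset P, f c = ∑ a ∈ aset P, ∑ y : (P : Subgroup H), f (a * y) := by
  classical
  rw [← Finset.sum_product']
  symm
  have hcomm : ∀ a ∈ aset P, ∀ y : (P : Subgroup H), Commute a (y : H) := fun a ha y =>
    (Subgroup.mem_centralizer_iff.1 ((mem_aset P).1 ha).1 _ y.2).symm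
  have hordp : ∀ y : (P : Subgroup H), ∃ k, orderOf (y : H) = p ^ k := fun y => by
    obtain ⟨k, hk⟩ := IsPGroup.iff_orderOf.1 P.isPGroup' y
    exact ⟨k, by rw [Subgroup.orderOf_coe, hk]⟩
  refine Finset.sum_bij (fun x _ => x.1 * (x.2 : H)) (fun x hx => ?_) (fun x hx y hy hxy => ?_)
    (fun c hc => ?_) (fun x _ => rfl)
  · rw [Finset.mem_product] at hx
    exact (mem_cset P).2 (mul_mem ((mem_aset P).1 hx.1).1 (le_centralizer_self P hstar x.2.2))
  · rw [Finset.mem_product] at hx hy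
    have hxy' : x.1 * (x.2 : H) = y.1 * (y.2 : H) := hxy
    set M' := orderOf x.1 * orderOf y.1 with hM'
    have hcop : M'.Coprime p := by
      refine Nat.Coprime.mul_left ?_ ?_
      · exact (Nat.coprime_comm.1 ((Fact.out : p.Prime).coprime_iff_not_dvd.2
          ((mem_aset P).1 hx.1).2))
      · exact (Nat.coprime_comm.1 ((Fact.out : p.Prime).coprime_iff_not_dvd.2
          ((mem_aset P).1 hy.1).2))
    have h1 : (x.2 : H) ^ M' = (y.2 : H) ^ M' := by
      have h := congrArg (fun z : H => z ^ M') hxy'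
      simp only [(hcomm _ hx.1 x.2).mul_pow, (hcomm _ hy.1 y.2).mul_pow] at h
      rw [orderOf_dvd_iff_pow_eq_one.1 (dvd_mul_right _ _),
        orderOf_dvd_iff_pow_eq_one.1 (dvd_mul_left _ _), one_mul, one_mul] at h
      exact h
    obtain ⟨j, hj⟩ := IsPGroup.iff_card.1 P.isPGroup'
    have h2 : x.2 = y.2 := by
      have h3 : x.2 ^ M' = y.2 ^ M' := Subtype.ext (by push_cast; exact h1)
      have hc2 : (Nat.card (P : Subgroup H)).Coprime M' := by
        rw [hj]; exact hcop.symm.pow_left j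
      exact (powCoprime hc2).injective h3
    refine Prod.ext ?_ h2
    rw [h2] at hxy'
    exact mul_right_cancel hxy'
  · obtain ⟨u, v, hu, hv, huv, ⟨k, hk⟩, hvp, -, -⟩ := H75.exists_split c (Fact.out : p.Prime)
    have hcC := (mem_cset P).1 hc
    have huC := (Subgroup.zpowers_le.2 hcC) hu
    have huP : u ∈ (P : Subgroup H) := by
      have hz : IsPGroup p (Subgroup.zpowers u) :=
        IsPGroup.of_card (n := k) (by rw [Nat.card_zpowers, hk])
      have hnorm : Subgroup.zpowers u ≤ Subgroup.normalizer ((P : Subgroup H) : Set H) := by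
        rw [Subgroup.zpowers_le, Subgroup.mem_normalizer_iff]
        intro z
        constructor
        · intro hzP
          rw [← Subgroup.mem_centralizer_iff.1 huC z hzP, mul_inv_cancel_right]
          exact hzP
        · intro hzP
          have h := Subgroup.mem_centralizer_iff.1 huC _ hzP
          rw [inv_mul_cancel_right] at h
          have : z = u * z * u⁻¹ := (mul_left_cancel h.symm).symm
          rwa [this]
      have hsup : IsPGroup p ((P : Subgroup H) ⊔ Subgroup.zpowers u : Subgroup H) :=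
        P.isPGroup'.to_sup_of_normal_left' hz hnorm
      have := P.is_maximal' hsup le_sup_left
      exact this ▸ Subgroup.mem_sup_right (Subgroup.mem_zpowers u)
    have hva : v ∈ aset P := (mem_aset P).2 ⟨(Subgroup.zpowers_le.2 hcC) hv, fun h =>
      (Fact.out : p.Prime).ne_one (Nat.eq_one_of_dvd_coprimes hvp h dvd_rfl)⟩
    refine ⟨(v, ⟨u, huP⟩), Finset.mem_product.2 ⟨hva, Finset.mem_univ _⟩, ?_⟩
    show v * u = c
    rw [← huv]
    exact (hcomm v hva ⟨u, huP⟩).eq

theorem card_centralizer_eq_mul [Fintype (P : Subgroup H)] :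
    Nat.card (Subgroup.centralizer ((P : Subgroup H) : Set H)) =
      Nat.card (P : Subgroup H) * (aset P).card := by
  rw [← card_cset, Finset.card_eq_sum_ones, sum_cset P hstar, Finset.sum_const, smul_eq_mul,
    Finset.sum_const, smul_eq_mul, mul_one, Finset.card_univ, ← Nat.card_eq_fintype_card, mul_comm]

variable [(P : Subgroup H).Normal]

theorem commutator_injective {n : H} (hn : n ∉ Subgroup.centralizer ((P : Subgroup H) : Set H)) :
    Function.Injective fun y : (P : Subgroup H) => n * y * n⁻¹ * (y : H)⁻¹ := by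
  intro y z hyz
  simp only at hyz
  by_contra hne
  apply hn
  have h1 : (z : H)⁻¹ * y ∈ (P : Subgroup H) := mul_mem (inv_mem z.2) y.2
  have h2 : (z : H)⁻¹ * y ≠ 1 := fun h => hne (Subtype.ext (inv_mul_eq_one.1 h).symm)
  rw [← hstar _ h1 h2, Subgroup.mem_centralizer_singleton_iff]
  have hc : ∀ u v : (P : Subgroup H), (u : H) * v = v * u := fun u v =>
    Subgroup.mem_centralizer_iff.1 (le_centralizer_self P hstar v.2) _ u.2
  have hyn : n * y * n⁻¹ ∈ (P : Subgroup H) := Subgroup.Normal.conj_mem ‹_› _ y.2 n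
  have hzn : n * z * n⁻¹ ∈ (P : Subgroup H) := Subgroup.Normal.conj_mem ‹_› _ z.2 n
  have e1 : n * y * n⁻¹ = (n * z * n⁻¹) * ((z : H)⁻¹ * y) := by
    calc n * y * n⁻¹ = n * y * n⁻¹ * (y : H)⁻¹ * y := by group
      _ = n * z * n⁻¹ * (z : H)⁻¹ * y := by rw [hyz]
      _ = _ := by group
  calc n * ((z : H)⁻¹ * y) = (n * z * n⁻¹)⁻¹ * (n * y * n⁻¹) * n := by group
    _ = (z : H)⁻¹ * y * n := by rw [e1]; group

/-- Elements outside `C(P)` are `p`-regular. -/
theorem not_dvd_orderOf_of_notMem {n : H}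
    (hn : n ∉ Subgroup.centralizer ((P : Subgroup H) : Set H)) : ¬ p ∣ orderOf n := by
  intro h
  have ho := orderOf_pos n
  set y := n ^ (orderOf n / p)
  have hy : orderOf y = p := orderOf_pow_orderOf_div ho.ne' h
  have hyP : y ∈ (P : Subgroup H) := by
    have hz : IsPGroup p (Subgroup.zpowers y) :=
      IsPGroup.of_card (n := 1) (by rw [Nat.card_zpowers, hy, pow_one])
    have hsup : IsPGroup p ((P : Subgroup H) ⊔ Subgroup.zpowers y : Subgroup H) :=
      P.isPGroup'.to_sup_of_normal_left hz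
    have := P.is_maximal' hsup le_sup_left
    exact this ▸ Subgroup.mem_sup_right (Subgroup.mem_zpowers y)
  apply hn
  rw [← hstar y hyP (fun h1 => by rw [h1, orderOf_one] at hy; exact (Fact.out : p.Prime).ne_one hy.symm),
    Subgroup.mem_centralizer_singleton_iff]
  exact (Commute.self_pow n _).eq

/-- An irreducible character nontrivial on `P` vanishes off `C(P)`. -/
theorem apply_eq_zero_of_notMem (ψ : Cfsg.IrrCharacter H)
    (hψ : ∃ y ∈ (P : Subgroup H), (ψ : H → ℂ) y ≠ (ψ : H → ℂ) 1) {n : H}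
    (hn : n ∉ Subgroup.centralizer ((P : Subgroup H) : Set H)) : (ψ : H → ℂ) n = 0 := by
  classical
  have hn' : n⁻¹ ∉ Subgroup.centralizer ((P : Subgroup H) : Set H) := fun h => hn (inv_mem_iff.1 h)
  let θ : ↥(P : Subgroup H) → (P : Subgroup H) := fun y =>
    ⟨n⁻¹ * y * n⁻¹⁻¹ * (y : H)⁻¹,
      mul_mem (Subgroup.Normal.conj_mem ‹_› _ y.2 n⁻¹) (inv_mem y.2)⟩
  have hθ : Function.Bijective θ := by
    refine Finite.injective_iff_bijective.1 fun y z h => ?_
    exact commutator_injective P hstar hn' (congrArg Subtype.val h)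
  have h := sum_coset_eq_zero (P : Subgroup H) ψ hψ n
  rw [← hθ.sum_comp] at h
  have hconst : ∀ y : (P : Subgroup H), (ψ : H → ℂ) (n * (θ y : H)) = (ψ : H → ℂ) n := fun y => by
    show (ψ : H → ℂ) (n * (n⁻¹ * y * n⁻¹⁻¹ * (y : H)⁻¹)) = _
    rw [show n * (n⁻¹ * y * n⁻¹⁻¹ * (y : H)⁻¹) = (y : H) * n * (y : H)⁻¹ by group]
    exact CharBasic.IsIrr.isClassFunction ψ.2 n y
  simp only [hconst, Finset.sum_const, Finset.card_univ, nsmul_eq_mul, mul_eq_zero] at h
  exact h.resolve_left (Nat.cast_ne_zero.2 Fintype.card_ne_zero)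

/-- Characters nontrivial on `P`: decomposition along `C(P)`. -/
theorem exists_decomp (ψ : Cfsg.IrrCharacter H)
    (hψ : ∃ y ∈ (P : Subgroup H), (ψ : H → ℂ) y ≠ (ψ : H → ℂ) 1) [Fintype (P : Subgroup H)] :
    ∃ (e d : ℕ) (f : Fin e → H → ℂ) (l : Fin e → ↥(P : Subgroup H) → ℂ),
      0 < d ∧ e * Nat.card (Subgroup.centralizer ((P : Subgroup H) : Set H)) = Nat.card H ∧
      Cfsg.charDegree (ψ : H → ℂ) = e * d ∧
      (∀ a ∈ aset P, ∀ y : (P : Subgroup H), (ψ : H → ℂ) (a * y) = ∑ i, f i a * l i y) ∧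
      (∀ i j, ∑ y : (P : Subgroup H), l i y * conj (l j y) =
        if i = j then (Nat.card (P : Subgroup H) : ℂ) else 0) ∧
      (∀ i, l i 1 = 1) ∧
      (∀ i, f i 1 = (d : ℂ)) ∧
      (∀ i, ∀ a ∈ aset P, ‖f i a‖ ≤ (d : ℝ)) ∧
      (∀ i, ∑ a ∈ aset P, f i a * conj (f i a) = ((aset P).card : ℂ)) ∧
      (∃ m : Fin e → Fin e → ℕ, (∀ i j, 1 ≤ m i j) ∧ (1 < d → ∀ i, 2 ≤ m i i) ∧
        ∀ i j, ∑ a ∈ aset P, (f i a * conj (f i a)) * (f j a * conj (f j a)) =
          ((aset P).card : ℂ) * m i j) ∧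
      (d = 1 → ∀ i j, (∀ a ∈ aset P, f i a = f j a) ∨
        ∑ a ∈ aset P, f i a * conj (f j a) = 0) := by
  classical
  set C := Subgroup.centralizer ((P : Subgroup H) : Set H) with hCdef
  haveI : C.Normal := by
    rw [hCdef]; infer_instance
  have hPC : (P : Subgroup H) ≤ C := le_centralizer_self P hstar
  have hPcard : (Nat.card (P : Subgroup H) : ℂ) ≠ 0 := Nat.cast_ne_zero.2 Nat.card_pos.ne'
  have hCcard : (Nat.card C : ℂ) ≠ 0 := Nat.cast_ne_zero.2 Nat.card_pos.ne'
  have hsumC : ∀ F : H → ℂ, ∑ c : C, F c = ∑ c ∈ cset P, F c := fun F =>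
    (Finset.sum_subtype (cset P) (fun x => mem_cset P) F).symm
  set r : C → ℂ := fun c => (ψ : H → ℂ) c with hrdef
  have hr : Cfsg.IsCharacter C r := CharInduce.IsChar.res (CharBasic.IsIrr.isCharacter ψ.2) _
  -- a constituent on `C`
  obtain ⟨φ, hφ0⟩ : ∃ φ : Cfsg.IrrCharacter C, Cfsg.classInner r (φ : C → ℂ) ≠ 0 := by
    by_contra hc
    push Not at hc
    have h := congrFun (CharBasic.classFunction_expansion (CharBasic.IsChar.isClassFunction hr)) 1
    simp only [hc, Finset.sum_apply, Pi.smul_apply, smul_eq_mul, zero_mul,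
      Finset.sum_const_zero] at h
    exact CharBasic.IsIrr.one_ne_zero ψ.2 (by simpa [hrdef] using h)
  set d := Cfsg.charDegree (φ : C → ℂ) with hd
  have hd0 : 0 < d := BlockBasic.charDegree_pos φ
  have hdC : (d : ℂ) ≠ 0 := Nat.cast_ne_zero.2 hd0.ne'
  have hφ1 : (φ : C → ℂ) 1 = (d : ℂ) := BlockBasic.apply_one_eq_charDegree φ
  -- the central character on `P`
  let inc : ↥(P : Subgroup H) → C := fun y => ⟨y, hPC y.2⟩
  let l₀ : ↥(P : Subgroup H) → ℂ := fun y => (φ : C → ℂ) (inc y) / (d : ℂ)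
  have hcen : ∀ y, inc y ∈ Subgroup.center C := fun y => Subgroup.mem_center_iff.2 fun x =>
    Subtype.ext (Subgroup.mem_centralizer_iff.1 x.2 _ y.2).symm
  have hscal : ∀ (x : C) (y : (P : Subgroup H)),
      (φ : C → ℂ) (x * inc y) = (φ : C → ℂ) x * l₀ y := by
    intro x y
    obtain ⟨n, ρ, hρ, he⟩ := φ.2
    obtain ⟨w, -, -, hw⟩ := CharBasic.exists_central_scalar ρ (hcen y)
    have hval : ∀ z : C, (φ : C → ℂ) (z * inc y) = w * (φ : C → ℂ) z := fun z => by
      rw [← he]
      exact hw z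
    have h1 := hval 1
    rw [one_mul, hφ1] at h1
    show _ = _ * ((φ : C → ℂ) (inc y) / (d : ℂ))
    rw [hval x, h1, mul_div_cancel_right₀ _ hdC, mul_comm]
  have hl1 : l₀ 1 = 1 := by
    show (φ : C → ℂ) (inc 1) / (d : ℂ) = 1
    rw [show inc 1 = (1 : C) from rfl, hφ1, div_self hdC]
  have hlmul : ∀ y z, l₀ (y * z) = l₀ y * l₀ z := by
    intro y z
    show (φ : C → ℂ) (inc (y * z)) / (d : ℂ) = (φ : C → ℂ) (inc y) / (d : ℂ) * l₀ z
    rw [show inc (y * z) = inc y * inc z from rfl, hscal, div_mul_eq_mul_div]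
  have hlnorm : ∀ y, l₀ y * conj (l₀ y) = 1 := by
    intro y
    have h := normSq_of_mem_center φ (hcen y)
    rw [Complex.mul_conj]
    show ((Complex.normSq ((φ : C → ℂ) (inc y) / (d : ℂ)) : ℝ) : ℂ) = 1
    rw [map_div₀, h, Complex.normSq_natCast, ← hd, sq, div_self, Complex.ofReal_one]
    exact mul_ne_zero (Nat.cast_ne_zero.2 hd0.ne') (Nat.cast_ne_zero.2 hd0.ne')
  -- conjugates
  let t : H ⧸ C → H := fun q => q.out
  let conjP : H → ↥(P : Subgroup H) → (P : Subgroup H) := fun n y =>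
    ⟨n * y * n⁻¹, Subgroup.Normal.conj_mem ‹_› _ y.2 n⟩
  let φc : H ⧸ C → Cfsg.IrrCharacter C := fun q =>
    ⟨_, CharInduce.IsIrr.comp φ.2 (MulAut.conjNormal (t q) : MulAut C).toMonoidHom
      (MulEquiv.surjective _)⟩
  have hφc : ∀ q (x : C), (φc q : C → ℂ) x =
      (φ : C → ℂ) ⟨t q * x * (t q)⁻¹, Subgroup.Normal.conj_mem ‹_› _ x.2 _⟩ := fun q x => by
    show (φ : C → ℂ) (MulAut.conjNormal (t q) x) = _
    congr 1
  have hscalc : ∀ q (x : C) (y : (P : Subgroup H)),
      (φc q : C → ℂ) (x * inc y) = (φc q : C → ℂ) x * l₀ (conjP (t q) y) := by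
    intro q x y
    rw [hφc, hφc, ← hscal]
    refine congrArg _ (Subtype.ext ?_)
    show t q * ((x : H) * y) * (t q)⁻¹ = (t q * x * (t q)⁻¹) * (t q * y * (t q)⁻¹)
    group
  have hnontriv : ∃ y, l₀ y ≠ 1 := by
    by_contra hc
    push Not at hc
    apply hφ0
    rw [CharBasic.classInner_def, mul_eq_zero]
    right
    let F : H → ℂ := fun h => if hh : h ∈ C then r ⟨h, hh⟩ * conj ((φ : C → ℂ) ⟨h, hh⟩) else 0
    have hF : ∀ x : C, F x = r x * conj ((φ : C → ℂ) x) := fun x => dif_pos x.2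
    rw [← Finset.sum_congr rfl fun x _ => hF x, hsumC F, sum_cset P hstar]
    refine Finset.sum_eq_zero fun a ha => ?_
    have haC := ((mem_aset P).1 ha).1
    calc ∑ y : (P : Subgroup H), F (a * y)
        = ∑ y : (P : Subgroup H), (ψ : H → ℂ) (a * y) * conj ((φ : C → ℂ) ⟨a, haC⟩) := by
          refine Finset.sum_congr rfl fun y _ => ?_
          have hm : a * (y : H) ∈ C := mul_mem haC (hPC y.2)
          show F (a * y) = _
          rw [show F (a * y) = r ⟨a * y, hm⟩ * conj ((φ : C → ℂ) ⟨a * y, hm⟩) from dif_pos hm,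
            show (⟨a * y, hm⟩ : C) = ⟨a, haC⟩ * inc y from rfl, hscal, hc, mul_one]
          rfl
      _ = 0 := by
          rw [← Finset.sum_mul, sum_coset_eq_zero (P : Subgroup H) ψ hψ a, zero_mul]
  have hdistinct : ∀ q q', (∀ y, l₀ (conjP (t q) y) = l₀ (conjP (t q') y)) → q = q' := by
    intro q q' h
    by_contra hne
    set n := t q * (t q')⁻¹ with hn
    have hnC : n ∉ C := by
      intro hnC
      apply hne
      have h2 : (t q)⁻¹ * t q' ∈ C := by
        have h3 := Subgroup.Normal.conj_mem ‹_› _ (inv_mem hnC) (t q)⁻¹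
        rw [hn] at h3
        convert h3 using 1
        group
      have h4 : ((t q : H) : H ⧸ C) = ((t q' : H) : H ⧸ C) := QuotientGroup.eq.2 h2
      rwa [show ((t q : H) : H ⧸ C) = q from Quotient.out_eq q,
        show ((t q' : H) : H ⧸ C) = q' from Quotient.out_eq q'] at h4
    have hfix : ∀ y, l₀ (conjP n y) = l₀ y := by
      intro y
      have h5 := h (conjP (t q')⁻¹ y)
      have e1 : conjP (t q) (conjP (t q')⁻¹ y) = conjP n y := Subtype.ext (by
        show t q * ((t q')⁻¹ * y * (t q')⁻¹⁻¹) * (t q)⁻¹ = n * y * n⁻¹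
        rw [hn]; group)
      have e2 : conjP (t q') (conjP (t q')⁻¹ y) = y := Subtype.ext (by
        show t q' * ((t q')⁻¹ * y * (t q')⁻¹⁻¹) * (t q')⁻¹ = (y : H)
        group)
      rwa [e1, e2] at h5
    obtain ⟨z, hz⟩ := hnontriv
    apply hz
    have hinj : Function.Injective fun y : (P : Subgroup H) => conjP n y * y⁻¹ := fun a b hab =>
      commutator_injective P hstar hnC (congrArg Subtype.val hab)
    obtain ⟨y, hy⟩ := (Finite.injective_iff_surjective.1 hinj) z
    rw [← hy, hlmul, hfix, ← hlmul, mul_inv_cancel, hl1]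
  have hinjc : Function.Injective φc := by
    intro q q' h
    refine hdistinct q q' fun y => ?_
    have h1 := hscalc q 1 y
    have h2 := hscalc q' 1 y
    rw [h, h2] at h1
    exact (mul_left_cancel₀ (CharBasic.IsIrr.one_ne_zero (φc q').2) h1).symm
  -- multiplicities
  choose b hb using fun ξ : Cfsg.IrrCharacter C =>
    CharBasic.classInner_isChar_nat hr (CharBasic.IsIrr.isCharacter ξ.2)
  have hexp := CharBasic.classFunction_expansion (CharBasic.IsChar.isClassFunction hr)
  have hvan : ∀ h : H, h ∉ C → (ψ : H → ℂ) h = 0 := fun h hh =>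
    apply_eq_zero_of_notMem P hstar ψ hψ hh
  have hnormr : Cfsg.classInner r r = (Nat.card (H ⧸ C) : ℂ) := by
    rw [CharBasic.classInner_def, hsumC fun h => (ψ : H → ℂ) h * conj ((ψ : H → ℂ) h),
      Finset.sum_subset (Finset.subset_univ (cset P)) (fun h _ hh => by
        rw [hvan h (fun h' => hh ((mem_cset P).2 h')), zero_mul])]
    have h1 := CharBasic.classInner_irr_self ψ.2
    rw [CharBasic.classInner_def, inv_mul_eq_one₀ (Nat.cast_ne_zero.2 Nat.card_pos.ne')] at h1
    rw [← h1, ← Subgroup.index_eq_card, ← C.card_mul_index]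
    push_cast
    field_simp
  have hsq : ∑ ξ : Cfsg.IrrCharacter C, b ξ * b ξ = Nat.card (H ⧸ C) := by
    have h1 : Cfsg.classInner r r =
        ∑ ξ : Cfsg.IrrCharacter C, ((b ξ * b ξ : ℕ) : ℂ) := by
      rw [CharBasic.classInner_eq_sum (CharBasic.IsChar.isClassFunction hr)]
      refine Finset.sum_congr rfl fun ξ _ => ?_
      simp [hb, ← CharBasic.classInner_conj_symm]
    rw [hnormr, ← Nat.cast_sum, Nat.cast_inj] at h1
    exact h1.symm
  have hbc : ∀ q, b (φc q) = b φ := by
    intro q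
    have h1 : Cfsg.classInner r (φc q : C → ℂ) = Cfsg.classInner r (φ : C → ℂ) := by
      rw [CharBasic.classInner_def, CharBasic.classInner_def]
      congr 1
      refine Fintype.sum_equiv (MulAut.conjNormal (t q)).toEquiv _ _ fun x => ?_
      show r x * conj ((φ : C → ℂ) (MulAut.conjNormal (t q) x)) =
        r (MulAut.conjNormal (t q) x) * conj ((φ : C → ℂ) (MulAut.conjNormal (t q) x))
      congr 1
      show (ψ : H → ℂ) x = (ψ : H → ℂ) (MulAut.conjNormal (t q) x : C)
      rw [MulAut.conjNormal_apply]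
      exact (CharBasic.IsIrr.isClassFunction ψ.2 (x : H) (t q)).symm
    rw [hb, hb, Nat.cast_inj] at h1
    exact h1
  have hbφ : b φ = 1 ∧ ∀ ξ, (∀ q, φc q ≠ ξ) → b ξ = 0 := by
    have h0 : b φ ≠ 0 := fun h => hφ0 (by rw [hb, h, Nat.cast_zero])
    have h1 := hsq
    rw [← Finset.sum_sdiff (Finset.subset_univ (Finset.univ.image φc)),
      Finset.sum_image hinjc.injOn] at h1
    simp only [hbc, Finset.sum_const, smul_eq_mul, Finset.card_univ, ← Nat.card_eq_fintype_card]
      at h1
    have hpos : 0 < Nat.card (H ⧸ C) := Nat.card_pos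
    have h2 : Nat.card (H ⧸ C) ≤ Nat.card (H ⧸ C) * (b φ * b φ) :=
      Nat.le_mul_of_pos_right _ (Nat.mul_pos (Nat.pos_of_ne_zero h0) (Nat.pos_of_ne_zero h0))
    have h3 : Nat.card (H ⧸ C) * (b φ * b φ) = Nat.card (H ⧸ C) * 1 := by omega
    refine ⟨Nat.eq_one_of_mul_eq_one_left (Nat.eq_of_mul_eq_mul_left hpos h3), fun ξ hξ => ?_⟩
    have h4 : ∑ ξ ∈ Finset.univ \ Finset.univ.image φc, b ξ * b ξ = 0 := by omega
    exact mul_self_eq_zero.1 (Finset.sum_eq_zero_iff.1 h4 ξ (Finset.mem_sdiff.2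
      ⟨Finset.mem_univ _, fun h => by
        obtain ⟨q, -, hq⟩ := Finset.mem_image.1 h; exact hξ q hq⟩))
  have hrsum : ∀ x : C, (ψ : H → ℂ) x = ∑ q : H ⧸ C, (φc q : C → ℂ) x := by
    intro x
    have h := congrFun hexp x
    simp only [Finset.sum_apply, Pi.smul_apply, smul_eq_mul, hb] at h
    refine h.trans ?_
    rw [← Finset.sum_subset (Finset.subset_univ (Finset.univ.image φc))
      (fun ξ _ hξ => by
        rw [hbφ.2 ξ (fun q hq => hξ (Finset.mem_image.2 ⟨q, Finset.mem_univ _, hq⟩)),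
          Nat.cast_zero, zero_mul]), Finset.sum_image hinjc.injOn]
    exact Finset.sum_congr rfl fun q _ => by rw [hbc, hbφ.1, Nat.cast_one, one_mul]
  -- sums over `A`
  have hsumA : ∀ G' : C → ℂ, (∀ x y, G' (x * inc y) = G' x) →
      ∑ x : C, G' x = (Nat.card (P : Subgroup H) : ℂ) *
        ∑ a ∈ aset P, (if hh : a ∈ C then G' ⟨a, hh⟩ else 0) := by
    intro G' hG'
    let F : H → ℂ := fun h => if hh : h ∈ C then G' ⟨h, hh⟩ else 0
    have hF : ∀ x : C, F x = G' x := fun x => dif_pos x.2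
    rw [← Finset.sum_congr rfl fun x _ => hF x, hsumC F, sum_cset P hstar, Finset.mul_sum]
    refine Finset.sum_congr rfl fun a ha => ?_
    have haC := ((mem_aset P).1 ha).1
    rw [Finset.sum_congr rfl (g := fun _ => G' ⟨a, haC⟩) (fun y _ => by
      have hm : a * (y : H) ∈ C := mul_mem haC (hPC y.2)
      show (if hh : a * (y : H) ∈ C then G' ⟨a * y, hh⟩ else 0) = G' ⟨a, haC⟩
      rw [dif_pos hm, show (⟨a * y, hm⟩ : C) = ⟨a, haC⟩ * inc y from rfl, hG']),
      dif_pos haC, Finset.sum_const, Finset.card_univ, nsmul_eq_mul, Nat.card_eq_fintype_card]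
  have hAC : (Nat.card C : ℂ) = (Nat.card (P : Subgroup H) : ℂ) * ((aset P).card : ℂ) := by
    rw [hCdef, card_centralizer_eq_mul P hstar, Nat.cast_mul]
  let σ := (Fintype.equivFin (H ⧸ C)).symm
  let f : Fin (Fintype.card (H ⧸ C)) → H → ℂ := fun i a =>
    if hh : a ∈ C then (φc (σ i) : C → ℂ) ⟨a, hh⟩ else 0
  have hf : ∀ i (a : H) (ha : a ∈ C), f i a = (φc (σ i) : C → ℂ) ⟨a, ha⟩ :=
    fun i a ha => dif_pos ha
  have hnormc : ∀ q (x : C) y, (φc q : C → ℂ) (x * inc y) * conj ((φc q : C → ℂ) (x * inc y)) =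
      (φc q : C → ℂ) x * conj ((φc q : C → ℂ) x) := by
    intro q x y
    rw [hscalc, map_mul]
    linear_combination ((φc q : C → ℂ) x * conj ((φc q : C → ℂ) x)) * hlnorm (conjP (t q) y)
  have hdc : ∀ q, (φc q : C → ℂ) 1 = (d : ℂ) := fun q => by
    rw [hφc, ← hφ1]
    refine congrArg _ (Subtype.ext ?_)
    simp
  refine ⟨Fintype.card (H ⧸ C), d, f, fun i y => l₀ (conjP (t (σ i)) y), hd0, ?_, ?_, ?_, ?_,
    ?_, ?_, ?_, ?_, ?_, ?_⟩
  · rw [← Nat.card_eq_fintype_card, ← Subgroup.index_eq_card, mul_comm]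
    exact C.card_mul_index
  · have h := hrsum 1
    simp only [OneMemClass.coe_one, hdc, Finset.sum_const, Finset.card_univ, nsmul_eq_mul,
      BlockBasic.apply_one_eq_charDegree] at h
    exact_mod_cast h
  · intro a ha y
    have haC := ((mem_aset P).1 ha).1
    refine (hrsum (⟨a, haC⟩ * inc y)).trans ?_
    refine (Fintype.sum_equiv σ _ _ fun i => ?_).symm
    rw [hf i a haC, hscalc]
  · intro i j
    split_ifs with hij
    · subst hij
      simp only [hlnorm, Finset.sum_const, Finset.card_univ, nsmul_eq_mul, mul_one,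
        Nat.card_eq_fintype_card]
    · obtain ⟨z, hz⟩ : ∃ z, l₀ (conjP (t (σ i)) z) ≠ l₀ (conjP (t (σ j)) z) := by
        by_contra hc
        push Not at hc
        exact hij (σ.injective (hdistinct _ _ hc))
      set S := ∑ y : (P : Subgroup H), l₀ (conjP (t (σ i)) y) * conj (l₀ (conjP (t (σ j)) y))
      have hm : ∀ n u v, l₀ (conjP n (u * v)) = l₀ (conjP n u) * l₀ (conjP n v) := fun n u v => by
        rw [← hlmul]
        congr 1
        exact Subtype.ext (by
          show n * ((u : H) * v) * n⁻¹ = n * u * n⁻¹ * (n * v * n⁻¹)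
          group)
      have h1 : l₀ (conjP (t (σ i)) z) * conj (l₀ (conjP (t (σ j)) z)) * S = S := by
        rw [Finset.mul_sum]
        exact Fintype.sum_equiv (Equiv.mulLeft z) _ _ fun y => by
          rw [Equiv.coe_mulLeft, hm, hm, map_mul]; ring
      by_contra hS
      apply hz
      have h2 := (mul_eq_right₀ hS).1 h1
      calc l₀ (conjP (t (σ i)) z) = l₀ (conjP (t (σ i)) z) *
            (l₀ (conjP (t (σ j)) z) * conj (l₀ (conjP (t (σ j)) z))) := by rw [hlnorm, mul_one]
        _ = l₀ (conjP (t (σ j)) z) := by linear_combination l₀ (conjP (t (σ j)) z) * h2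
  · intro i
    show l₀ (conjP (t (σ i)) 1) = 1
    rw [← hl1]
    congr 1
    exact Subtype.ext (by show t (σ i) * ((1 : (P : Subgroup H)) : H) * (t (σ i))⁻¹ = _; simp)
  · intro i
    rw [hf i 1 (one_mem C)]
    exact hdc (σ i)
  · intro i a ha
    rw [hf i a ((mem_aset P).1 ha).1]
    refine (CharBasic.IsChar.norm_le (CharBasic.IsIrr.isCharacter (φc (σ i)).2) _).trans ?_
    rw [hdc, Complex.norm_natCast]
  · intro i
    have h := CharBasic.classInner_irr_self (φc (σ i)).2
    rw [CharBasic.classInner_def, inv_mul_eq_one₀ hCcard,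
      hsumA (fun x => (φc (σ i) : C → ℂ) x * conj ((φc (σ i) : C → ℂ) x)) (hnormc _), hAC] at h
    refine Eq.trans ?_ (mul_left_cancel₀ hPcard h).symm
    exact Finset.sum_congr rfl fun a ha => by
      rw [dif_pos ((mem_aset P).1 ha).1, hf i a ((mem_aset P).1 ha).1]
  · let Φ : Fin (Fintype.card (H ⧸ C)) → Fin (Fintype.card (H ⧸ C)) → C → ℂ := fun i j x =>
      (φc (σ i) : C → ℂ) x * conj ((φc (σ j) : C → ℂ) x)
    have hΦ : ∀ i j, Cfsg.IsCharacter C (Φ i j) := fun i j =>
      CharInduce.IsChar.mul (CharBasic.IsIrr.isCharacter (φc (σ i)).2)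
        (CharInduce.IsChar.conj (CharBasic.IsIrr.isCharacter (φc (σ j)).2))
    choose m hm using fun i j => CharBasic.classInner_isChar_nat (hΦ i j) (hΦ i j)
    refine ⟨m, fun i j => ?_, fun hd1 i => ?_, fun i j => ?_⟩
    · refine Nat.one_le_iff_ne_zero.2 fun h => ?_
      have h1 := hm i j
      rw [h, Nat.cast_zero, CharBasic.classInner_self_eq_zero] at h1
      have h2 := congrFun h1 1
      simp [Φ, hdc, hdC] at h2
    · by_contra hlt
      have h1 := hm i i
      have hm0 : m i i ≠ 0 := fun h => by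
        rw [h, Nat.cast_zero, CharBasic.classInner_self_eq_zero] at h1
        have h2 := congrFun h1 1
        simp [Φ, hdc, hdC] at h2
      rw [show m i i = 1 by omega, Nat.cast_one] at h1
      have hirr := CharInduce.isIrr_of_norm_one (hΦ i i) h1
      have hΦ1 : Cfsg.classInner (Φ i i) (fun _ => 1) = 1 := by
        have h3 := CharBasic.classInner_irr_self (φc (σ i)).2
        rw [CharBasic.classInner_def] at h3 ⊢
        simpa [Φ] using h3
      have heq : Φ i i = fun _ => 1 := by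
        by_contra hne
        rw [CharBasic.classInner_irr_of_ne hirr CharBasic.isIrrCharacter_one hne] at hΦ1
        exact zero_ne_one hΦ1
      have h4 := congrFun heq 1
      simp only [Φ, hdc, Complex.conj_natCast] at h4
      have h5 : d * d = 1 := by exact_mod_cast h4
      have := Nat.eq_one_of_mul_eq_one_left h5
      omega
    · have h := hm i j
      rw [CharBasic.classInner_def, inv_mul_eq_iff_eq_mul₀ hCcard,
        hsumA (fun x => Φ i j x * conj (Φ i j x)) (fun x y => ?_), hAC, mul_assoc] at h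
      swap
      · simp only [Φ, map_mul, Complex.conj_conj]
        linear_combination (((φc (σ j) : C → ℂ) (x * inc y)) *
          conj ((φc (σ j) : C → ℂ) (x * inc y))) * hnormc (σ i) x y +
          ((φc (σ i) : C → ℂ) x * conj ((φc (σ i) : C → ℂ) x)) * hnormc (σ j) x y
      refine Eq.trans ?_ (mul_left_cancel₀ hPcard h)
      refine Finset.sum_congr rfl fun a ha => ?_
      rw [dif_pos ((mem_aset P).1 ha).1, hf i a ((mem_aset P).1 ha).1,
        hf j a ((mem_aset P).1 ha).1]
      simp only [Φ, map_mul, Complex.conj_conj]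
      ring
  · intro hd1 i j
    by_cases heq : ∀ a ∈ aset P, f i a = f j a
    · exact Or.inl heq
    right
    push Not at heq
    obtain ⟨a₀, ha₀, hne⟩ := heq
    have hone : ∀ q, ∃ ν : C →* ℂˣ, ∀ x, (φc q : C → ℂ) x = (ν x : ℂ) := fun q =>
      CharInduce.IsChar.exists_hom_of_degree_one (CharBasic.IsIrr.isCharacter (φc q).2)
        (by rw [hdc, hd1, Nat.cast_one])
    obtain ⟨νi, hνi⟩ := hone (σ i)
    obtain ⟨νj, hνj⟩ := hone (σ j)
    -- a power kills `P` and fixes the `p`-regular part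
    obtain ⟨k, hk⟩ := IsPGroup.iff_card.1 P.isPGroup'
    have hcop : Nat.Coprime (p ^ k) (aset P).card → True := fun _ => trivial
    obtain ⟨M', hM', hMcop⟩ : ∃ M' : ℕ, (∀ a ∈ aset P, orderOf a ∣ M') ∧ Nat.Coprime (p ^ k) M' := by
      refine ⟨∏ a ∈ aset P, orderOf a, fun a ha => Finset.dvd_prod_of_mem _ ha, ?_⟩
      exact Nat.Coprime.prod_right fun a ha => ((Fact.out : p.Prime).coprime_iff_not_dvd.2
        ((mem_aset P).1 ha).2).pow_left k
    obtain ⟨s, hs1, hs2⟩ := Nat.chineseRemainder hMcop 0 1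
    let μ : C →* ℂˣ := (νi / νj) ^ s
    have hμP : ∀ y, μ (inc y) = 1 := fun y => by
      show (νi (inc y) / νj (inc y)) ^ s = 1
      have h1 : inc y ^ s = 1 := Subtype.ext (by
        show (y : H) ^ s = 1
        rw [← orderOf_dvd_iff_pow_eq_one]
        refine ((Subgroup.orderOf_dvd_natCard _ y.2).trans ?_)
        rw [hk]
        exact (Nat.modEq_zero_iff_dvd).1 hs1)
      rw [div_pow, ← map_pow, ← map_pow, h1, map_one, map_one, div_one]
    have hμA : ∀ a (ha : a ∈ aset P), ((μ ⟨a, ((mem_aset P).1 ha).1⟩ : ℂˣ) : ℂ) =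
        f i a * conj (f j a) := fun a ha => by
      have hx : (⟨a, ((mem_aset P).1 ha).1⟩ : C) ^ s = ⟨a, ((mem_aset P).1 ha).1⟩ := by
        conv_rhs => rw [← pow_one (⟨a, ((mem_aset P).1 ha).1⟩ : C)]
        rw [pow_eq_pow_iff_modEq, Subgroup.orderOf_mk]
        exact hs2.of_dvd (hM' a ha)
      show (((νi _ / νj _) ^ s : ℂˣ) : ℂ) = _
      rw [div_pow, ← map_pow, ← map_pow, hx, hf i a ((mem_aset P).1 ha).1,
        hf j a ((mem_aset P).1 ha).1, hνi, hνj, Units.val_div_eq_div_val, div_eq_iff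
        (Units.ne_zero _)]
      have hn : (νj ⟨a, ((mem_aset P).1 ha).1⟩ : ℂ) *
          conj (νj ⟨a, ((mem_aset P).1 ha).1⟩ : ℂ) = 1 := by
        rw [Complex.mul_conj', CharInduce.norm_hom]
        simp
      linear_combination (-(νi ⟨a, ((mem_aset P).1 ha).1⟩ : ℂ)) * hn
    have hsumμ : ∑ x : C, (μ x : ℂ) = 0 := by
      set S := ∑ x : C, (μ x : ℂ)
      have h1 : ((μ ⟨a₀, ((mem_aset P).1 ha₀).1⟩ : ℂˣ) : ℂ) * S = S := by
        rw [Finset.mul_sum]
        exact Fintype.sum_equiv (Equiv.mulLeft _) _ _ fun x => by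
          rw [Equiv.coe_mulLeft, map_mul, Units.val_mul]
      by_contra hS
      apply hne
      have h2 := (mul_eq_right₀ hS).1 h1
      rw [hμA a₀ ha₀] at h2
      have hn : f j a₀ * conj (f j a₀) = 1 := by
        rw [hf j a₀ ((mem_aset P).1 ha₀).1, hνj, Complex.mul_conj', CharInduce.norm_hom]
        simp
      calc f i a₀ = f i a₀ * (f j a₀ * conj (f j a₀)) := by rw [hn, mul_one]
        _ = f j a₀ := by linear_combination (f j a₀) * h2
    rw [hsumA (fun x => (μ x : ℂ)) (fun x y => by rw [map_mul, hμP, mul_one]), mul_eq_zero] at hsumμ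
    refine Eq.trans ?_ (hsumμ.resolve_left hPcard)
    exact Finset.sum_congr rfl fun a ha => by
      rw [dif_pos ((mem_aset P).1 ha).1, hμA a ha]

end Local

end Cfsg.Agent.H84
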