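import Cfsg.Agent.H84.TwoDegreesOrbit
import Cfsg.Agent.S0015
import Cfsg.Agent.S0179
import Mathlib.GroupTheory.GroupAction.CardCommute

/-!
# Groups whose nonlinear character degrees all equal a prime
-/

set_option linter.style.haveILetI false

namespace Cfsg.Agent.H84

open Cfsg.Agent
open scoped commutatorElement

universe u

variable {G : Type u} [Group G] [Finite G]

theorem charDegree_sq_le_index_center (χ : Cfsg.IrrCharacter G) :
  Cfsg.charDegree (χ : G → ℂ) ^ 2 ≤ (Subgroup.center G).index := by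
  classical
  classical
  cases nonempty_fintype G
  haveI := Fintype.ofFinite (Subgroup.center G)
  have h1 := CharBasic.classInner_irr_self χ.2
  rw [CharBasic.classInner_def] at h1
  simp only [Complex.mul_conj] at h1
  have hre : ∑ g : G, Complex.normSq ((χ : G → ℂ) g) = (Nat.card G : ℝ) := by
    have h2 := congrArg ((Nat.card G : ℂ) * ·) h1
    simp only [← mul_assoc, mul_inv_cancel₀ (CharInduce.card_ne_zero_complex G), one_mul,
      mul_one] at h2
    exact_mod_cast h2
  have h3 : ∑ g ∈ Finset.univ.filter (fun g : G => g ∈ Subgroup.center G),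
      Complex.normSq ((χ : G → ℂ) g) ≤ (Nat.card G : ℝ) := by
    rw [← hre]
    exact Finset.sum_le_univ_sum_of_nonneg fun g => Complex.normSq_nonneg _
  rw [Finset.sum_congr rfl (fun g hg => normSq_of_mem_center χ (Finset.mem_filter.1 hg).2),
    Finset.sum_const, nsmul_eq_mul, ← Fintype.card_subtype, ← Nat.card_eq_fintype_card] at h3
  rw [← (Subgroup.center G).card_mul_index, Nat.cast_mul] at h3
  have h4 : (0 : ℝ) < (Nat.card (Subgroup.center G) : ℝ) := by
    exact_mod_cast Nat.card_pos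
  exact_mod_cast le_of_mul_le_mul_left h3 h4

/-- The data attached to a maximal abelian normal subgroup of a nilpotent group. -/
structure PrimeData (p : ℕ) (A : Subgroup G) : Prop where
  center_le : Subgroup.center G ≤ A
  relIndex_eq : (Subgroup.center G).relIndex A = p
  index_eq : ∃ r, 2 ≤ r ∧ A.index = p ^ r
  pow_mem : ∀ g : G, g ^ p ∈ A
  comm_le : commutator G ≤ A
  conj_eq : ∀ (g : G), ∀ a ∈ A, g⁻¹ * a * g * a⁻¹ ∈ Subgroup.center G

variable {p : ℕ}

/-- In a nilpotent group with degrees `1` and `p` and no abelian subgroup of index `p`, the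
centre has index `p` in every maximal abelian normal subgroup. -/
theorem DegreesIn.primeData [Group.IsNilpotent G] (h : DegreesIn G p) (hp : p.Prime)
    (hG : ∃ a b : G, a * b ≠ b * a)
    (hno : ¬ ∃ A : Subgroup G, A.Normal ∧ (∀ a ∈ A, ∀ b ∈ A, a * b = b * a) ∧ A.index = p)
    (A : Subgroup G) [A.Normal] [IsMulCommutative A]
    (hmax : ∀ M : Subgroup G, M.Normal → IsMulCommutative M → A ≤ M → M = A) :
    PrimeData p A := by
  classical
  haveI := Fact.mk hp
  have hC := S0015.result A hmax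
  have hab : ∀ a ∈ A, ∀ b ∈ A, a * b = b * a := fun a ha b hb =>
    congrArg Subtype.val (mul_comm' (⟨a, ha⟩ : A) ⟨b, hb⟩)
  set ρ := dualConj A with hρ
  have hst := h.stab_prime hp A hab
  have hidx : ∀ v, actStab ρ v = ⊤ ∨ (actStab ρ v).index = p := fun v => (hst v).imp_right And.left
  have hco : ∀ v, actStab ρ v ≠ ⊤ → IsCoatom (actStab ρ v) := fun v hv => by
    refine ⟨hv, fun S hS => ?_⟩
    have hd := Subgroup.index_dvd_of_le hS.le
    rw [(hidx v).resolve_left hv, Nat.dvd_prime hp] at hd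
    refine Subgroup.index_eq_one.1 (hd.resolve_right fun h1 => ?_)
    have := Subgroup.index_strictAnti hS
    rw [(hidx v).resolve_left hv] at this
    omega
  have hnorm : ∀ v, (actStab ρ v).Normal := fun v => by
    by_cases hv : actStab ρ v = ⊤
    · rw [hv]; infer_instance
    · exact Subgroup.NormalizerCondition.normal_of_coatom _ Group.normalizerCondition_of_isNilpotent
        (hco v hv)
  have hker : ∀ g : G, (∀ v, g ∈ actStab ρ v) → g ∈ A := by
    intro g hg
    rw [← hC, Subgroup.mem_centralizer_iff]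
    intro x hx
    exact (commute_of_fix_all A hab (MulEquiv.ext fun l => (mem_actStab ρ).1 (hg l)) hx).symm
  have hpow : ∀ g : G, g ^ p ∈ A := fun g => hker _ fun v => by
    rcases hidx v with h1 | h1
    · rw [h1]; exact Subgroup.mem_top _
    · haveI := hnorm v
      exact h1 ▸ Subgroup.pow_index_mem (actStab ρ v) g
  have hcomm : commutator G ≤ A := by
    rw [commutator_def, Subgroup.commutator_le]
    intro a _ b _
    refine hker _ fun v => ?_
    haveI := hnorm v
    rcases hidx v with h1 | h1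
    · rw [h1]; exact Subgroup.mem_top _
    · rw [← QuotientGroup.eq_one_iff, ← QuotientGroup.mk'_apply, map_commutatorElement,
        commutatorElement_eq_one_iff_mul_comm]
      haveI : IsCyclic (G ⧸ actStab ρ v) :=
        isCyclic_of_prime_card (by rw [← Subgroup.index_eq_card, h1])
      exact mul_comm' _ _
  obtain ⟨r, hr⟩ : ∃ r, A.index = p ^ r := by
    have hP : IsPGroup p (G ⧸ A) := fun x => by
      obtain ⟨g, rfl⟩ := QuotientGroup.mk'_surjective A x
      exact ⟨1, by rw [pow_one, ← map_pow]; exact (QuotientGroup.eq_one_iff _).2 (hpow g)⟩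
    obtain ⟨n, hn⟩ := IsPGroup.iff_card.1 hP
    exact ⟨n, by rw [Subgroup.index_eq_card, hn]⟩
  have htop : A ≠ ⊤ := fun e => by
    obtain ⟨a, b, hne⟩ := hG
    exact hne (hab a (e ▸ Subgroup.mem_top a) b (e ▸ Subgroup.mem_top b))
  have hr2 : 2 ≤ r := by
    rcases r with _ | _ | r
    · exact absurd (Subgroup.index_eq_one.1 (by rw [hr, pow_zero])) htop
    · exact absurd ⟨A, inferInstance, hab, by rw [hr, pow_one]⟩ hno
    · omega
  -- two different stabilisers
  obtain ⟨l, hl⟩ : ∃ l, actStab ρ l ≠ ⊤ := by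
    by_contra hc
    push Not at hc
    exact htop (Subgroup.eq_top_iff' _ |>.2 fun g => hker g fun v => hc v ▸ Subgroup.mem_top g)
  obtain ⟨μ, hμ, hne⟩ : ∃ μ, actStab ρ μ ≠ ⊤ ∧ actStab ρ l ≠ actStab ρ μ := by
    by_contra hc
    push Not at hc
    have hle : actStab ρ l ≤ A := fun g hg => hker g fun v => by
      by_cases hv : actStab ρ v = ⊤
      · rw [hv]; exact Subgroup.mem_top g
      · exact hc v hv ▸ hg
    have h2 := Subgroup.index_dvd_of_le hle
    rw [hr, (hidx l).resolve_left hl] at h2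
    have h3 : p ^ r ≤ p := Nat.le_of_dvd hp.pos h2
    have h4 : p ^ 2 ≤ p ^ r := Nat.pow_le_pow_right hp.pos hr2
    have := hp.two_le
    nlinarith
  obtain ⟨c, hc, hcp, hline⟩ := exists_line ρ hp hidx hnorm hl hμ hne
  have hZA : Subgroup.center G ≤ A := hC ▸ Subgroup.center_le_centralizer _
  have hkerc : c.ker.map A.subtype ≤ Subgroup.center G := by
    rintro _ ⟨a, ha, rfl⟩
    rw [Subgroup.mem_center_iff]
    intro g
    have hmem : g⁻¹ * (a : G) * g ∈ A := by
      simpa using (inferInstance : A.Normal).conj_mem a a.2 g⁻¹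
    have heq : (⟨g⁻¹ * (a : G) * g, hmem⟩ : A) = a := eq_of_forall_hom A hab fun φ => by
      obtain ⟨i, hi : c ^ i = _⟩ := hline g φ
      have e := DFunLike.congr_fun hi a
      rw [show (c ^ i) a = c a ^ i from rfl, MonoidHom.mem_ker.1 ha, one_zpow,
        MonoidHom.mul_apply, MonoidHom.inv_apply, eq_comm, mul_inv_eq_one] at e
      rw [← e]
      exact congrArg φ (Subtype.ext (by simp [mul_assoc]))
    have e1 : g⁻¹ * (a : G) * g = a := congrArg Subtype.val heq
    calc g * A.subtype a = g * (g⁻¹ * (a : G) * g) := by rw [e1]; rfl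
      _ = A.subtype a * g := by rw [Subgroup.coe_subtype]; group
  have hfix : ∀ (g : G), ∀ a ∈ A, g⁻¹ * a * g * a⁻¹ ∈ Subgroup.center G := by
    intro g a ha
    have hmem : g⁻¹ * a * g ∈ A := by simpa using (inferInstance : A.Normal).conj_mem a ha g⁻¹
    refine hkerc ⟨⟨g⁻¹ * a * g, hmem⟩ * (⟨a, ha⟩ : A)⁻¹, ?_, rfl⟩
    show _ ∈ c.ker
    rw [MonoidHom.mem_ker, map_mul, map_inv, mul_inv_eq_one]
    exact (dualConj_fix A c g).1 (hc g) ⟨a, ha⟩
  have hrel : (Subgroup.center G).relIndex A = p := by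
    have h1 : (Subgroup.center G).relIndex A ∣ c.ker.index := by
      refine Subgroup.index_dvd_of_le fun a ha => Subgroup.mem_subgroupOf.2 ?_
      exact hkerc ⟨a, ha, rfl⟩
    have h2 : c.ker.index ∣ p := by
      rw [Subgroup.index_ker]
      haveI : Finite c.range := Finite.of_surjective _ c.rangeRestrict_surjective
      haveI : IsCyclic c.range := inferInstance
      obtain ⟨y, hy⟩ := IsCyclic.exists_ofOrder_eq_natCard (α := c.range)
      rw [← hy, orderOf_dvd_iff_pow_eq_one]
      obtain ⟨a, ha⟩ := y.2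
      exact Subtype.ext (by rw [Subgroup.coe_pow, ← ha]; exact DFunLike.congr_fun hcp a)
    refine ((Nat.dvd_prime hp).1 (h1.trans h2)).resolve_left fun h3 => htop ?_
    rw [Subgroup.relIndex_eq_one] at h3
    rw [← hC, Subgroup.eq_top_iff']
    exact fun g => Subgroup.mem_centralizer_iff.2 fun a ha =>
      (Subgroup.mem_center_iff.1 (h3 ha) g).symm
  exact ⟨hZA, hrel, ⟨r, hr2, hr⟩, hpow, hcomm, hfix⟩

/-- If the abelian subgroup has index at least `p³`, the group has class two. -/
theorem DegreesIn.commutator_le_center (h : DegreesIn G p) (hp : p.Prime)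
    {A : Subgroup G} [A.Normal] [IsMulCommutative A] (hD : PrimeData p A)
    (hC : Subgroup.centralizer (A : Set G) = A) (hbig : p ^ 3 ≤ A.index) :
    commutator G ≤ Subgroup.center G := by
  classical
  haveI := Fact.mk hp
  have hab : ∀ a ∈ A, ∀ b ∈ A, a * b = b * a := fun a ha b hb =>
    congrArg Subtype.val (mul_comm' (⟨a, ha⟩ : A) ⟨b, hb⟩)
  set ρ := dualConj A with hρ
  obtain ⟨a₀, ha₀A, ha₀⟩ : ∃ a ∈ A, a ∉ Subgroup.center G := by
    refine SetLike.not_le_iff_exists.1 fun hle => ?_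
    have h1 := hD.relIndex_eq
    rw [Subgroup.relIndex_eq_one.2 hle] at h1
    exact hp.ne_one h1.symm
  have hgen : ∀ S : Subgroup A, (∀ z : A, (z : G) ∈ Subgroup.center G → z ∈ S) →
      (⟨a₀, ha₀A⟩ : A) ∈ S → S = ⊤ := by
    intro S hZ ha
    have hle : (Subgroup.center G).subgroupOf A < S := by
      refine lt_of_le_of_ne (fun z hz => hZ z hz) fun e => ha₀ ?_
      have := e ▸ ha
      exact this
    have hd := Subgroup.index_dvd_of_le hle.le
    rw [show ((Subgroup.center G).subgroupOf A).index = p from hD.relIndex_eq,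
      Nat.dvd_prime hp] at hd
    refine Subgroup.index_eq_one.1 (hd.resolve_right fun h1 => ?_)
    have := Subgroup.index_strictAnti hle
    rw [show ((Subgroup.center G).subgroupOf A).index = p from hD.relIndex_eq] at this
    omega
  -- the commutator map with `a₀`
  let x : G → A := fun g =>
    ⟨g⁻¹ * a₀ * g * a₀⁻¹, hD.center_le (hD.conj_eq g a₀ ha₀A)⟩
  have hxmul : ∀ g g', x (g * g') = x g * x g' := by
    intro g g'
    refine Subtype.ext ?_
    show (g * g')⁻¹ * a₀ * (g * g') * a₀⁻¹ = g⁻¹ * a₀ * g * a₀⁻¹ * (g'⁻¹ * a₀ * g' * a₀⁻¹)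
    have hz := Subgroup.mem_center_iff.1 (hD.conj_eq g a₀ ha₀A) g'⁻¹
    calc (g * g')⁻¹ * a₀ * (g * g') * a₀⁻¹
        = g'⁻¹ * (g⁻¹ * a₀ * g * a₀⁻¹) * (a₀ * g' * a₀⁻¹) := by group
      _ = (g⁻¹ * a₀ * g * a₀⁻¹) * g'⁻¹ * (a₀ * g' * a₀⁻¹) := by rw [hz]
      _ = _ := by group
  let X : G →* A := MonoidHom.mk' x hxmul
  have hXker : X.ker = A := by
    refine le_antisymm (fun g hg => ?_) fun g hg => ?_
    · have e : g⁻¹ * a₀ * g * a₀⁻¹ = 1 := congrArg Subtype.val (MonoidHom.mem_ker.1 hg)
      rw [← hC, Subgroup.mem_centralizer_iff]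
      intro a ha
      have hS := hgen (((Subgroup.centralizer ({g} : Set G))).subgroupOf A)
        (fun z hz => Subgroup.mem_subgroupOf.2 (Subgroup.mem_centralizer_singleton_iff.2
          (Subgroup.mem_center_iff.1 hz g).symm))
        (Subgroup.mem_subgroupOf.2 (Subgroup.mem_centralizer_singleton_iff.2 (by
          rw [mul_inv_eq_one, mul_assoc, inv_mul_eq_iff_eq_mul] at e
          exact e)))
      have := hS.ge (Subgroup.mem_top (⟨a, ha⟩ : A))
      exact Subgroup.mem_centralizer_singleton_iff.1 (Subgroup.mem_subgroupOf.1 this)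
    · refine MonoidHom.mem_ker.2 (Subtype.ext ?_)
      show g⁻¹ * a₀ * g * a₀⁻¹ = 1
      rw [mul_assoc g⁻¹ a₀ g, hab a₀ ha₀A g hg, inv_mul_cancel_left, mul_inv_cancel]
  rw [commutator_def, Subgroup.commutator_le]
  intro u _ v _
  have hcA : ⁅u, v⁆ ∈ A := hD.comm_le
    (Subgroup.commutator_mem_commutator (Subgroup.mem_top u) (Subgroup.mem_top v))
  -- a direction outside the span of `u` and `v`
  let B : Subgroup A := Subgroup.zpowers (X u) ⊔ Subgroup.zpowers (X v)
  obtain ⟨g, hg⟩ : ∃ g, X g ∉ B := by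
    by_contra hc
    push Not at hc
    have h1 : A.index ≤ Nat.card B := by
      have e : X.ker.index = A.index := congrArg Subgroup.index hXker
      rw [← e, Subgroup.index_ker]
      exact Nat.card_le_card_of_injective (fun y => (⟨y.1, by
        obtain ⟨g, hg⟩ := y.2; exact hg ▸ hc g⟩ : B))
        (fun y y' e => Subtype.ext (congrArg (fun b : B => (b : A)) e))
    have h2 : ∀ g : G, Nat.card (Subgroup.zpowers (X g)) ≤ p := fun g => by
      rw [Nat.card_zpowers]
      refine Nat.le_of_dvd hp.pos (orderOf_dvd_of_pow_eq_one ?_)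
      rw [← map_pow, ← MonoidHom.mem_ker, hXker]
      exact hD.pow_mem g
    have h3 : Nat.card B ≤ Nat.card (Subgroup.zpowers (X u)) * Nat.card (Subgroup.zpowers (X v)) := by
      rw [← Nat.card_prod]
      refine Nat.card_le_card_of_surjective (fun y => (⟨(y.1 : A) * (y.2 : A),
        mul_mem (Subgroup.mem_sup_left y.1.2) (Subgroup.mem_sup_right y.2.2)⟩ : B)) ?_
      rintro ⟨b, hb⟩
      letI : CommGroup A := { (inferInstance : Group A) with
        mul_comm := fun a b => mul_comm' a b }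
      obtain ⟨i, hi, j, hj, rfl⟩ := (Subgroup.mem_sup (s := Subgroup.zpowers (X u))
        (t := Subgroup.zpowers (X v))).1 hb
      exact ⟨(⟨i, hi⟩, ⟨j, hj⟩), rfl⟩
    have h4 := Nat.mul_le_mul (h2 u) (h2 v)
    have h5 : p ^ 3 ≤ p * p := by omega
    have := hp.two_le
    nlinarith
  letI : CommGroup A := { (inferInstance : Group A) with
    mul_comm := fun a b => mul_comm' a b }
  obtain ⟨φ, hφ⟩ : ∃ φ : A →* ℂˣ, B ≤ φ.ker ∧ φ (X g) ≠ 1 := by
    by_contra hc
    push Not at hc
    exact hg (mem_of_forall_hom A hab B hc)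
  have hext : ∀ ψ : A →* ℂˣ, B ≤ ψ.ker → ψ (X g) ≠ 1 → ψ ⟨⁅u, v⁆, hcA⟩ = 1 := by
    intro ψ hB hg'
    have hgmove : g ∉ actStab ρ ψ := fun hmem => hg' (by
      have := (dualConj_fix A ψ g).1 ((mem_actStab ρ).1 hmem) ⟨a₀, ha₀A⟩
      rw [← mul_inv_eq_one, ← map_inv, ← map_mul] at this
      exact this)
    have hin : ∀ w : G, X w ∈ B → w ∈ actStab ρ ψ := by
      intro w hw
      rw [mem_actStab, dualConj_fix]
      let cw : A →* A := (MulAut.conjNormal w⁻¹ : MulAut A).toMonoidHom
      have hcw : ∀ a : A, ((cw a : A) : G) = w⁻¹ * a * w := fun a => by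
        simp [cw]
      have hS := hgen ((ψ.comp cw).eqLocus ψ) (fun z hz => congrArg ψ (Subtype.ext (by
        rw [hcw, mul_assoc, ← Subgroup.mem_center_iff.1 hz w, inv_mul_cancel_left]))) (by
        show ψ (cw _) = ψ _
        rw [← mul_inv_eq_one, ← map_inv, ← map_mul]
        have e : cw ⟨a₀, ha₀A⟩ * (⟨a₀, ha₀A⟩ : A)⁻¹ = X w :=
          Subtype.ext (by rw [Subgroup.coe_mul, hcw]; rfl)
        rw [e]
        exact hB hw)
      intro a
      have := hS.ge (Subgroup.mem_top a)
      exact Eq.trans (congrArg ψ (Subtype.ext (hcw a).symm)) this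
    obtain ⟨-, μ, hμ⟩ := (h.stab_prime hp A hab ψ).resolve_left
      (fun e => hgmove (e ▸ Subgroup.mem_top g))
    have hu := hin u (Subgroup.mem_sup_left (Subgroup.mem_zpowers _))
    have hv := hin v (Subgroup.mem_sup_right (Subgroup.mem_zpowers _))
    rw [← hμ ⟨⁅u, v⁆, hcA⟩,
      show (⟨⁅u, v⁆, le_actStab A hab ψ hcA⟩ : actStab ρ ψ) = ⁅(⟨u, hu⟩ : actStab ρ ψ), ⟨v, hv⟩⁆
        from rfl, map_commutatorElement, commutatorElement_eq_one_iff_mul_comm]
    exact mul_comm _ _
  refine mem_of_forall_hom A hab ((Subgroup.center G).subgroupOf A) (x := ⟨⁅u, v⁆, hcA⟩)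
    fun η hη => ?_
  have hηX : ∀ w, η (X w) = 1 := fun w =>
    hη (Subgroup.mem_subgroupOf.2 (hD.conj_eq w a₀ ha₀A))
  have hX2 : B ≤ η.ker := sup_le (Subgroup.zpowers_le.2 (hηX u)) (Subgroup.zpowers_le.2 (hηX v))
  have h1 := hext φ hφ.1 hφ.2
  have h2 := hext (φ * η) (fun b hb => by
    rw [MonoidHom.mem_ker, MonoidHom.mul_apply, MonoidHom.mem_ker.1 (hφ.1 hb),
      MonoidHom.mem_ker.1 (hX2 hb), one_mul]) (by
    rw [MonoidHom.mul_apply, hηX g, mul_one]; exact hφ.2)
  rwa [MonoidHom.mul_apply, h1, one_mul] at h2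

end Cfsg.Agent.H84
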