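import Cfsg.Agent.H80.GlaubermanAmbient
import Cfsg.Agent.H75.Cover
import Cfsg.Agent.Coprime.Action
import Cfsg.Agent.CharBasic.Complete

/-!
# A fixed character criterion for centralizing, through the Glauberman correspondence
-/

set_option autoImplicit false
set_option linter.unusedSectionVars false

namespace Cfsg.Agent.H84.BlockSep

open Cfsg Subgroup
open Cfsg.Agent.H80

variable {Γ : Type*} [Group Γ] [Finite Γ]

theorem coprime_card_of_not_dvd {p : ℕ} [Fact p.Prime] {A K : Subgroup Γ} (hA : IsPGroup p A)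
    (hK : ¬ p ∣ Nat.card K) : (Nat.card A).Coprime (Nat.card K) := by
  obtain ⟨n, hn⟩ := hA.exists_card_eq
  rw [hn]
  exact ((Fact.out : p.Prime).coprime_iff_not_dvd.2 hK).pow_left n

theorem not_dvd_card_of_le {p : ℕ} {H K : Subgroup Γ} (h : H ≤ K) (hK : ¬ p ∣ Nat.card K) :
    ¬ p ∣ Nat.card H := fun hd => hK (hd.trans (Subgroup.card_dvd_of_le h))

/-- Conjugation by a normalizing element. -/
def conjEquiv (H : Subgroup Γ) (s : Γ) (hs : s ∈ normalizer (H : Set Γ)) : H ≃* H where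
  toFun x := ⟨s * x * s⁻¹, (mem_normalizer_iff.1 hs x).1 x.2⟩
  invFun x := ⟨s⁻¹ * x * s, (mem_normalizer_iff''.1 hs x).1 x.2⟩
  left_inv x := Subtype.ext (by simp [mul_assoc])
  right_inv x := Subtype.ext (by simp [mul_assoc])
  map_mul' x y := Subtype.ext (by simp [mul_assoc])

@[simp] theorem conjEquiv_coe (H : Subgroup Γ) (s : Γ) (hs : s ∈ normalizer (H : Set Γ)) (x : H) :
    (conjEquiv H s hs x : Γ) = s * x * s⁻¹ := rfl

theorem aInv_iff_conjEquiv {H S : Subgroup Γ} (hS : S ≤ normalizer (H : Set Γ)) (χ : H → ℂ) :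
    AInv S χ ↔ ∀ (s : Γ) (hs : s ∈ S), (fun x => χ (conjEquiv H s (hS hs) x)) = χ := by
  constructor
  · exact fun h s hs => funext fun x => h s hs x _ rfl
  · intro h s hs g g' e
    have hg : g' = conjEquiv H s (hS hs) g := Subtype.ext e
    rw [hg]
    exact congrFun (h s hs) g

theorem le_normalizer_centralizer {P Q : Subgroup Γ} (h : P ≤ normalizer (Q : Set Γ)) :
    P ≤ normalizer ((centralizer (Q : Set Γ) : Subgroup Γ) : Set Γ) := by
  rw [le_normalizer_iff]
  intro a ha c hc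
  rw [mem_centralizer_iff] at hc ⊢
  intro x hx
  have hy : a⁻¹ * x * a ∈ Q := (mem_normalizer_iff''.1 (h ha) x).1 hx
  have := hc _ hy
  calc x * (a * c * a⁻¹) = a * ((a⁻¹ * x * a) * c) * a⁻¹ := by group
    _ = a * (c * (a⁻¹ * x * a)) * a⁻¹ := by rw [this]
    _ = a * c * a⁻¹ * x := by group

/-- Fusion in the fixed points of a coprime action. -/
theorem exists_fixed_conj {p : ℕ} [Fact p.Prime] {A K : Subgroup Γ}
    (hAK : A ≤ normalizer (K : Set Γ)) (hA : IsPGroup p A) (hK : ¬ p ∣ Nat.card K) {x y k : Γ}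
    (hk : k ∈ K) (hx : x ∈ centralizer (A : Set Γ)) (hy : y ∈ centralizer (A : Set Γ))
    (h : k * x * k⁻¹ = y) :
    ∃ c ∈ K ⊓ centralizer (A : Set Γ), c * x * c⁻¹ = y := by
  have hNA : A ≤ normalizer ((K ⊓ centralizer {x} : Subgroup Γ) : Set Γ) := by
    rw [le_normalizer_iff]
    intro a ha n hn
    refine ⟨Coprime.conj_mem (hAK ha) hn.1, ?_⟩
    refine mem_centralizer_singleton_iff.2 ?_
    have h1 := mem_centralizer_singleton_iff.1 hn.2
    have h2 : a * x = x * a := mem_centralizer_iff.1 hx a ha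
    calc a * n * a⁻¹ * x = a * (n * x) * a⁻¹ := by
          have h3 : a⁻¹ * x = x * a⁻¹ := by
            rw [eq_mul_inv_iff_mul_eq, mul_assoc, ← h2, inv_mul_cancel_left]
          simp only [mul_assoc, h3]
      _ = a * (x * n) * a⁻¹ := by rw [h1]
      _ = x * (a * n * a⁻¹) := by rw [← mul_assoc, h2]; group
  obtain ⟨c, hc, hcn⟩ := Coprime.exists_centralizer_mem_coset hAK (coprime_card_of_not_dvd hA hK)
    (Or.inl (by haveI := hA.isNilpotent; infer_instance)) inf_le_left hNA hk fun a ha => by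
      refine ⟨K.mul_mem (K.inv_mem hk) (Coprime.conj_mem (hAK ha) hk), ?_⟩
      refine mem_centralizer_singleton_iff.2 ?_
      have h2 : a * x * a⁻¹ = x := by rw [mem_centralizer_iff.1 hx a ha, mul_inv_cancel_right]
      have h4 : a * y * a⁻¹ = y := by rw [mem_centralizer_iff.1 hy a ha, mul_inv_cancel_right]
      have h5 : a * k * a⁻¹ * x * (a * k * a⁻¹)⁻¹ = k * x * k⁻¹ := by
        calc a * k * a⁻¹ * x * (a * k * a⁻¹)⁻¹
            = a * (k * (a⁻¹ * x * a) * k⁻¹) * a⁻¹ := by group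
          _ = _ := by
            have h6 : a⁻¹ * x * a = x := by
              calc a⁻¹ * x * a = a⁻¹ * (x * a) := by group
                _ = a⁻¹ * (a * x) := by rw [← mem_centralizer_iff.1 hx a ha]
                _ = x := inv_mul_cancel_left a x
            rw [h6, h, h4]
      calc k⁻¹ * (a * k * a⁻¹) * x
          = k⁻¹ * (a * k * a⁻¹ * x * (a * k * a⁻¹)⁻¹) * (a * k * a⁻¹) := by group
        _ = x * (k⁻¹ * (a * k * a⁻¹)) := by rw [h5]; group
  refine ⟨c, hc, ?_⟩
  have h1 := mem_centralizer_singleton_iff.1 hcn.2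
  calc c * x * c⁻¹ = k * ((k⁻¹ * c) * x) * c⁻¹ := by group
    _ = k * (x * (k⁻¹ * c)) * c⁻¹ := by rw [h1]
    _ = k * x * k⁻¹ := by group
    _ = y := h

/-- If every `P`-fixed character of `M` is `Q`-fixed, the `P`-fixed points of `M` are fixed
by `Q`. -/
theorem centralizer_le_of_fixed {p q : ℕ} [Fact p.Prime] [Fact q.Prime] {M P Q : Subgroup Γ}
    (hPM : P ≤ normalizer (M : Set Γ)) (hQM : Q ≤ normalizer (M : Set Γ))
    (hPQ : P ≤ normalizer (Q : Set Γ)) (hP : IsPGroup p P) (hQ : IsPGroup q Q)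
    (hpM : ¬ p ∣ Nat.card M) (hqM : ¬ q ∣ Nat.card M)
    (hfix : ∀ θ : IrrCharacter M, AInv P (θ : M → ℂ) → AInv Q (θ : M → ℂ)) :
    M ⊓ centralizer (P : Set Γ) ≤ centralizer (Q : Set Γ) := by
  classical
  set C := M ⊓ centralizer (P : Set Γ) with hC
  set CQ := M ⊓ centralizer (Q : Set Γ) with hCQ
  set C' := CQ ⊓ centralizer (P : Set Γ) with hC'
  haveI : Fintype M := Fintype.ofFinite _
  haveI : Fintype C := Fintype.ofFinite _
  haveI : Fintype CQ := Fintype.ofFinite _
  haveI : Fintype C' := Fintype.ofFinite _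
  have hPCQ : P ≤ normalizer (CQ : Set Γ) :=
    (le_inf hPM (le_normalizer_centralizer hPQ)).trans inf_normalizer_le_normalizer_inf
  have hP1 : Setting p M P C := ⟨fun s hs g hg => (mem_normalizer_iff.1 (hPM hs) g).1 hg, hP, hpM,
    fun g => by rw [hC, mem_inf, mem_centralizer_iff]; rfl⟩
  have hQ1 : Setting q M Q CQ := ⟨fun s hs g hg => (mem_normalizer_iff.1 (hQM hs) g).1 hg, hQ, hqM,
    fun g => by rw [hCQ, mem_inf, mem_centralizer_iff]; rfl⟩
  have hP2 : Setting p CQ P C' := ⟨fun s hs g hg => (mem_normalizer_iff.1 (hPCQ hs) g).1 hg, hP,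
    not_dvd_card_of_le inf_le_left hpM,
    fun g => by rw [hC', mem_inf, mem_centralizer_iff]; rfl⟩
  -- the correspondence commutes with the action of `P`
  let F : {χ : IrrCharacter M // AInv P (χ : M → ℂ)} → {β : IrrCharacter CQ // AInv P (β : CQ → ℂ)} :=
    fun χ => ⟨glauberman hQ1 ⟨χ.1, hfix _ χ.2⟩, by
      rw [aInv_iff_conjEquiv hPCQ]
      intro s hs
      set β := glauberman hQ1 ⟨χ.1, hfix _ χ.2⟩ with hβ
      obtain ⟨m, hm, hqm⟩ := glauberman_corr hQ1 ⟨χ.1, hfix _ χ.2⟩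
      have h2 : Corr q hQ1.hCG χ.1 (irrEquiv (conjEquiv CQ s (hPCQ hs)) β) := by
        refine ⟨m, ?_, hqm⟩
        rw [← hm, ← H80.classInner_comp_mulEquiv (conjEquiv CQ s (hPCQ hs))
          (resFun hQ1.hCG (χ.1 : M → ℂ)) (β : CQ → ℂ)]
        congr 1
        funext c
        exact (χ.2 s hs ⟨c, hQ1.hCG c.2⟩ _ rfl).symm
      exact congrArg Subtype.val (corr_unique hQ1 (hfix _ χ.2) h2 ⟨m, hm, hqm⟩)⟩
  have hF : Function.Bijective F := by
    refine ⟨fun χ χ' e => ?_, fun β => ?_⟩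
    · have e1 : glauberman hQ1 ⟨χ.1, hfix _ χ.2⟩ = glauberman hQ1 ⟨χ'.1, hfix _ χ'.2⟩ :=
        congrArg Subtype.val e
      have e2 := congrArg Subtype.val ((glauberman hQ1).injective e1)
      exact Subtype.ext e2
    obtain ⟨⟨χ, hχ⟩, hχβ⟩ := (glauberman hQ1).surjective β.1
    have hc := glauberman_corr hQ1 ⟨χ, hχ⟩
    rw [hχβ] at hc
    have hχP : AInv P (χ : M → ℂ) := by
      rw [aInv_iff_conjEquiv hPM]
      intro s hs
      have h1 : AInv Q ((irrEquiv (conjEquiv M s (hPM hs)) χ : IrrCharacter M) : M → ℂ) := by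
        intro t ht g g' e
        refine hχ (s * t * s⁻¹) ((mem_normalizer_iff.1 (hPQ hs) t).1 ht) _ _ ?_
        simp [e, mul_assoc]
      obtain ⟨m, hm, hqm⟩ := hc
      have h2 : Corr q hQ1.hCG (irrEquiv (conjEquiv M s (hPM hs)) χ) β.1 := by
        refine ⟨m, ?_, hqm⟩
        rw [← hm, ← H80.classInner_comp_mulEquiv (conjEquiv CQ s (hPCQ hs))
          (resFun hQ1.hCG (χ : M → ℂ)) (β.1 : CQ → ℂ)]
        congr 1
        funext c
        exact (β.2 s hs c _ rfl).symm
      exact congrArg Subtype.val (corr_injective hQ1 h1 hχ h2 ⟨m, hm, hqm⟩)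
    exact ⟨⟨χ, hχP⟩, Subtype.ext hχβ⟩
  have hcardI : Nat.card (IrrCharacter C) = Nat.card (IrrCharacter C') :=
    Nat.card_congr (((glauberman hP1).symm.trans (Equiv.ofBijective F hF)).trans (glauberman hP2))
  rw [CharBasic.card_irrCharacter, CharBasic.card_irrCharacter] at hcardI
  -- fusion of `C'` in `C`
  have hle : C' ≤ C := le_inf (inf_le_left.trans inf_le_left) inf_le_right
  let f := ConjClasses.map (Subgroup.inclusion hle)
  have hinj : Function.Injective f := by
    intro a b e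
    induction a using Quotient.inductionOn with | _ x => ?_
    induction b using Quotient.inductionOn with | _ y => ?_
    change ConjClasses.mk (Subgroup.inclusion hle x) = ConjClasses.mk (Subgroup.inclusion hle y) at e
    obtain ⟨c, hc⟩ := isConj_iff.1 (ConjClasses.mk_eq_mk_iff_isConj.1 e)
    have hc' : (c : Γ) * x * (c : Γ)⁻¹ = y := congrArg Subtype.val hc
    obtain ⟨d, hd, hd'⟩ := exists_fixed_conj hQM hQ hqM c.2.1 x.2.1.2 y.2.1.2 hc'
    obtain ⟨d', hd2, hd2'⟩ := exists_fixed_conj hPCQ hP (not_dvd_card_of_le inf_le_left hpM) hd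
      x.2.2 y.2.2 hd'
    exact ConjClasses.mk_eq_mk_iff_isConj.2 (isConj_iff.2 ⟨⟨d', hd2⟩, Subtype.ext hd2'⟩)
  haveI : Finite (ConjClasses C') := Finite.of_surjective _ ConjClasses.mk_surjective
  have hsurj : Function.Surjective f := by
    haveI : Finite (ConjClasses C) := Finite.of_surjective _ ConjClasses.mk_surjective
    haveI : Fintype (ConjClasses C) := Fintype.ofFinite _
    haveI : Fintype (ConjClasses C') := Fintype.ofFinite _
    rw [Nat.card_eq_fintype_card, Nat.card_eq_fintype_card] at hcardI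
    exact ((Fintype.bijective_iff_injective_and_card f).2 ⟨hinj, hcardI.symm⟩).2
  have htop := H75.eq_top_of_conj_cover (C'.subgroupOf C) fun g => by
    obtain ⟨a, ha⟩ := hsurj (ConjClasses.mk g)
    induction a using Quotient.inductionOn with | _ x => ?_
    change ConjClasses.mk (Subgroup.inclusion hle x) = ConjClasses.mk g at ha
    obtain ⟨c, hc⟩ := isConj_iff.1 (ConjClasses.mk_eq_mk_iff_isConj.1 ha.symm)
    exact ⟨c, by rw [hc, mem_subgroupOf]; exact x.2⟩
  exact (subgroupOf_eq_top.1 htop).trans (inf_le_left.trans inf_le_right)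

end Cfsg.Agent.H84.BlockSep
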