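import Cfsg.Agent.H84.BlockSepOver
import Cfsg.Agent.H86.IrrOps
import Cfsg.Agent.Cores.PSolvable
import Cfsg.Agent.Cores.PCore

/-!
# Uniqueness of an invariant Sylow subgroup when the fixed characters have `q'`-degree
-/

set_option autoImplicit false
set_option linter.unusedSectionVars false

namespace Cfsg.Agent.H84.BlockSep

open Cfsg Subgroup
open Cfsg.Agent.H80 Cfsg.Agent.CharBasic Cfsg.Agent.BlockBasic

universe u

/-- `Q` is a Sylow `q`-subgroup of `L`, inside the ambient group. -/
def IsSyl {Γ : Type*} [Group Γ] (q : ℕ) (L Q : Subgroup Γ) : Prop :=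
  Q ≤ L ∧ IsPGroup q Q ∧ ¬ q ∣ Q.relIndex L

section Basic

variable {Γ : Type*} [Group Γ] [Finite Γ] {q : ℕ} [Fact q.Prime] {L Q : Subgroup Γ}

theorem IsSyl.card_eq (h : IsSyl q L Q) : Nat.card Q = q ^ (Nat.card L).factorization q := by
  obtain ⟨n, hn⟩ := h.2.1.exists_card_eq
  have hmul : Nat.card Q * Q.relIndex L = Nat.card L := by
    rw [← Subgroup.relIndex_bot_left Q, ← Subgroup.relIndex_bot_left L]
    exact Subgroup.relIndex_mul_relIndex ⊥ Q L bot_le h.1
  have hr : Q.relIndex L ≠ 0 := by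
    intro h0
    rw [h0, mul_zero] at hmul
    exact Nat.card_pos.ne' hmul.symm
  rw [← hmul, hn, Nat.factorization_mul (pow_ne_zero n (Fact.out : q.Prime).ne_zero) hr,
    Finsupp.add_apply, Nat.Prime.factorization_pow (Fact.out : q.Prime),
    Nat.factorization_eq_zero_of_not_dvd h.2.2, Finsupp.single_eq_same, add_zero]

/-- A `q`-group inside `L` containing a Sylow subgroup equals it. -/
theorem IsSyl.eq_of_le (h : IsSyl q L Q) {R : Subgroup Γ} (hQR : Q ≤ R) (hRL : R ≤ L)
    (hR : IsPGroup q R) : Q = R := by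
  obtain ⟨n, hn⟩ := hR.exists_card_eq
  refine le_antisymm hQR (Subgroup.relIndex_eq_one.1 ?_)
  have hd : Q.relIndex R ∣ q ^ n := by
    rw [← hn, Subgroup.relIndex]
    exact Subgroup.index_dvd_card _
  obtain ⟨k, -, hk⟩ := (Nat.dvd_prime_pow (Fact.out : q.Prime)).1 hd
  rcases k with _ | k
  · simpa using hk
  · exfalso
    refine h.2.2 ?_
    rw [← Subgroup.relIndex_mul_relIndex Q R L hQR hRL, hk]
    exact Dvd.dvd.mul_right (dvd_pow_self q k.succ_ne_zero) _

end Basic

/-- The elements whose conjugation fixes a function on a normal subgroup. -/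
def fixer {Γ : Type*} [Group Γ] (M : Subgroup Γ) [hM : M.Normal] (θ : M → ℂ) : Subgroup Γ where
  carrier := {x | ∀ g g' : M, (g' : Γ) = x * g * x⁻¹ → θ g' = θ g}
  one_mem' g g' e := congrArg θ (Subtype.ext (by simpa using e))
  mul_mem' {a b} ha hb g g' e := by
    rw [ha ⟨b * g * b⁻¹, hM.conj_mem _ g.2 b⟩ g' (by simp [e, mul_assoc]), hb g _ rfl]
  inv_mem' {a} ha g g' e := (ha g' g (by simp [e, mul_assoc])).symm

theorem aInv_iff_le_fixer {Γ : Type*} [Group Γ] {M : Subgroup Γ} [M.Normal] {θ : M → ℂ}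
    {S : Subgroup Γ} : AInv S θ ↔ S ≤ fixer M θ := Iff.rfl

theorem le_fixer_self {Γ : Type*} [Group Γ] {M : Subgroup Γ} [M.Normal] {θ : M → ℂ}
    (h : IsClassFunction M θ) : M ≤ fixer M θ := by
  intro x hx g g' e
  have hg : g' = ⟨x, hx⟩ * g * ⟨x, hx⟩⁻¹ := Subtype.ext e
  rw [hg]
  exact h g ⟨x, hx⟩

/-- Two invariant Sylow subgroups agree if the fixed characters have `q'`-degree. -/
theorem invariant_sylow_unique {p q : ℕ} [Fact p.Prime] [Fact q.Prime] :
    ∀ (n : ℕ) {Γ : Type u} [Group Γ] [Finite Γ] (L P : Subgroup Γ) [L.Normal],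
      Nat.card L ≤ n → IsPGroup p P → ¬ p ∣ Nat.card L → IsPSolvable q L →
      (∀ ψ : IrrCharacter L, AInv P (ψ : L → ℂ) → ¬ q ∣ charDegree (ψ : L → ℂ)) →
      ∀ Q₁ Q₂ : Subgroup Γ, IsSyl q L Q₁ → IsSyl q L Q₂ →
        P ≤ normalizer (Q₁ : Set Γ) → P ≤ normalizer (Q₂ : Set Γ) → Q₁ = Q₂ := by
  intro n
  induction n with
  | zero =>
    intro Γ _ _ L P _ h
    have := Nat.card_pos (α := L)
    omega
  | succ n ih =>
    intro Γ _ _ L P _ hn hP hpL hsol hdeg Q₁ Q₂ h₁ h₂ hP₁ hP₂
    classical
    by_cases hbot : L = ⊥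
    · rw [le_bot_iff.1 (h₁.1.trans hbot.le), le_bot_iff.1 (h₂.1.trans hbot.le)]
    haveI : Nontrivial L := (Subgroup.nontrivial_iff_ne_bot L).2 hbot
    obtain ⟨K, hKc, hKne, hK⟩ : ∃ K : Subgroup L, K.Characteristic ∧ K ≠ ⊥ ∧
        (IsPGroup q K ∨ ¬ q ∣ Nat.card K) := by
      rcases Cores.pCore_ne_bot_or_pPrimeCore_ne_bot hsol with h | h
      · exact ⟨pCore q L, inferInstance, h, Or.inl Cores.pCore_isPGroup⟩
      · exact ⟨pPrimeCore q L, inferInstance, h, Or.inr
          ((Fact.out : q.Prime).coprime_iff_not_dvd.1 (Cores.coprime_card_pPrimeCore).symm)⟩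
    set M := K.map L.subtype with hMdef
    haveI : M.Normal := inferInstance
    have hML : M ≤ L := map_subtype_le K
    have hMcard : Nat.card M = Nat.card K :=
      Subgroup.card_map_of_injective L.subtype_injective
    have hM1 : 1 < Nat.card M := by
      rw [hMcard]
      haveI : Nontrivial K := (Subgroup.nontrivial_iff_ne_bot K).2 hKne
      exact Finite.one_lt_card
    -- pass to the quotient
    let f := QuotientGroup.mk' M
    haveI : (L.map f).Normal := Subgroup.Normal.map inferInstance f (QuotientGroup.mk'_surjective M)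
    let fL : L →* L.map f := f.subgroupMap L
    have hfL : Function.Surjective fL := f.subgroupMap_surjective L
    have hlt : Nat.card (L.map f) ≤ n := by
      have h : Nat.card M * Nat.card (L.map f) = Nat.card L := by
        have h1 := Subgroup.relIndex_map_map f ⊥ L
        rw [Subgroup.map_bot, Subgroup.relIndex_bot_left, bot_sup_eq, QuotientGroup.ker_mk',
          sup_eq_left.2 hML] at h1
        rw [h1, ← Subgroup.relIndex_bot_left M, ← Subgroup.relIndex_bot_left L]
        exact Subgroup.relIndex_mul_relIndex ⊥ M L bot_le hML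
      have := Nat.card_pos (α := L.map f)
      have h' : 2 * Nat.card (L.map f) ≤ n + 1 :=
        (Nat.mul_le_mul_right _ hM1).trans (h.le.trans hn)
      omega
    have hsyl : ∀ Q, IsSyl q L Q → IsSyl q (L.map f) (Q.map f) := by
      rintro Q ⟨hQL, hQ, hQi⟩
      refine ⟨Subgroup.map_mono hQL, hQ.map f, fun h => hQi ?_⟩
      rw [Subgroup.relIndex_map_map, QuotientGroup.ker_mk', sup_eq_left.2 hML] at h
      rw [← Subgroup.relIndex_mul_relIndex Q (Q ⊔ M) L le_sup_left (sup_le hQL hML)]
      exact Dvd.dvd.mul_left h _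
    have hPmap : ∀ Q : Subgroup Γ, P ≤ normalizer (Q : Set Γ) →
        P.map f ≤ normalizer ((Q.map f : Subgroup (Γ ⧸ M)) : Set (Γ ⧸ M)) := fun Q h =>
      (Subgroup.map_mono h).trans (Subgroup.le_normalizer_map f)
    have hdeg' : ∀ ψ : IrrCharacter (L.map f), AInv (P.map f) (ψ : L.map f → ℂ) →
        ¬ q ∣ charDegree (ψ : L.map f → ℂ) := by
      intro ψ hψ hd
      refine hdeg ⟨fun x => (ψ : L.map f → ℂ) (fL x), H86.isIrr_comp_surjective ψ.2 fL hfL⟩ ?_ ?_
      · intro s hs g g' e
        refine hψ (f s) (Subgroup.mem_map_of_mem f hs) (fL g) (fL g') ?_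
        show f (g' : Γ) = f s * f (g : Γ) * (f s)⁻¹
        rw [e, map_mul, map_mul, map_inv]
      · exact (charDegree_congr (congrArg (ψ : L.map f → ℂ) (map_one fL))).symm ▸ hd
    have hsup : ∀ R₁ R₂ : Subgroup Γ, IsSyl q L R₁ → IsSyl q L R₂ →
        P ≤ normalizer (R₁ : Set Γ) → P ≤ normalizer (R₂ : Set Γ) → R₁ ⊔ M = R₂ ⊔ M := by
      intro R₁ R₂ hR₁ hR₂ hPR₁ hPR₂
      have h := ih (L.map f) (P.map f) hlt (hP.map f)
        (fun h => hpL (h.trans (Subgroup.card_map_dvd L f)))
        (Cores.isPSolvable_of_surjective hsol fL hfL) hdeg' _ _ (hsyl _ hR₁) (hsyl _ hR₂)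
        (hPmap _ hPR₁) (hPmap _ hPR₂)
      have h' := congrArg (Subgroup.comap f) h
      simpa [f, Subgroup.comap_map_eq, QuotientGroup.ker_mk'] using h'
    have hMQ : ∀ Q : Subgroup Γ, Q ≤ normalizer (M : Set Γ) := fun Q => by
      rw [Subgroup.normalizer_eq_top (H := M)]; exact le_top
    rcases hK with hK | hK
    · -- `M` is a `q`-group
      have hM : IsPGroup q M := hK.map L.subtype
      have key : ∀ Q, IsSyl q L Q → Q = Q ⊔ M := fun Q hQ =>
        hQ.eq_of_le le_sup_left (sup_le hQ.1 hML) (hQ.2.1.to_sup_of_normal_right hM)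
      rw [key _ h₁, key _ h₂, hsup _ _ h₁ h₂ hP₁ hP₂]
    · -- `M` has order prime to `q`
      rw [← hMcard] at hK
      have hpM : ¬ p ∣ Nat.card M := fun h => hpL (h.trans (Subgroup.card_dvd_of_le hML))
      haveI : Fintype M := Fintype.ofFinite _
      haveI : Fintype L := Fintype.ofFinite _
      haveI : Fintype (M.subgroupOf L) := Fintype.ofFinite _
      have hPL : P ≤ normalizer (L : Set Γ) := by
        rw [Subgroup.normalizer_eq_top (H := L)]; exact le_top
      have hsolP : Group.IsSolvable P := by haveI := hP.isNilpotent; infer_instance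
      have hfix : ∀ θ : IrrCharacter M, AInv P (θ : M → ℂ) → AInv Q₁ (θ : M → ℂ) := by
        intro θ hθ
        obtain ⟨ψ, hψ, hov⟩ := exists_over_fixed hML (hMQ P) hPL hP hpL θ hθ
        set T := L ⊓ fixer M (θ : M → ℂ) with hT
        let e := Subgroup.subgroupOfEquivOfLe hML
        have hover : classInner (fun n : M.subgroupOf L => (ψ : L → ℂ) n)
            (irrEquiv e θ : IrrCharacter (M.subgroupOf L)).1 ≠ 0 := by
          rwa [← H80.classInner_comp_mulEquiv e] at hov
        have hTq : ¬ q ∣ T.relIndex L := by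
          have he : CharInduce.inertia (M.subgroupOf L) (irrEquiv e θ).1 = T.subgroupOf L := by
            ext x
            rw [CharInduce.mem_inertia, Subgroup.mem_subgroupOf]
            constructor
            · intro h
              refine ⟨x.2, fun g g' e' => ?_⟩
              have := congrFun h (e.symm g)
              refine Eq.trans (congrArg (θ : M → ℂ) (Subtype.ext ?_))
                (this.trans (congrArg (θ : M → ℂ) (e.apply_symm_apply g)))
              exact e'
            · intro h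
              funext n
              exact h.2 (e n) _ rfl
          intro h
          refine hdeg ψ hψ (dvd_trans ?_ (dvd_of_over _ ψ (irrEquiv e θ) hover))
          rw [he]
          exact Dvd.dvd.mul_right h _
        have hPT : P ≤ normalizer (T : Set Γ) :=
          (le_inf hPL ((aInv_iff_le_fixer.1 hθ).trans le_normalizer)).trans
            inf_normalizer_le_normalizer_inf
        obtain ⟨R, hR⟩ := Coprime.exists_invariant_sylow hPT
          (coprime_card_of_not_dvd hP (not_dvd_card_of_le inf_le_left hpL)) (Or.inl hsolP) q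
        set R' := (R : Subgroup T).map T.subtype with hR'
        have hRT : R' ≤ T := map_subtype_le _
        have hRsyl : IsSyl q L R' := by
          refine ⟨hRT.trans inf_le_left, R.isPGroup'.map _, ?_⟩
          rw [← Subgroup.relIndex_mul_relIndex R' T L hRT inf_le_left]
          rw [show R'.relIndex T = (R : Subgroup T).index by
            rw [Subgroup.relIndex, hR', Subgroup.subgroupOf,
              Subgroup.comap_map_eq_self_of_injective T.subtype_injective]]
          exact (Fact.out : q.Prime).not_dvd_mul R.not_dvd_index hTq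
        rw [aInv_iff_le_fixer]
        calc Q₁ ≤ Q₁ ⊔ M := le_sup_left
          _ = R' ⊔ M := hsup _ _ h₁ hRsyl hP₁ hR
          _ ≤ fixer M (θ : M → ℂ) := sup_le (hRT.trans inf_le_right)
              (le_fixer_self (IsIrr.isClassFunction θ.2))
      have hcen := centralizer_le_of_fixed (hMQ P) (hMQ Q₁) hP₁ hP h₁.2.1 hpM hK hfix
      have hle : Q₂ ≤ M ⊔ Q₁ := by
        rw [sup_comm, hsup _ _ h₁ h₂ hP₁ hP₂]
        exact le_sup_left
      obtain ⟨m, hm, hm'⟩ := Coprime.exists_conj_of_le_sup (hMQ Q₁) hle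
        (h₂.card_eq.trans h₁.card_eq.symm) (coprime_card_of_not_dvd h₁.2.1 hK)
        (Or.inl (by haveI := h₁.2.1.isNilpotent; infer_instance))
      obtain ⟨c, hc, hc'⟩ := Coprime.exists_centralizer_conj (hMQ P)
        (coprime_card_of_not_dvd hP hpM) (Or.inl hsolP) hP₁ hP₂ hm hm'.symm
      rw [← hc', Coprime.map_conj_eq (centralizer_le_normalizer _ (hcen hc))]

end Cfsg.Agent.H84.BlockSep
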