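import Cfsg.Agent.Coprime.Basic
import Cfsg.Agent.H84.BlockSepSylow
import Mathlib.GroupTheory.FiniteAbelian.Duality
import Mathlib.Analysis.Complex.Polynomial.Basic
import Cfsg.Agent.PGroups.Basic

/-!
# An extendible linear character trivial on the fixed points of a complement
-/

set_option autoImplicit false
set_option linter.unusedSectionVars false

namespace Cfsg.Agent.H84.BlockSep

open Subgroup
open scoped commutatorElement

variable {G : Type*} [Group G] [Finite G]

/-- A nontrivial linear character trivial on a proper subgroup containing the commutators. -/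
theorem exists_linear_of_ne {V K : Subgroup G} (hKV : K ≤ V) (hne : K ≠ V)
    (hc : ⁅V, V⁆ ≤ K) : ∃ θ : V →* ℂˣ, θ ≠ 1 ∧ ∀ v : V, (v : G) ∈ K → θ v = 1 := by
  obtain ⟨g, hgV, hgK⟩ := SetLike.exists_of_lt (lt_of_le_of_ne hKV hne)
  set S := (K.subgroupOf V).map (Abelianization.of (G := V)) with hS
  have hcom : commutator V ≤ K.subgroupOf V := by
    rw [_root_.commutator_def, commutator_le]
    intro a _ b _
    exact hc (commutator_mem_commutator a.2 b.2)
  have hg : (⟨g, hgV⟩ : V) ∉ K.subgroupOf V := hgK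
  have ha : (QuotientGroup.mk' S) (Abelianization.of (⟨g, hgV⟩ : V)) ≠ 1 := by
    intro h
    rw [QuotientGroup.mk'_apply, QuotientGroup.eq_one_iff] at h
    obtain ⟨k, hk, e⟩ := h
    refine hg ?_
    have h2 : k⁻¹ * ⟨g, hgV⟩ ∈ (Abelianization.of (G := V)).ker := by
      rw [MonoidHom.mem_ker, map_mul, map_inv, e, inv_mul_cancel]
    rw [Abelianization.ker_of] at h2
    simpa using (K.subgroupOf V).mul_mem hk (hcom h2)
  obtain ⟨φ, hφ⟩ :=
    CommGroup.exists_apply_ne_one_of_hasEnoughRootsOfUnity (Abelianization V ⧸ S) ℂ ha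
  refine ⟨φ.comp ((QuotientGroup.mk' S).comp Abelianization.of), fun h => hφ ?_, fun v hv => ?_⟩
  · exact DFunLike.congr_fun h (⟨g, hgV⟩ : V)
  · rw [MonoidHom.comp_apply, MonoidHom.comp_apply,
      show QuotientGroup.mk' S (Abelianization.of v) = 1 from
        (QuotientGroup.eq_one_iff _).2 (Subgroup.mem_map_of_mem _ hv), map_one]

/-- The linear character used in the separation theorem. -/
theorem exists_extendible_linear {p : ℕ} [Fact p.Prime] (V Q P : Subgroup G) [V.Normal]
    (hP : IsPGroup p P) (hVP : V ≤ P) (hdisj : V ⊓ Q = ⊥)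
    (hfr : ∀ x ∈ P, ∃ v ∈ V, v⁻¹ * x ∈ normalizer (Q : Set G))
    (hC : V ⊓ centralizer (Q : Set G) ≠ V) :
    ∃ (θ : V →* ℂˣ) (η : P →* ℂˣ), θ ≠ 1 ∧
      (∀ v : V, (v : G) ∈ centralizer (Q : Set G) → θ v = 1) ∧
      (∀ v : V, η ⟨v, hVP v.2⟩ = θ v) ∧
      (∀ x ∈ P, ∀ v v' : V, (v' : G) = x * v * x⁻¹ → θ v' = θ v) := by
  set C := V ⊓ centralizer (Q : Set G) with hCdef
  set K := C ⊔ ⁅V, V⁆ with hKdef
  have hVV : ⁅V, V⁆ ≤ V := commutator_le.2 fun a ha b hb =>
    V.mul_mem (V.mul_mem (V.mul_mem ha hb) (V.inv_mem ha)) (V.inv_mem hb)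
  have hKV : K ≤ V := sup_le inf_le_left hVV
  have hKne : K ≠ V := by
    intro h
    have hV : IsPGroup p V := hP.to_le hVP
    refine hC ?_
    have htop : C.subgroupOf V ⊔ frattini V = ⊤ := by
      refine eq_top_iff.2 ?_
      rw [show (⊤ : Subgroup V) = K.subgroupOf V by rw [h, subgroupOf_self], hKdef,
        subgroupOf_sup inf_le_left hVV]
      refine sup_le_sup le_rfl (le_trans (le_of_eq ?_) (Cfsg.Agent.PGroups.commutator_le_frattini hV))
      apply map_injective V.subtype_injective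
      rw [subgroupOf_map_subtype, inf_eq_left.2 hVV, _root_.commutator_def, map_commutator,
        ← MonoidHom.range_eq_map, range_subtype]
    exact le_antisymm inf_le_left (subgroupOf_eq_top.1 (frattini_nongenerating htop))
  have hVK : V ≤ normalizer (K : Set G) := by
    rw [le_normalizer_iff]
    intro v hv k hk
    have e : v * k * v⁻¹ = ⁅v, k⁆ * k := by simp [commutatorElement_def]
    rw [e]
    exact K.mul_mem (mem_sup_right (commutator_mem_commutator hv (hKV hk))) hk
  have hV1 : ∀ x : G, x ∈ normalizer (V : Set G) := fun x => by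
    rw [normalizer_eq_top]; exact mem_top x
  have hNK : normalizer (Q : Set G) ≤ normalizer (K : Set G) := by
    intro x hx
    exact normalizer_inf_normalizer_le_normalizer_sup C ⁅V, V⁆
      ⟨inf_normalizer_le_normalizer_inf ⟨hV1 x, le_normalizer_centralizer le_rfl hx⟩,
        by rw [normalizer_eq_top]; exact mem_top x⟩
  have hPK : P ≤ normalizer (K : Set G) := by
    intro x hx
    obtain ⟨v, hv, hn⟩ := hfr x hx
    simpa using (normalizer (K : Set G)).mul_mem (hVK hv) (hNK hn)
  set K1 := K ⊔ ⁅V, P⁆ with hK1def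
  have hVPle : ⁅V, P⁆ ≤ V := commutator_le_left V P
  have hK1V : K1 ≤ V := sup_le hKV hVPle
  have hK1ne : K1 ≠ V := by
    intro h
    have hle' : ∀ m, P.lowerCentralSeries m ≤ P := by
      intro m
      induction m with
      | zero => exact le_rfl
      | succ m ih => exact (commutator_mono ih le_rfl).trans (commutator_le.2 fun a ha b hb =>
          P.mul_mem (P.mul_mem (P.mul_mem ha hb) (P.inv_mem ha)) (P.inv_mem hb))
    have step : ∀ n, V ≤ K ⊔ P.lowerCentralSeries n := by
      intro n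
      induction n with
      | zero => exact hVP.trans le_sup_right
      | succ n ih =>
        refine h.ge.trans (sup_le le_sup_left (commutator_le.2 fun v hv x hx => ?_))
        have hle : P.lowerCentralSeries n ≤ normalizer (K : Set G) :=
          (hle' n).trans hPK
        obtain ⟨k, hk, a, ha, rfl⟩ := (Coprime.mem_sup_iff hle).1 (ih hv)
        rw [commutatorElement_mul_left_eq_conj_mul]
        refine Subgroup.mul_mem _ (Subgroup.mul_mem _ (Subgroup.mul_mem _ (mem_sup_left hk)
          (mem_sup_right ?_)) (mem_sup_left (K.inv_mem hk))) (mem_sup_left ?_)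
        · rw [Subgroup.lowerCentralSeries_succ]
          exact commutator_mem_commutator ha hx
        · rw [commutatorElement_def, show k * x * k⁻¹ * x⁻¹ = k * (x * k⁻¹ * x⁻¹) by group]
          exact K.mul_mem hk ((mem_normalizer_iff.1 (hPK hx) _).1 (K.inv_mem hk))
    obtain ⟨n, hn⟩ := (isNilpotent_iff_lowerCentralSeries P).1 hP.isNilpotent
    exact hKne (le_antisymm hKV ((step n).trans (by rw [hn, sup_bot_eq])))
  obtain ⟨θ, hθ, hθK⟩ := exists_linear_of_ne hK1V hK1ne (le_sup_right.trans le_sup_left)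
  have hθC : ∀ v : V, (v : G) ∈ centralizer (Q : Set G) → θ v = 1 := fun v hv =>
    hθK v (mem_sup_left (mem_sup_left ⟨v.2, hv⟩))
  have hinv : ∀ x ∈ P, ∀ v v' : V, (v' : G) = x * v * x⁻¹ → θ v' = θ v := by
    intro x hx v v' e
    have h1 : θ (v' * v⁻¹) = 1 := by
      refine hθK _ (mem_sup_right ?_)
      have : ((v' * v⁻¹ : V) : G) = ⁅(v : G), x⁆⁻¹ := by
        rw [Subgroup.coe_mul, Subgroup.coe_inv, e, commutatorElement_inv, commutatorElement_def]
      rw [this]
      exact Subgroup.inv_mem _ (commutator_mem_commutator v.2 hx)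
    rwa [map_mul, map_inv, mul_inv_eq_one] at h1
  have huniq : ∀ (x : G) (v w : V), (v : G)⁻¹ * x ∈ normalizer (Q : Set G) →
      (w : G)⁻¹ * x ∈ normalizer (Q : Set G) → θ v = θ w := by
    intro x v w hv hw
    have h1 : ((v⁻¹ * w : V) : G) ∈ normalizer (Q : Set G) := by
      have := (normalizer (Q : Set G)).mul_mem hv ((normalizer (Q : Set G)).inv_mem hw)
      simpa [mul_assoc] using this
    have h2 : ((v⁻¹ * w : V) : G) ∈ centralizer (Q : Set G) := by
      rw [mem_centralizer_iff_commutator_eq_one]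
      intro y hy
      rw [← Subgroup.mem_bot, ← hdisj]
      refine ⟨?_, ?_⟩
      · rw [commutatorElement_def,
          show y * ((v⁻¹ * w : V) : G) * y⁻¹ * ((v⁻¹ * w : V) : G)⁻¹ =
            (y * ((v⁻¹ * w : V) : G) * y⁻¹) * ((v⁻¹ * w : V) : G)⁻¹ by group]
        exact V.mul_mem (Subgroup.Normal.conj_mem inferInstance _ (v⁻¹ * w).2 y)
          (V.inv_mem (v⁻¹ * w).2)
      · rw [commutatorElement_def, show y * ((v⁻¹ * w : V) : G) * y⁻¹ * ((v⁻¹ * w : V) : G)⁻¹ =
            y * (((v⁻¹ * w : V) : G) * y⁻¹ * ((v⁻¹ * w : V) : G)⁻¹) by group]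
        exact Q.mul_mem hy ((mem_normalizer_iff.1 h1 _).1 (Q.inv_mem hy))
    have h3 := hθC _ h2
    rwa [map_mul, map_inv, inv_mul_eq_one] at h3
  choose vf hvV hvN using fun x : P => hfr (x : G) x.2
  have hη : ∀ (x : P) (v : V), (v : G)⁻¹ * x ∈ normalizer (Q : Set G) →
      θ ⟨vf x, hvV x⟩ = θ v := fun x v hv => huniq x _ v (hvN x) hv
  refine ⟨θ, MonoidHom.mk' (fun x => θ ⟨vf x, hvV x⟩) fun x y => ?_, hθ, hθC, fun v => ?_, hinv⟩
  · set a : V := ⟨vf x, hvV x⟩
    set b : V := ⟨vf y, hvV y⟩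
    set n := (a : G)⁻¹ * x with hn
    have hnP : n ∈ P := P.mul_mem (P.inv_mem (hVP a.2)) x.2
    set b' : V := ⟨n * b * n⁻¹, Subgroup.Normal.conj_mem inferInstance _ b.2 n⟩ with hb'
    rw [hη (x * y) (a * b') ?_, map_mul, hinv n hnP b b' rfl]
    have e : ((a * b' : V) : G)⁻¹ * ((x * y : P) : G) = n * ((b : G)⁻¹ * y) := by
      simp [hb', hn, mul_assoc]
    rw [e]
    exact (normalizer (Q : Set G)).mul_mem (hvN x) (hvN y)
  · refine hη _ v ?_
    simp only [inv_mul_cancel]
    exact one_mem _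

end Cfsg.Agent.H84.BlockSep
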