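import Cfsg.Agent.H84.BlockSepSylow
import Cfsg.Agent.H84.BlockSepLinear
import Cfsg.Agent.CharInduce.CoprimeExt
import Cfsg.Agent.H82.PrincipalBlock
import Cfsg.Agent.H85.TwoBlocks
import Cfsg.Agent.S4602

/-!
# Separation of two primes by the degrees in principal blocks
-/

set_option autoImplicit false
set_option linter.unusedSectionVars false

namespace Cfsg.Agent.H84.BlockSep

open Cfsg Subgroup
open Cfsg.Agent.H80 Cfsg.Agent.CharBasic Cfsg.Agent.BlockBasic

universe u

theorem inertia_eq_fixer {G : Type*} [Group G] [Fintype G] (N : Subgroup G) [hN : N.Normal]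
    (θ : N → ℂ) : CharInduce.inertia N θ = fixer N θ := by
  ext x
  rw [CharInduce.mem_inertia]
  constructor
  · intro h g g' e
    refine Eq.trans (congrArg θ (Subtype.ext ?_)) (congrFun h g)
    exact e
  · intro h
    funext n
    exact h n _ rfl

theorem detOrder_dvd_card {N : Type*} [Group N] [Finite N] {ϑ : N → ℂ}
    (h : IsIrrCharacter N ϑ) : detOrder ϑ ∣ Nat.card N := by
  obtain ⟨m, ρ, -, hρ⟩ := h
  rw [CharInduce.detOrder_eq ρ hρ]
  exact CharInduce.orderOf_hom_dvd_card _

section Quotient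

variable {G : Type u} [Group G] [Finite G]

/-- The degree hypothesis passes to quotients. -/
theorem degHyp_quotient {p q : ℕ}
    (h : ∀ χ : IrrCharacter G, ¬ p ∣ charDegree (χ : G → ℂ) → ¬ q ∣ charDegree (χ : G → ℂ))
    (N : Subgroup G) [N.Normal] (χ : IrrCharacter (G ⧸ N))
    (hχ : ¬ p ∣ charDegree (χ : G ⧸ N → ℂ)) : ¬ q ∣ charDegree (χ : G ⧸ N → ℂ) := by
  have e := charDegree_congr (χ := fun x : G => (χ : G ⧸ N → ℂ) (QuotientGroup.mk' N x))
    (θ := (χ : G ⧸ N → ℂ)) (congrArg (χ : G ⧸ N → ℂ) (map_one _))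
  have h1 := h ⟨_, H86.isIrr_comp_surjective χ.2 _ (QuotientGroup.mk'_surjective N)⟩
  rw [e] at h1
  exact h1 hχ

end Quotient

/-- Fixed characters of a normal `p'`-subgroup have `q'`-degree. -/
theorem not_dvd_of_fixed {p q : ℕ} [Fact p.Prime] [Fact q.Prime] {X : Type*} [Group X] [Finite X]
    (h : ∀ χ : IrrCharacter X, ¬ p ∣ charDegree (χ : X → ℂ) → ¬ q ∣ charDegree (χ : X → ℂ))
    (L : Subgroup X) [L.Normal] (hpL : ¬ p ∣ Nat.card L) (P : Sylow p X)
    (ψ : IrrCharacter L) (hψ : AInv (P : Subgroup X) (ψ : L → ℂ)) :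
    ¬ q ∣ charDegree (ψ : L → ℂ) := by
  classical
  cases nonempty_fintype X
  haveI : Fintype L := Fintype.ofFinite L
  set H := L ⊔ (P : Subgroup X) with hH
  have hLH : L ≤ H := le_sup_left
  haveI : Fintype (L.subgroupOf H) := Fintype.ofFinite _
  let e := Subgroup.subgroupOfEquivOfLe hLH
  set ϑ := irrEquiv e ψ with hϑ
  have hfix : H ≤ fixer L (ψ : L → ℂ) :=
    sup_le (le_fixer_self (IsIrr.isClassFunction ψ.2)) hψ
  have hpp : IsPGroup p P := P.isPGroup'
  have hidx : (L.subgroupOf H).index ∣ Nat.card (P : Subgroup X) := by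
    rw [← Subgroup.relIndex, hH, Subgroup.relIndex_sup_left, Subgroup.relIndex]
    exact Subgroup.index_dvd_card _
  have hcop : Nat.Coprime (L.subgroupOf H).index
      (detOrder (ϑ : L.subgroupOf H → ℂ) * charDegree (ϑ : L.subgroupOf H → ℂ)) := by
    have hc : (Nat.card L).Coprime (L.subgroupOf H).index := by
      refine Nat.Coprime.coprime_dvd_right hidx ?_
      exact (coprime_card_of_not_dvd hpp hpL).symm
    have hcard : Nat.card (L.subgroupOf H) = Nat.card L := Nat.card_congr e.toEquiv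
    refine Nat.Coprime.mul_right ?_ ?_
    · exact (hc.coprime_dvd_left (hcard ▸ detOrder_dvd_card ϑ.2)).symm
    · exact (hc.coprime_dvd_left (hcard ▸ charDegree_dvd ϑ)).symm
  obtain ⟨η, hη, hres⟩ := CharInduce.exists_extension_of_coprime (N := L.subgroupOf H) ϑ.2
    (fun g n => hfix g.2 (e n) _ rfl) (apply_one_eq_charDegree ϑ) hcop
  have hp1 : ¬ p ∣ H.index * charDegree (ψ : L → ℂ) := by
    refine (Fact.out : p.Prime).not_dvd_mul (fun hd => ?_) fun hd => ?_
    · exact P.not_dvd_index (hd.trans (Subgroup.index_dvd_of_le le_sup_right))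
    · exact hpL (hd.trans (charDegree_dvd ψ))
  obtain ⟨χ, hχ, hover⟩ := exists_over L ψ H hLH ⟨η, hη⟩
    (fun n => (hres ⟨⟨n, hLH n.2⟩, n.2⟩).trans rfl) hp1
  exact fun hd => h χ hχ (hd.trans ((Dvd.intro_left _ rfl).trans (dvd_of_over L χ ψ hover)))

/-- With trivial `p'`-core, `q` does not divide the order. -/
theorem not_dvd_card {p q : ℕ} [Fact p.Prime] [Fact q.Prime] (hpq : p ≠ q) :
    ∀ (n : ℕ) {G : Type u} [Group G] [Finite G], Nat.card G ≤ n → IsPSolvable p G →
      IsPSolvable q G → pPrimeCore p G = ⊥ →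
      (∀ χ : IrrCharacter G, ¬ p ∣ charDegree (χ : G → ℂ) → ¬ q ∣ charDegree (χ : G → ℂ)) →
      ¬ q ∣ Nat.card G := by
  intro n
  induction n with
  | zero =>
    intro G _ _ h
    have := Nat.card_pos (α := G)
    omega
  | succ n ih =>
    intro G _ _ hn hps hqs hcore hdeg hq
    classical
    cases nonempty_fintype G
    have hqp := (Fact.out : q.Prime)
    have hpp := (Fact.out : p.Prime)
    set V := pCore p G with hVdef
    haveI : V.Normal := inferInstance
    have hCV : centralizer (V : Set G) ≤ V := Cores.centralizer_pCore_le hps hcore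
    have hV : IsPGroup p V := Cores.pCore_isPGroup
    have hqV : ¬ q ∣ Nat.card V := by
      obtain ⟨k, hk⟩ := hV.exists_card_eq
      rw [hk]
      exact fun h => hpq ((Nat.prime_dvd_prime_iff_eq hqp hpp).1 (hqp.dvd_of_dvd_pow h)).symm
    have hV1 : 1 < Nat.card V := by
      rw [Finite.one_lt_card_iff_nontrivial, Subgroup.nontrivial_iff_ne_bot]
      intro hb
      rw [hb] at hCV
      have : Nat.card G = 1 := by
        rw [← Subgroup.card_top, show (⊤ : Subgroup G) = ⊥ from le_bot_iff.1 (fun x _ => hCV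
          (mem_centralizer_iff.2 fun y hy => by rw [mem_bot.1 hy]; simp))]
        simp
      rw [this] at hq
      exact hqp.ne_one (Nat.dvd_one.1 hq)
    let f := QuotientGroup.mk' V
    have hf : Function.Surjective f := QuotientGroup.mk'_surjective V
    have hcard : Nat.card G = Nat.card V * Nat.card (G ⧸ V) := by
      rw [Subgroup.card_eq_card_quotient_mul_card_subgroup V, mul_comm]
    cases nonempty_fintype (G ⧸ V)
    have hpsX : IsPSolvable p (G ⧸ V) := Cores.isPSolvable_quotient hps V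
    have hqsX : IsPSolvable q (G ⧸ V) := Cores.isPSolvable_quotient hqs V
    have hdegX := degHyp_quotient hdeg V
    set L := pPrimeCore p (G ⧸ V) with hLdef
    haveI : L.Normal := inferInstance
    have hLi : ¬ q ∣ L.index := by
      rw [Subgroup.index_eq_card]
      refine ih ?_ (Cores.isPSolvable_quotient hpsX L) (Cores.isPSolvable_quotient hqsX L)
        Cores.pPrimeCore_quotient_pPrimeCore (degHyp_quotient hdegX L)
      have h1 : Nat.card ((G ⧸ V) ⧸ L) ≤ Nat.card (G ⧸ V) :=
        Nat.card_le_card_of_surjective _ (QuotientGroup.mk'_surjective L)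
      have h2 : 2 * Nat.card (G ⧸ V) ≤ n + 1 :=
        (Nat.mul_le_mul_right _ hV1).trans (hcard.ge.trans hn)
      have h3 := Nat.card_pos (α := G ⧸ V)
      omega
    have hpL : ¬ p ∣ Nat.card L := Cores.not_dvd_card_pPrimeCore
    obtain ⟨P⟩ : Nonempty (Sylow p G) := inferInstance
    have hVP : V ≤ (P : Subgroup G) := Cores.pCore_le_sylow P
    let Pb : Sylow p (G ⧸ V) := P.mapSurjective hf
    have hdegL := not_dvd_of_fixed hdegX L hpL Pb
    have hPL : ((Pb : Subgroup (G ⧸ V))) ≤ normalizer (L : Set (G ⧸ V)) := by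
      rw [Subgroup.normalizer_eq_top (H := L)]; exact le_top
    have hsolP : Group.IsSolvable (Pb : Subgroup (G ⧸ V)) := by
      haveI := Pb.isPGroup'.isNilpotent; infer_instance
    have hqsL : IsPSolvable q L := Cores.isPSolvable_subgroup hqsX L
    obtain ⟨S, hS⟩ := Coprime.exists_invariant_sylow hPL
      (coprime_card_of_not_dvd Pb.isPGroup' hpL) (Or.inl hsolP) q
    set Qb := (S : Subgroup L).map L.subtype with hQb
    have hsylmap : ∀ (T : Subgroup (G ⧸ V)) (R : Sylow q T), ((R : Subgroup T).map T.subtype).relIndex T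
        = (R : Subgroup T).index := fun T R => by
      rw [Subgroup.relIndex, Subgroup.subgroupOf,
        Subgroup.comap_map_eq_self_of_injective T.subtype_injective]
    have hQbsyl : IsSyl q L Qb := ⟨map_subtype_le _, S.isPGroup'.map _, by
      rw [hQb, hsylmap]; exact S.not_dvd_index⟩
    have hqL : q ∣ Nat.card L := by
      have h := hq
      rw [hcard, ← L.card_mul_index] at h
      exact ((hqp.dvd_mul.1 ((hqp.dvd_mul.1 h).resolve_left hqV))).resolve_right hLi
    have hQbne : Qb ≠ ⊥ := by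
      intro h
      refine hQbsyl.2.2 ?_
      rw [h, Subgroup.relIndex_bot_left]
      exact hqL
    -- a Sylow subgroup of the preimage
    set D := Qb.comap f with hD
    obtain ⟨S'⟩ : Nonempty (Sylow q D) := inferInstance
    set Q := (S' : Subgroup D).map D.subtype with hQdef
    have hQD : Q ≤ D := map_subtype_le _
    have hQq : IsPGroup q Q := S'.isPGroup'.map _
    have hQrel : ¬ q ∣ Q.relIndex D := by
      rw [hQdef, Subgroup.relIndex, Subgroup.subgroupOf,
        Subgroup.comap_map_eq_self_of_injective D.subtype_injective]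
      exact S'.not_dvd_index
    have hVD : V ≤ D := by
      intro v hv
      show f v ∈ Qb
      rw [show f v = 1 from (QuotientGroup.eq_one_iff v).2 hv]
      exact one_mem _
    have hQf : Q.map f = Qb := by
      have hDf : D.map f = Qb := Subgroup.map_comap_eq_self_of_surjective hf Qb
      have h1 : IsSyl q Qb (Q.map f) := by
        refine ⟨(Subgroup.map_mono hQD).trans hDf.le, hQq.map f, fun h => hQrel ?_⟩
        rw [← hDf, Subgroup.relIndex_map_map, QuotientGroup.ker_mk', sup_eq_left.2 hVD] at h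
        rw [← Subgroup.relIndex_mul_relIndex Q (Q ⊔ V) D le_sup_left (sup_le hQD hVD)]
        exact Dvd.dvd.mul_left h _
      exact h1.eq_of_le h1.1 le_rfl hQbsyl.2.1
    have hDeq : D = Q ⊔ V := by
      rw [hD, ← hQf, Subgroup.comap_map_eq, QuotientGroup.ker_mk']
    have hdisj : V ⊓ Q = ⊥ := by
      rw [inf_comm]
      exact Cores.disjoint_of_isPGroup_of_coprime hQq
        ((hqp.coprime_iff_not_dvd.2 hqV).symm)
    have hfr : ∀ x ∈ (P : Subgroup G), ∃ v ∈ V, v⁻¹ * x ∈ normalizer (Q : Set G) := by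
      intro x hx
      have hQx : Q.map (MulAut.conj x).toMonoidHom ≤ V ⊔ Q := by
        rintro _ ⟨y, hy, rfl⟩
        rw [sup_comm, ← hDeq]
        show f (MulAut.conj x y) ∈ Qb
        rw [MulAut.conj_apply, map_mul, map_mul, map_inv]
        exact (mem_normalizer_iff.1 (hS (Subgroup.mem_map_of_mem f hx)) (f y)).1 (hQD hy)
      obtain ⟨v, hv, he⟩ := Coprime.exists_conj_of_le_sup
        (by rw [Subgroup.normalizer_eq_top (H := V)]; exact le_top) hQx
        (Coprime.card_map_conj _ _) (coprime_card_of_not_dvd hQq hqV)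
        (Or.inl (by haveI := hQq.isNilpotent; infer_instance))
      refine ⟨v, hv, Coprime.mem_normalizer_of_map_conj ?_⟩
      rw [← Coprime.map_conj_map_conj, he, Coprime.map_conj_map_conj, inv_mul_cancel,
        Coprime.map_conj_one]
    have hC : V ⊓ centralizer (Q : Set G) ≠ V := by
      intro h
      have h1 : Q ≤ V := fun y hy => hCV (mem_centralizer_iff.2 fun v hv =>
        (mem_centralizer_iff.1 ((inf_eq_left.1 h) hv) y hy).symm)
      rw [inf_eq_right.2 h1] at hdisj
      rw [hdisj, Subgroup.map_bot] at hQf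
      exact hQbne hQf.symm
    obtain ⟨θ, η, hθ, hθC, hext, hinv⟩ :=
      exists_extendible_linear V Q (P : Subgroup G) P.isPGroup' hVP hdisj hfr hC
    haveI : Fintype V := Fintype.ofFinite V
    haveI : Fintype (P : Subgroup G) := Fintype.ofFinite _
    set θc : IrrCharacter V := ⟨fun v => (θ v : ℂ), CharInduce.isIrrCharacter_hom θ⟩ with hθc
    have hd1 : charDegree (θc : V → ℂ) = 1 := by
      have h := apply_one_eq_charDegree θc
      have h' : (θc : V → ℂ) 1 = 1 := by simp [hθc]
      rw [h'] at h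
      exact_mod_cast h.symm
    obtain ⟨χ, hχ, hover⟩ := exists_over V θc (P : Subgroup G) hVP
      ⟨fun x => (η x : ℂ), CharInduce.isIrrCharacter_hom η⟩
      (fun v => congrArg Units.val (hext v))
      (by rw [hd1, mul_one]; exact P.not_dvd_index)
    have hT : ¬ q ∣ (fixer V (θc : V → ℂ)).index := fun h => by
      refine hdeg χ hχ ((h.trans ?_).trans (dvd_of_over V χ θc hover))
      rw [hd1, mul_one, inertia_eq_fixer]
    set T := fixer V (θc : V → ℂ) with hTdef
    have hVT : V ≤ T := le_fixer_self (IsIrr.isClassFunction θc.2)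
    have hPT : (P : Subgroup G) ≤ T := fun x hx g g' e => congrArg Units.val (hinv x hx g g' e)
    -- the stabilizer contains `Q`
    have hTb : ¬ q ∣ (T.map f).index := by
      rwa [Subgroup.index_map_eq _ hf (by rw [QuotientGroup.ker_mk']; exact hVT)]
    set L₀ := L ⊓ T.map f with hL₀
    have hL₀q : ¬ q ∣ L₀.relIndex L := by
      rw [hL₀, inf_comm, Subgroup.inf_relIndex_right]
      intro h
      have h1 : (T.map f).relIndex L * L.index = L.relIndex (T.map f) * (T.map f).index := by
        rw [← Subgroup.inf_relIndex_right (T.map f) L, ← Subgroup.inf_relIndex_left (T.map f) L,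
          Subgroup.relIndex_mul_index inf_le_right, Subgroup.relIndex_mul_index inf_le_left]
      have h2 : q ∣ L.relIndex (T.map f) * (T.map f).index := h1 ▸ Dvd.dvd.mul_right h _
      rcases hqp.dvd_mul.1 h2 with h3 | h3
      · exact hLi (h3.trans (Subgroup.relIndex_dvd_index_of_normal L _))
      · exact hTb h3
    have hPL₀ : (Pb : Subgroup (G ⧸ V)) ≤ normalizer (L₀ : Set (G ⧸ V)) :=
      (le_inf hPL ((Subgroup.map_mono hPT).trans le_normalizer)).trans
        inf_normalizer_le_normalizer_inf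
    obtain ⟨R, hR⟩ := Coprime.exists_invariant_sylow hPL₀
      (coprime_card_of_not_dvd Pb.isPGroup' (not_dvd_card_of_le inf_le_left hpL)) (Or.inl hsolP) q
    have hRsyl : IsSyl q L ((R : Subgroup L₀).map L₀.subtype) := by
      refine ⟨(map_subtype_le _).trans inf_le_left, R.isPGroup'.map _, ?_⟩
      rw [← Subgroup.relIndex_mul_relIndex _ L₀ L (map_subtype_le _) inf_le_left, hsylmap]
      exact hqp.not_dvd_mul R.not_dvd_index hL₀q
    have hQeq := invariant_sylow_unique (Nat.card L) L (Pb : Subgroup (G ⧸ V)) le_rfl Pb.isPGroup'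
      hpL hqsL hdegL Qb _ hQbsyl hRsyl hS hR
    have hQT : Q ≤ T := by
      have h1 : Q.map f ≤ T.map f := by
        rw [hQf, hQeq]
        exact (map_subtype_le _).trans inf_le_right
      exact (Subgroup.map_le_map_iff.1 h1).trans
        (sup_le le_rfl (by rw [QuotientGroup.ker_mk']; exact hVT))
    -- so `θ` is trivial
    refine hθ (MonoidHom.ext fun v => ?_)
    have hsup := Coprime.commutator_sup_centralizer (A := Q) (K := V)
      (by rw [Subgroup.normalizer_eq_top (H := V)]; exact le_top) (coprime_card_of_not_dvd hQq hqV)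
      (Or.inl (by haveI := hQq.isNilpotent; infer_instance))
    have hker : V ≤ θ.ker.map V.subtype := by
      refine hsup.ge.trans (sup_le (commutator_le.2 fun a ha y hy => ?_) fun a ha => ?_)
      · have hy' := hQT hy
        have hb : y * a⁻¹ * y⁻¹ ∈ V := Subgroup.Normal.conj_mem inferInstance _ (V.inv_mem ha) y
        refine ⟨⟨a, ha⟩ * ⟨_, hb⟩, ?_, by simp [commutatorElement_def, mul_assoc]⟩
        have h1 : θ ⟨_, hb⟩ = θ (⟨a, ha⟩⁻¹ : V) := Units.ext (hy' (⟨a, ha⟩⁻¹ : V) ⟨_, hb⟩ rfl)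
        show θ _ = 1
        rw [map_mul, h1, ← map_mul, mul_inv_cancel, map_one]
      · exact ⟨⟨a, ha.1⟩, hθC ⟨a, ha.1⟩ ha.2, rfl⟩
    obtain ⟨w, hw, he⟩ := hker v.2
    rw [← Subtype.ext he]
    exact hw

variable {G : Type u} [Group G] [Finite G] {p q : ℕ} [Fact p.Prime] [Fact q.Prime]

/-- One half of the degree condition gives `q ∤ |G : O_{p'}(G)|`. -/
theorem not_dvd_index_of_degrees {M : Ideal Cfsg.AlgInt} (hM : IsPModular p M) (hpq : p ≠ q)
    (hps : IsPSolvable p G) (hqs : IsPSolvable q G)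
    (h : ∀ χ : IrrCharacter G, χ ∈ principalBlock M G → ¬ p ∣ charDegree (χ : G → ℂ) →
      ¬ q ∣ charDegree (χ : G → ℂ)) :
    ¬ q ∣ (pPrimeCore p G).index := by
  cases nonempty_fintype G
  rw [Subgroup.index_eq_card]
  refine not_dvd_card hpq _ le_rfl (Cores.isPSolvable_quotient hps _)
    (Cores.isPSolvable_quotient hqs _) Cores.pPrimeCore_quotient_pPrimeCore fun χ hχ hd => ?_
  let π := QuotientGroup.mk' (pPrimeCore p G)
  set ψ : IrrCharacter G :=
    ⟨_, H86.isIrr_comp_surjective χ.2 π (QuotientGroup.mk'_surjective _)⟩ with hψ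
  have e : charDegree (ψ : G → ℂ) = charDegree (χ : G ⧸ pPrimeCore p G → ℂ) :=
    charDegree_congr (χ := (ψ : G → ℂ)) (θ := (χ : G ⧸ pPrimeCore p G → ℂ))
      (congrArg (χ : G ⧸ pPrimeCore p G → ℂ) (map_one π))
  refine h ψ (H85.mem_principalBlock_of_trivial_on_core hM hps ψ fun n hn => ?_) (e.symm ▸ hχ)
    (e.symm ▸ hd)
  show (χ : G ⧸ pPrimeCore p G → ℂ) (π n) = (χ : G ⧸ pPrimeCore p G → ℂ) (π 1)
  rw [map_one, show π n = 1 from (QuotientGroup.eq_one_iff n).2 hn]

/-- The converse half. -/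
theorem not_dvd_degree_of_normalized {M : Ideal Cfsg.AlgInt} (hM : IsPModular p M) (hpq : p ≠ q)
    (hps : IsPSolvable p G) (P : Sylow p G) (Q : Sylow q G)
    (hPQ : (P : Subgroup G) ≤ normalizer ((Q : Subgroup G) : Set G))
    (χ : IrrCharacter G) (hχ : χ ∈ principalBlock M G) : ¬ q ∣ charDegree (χ : G → ℂ) := by
  cases nonempty_fintype G
  intro hd
  refine (S4602.result p q hpq hps).1 ⟨P, Q, hPQ⟩ ?_
  obtain ⟨ψ, -, hψ, hψi⟩ := CharInduce.IsChar.exists_deflate (IsIrr.isCharacter χ.2)
    (pPrimeCore p G) fun n hn => H82.apply_eq_of_mem_principalBlock hM hχ _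
      Cores.not_dvd_card_pPrimeCore hn
  have e : charDegree (χ : G → ℂ) = charDegree ψ := charDegree_congr (hψ 1)
  rw [Subgroup.index_eq_card]
  exact (e ▸ hd).trans (charDegree_dvd ⟨ψ, hψi χ.2⟩)

theorem le_pPrimeCore_of_not_dvd (Q : Sylow q G) (h : ¬ q ∣ (pPrimeCore p G).index) :
    (Q : Subgroup G) ≤ pPrimeCore p G := by
  obtain ⟨n, hn⟩ := Q.isPGroup'.exists_card_eq
  refine Subgroup.relIndex_eq_one.1 (Nat.eq_one_of_dvd_coprimes
    (((Fact.out : q.Prime).coprime_iff_not_dvd.2 h).pow_left n) ?_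
    (Subgroup.relIndex_dvd_index_of_normal _ _))
  rw [← hn]
  exact Subgroup.index_dvd_card _

theorem separation (hpq : p ≠ q) {Mp Mq : Ideal Cfsg.AlgInt} (hMp : IsPModular p Mp)
    (hMq : IsPModular q Mq) (hps : IsPSolvable p G) (hqs : IsPSolvable q G) :
    ((∀ χ : IrrCharacter G, χ ∈ principalBlock Mp G → ¬ p ∣ charDegree (χ : G → ℂ) →
        ¬ q ∣ charDegree (χ : G → ℂ)) ∧
      (∀ χ : IrrCharacter G, χ ∈ principalBlock Mq G → ¬ q ∣ charDegree (χ : G → ℂ) →
        ¬ p ∣ charDegree (χ : G → ℂ))) ↔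
    ∃ (P : Sylow p G) (Q : Sylow q G),
      ∀ x ∈ (P : Subgroup G), ∀ y ∈ (Q : Subgroup G), x * y = y * x := by
  constructor
  · rintro ⟨h1, h2⟩
    have hq := not_dvd_index_of_degrees hMp hpq hps hqs h1
    have hp := not_dvd_index_of_degrees hMq hpq.symm hqs hps h2
    obtain ⟨P, Q, hPQ⟩ := (S4602.result p q hpq hps).2 hq
    refine ⟨P, Q, fun x hx y hy => ?_⟩
    have hPq := le_pPrimeCore_of_not_dvd (q := p) (p := q) P hp
    haveI : (pPrimeCore q G).Normal := inferInstance
    rw [← commutatorElement_eq_one_iff_mul_comm, ← Subgroup.mem_bot,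
      ← Cores.disjoint_of_isPGroup_of_coprime Q.isPGroup' (Cores.coprime_card_pPrimeCore (p := q))]
    refine ⟨?_, ?_⟩
    · rw [commutatorElement_def]
      exact (Q : Subgroup G).mul_mem ((mem_normalizer_iff.1 (hPQ hx) y).1 hy)
        ((Q : Subgroup G).inv_mem hy)
    · rw [commutatorElement_def, show x * y * x⁻¹ * y⁻¹ = x * (y * x⁻¹ * y⁻¹) by group]
      exact (pPrimeCore q G).mul_mem (hPq hx)
        (Subgroup.Normal.conj_mem inferInstance _ ((pPrimeCore q G).inv_mem (hPq hx)) y)
  · rintro ⟨P, Q, h⟩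
    refine ⟨fun χ hχ _ => not_dvd_degree_of_normalized hMp hpq hps P Q
      (fun x hx => ?_) χ hχ, fun χ hχ _ => not_dvd_degree_of_normalized hMq hpq.symm hqs Q P
      (fun y hy => ?_) χ hχ⟩
    · exact centralizer_le_normalizer _ (mem_centralizer_iff.2 fun y hy => (h x hx y hy).symm)
    · exact centralizer_le_normalizer _ (mem_centralizer_iff.2 fun x hx => h x hx y hy)

end Cfsg.Agent.H84.BlockSep
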