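import Cfsg.Agent.H84.BlockSepFixed
import Cfsg.Agent.CharInduce.Induce
import Cfsg.Agent.BlockBasic.Basic
import Cfsg.Agent.H85.CliffordExt

/-!
# Characters lying over a given character of a normal subgroup
-/

set_option autoImplicit false
set_option linter.unusedSectionVars false

namespace Cfsg.Agent.H84.BlockSep

open Cfsg Subgroup
open Cfsg.Agent.H80 Cfsg.Agent.CharBasic Cfsg.Agent.BlockBasic

theorem charDegree_congr {H K : Type*} [Group H] [Group K] {χ : H → ℂ} {θ : K → ℂ}
    (h : χ 1 = θ 1) : charDegree χ = charDegree θ := by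
  unfold charDegree
  rw [h]

section Normal

variable {G : Type*} [Group G] [Fintype G] (N : Subgroup G) [N.Normal] [Fintype N]

/-- Degrees over a character of a normal subgroup. -/
theorem dvd_of_over (χ : IrrCharacter G) (θ : IrrCharacter N)
    (h : classInner (fun n : N => (χ : G → ℂ) n) (θ : N → ℂ) ≠ 0) :
    (CharInduce.inertia N (θ : N → ℂ)).index * charDegree (θ : N → ℂ) ∣
      charDegree (χ : G → ℂ) := by
  have h1 := CharInduce.clifford_degree N χ.2 θ.2 h
  obtain ⟨m, hm⟩ := classInner_isChar_nat (CharInduce.IsChar.res (IsIrr.isCharacter χ.2) N)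
    (IsIrr.isCharacter θ.2)
  rw [hm, apply_one_eq_charDegree, apply_one_eq_charDegree] at h1
  refine Dvd.intro_left m ?_
  rw [← mul_assoc]
  exact_mod_cast h1.symm

/-- A character of `p'`-degree over a character which extends to a subgroup of `p'`-index. -/
theorem exists_over {p : ℕ} [Fact p.Prime] (θ : IrrCharacter N) (H : Subgroup G) (hNH : N ≤ H)
    (η : IrrCharacter H) (hres : ∀ n : N, (η : H → ℂ) ⟨n, hNH n.2⟩ = (θ : N → ℂ) n)
    (hp : ¬ p ∣ H.index * charDegree (θ : N → ℂ)) :
    ∃ χ : IrrCharacter G, ¬ p ∣ charDegree (χ : G → ℂ) ∧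
      classInner (fun n : N => (χ : G → ℂ) n) (θ : N → ℂ) ≠ 0 := by
  classical
  haveI : Fintype H := Fintype.ofFinite H
  set I := Cfsg.indFun H (η : H → ℂ) with hI
  have hIc : IsCharacter G I := CharInduce.IsChar.ind H (IsIrr.isCharacter η.2)
  choose c hc using fun χ : IrrCharacter G => classInner_isChar_nat hIc (IsIrr.isCharacter χ.2)
  have hexp := congrFun (classFunction_expansion (IsChar.isClassFunction hIc)) 1
  simp only [Finset.sum_apply, Pi.smul_apply, smul_eq_mul, hc, apply_one_eq_charDegree] at hexp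
  rw [hI, CharInduce.indFun_one,
    show (η : H → ℂ) 1 = (θ : N → ℂ) 1 from hres 1, apply_one_eq_charDegree] at hexp
  have hexp' : H.index * charDegree (θ : N → ℂ) =
      ∑ χ : IrrCharacter G, c χ * charDegree (χ : G → ℂ) := by exact_mod_cast hexp
  obtain ⟨χ, hχ⟩ : ∃ χ, ¬ p ∣ c χ * charDegree (χ : G → ℂ) := by
    by_contra hcon
    push Not at hcon
    exact hp (hexp' ▸ Finset.dvd_sum fun χ _ => hcon χ)
  have hc0 : classInner (η : H → ℂ) (fun d : H => (χ : G → ℂ) d) ≠ 0 := by
    rw [← CharInduce.classInner_indFun_left H _ _ (IsIrr.isClassFunction χ.2), ← hI, hc]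
    exact_mod_cast fun h : c χ = 0 => hχ (by simp [h])
  obtain ⟨r, hr, hsum⟩ := CharInduce.IsChar.exists_eq_add
    (CharInduce.IsChar.res (IsIrr.isCharacter χ.2) H) η.2 (H85.classInner_ne_zero_symm hc0)
  refine ⟨χ, fun h => hχ (Dvd.dvd.mul_left h _), ?_⟩
  obtain ⟨a, ha⟩ := classInner_isChar_nat (CharInduce.IsChar.comp hr (Subgroup.inclusion hNH))
    (IsIrr.isCharacter θ.2)
  have e1 : (fun n : N => (χ : G → ℂ) n) =
      (θ : N → ℂ) + fun n => r (Subgroup.inclusion hNH n) := by
    funext n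
    have := congrFun hsum (Subgroup.inclusion hNH n)
    rw [Pi.add_apply, Subgroup.coe_inclusion] at this
    rw [this, Pi.add_apply]
    congr 1
    exact hres n
  rw [e1, classInner_add_left, ha, classInner_irr_self θ.2]
  exact_mod_cast (by omega : 1 + a ≠ 0)

end Normal

/-- An invariant character of a subgroup lies under an invariant one. -/
theorem exists_over_fixed {Γ : Type*} [Group Γ] [Finite Γ] {p : ℕ} [Fact p.Prime]
    {M L P : Subgroup Γ} [Fintype M] [Fintype L] (hML : M ≤ L)
    (hPM : P ≤ normalizer (M : Set Γ)) (hPL : P ≤ normalizer (L : Set Γ)) (hP : IsPGroup p P)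
    (hpL : ¬ p ∣ Nat.card L) (θ : IrrCharacter M) (hθ : AInv P (θ : M → ℂ)) :
    ∃ ψ : IrrCharacter L, AInv P (ψ : L → ℂ) ∧
      classInner (resFun hML (ψ : L → ℂ)) (θ : M → ℂ) ≠ 0 := by
  classical
  haveI : Fintype (M.subgroupOf L) := Fintype.ofFinite _
  let e := Subgroup.subgroupOfEquivOfLe hML
  set η := irrEquiv e θ with hη
  set I := Cfsg.indFun (M.subgroupOf L) (η : M.subgroupOf L → ℂ) with hI
  have hIc : IsCharacter L I := CharInduce.IsChar.ind _ (IsIrr.isCharacter η.2)
  choose c hc using fun ψ : IrrCharacter L => classInner_isChar_nat hIc (IsIrr.isCharacter ψ.2)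
  have hc' : ∀ ψ : IrrCharacter L, classInner (θ : M → ℂ) (resFun hML (ψ : L → ℂ)) = (c ψ : ℂ) := by
    intro ψ
    rw [← hc, hI, CharInduce.classInner_indFun_left _ _ _ (IsIrr.isClassFunction ψ.2),
      ← H80.classInner_comp_mulEquiv e (θ : M → ℂ)]
    rfl
  letI : MulAction P (IrrCharacter L) :=
  { smul := fun s ψ => irrEquiv (conjEquiv L (s : Γ)⁻¹ (inv_mem (hPL s.2))) ψ
    one_smul := fun ψ => Subtype.ext <| funext fun x => by
      show (ψ : L → ℂ) _ = _
      exact congrArg _ (Subtype.ext (by simp))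
    mul_smul := fun s t ψ => Subtype.ext <| funext fun x => by
      show (ψ : L → ℂ) _ = (ψ : L → ℂ) _
      exact congrArg _ (Subtype.ext (by simp [mul_assoc])) }
  let f : IrrCharacter L → ZMod p := fun ψ => ((c ψ * charDegree (ψ : L → ℂ) : ℕ) : ZMod p)
  have hf : ∀ (s : P) (ψ : IrrCharacter L), f (s • ψ) = f ψ := by
    intro s ψ
    have hd : charDegree ((s • ψ : IrrCharacter L) : L → ℂ) = charDegree (ψ : L → ℂ) :=
      charDegree_congr (congrArg (ψ : L → ℂ) (map_one _))
    have hc2 : c (s • ψ) = c ψ := by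
      have h : classInner (θ : M → ℂ) (resFun hML ((s • ψ : IrrCharacter L) : L → ℂ)) =
          classInner (θ : M → ℂ) (resFun hML (ψ : L → ℂ)) := by
        rw [← H80.classInner_comp_mulEquiv (conjEquiv M (s : Γ)⁻¹ (inv_mem (hPM s.2)))
          (θ : M → ℂ) (resFun hML (ψ : L → ℂ))]
        congr 1
        funext m
        exact (hθ _ (inv_mem s.2) m _ rfl).symm
      rw [hc', hc'] at h
      exact_mod_cast h
    show ((_ * _ : ℕ) : ZMod p) = _
    rw [hc2, hd]
  have hsum := sum_eq_sum_fixed hP f hf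
  have hexp := congrFun (classFunction_expansion (IsChar.isClassFunction hIc)) 1
  simp only [Finset.sum_apply, Pi.smul_apply, smul_eq_mul, hc, apply_one_eq_charDegree] at hexp
  rw [hI, CharInduce.indFun_one, apply_one_eq_charDegree] at hexp
  have hexp' : (M.subgroupOf L).index * charDegree (η : M.subgroupOf L → ℂ) =
      ∑ ψ : IrrCharacter L, c ψ * charDegree (ψ : L → ℂ) := by exact_mod_cast hexp
  have hne : ∑ ψ, f ψ ≠ 0 := by
    rw [← Nat.cast_sum, ← hexp', ne_eq, ZMod.natCast_eq_zero_iff,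
      (Fact.out : p.Prime).dvd_mul]
    rintro (h | h)
    · exact hpL (h.trans (Subgroup.index_dvd_card _))
    · exact hpL ((h.trans (charDegree_dvd η)).trans (Subgroup.card_subgroup_dvd_card _))
  rw [hsum] at hne
  obtain ⟨ψ, hψm, hψ⟩ := Finset.exists_ne_zero_of_sum_ne_zero hne
  rw [Finset.mem_filter] at hψm
  refine ⟨ψ, fun s hs g g' e' => ?_, H85.classInner_ne_zero_symm ?_⟩
  · have h1 := congrFun (congrArg Subtype.val (hψm.2 (⟨s, hs⟩⁻¹ : P))) g
    refine Eq.trans (congrArg (ψ : L → ℂ) (Subtype.ext ?_)) h1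
    simp [e']
  · rw [hc']
    intro h0
    have h00 : c ψ = 0 := by exact_mod_cast h0
    exact hψ (by simp [f, h00])

end Cfsg.Agent.H84.BlockSep
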