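import Cfsg.Agent.H84.Kernel

/-!
# One class on `M \ N`
-/

open scoped ComplexConjugate

namespace Cfsg.Agent.H84

open Cfsg.Agent

variable {G : Type*} [Group G] [Finite G]

theorem sum_normal_eq_zero (χ : Cfsg.IrrCharacter G) (N : Subgroup G) [N.Normal] [Fintype N]
    (h : ∃ x ∈ N, (χ : G → ℂ) x ≠ (χ : G → ℂ) 1) : ∑ n : N, (χ : G → ℂ) n = 0 := by
  obtain ⟨k, ρ, hρ, he⟩ := χ.2
  obtain ⟨x, hx, hne⟩ := h
  have hcomm : ∀ g, (∑ n : N, ρ (n : G)) * ρ g = ρ g * ∑ n : N, ρ (n : G) := fun g => by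
    rw [Finset.sum_mul, Finset.mul_sum]
    refine Fintype.sum_equiv (MulAut.conjNormal g⁻¹).toEquiv _ _ fun n => ?_
    rw [← map_mul, ← map_mul]
    congr 1
    simp only [MulEquiv.toEquiv_eq_coe, EquivLike.coe_coe, MulAut.conjNormal_apply, inv_inv]
    group
  obtain ⟨c, hc⟩ := CharBasic.schur_scalar ρ _ hcomm
  have hfix : ρ x * (∑ n : N, ρ (n : G)) = ∑ n : N, ρ (n : G) := by
    rw [Finset.mul_sum]
    exact Fintype.sum_equiv (Equiv.mulLeft (⟨x, hx⟩ : N)) _ _ fun n => by simp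
  have hc0 : c = 0 := by
    by_contra hc0
    rw [hc, mul_smul_comm, show ρ x * LinearMap.id = ρ x from LinearMap.ext fun _ => rfl] at hfix
    apply hne
    rw [← he, Representation.char_one, CharBasic.character_eq_finrank_iff]
    exact smul_right_injective _ hc0 hfix
  have := congrArg (LinearMap.trace ℂ _) hc
  rw [map_sum, hc0, zero_smul, map_zero] at this
  rw [← he]
  exact this

theorem class_eq_diff_iff (N M : Subgroup G) [N.Normal] [M.Normal] (hNM : N < M) (g : G)
    (hgM : g ∈ M) (hgN : g ∉ N) :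
    {h : G | IsConj g h} = (M : Set G) \ (N : Set G) ↔
    ((∀ χ : Cfsg.IrrCharacter G, (∀ x ∈ N, (χ : G → ℂ) x = (χ : G → ℂ) 1) →
        ∀ x ∈ M, x ∉ N → ∀ y ∈ M, y ∉ N → (χ : G → ℂ) x = (χ : G → ℂ) y) ∧
      (∀ χ : Cfsg.IrrCharacter G, (∃ x ∈ N, (χ : G → ℂ) x ≠ (χ : G → ℂ) 1) →
        (χ : G → ℂ) g = 0)) := by
  classical
  cases nonempty_fintype G
  constructor
  · intro h
    have hmem : ∀ x, x ∈ M → x ∉ N → IsConj g x := fun x hx hx' => by
      show x ∈ {h : G | IsConj g h}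
      rw [h]; exact ⟨hx, hx'⟩
    refine ⟨fun χ _ x hx hx' y hy hy' =>
      (CharBasic.isConj_iff_forall_irr x y).1 ((hmem x hx hx').symm.trans (hmem y hy hy')) χ,
      fun χ hχ => ?_⟩
    obtain ⟨x, hxN, hx⟩ := hχ
    have hN := sum_normal_eq_zero χ N ⟨x, hxN, hx⟩
    have hM := sum_normal_eq_zero χ M ⟨x, hNM.le hxN, hx⟩
    rw [← Finset.sum_subtype (Finset.univ.filter fun x : G => x ∈ N) (by simp) (χ : G → ℂ)] at hN
    rw [← Finset.sum_subtype (Finset.univ.filter fun x : G => x ∈ M) (by simp) (χ : G → ℂ)] at hM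
    have hsub : (Finset.univ.filter fun x : G => x ∈ N) ⊆ Finset.univ.filter fun x : G => x ∈ M :=
      fun y hy => by
        simp only [Finset.mem_filter, Finset.mem_univ, true_and] at hy ⊢
        exact hNM.le hy
    rw [← Finset.sum_sdiff hsub, hN, add_zero,
      Finset.sum_congr rfl (g := fun _ => (χ : G → ℂ) g) fun y hy => by
        simp only [Finset.mem_sdiff, Finset.mem_filter, Finset.mem_univ, true_and] at hy
        exact ((CharBasic.isConj_iff_forall_irr g y).1 (hmem y hy.1 hy.2) χ).symm,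
      Finset.sum_const, nsmul_eq_mul, mul_eq_zero] at hM
    refine hM.resolve_left (Nat.cast_ne_zero.2 (Finset.card_ne_zero.2 ⟨g, ?_⟩))
    simp [hgM, hgN]
  · rintro ⟨hconst, hvan⟩
    ext h
    constructor
    · intro hh
      obtain ⟨c, rfl⟩ := isConj_iff.1 hh
      refine ⟨Subgroup.Normal.conj_mem inferInstance g hgM c, fun h' => hgN ?_⟩
      have := Subgroup.Normal.conj_mem inferInstance _ h' c⁻¹
      simpa [mul_assoc] using this
    · rintro ⟨hhM, hhN⟩
      by_contra hn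
      have h0 := CharBasic.second_orthogonality_not_isConj
        (fun h' : IsConj h g => hn h'.symm)
      have heq : ∀ χ : Cfsg.IrrCharacter G, (χ : G → ℂ) h * conj ((χ : G → ℂ) g) =
          (χ : G → ℂ) g * conj ((χ : G → ℂ) g) := fun χ => by
        by_cases hk : ∀ x ∈ N, (χ : G → ℂ) x = (χ : G → ℂ) 1
        · rw [hconst χ hk h hhM hhN g hgM hgN]
        · push Not at hk
          simp [hvan χ hk]
      rw [Finset.sum_congr rfl fun χ _ => heq χ, CharBasic.second_orthogonality_self,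
        Nat.cast_eq_zero] at h0
      exact Nat.card_pos.ne' h0

end Cfsg.Agent.H84
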