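import Cfsg.Agent.H84.ClassProd

/-!
# Products of two commutators
-/

open scoped ComplexConjugate
open MonoidAlgebra

namespace Cfsg.Agent.H84

open Cfsg.Agent.BlockBasic

variable {G : Type*} [Group G] [Fintype G]

/-- The sum of all commutators in the group algebra. -/
noncomputable def commSum : MonoidAlgebra ℂ G :=
  ∑ b : G, ∑ a : G, single (a * b * a⁻¹ * b⁻¹) (1 : ℂ)

theorem isCentralElt_commSum : IsCentralElt (commSum : MonoidAlgebra ℂ G) := by
  refine isCentralElt_of_comm fun g => ?_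
  simp only [commSum, Finset.sum_mul, Finset.mul_sum, single_mul_single, mul_one]
  refine Fintype.sum_equiv (MulAut.conj g⁻¹).toEquiv _ _ fun b => ?_
  refine Fintype.sum_equiv (MulAut.conj g⁻¹).toEquiv _ _ fun a => ?_
  congr 1
  simp [MulAut.conj_apply]
  group

theorem omega_commSum (χ : Cfsg.IrrCharacter G) :
    omega (χ : G → ℂ) (commSum : MonoidAlgebra ℂ G) =
      (Nat.card G : ℂ) ^ 2 / (χ : G → ℂ) 1 ^ 2 := by
  classical
  have hcl := CharBasic.IsIrr.isClassFunction χ.2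
  have hb : ∀ b : G, ∑ a : G, single (a * b * a⁻¹ * b⁻¹) (1 : ℂ) =
      ((Nat.card (Subgroup.centralizer ({b} : Set G)) : ℂ) • classSum b) * single b⁻¹ (1 : ℂ) := by
    intro b
    rw [show ∑ a : G, single (a * b * a⁻¹ * b⁻¹) (1 : ℂ) =
        (∑ a : G, single (a * b * a⁻¹) (1 : ℂ)) * single b⁻¹ (1 : ℂ) by
      simp [Finset.sum_mul, single_mul_single]]
    congr 1
    apply coeff_injective
    ext h
    rw [coeff_sum, Finset.sum_apply', coeff_smul_apply, classSum, coeff_ofFun]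
    simp only [coeff_single, Finsupp.single_apply, Finset.sum_boole, smul_eq_mul]
    split_ifs with hh
    · rw [mul_one, ← card_conjTransporter hh, Nat.card_eq_fintype_card, Fintype.card_subtype]
    · rw [mul_zero, Nat.cast_eq_zero, Finset.card_eq_zero, Finset.filter_eq_empty_iff]
      exact fun a _ ha => hh (isConj_iff.2 ⟨a, ha⟩)
  have hsum : chiLin (χ : G → ℂ) (commSum : MonoidAlgebra ℂ G) =
      ∑ b : G, ((Nat.card G : ℂ) / (χ : G → ℂ) 1) * ((χ : G → ℂ) b * conj ((χ : G → ℂ) b)) := by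
    rw [commSum]
    have hl : ∀ (f : G → MonoidAlgebra ℂ G), chiLin (χ : G → ℂ) (∑ b : G, f b) =
        ∑ b : G, chiLin (χ : G → ℂ) (f b) := fun f => by
      simp only [chiLin, coeff_sum, Finset.sum_apply', Finset.sum_mul]
      exact Finset.sum_comm
    rw [hl]
    refine Finset.sum_congr rfl fun b _ => ?_
    rw [hb, chiLin_central_mul χ.2 ((isCentralElt_classSum b).smul _), omega_smul,
      omega_classSum hcl, chiLin_single, one_mul, Cfsg.centralChar, ← conj_apply_eq_inv,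
      ← Subgroup.card_mul_index (Subgroup.centralizer ({b} : Set G)), Nat.cast_mul]
    ring
  have h1 := CharBasic.classInner_irr_self χ.2
  rw [Cfsg.classInner, inv_mul_eq_one₀ (Nat.cast_ne_zero.2 Nat.card_pos.ne')] at h1
  rw [omega, hsum, ← Finset.mul_sum, ← h1]
  ring

theorem exists_two_commutators
    (h : ∑ᶠ χ : Cfsg.IrrCharacter G, 1 / ‖(χ : G → ℂ) 1‖ ^ 2 < (2 : ℝ)) (g : G) :
    ∃ a b c d : G, (a * b * a⁻¹ * b⁻¹) * (c * d * c⁻¹ * d⁻¹) = g := by
  classical
  by_contra hc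
  push Not at hc
  have h0 : ((commSum : MonoidAlgebra ℂ G) * commSum).coeff g = 0 := by
    simp only [commSum, Finset.sum_mul, Finset.mul_sum, single_mul_single, mul_one, coeff_sum,
      Finset.sum_apply', coeff_single, Finsupp.single_apply]
    refine Finset.sum_eq_zero fun d _ => Finset.sum_eq_zero fun c _ =>
      Finset.sum_eq_zero fun b _ => Finset.sum_eq_zero fun a _ => ?_
    rw [if_neg (hc _ _ _ _)]
  rw [coeff_eq_sum_omega (isCentralElt_commSum.mul isCentralElt_commSum)] at h0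
  have hG : (Nat.card G : ℂ) ≠ 0 := Nat.cast_ne_zero.2 Nat.card_pos.ne'
  have h1 : ∑ χ : Cfsg.IrrCharacter G, conj ((χ : G → ℂ) g) / (χ : G → ℂ) 1 ^ 3 = 0 := by
    have h2 : (Nat.card G : ℂ)⁻¹ * ((Nat.card G : ℂ) ^ 4 *
        ∑ χ : Cfsg.IrrCharacter G, conj ((χ : G → ℂ) g) / (χ : G → ℂ) 1 ^ 3) = 0 := by
      rw [← h0, Finset.mul_sum]
      refine congrArg _ (Finset.sum_congr rfl fun χ _ => ?_)
      rw [omega_mul χ.2 isCentralElt_commSum, omega_commSum]
      field_simp [irr_one_ne_zero χ.2]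
    simpa [hG] using h2
  let one : Cfsg.IrrCharacter G := ⟨fun _ => 1, CharBasic.isIrrCharacter_one⟩
  rw [← Finset.add_sum_erase _ _ (Finset.mem_univ one)] at h1
  rw [finsum_eq_sum_of_fintype, ← Finset.add_sum_erase _ _ (Finset.mem_univ one)] at h
  have hone : ((one : Cfsg.IrrCharacter G) : G → ℂ) = fun _ => (1 : ℂ) := rfl
  simp only [hone, map_one, one_pow, div_one, norm_one] at h h1
  have hle : ‖∑ χ ∈ Finset.univ.erase one, conj ((χ : G → ℂ) g) / (χ : G → ℂ) 1 ^ 3‖ ≤
      ∑ χ ∈ Finset.univ.erase one, 1 / ‖(χ : G → ℂ) 1‖ ^ 2 := by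
    refine (norm_sum_le _ _).trans (Finset.sum_le_sum fun χ _ => ?_)
    have hpos : 0 < ‖(χ : G → ℂ) 1‖ := norm_pos_iff.2 (irr_one_ne_zero χ.2)
    rw [norm_div, norm_pow, Complex.norm_conj]
    refine (div_le_div_of_nonneg_right
      (CharBasic.IsChar.norm_le (CharBasic.IsIrr.isCharacter χ.2) g) (by positivity)).trans ?_
    exact le_of_eq (by field_simp)
  rw [eq_neg_of_add_eq_zero_right h1, norm_neg, norm_one] at hle
  linarith

end Cfsg.Agent.H84
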