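import Cfsg.Agent.H1.CanonExt

/-!
# Coprime cyclic operators with constant fixed points on all nontrivial elements
-/

open scoped ComplexConjugate

namespace Cfsg.Agent.H84

open Cfsg.Agent Finset

/-- An integer function on `n` points whose variance is as small as possible is constant or
differs from a constant in one point by one. -/
theorem const_or_point {R : Type*} [Fintype R] [DecidableEq R] (N : R → ℤ)
    (h : (Fintype.card R : ℤ) * ∑ r, N r ^ 2 - (∑ r, N r) ^ 2 ≠ 0) :
    (Fintype.card R : ℤ) - 1 ≤ (Fintype.card R : ℤ) * ∑ r, N r ^ 2 - (∑ r, N r) ^ 2 ∧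
      ((Fintype.card R : ℤ) * ∑ r, N r ^ 2 - (∑ r, N r) ^ 2 = (Fintype.card R : ℤ) - 1 →
        ∃ (r₀ : R) (u ε : ℤ), (ε = 1 ∨ ε = -1) ∧ ∀ r, N r = u + if r = r₀ then ε else 0) := by
  classical
  rcases isEmpty_or_nonempty R with hR | hR
  · simp at h
  obtain ⟨rmin, hmin⟩ := Finite.exists_min N
  set u := N rmin with hu
  set M : R → ℤ := fun r => N r - u with hM
  set k := #(univ.filter fun r => M r ≠ 0) with hk
  set A := ∑ r, M r with hA
  set B := ∑ r, M r ^ 2 with hB
  have hD : (Fintype.card R : ℤ) * ∑ r, N r ^ 2 - (∑ r, N r) ^ 2 =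
      (Fintype.card R : ℤ) * B - A ^ 2 := by
    simp only [hA, hB, hM, sub_sq, Finset.sum_add_distrib, Finset.sum_sub_distrib, Finset.sum_const,
      card_univ, nsmul_eq_mul, ← Finset.sum_mul, ← Finset.mul_sum]
    ring
  have hCS : A ^ 2 ≤ (k : ℤ) * B := by
    rw [hA, hB, hk, ← Finset.sum_filter_ne_zero]
    calc (∑ r ∈ univ.filter (fun r => M r ≠ 0), M r) ^ 2
        ≤ (#(univ.filter fun r => M r ≠ 0) : ℤ) * ∑ r ∈ univ.filter (fun r => M r ≠ 0), M r ^ 2 :=
          sq_sum_le_card_mul_sum_sq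
      _ ≤ _ := by
          refine mul_le_mul_of_nonneg_left ?_ (by positivity)
          exact Finset.sum_le_sum_of_subset_of_nonneg (filter_subset _ _) fun r _ _ => sq_nonneg _
  have hkB : (k : ℤ) ≤ B := by
    rw [hk, hB, Finset.card_filter]
    push_cast
    refine Finset.sum_le_sum fun r _ => ?_
    split_ifs with h0
    · have := Int.one_le_abs h0
      nlinarith [sq_abs (M r)]
    · exact sq_nonneg _
  have hkn : k < Fintype.card R := by
    refine Finset.card_lt_univ_of_notMem (x := rmin) ?_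
    simp [hM, hu]
  have hk0 : 0 < k := by
    rw [Nat.pos_iff_ne_zero]
    intro h0
    rw [hk, Finset.card_eq_zero, Finset.filter_eq_empty_iff] at h0
    have hz : ∀ r, M r = 0 := fun r => not_not.1 (h0 (mem_univ r))
    exact h (by rw [hD, hA, hB]; simp [hz])
  have hk1 : (1 : ℤ) ≤ k := by exact_mod_cast hk0
  have hkn1 : (k : ℤ) + 1 ≤ Fintype.card R := by exact_mod_cast hkn
  refine ⟨by rw [hD]; nlinarith, fun heq => ?_⟩
  rw [hD] at heq
  have hBk : B = k := by nlinarith
  have hor : (k : ℤ) = 1 ∨ (k : ℤ) = (Fintype.card R : ℤ) - 1 := by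
    rcases (hk1.eq_or_lt).imp Eq.symm id with h1 | h1
    · exact Or.inl h1
    · refine Or.inr ?_
      nlinarith
  have hM01 : ∀ r, M r = 0 ∨ M r = 1 := by
    intro r
    have hsum : ∑ r, (M r ^ 2 - if M r ≠ 0 then (1 : ℤ) else 0) = 0 := by
      rw [Finset.sum_sub_distrib, Finset.sum_boole, ← hB, hBk, hk, sub_eq_zero]
    have h0 := (Finset.sum_eq_zero_iff_of_nonneg fun r _ => by
      split_ifs with h0
      · have := Int.one_le_abs h0
        nlinarith [sq_abs (M r)]
      · exact sub_nonneg.2 (sq_nonneg _)).1 hsum r (mem_univ r)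
    by_cases hr : M r = 0
    · exact Or.inl hr
    · right
      rw [if_pos hr] at h0
      rcases sq_eq_one_iff.1 (sub_eq_zero.1 h0) with h1 | h1
      · exact h1
      · have h2 : u ≤ N r := hmin r
        simp only [hM] at h1
        omega
  rcases hor with h1 | h1
  · obtain ⟨r₀, hr₀⟩ := Finset.card_eq_one.1 (show k = 1 by exact_mod_cast h1)
    refine ⟨r₀, u, 1, Or.inl rfl, fun r => ?_⟩
    have h2 : M r ≠ 0 ↔ r = r₀ := by
      rw [← Finset.mem_singleton, ← hr₀]
      simp
    rcases hM01 r with h3 | h3 <;> simp only [hM] at h3 <;> split_ifs with h4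
    · exact absurd (by simp [hM]; omega) (h2.2 h4)
    · omega
    · omega
    · exact absurd (h2.1 (by simp [hM]; omega)) h4
  · have hcard : #(univ.filter fun r => M r = 0) = 1 := by
      have := Finset.card_filter_add_card_filter_not (s := (univ : Finset R)) (fun r => M r = 0)
      rw [card_univ] at this
      simp only [← ne_eq, ← hk] at this
      omega
    obtain ⟨r₀, hr₀⟩ := Finset.card_eq_one.1 hcard
    refine ⟨r₀, u + 1, -1, Or.inr rfl, fun r => ?_⟩
    have h2 : M r = 0 ↔ r = r₀ := by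
      simpa using Finset.ext_iff.1 hr₀ r
    rcases hM01 r with h3 | h3 <;> split_ifs with h4
    · simp only [hM] at h3; omega
    · exact absurd (h2.1 h3) h4
    · have := h2.2 h4; omega
    · simp only [hM] at h3; omega

/-- The coset sum formula for an element whose centraliser in `G` is `C`. -/
theorem coset_sum_fpf {Γ : Type*} [Group Γ] [Fintype Γ] {G C : Subgroup Γ} [G.Normal] [Fintype G]
    [Fintype C] {x : Γ} (hcop : (Nat.card G).Coprime (orderOf x))
    (hC : ∀ c, c ∈ C ↔ c ∈ G ∧ c * x = x * c) (F : Γ → ℂ) (hF : ∀ a b, F (b * a * b⁻¹) = F a) :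
    (Nat.card C : ℂ) * ∑ g : G, F ((g : Γ) * x) = (Nat.card G : ℂ) * ∑ c : C, F ((c : Γ) * x) := by
  classical
  set U := G ⊔ Subgroup.zpowers x with hU
  have hGU : G ≤ U := le_sup_left
  have hCG : C ≤ G := fun c hc => ((hC c).1 hc).1
  have hxU : x ∈ U := Subgroup.mem_sup_right (Subgroup.mem_zpowers x)
  let eG : G.subgroupOf U ≃* G := Subgroup.subgroupOfEquivOfLe hGU
  let eC : C.subgroupOf U ≃* C := Subgroup.subgroupOfEquivOfLe (hCG.trans hGU)
  have D : H1.CycData (G.subgroupOf U) (C.subgroupOf U) (⟨x, hxU⟩ : U) := by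
    refine ⟨inferInstance, ?_, ?_, fun c => ?_⟩
    · rw [eq_top_iff, ← Subgroup.map_le_map_iff_of_injective U.subtype_injective,
        Subgroup.map_sup, MonoidHom.map_zpowers, Subgroup.map_subgroupOf_eq_of_le hGU,
        ← MonoidHom.range_eq_map, Subgroup.range_subtype]
      exact le_rfl
    · rw [Nat.card_congr eG.toEquiv, Subgroup.orderOf_mk]
      exact hcop
    · rw [Subgroup.mem_subgroupOf, hC, Subgroup.mem_subgroupOf, Subtype.ext_iff]
      rfl
  haveI : Fintype (G.subgroupOf U) := Fintype.ofFinite _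
  haveI : Fintype (C.subgroupOf U) := Fintype.ofFinite _
  have h := D.coset_sum (fun a : U => F a) fun a b => by
    show F ((b : Γ) * a * (b : Γ)⁻¹) = F a
    exact hF a b
  rw [Nat.card_congr eC.toEquiv, Nat.card_congr eG.toEquiv] at h
  convert h using 2
  · exact (Fintype.sum_equiv eG.toEquiv _ _ fun g => rfl).symm
  · exact (Fintype.sum_equiv eC.toEquiv _ _ fun g => rfl).symm

variable {Γ : Type*} [Group Γ] [Fintype Γ] {G C : Subgroup Γ} {s : Γ} [Fintype G] [Fintype C]

/-- If every nontrivial power of the coprime operator `s` has fixed point group `C`, then a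
canonical extension is `ε β μ` off `G`, and the restriction to `C` is `|s| ϑ + ε β`. -/
theorem canon_fpf (D : H1.CycData G C s) {χ : G → ℂ} {φ : Γ → ℂ}
    (h : H1.IsCanon (s := s) χ φ) (hn : orderOf s ≠ 1)
    (hfpf : ∀ k, k < orderOf s → k ≠ 0 → ∀ c, c ∈ G → c * s ^ k = s ^ k * c → c ∈ C) :
    ∃ (β : Cfsg.IrrCharacter C) (ε : ℤ) (r : ℂ) (u : Cfsg.IrrCharacter C → ℕ),
      (ε = 1 ∨ ε = -1) ∧ r ^ orderOf s = 1 ∧
      (∀ k, k < orderOf s → k ≠ 0 → ∀ c : C,
        φ ((c : Γ) * s ^ k) = (ε : ℂ) * (β : C → ℂ) c * r ^ k) ∧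
      ∀ c : C, φ c = (orderOf s : ℂ) * (∑ γ, (u γ : ℂ) * (γ : C → ℂ) c) +
        (ε : ℂ) * (β : C → ℂ) c := by
  classical
  haveI := D.normal
  obtain ⟨m, z, b, hz, hdec⟩ := H1.exists_decomp D (CharBasic.IsIrr.isCharacter h.irr)
  set n := orderOf s with hndef
  have hn0 : 0 < n := orderOf_pos s
  let R : Finset ℂ := Polynomial.nthRootsFinset n (1 : ℂ)
  have hmemR : ∀ {r : ℂ}, r ∈ R ↔ r ^ n = 1 := fun {r} => Polynomial.mem_nthRootsFinset hn0 _
  have hcardR : Fintype.card R = n := by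
    rw [Fintype.card_coe]
    exact (Complex.isPrimitiveRoot_exp n hn0.ne').card_nthRootsFinset
  let N : Cfsg.IrrCharacter C → R → ℕ := fun γ r => ∑ θ, if b θ = γ ∧ z θ = (r : ℂ) then m θ else 0
  let a : ℕ → Cfsg.IrrCharacter C → ℂ := fun k γ => ∑ r : R, (N γ r : ℂ) * (r : ℂ) ^ k
  have hexp : ∀ k (c : C), φ ((c : Γ) * s ^ k) = ∑ γ, a k γ * (γ : C → ℂ) c := by
    intro k c
    rw [hdec]
    simp only [a, N, Nat.cast_sum, Finset.sum_mul]
    rw [Finset.sum_congr rfl fun γ _ => Finset.sum_comm, Finset.sum_comm]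
    refine Finset.sum_congr rfl fun θ _ => ?_
    rw [Finset.sum_eq_single (b θ), Finset.sum_eq_single (⟨z θ, hmemR.2 (hz θ)⟩ : R)]
    · simp
    · intro r _ hr
      rw [if_neg, Nat.cast_zero, zero_mul, zero_mul]
      exact fun hh => hr (Subtype.ext hh.2.symm)
    · exact fun hh => absurd (mem_univ _) hh
    · intro γ _ hγ
      refine Finset.sum_eq_zero fun r _ => ?_
      rw [if_neg, Nat.cast_zero, zero_mul, zero_mul]
      exact fun hh => hγ hh.1.symm
    · exact fun hh => absurd (mem_univ _) hh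
  have hnorm : ∀ k, Cfsg.classInner (fun c : C => φ ((c : Γ) * s ^ k))
      (fun c : C => φ ((c : Γ) * s ^ k)) = ∑ γ, a k γ * conj (a k γ) := by
    intro k
    rw [show (fun c : C => φ ((c : Γ) * s ^ k)) = ∑ γ, a k γ • (γ : C → ℂ) from
      funext fun c => by rw [hexp, Finset.sum_apply]; rfl, CharBasic.classInner_sum_left]
    refine Finset.sum_congr rfl fun γ _ => ?_
    rw [CharBasic.classInner_smul_left, CharBasic.classInner_sum_right, Finset.sum_eq_single γ]
    · rw [CharBasic.classInner_smul_right, CharBasic.classInner_irr_self γ.2, mul_one]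
    · intro δ _ hδ
      rw [CharBasic.classInner_smul_right, CharBasic.classInner_irrCharacter,
        if_neg (Ne.symm hδ), mul_zero]
    · exact fun hh => absurd (mem_univ _) hh
  have hnorm1 : ∀ k, k < n → k ≠ 0 → ∑ γ, a k γ * conj (a k γ) = 1 := by
    intro k hk hk0
    rw [← hnorm, CharBasic.classInner_def]
    have hcs := coset_sum_fpf (C := C) (x := s ^ k)
      (D.coprime.coprime_dvd_right (orderOf_pow_dvd k)) (fun c => by
        constructor
        · intro hc
          obtain ⟨h1, h2⟩ := (D.mem_C c).1 hc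
          exact ⟨h1, ((show Commute c s from h2).pow_right k).eq⟩
        · exact fun ⟨h1, h2⟩ => hfpf k hk hk0 c h1 h2)
      (fun x => φ x * conj (φ x)) fun a' x => by
        rw [CharBasic.IsIrr.isClassFunction h.irr a' x]
    rw [H1.canon_norm D h, mul_comm (Nat.card C : ℂ)] at hcs
    rw [← mul_left_cancel₀ (by simp) hcs]
    exact inv_mul_cancel₀ (by simp)
  have hpar : ∀ γ, ∑ k ∈ range n, a k γ * conj (a k γ) = (n : ℂ) * ∑ r : R, (N γ r : ℂ) ^ 2 := by
    intro γ
    simp only [a, map_sum, Finset.sum_mul_sum, map_mul, map_pow, map_natCast]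
    rw [Finset.sum_comm, Finset.mul_sum]
    refine Finset.sum_congr rfl fun r _ => ?_
    rw [Finset.sum_comm, Finset.sum_eq_single r]
    · have hr : (r : ℂ) * conj (r : ℂ) = 1 := by
        rw [Complex.mul_conj', Complex.norm_eq_one_of_pow_eq_one (hmemR.1 r.2) hn0.ne']
        simp
      rw [Finset.sum_congr rfl fun k _ => show (N γ r : ℂ) * (r : ℂ) ^ k *
        ((N γ r : ℂ) * conj (r : ℂ) ^ k) = (N γ r : ℂ) ^ 2 * ((r : ℂ) * conj (r : ℂ)) ^ k by ring]
      simp [hr, mul_comm]
    · intro r' _ hne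
      set w := (r : ℂ) * conj (r' : ℂ) with hw
      have hw1 : w ≠ 1 := by
        intro h1
        refine hne (Subtype.ext ?_)
        have hr' : conj (r' : ℂ) * (r' : ℂ) = 1 := by
          rw [Complex.conj_mul', Complex.norm_eq_one_of_pow_eq_one (hmemR.1 r'.2) hn0.ne']
          simp
        calc (r' : ℂ) = w * (r' : ℂ) := by rw [h1, one_mul]
          _ = r := by rw [hw, mul_assoc, hr', mul_one]
      have hwn : w ^ n = 1 := by
        rw [hw, mul_pow, ← map_pow, hmemR.1 r.2, hmemR.1 r'.2, map_one, one_mul]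
      rw [Finset.sum_congr rfl fun k _ => show (N γ r : ℂ) * (r : ℂ) ^ k *
        ((N γ r' : ℂ) * conj (r' : ℂ) ^ k) = (N γ r : ℂ) * (N γ r' : ℂ) * w ^ k by rw [hw]; ring,
        ← Finset.mul_sum, geom_sum_eq hw1, hwn, sub_self, zero_div, mul_zero]
    · exact fun hh => absurd (mem_univ _) hh
  let d : Cfsg.IrrCharacter C → ℤ := fun γ =>
    (Fintype.card R : ℤ) * ∑ r : R, (N γ r : ℤ) ^ 2 - (∑ r : R, (N γ r : ℤ)) ^ 2
  have htot : ∑ γ, d γ = (n : ℤ) - 1 := by
    have e1 : ∑ γ, (n : ℂ) * ∑ r : R, (N γ r : ℂ) ^ 2 =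
        ∑ γ, (∑ r : R, (N γ r : ℂ)) ^ 2 + ((n : ℂ) - 1) := by
      rw [Finset.sum_congr rfl fun γ _ => (hpar γ).symm, Finset.sum_comm,
        ← Finset.add_sum_erase _ _ (mem_range.2 hn0),
        Finset.sum_congr rfl fun k (hk : k ∈ (range n).erase 0) =>
          hnorm1 k (mem_range.1 (mem_of_mem_erase hk)) (ne_of_mem_erase hk),
        Finset.sum_const, Finset.card_erase_of_mem (mem_range.2 hn0), card_range, nsmul_one,
        Nat.cast_sub hn0, Nat.cast_one]
      congr 1
      refine Finset.sum_congr rfl fun γ _ => ?_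
      simp [a, map_sum, sq]
    refine Int.cast_injective (α := ℂ) ?_
    simp only [d, hcardR, Finset.sum_sub_distrib]
    push_cast
    rw [e1]
    ring
  have hd : ∀ γ, d γ ≠ 0 → (n : ℤ) - 1 ≤ d γ := fun γ hγ => by
    have := (const_or_point (fun r => (N γ r : ℤ)) hγ).1
    simpa only [d, hcardR] using this
  have hd0 : ∀ γ, 0 ≤ d γ := fun γ => by
    by_cases hγ : d γ = 0
    · exact hγ.ge
    · have := hd γ hγ
      omega
  obtain ⟨β, hβ⟩ : ∃ β, d β ≠ 0 := by
    by_contra hcon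
    push Not at hcon
    rw [Finset.sum_eq_zero fun γ _ => hcon γ] at htot
    omega
  have hle : (n : ℤ) - 1 ≤ d β := hd β hβ
  have hsplit := Finset.add_sum_erase univ d (mem_univ β)
  have hrest : 0 ≤ ∑ γ ∈ univ.erase β, d γ := Finset.sum_nonneg fun γ _ => hd0 γ
  have hdβ : d β = (n : ℤ) - 1 := by omega
  have hother : ∀ γ, γ ≠ β → d γ = 0 := fun γ hγ => by
    have h0 : ∑ γ ∈ univ.erase β, d γ = 0 := by omega
    exact (Finset.sum_eq_zero_iff_of_nonneg fun γ _ => hd0 γ).1 h0 γ
      (mem_erase.2 ⟨hγ, mem_univ _⟩)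
  obtain ⟨r₀, u₀, ε, hε, hu⟩ := (const_or_point (fun r => (N β r : ℤ)) hβ).2
    (by simp only [d] at hdβ; omega)
  obtain ⟨r₁, hr₁⟩ : ∃ r₁ : R, r₁ ≠ r₀ := by
    refine Fintype.exists_ne_of_one_lt_card ?_ r₀
    omega
  let u : Cfsg.IrrCharacter C → ℕ := fun γ => N γ r₁
  have hN : ∀ γ r, (N γ r : ℤ) = u γ + if γ = β ∧ r = r₀ then ε else 0 := by
    intro γ r
    by_cases hγ : γ = β
    · subst hγ
      have h1 := hu r₁
      rw [if_neg hr₁, add_zero] at h1
      have h2 := hu r
      simp only [true_and, u]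
      omega
    · rw [if_neg (fun hh => hγ hh.1), add_zero]
      have h0 := hother γ hγ
      have hconst : ∀ r r' : R, (N γ r : ℤ) = N γ r' := by
        intro r r'
        by_contra hne
        refine absurd h0 (ne_of_gt ?_)
        show 0 < (Fintype.card R : ℤ) * ∑ r : R, (N γ r : ℤ) ^ 2 - (∑ r : R, (N γ r : ℤ)) ^ 2
        have key : 2 * ((Fintype.card R : ℤ) * ∑ r : R, (N γ r : ℤ) ^ 2 -
            (∑ r : R, (N γ r : ℤ)) ^ 2) = ∑ i : R, ∑ j : R, ((N γ i : ℤ) - N γ j) ^ 2 := by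
          simp only [sub_sq, Finset.sum_add_distrib, Finset.sum_sub_distrib, Finset.sum_const,
            card_univ, nsmul_eq_mul, ← Finset.mul_sum, ← Finset.sum_mul]
          ring
        have hpos : 0 < ∑ i : R, ∑ j : R, ((N γ i : ℤ) - N γ j) ^ 2 :=
          Finset.sum_pos' (fun i _ => Finset.sum_nonneg fun j _ => sq_nonneg _)
            ⟨r, mem_univ _, Finset.sum_pos' (fun j _ => sq_nonneg _)
              ⟨r', mem_univ _, by positivity⟩⟩
        omega
      exact hconst r r₁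
  have ha : ∀ k γ, a k γ = (u γ : ℂ) * ∑ r : R, (r : ℂ) ^ k +
      if γ = β then (ε : ℂ) * (r₀ : ℂ) ^ k else 0 := by
    intro k γ
    have hh : ∀ r : R, (N γ r : ℂ) = (u γ : ℂ) + if γ = β ∧ r = r₀ then (ε : ℂ) else 0 := fun r => by
      have := congrArg (fun t : ℤ => (t : ℂ)) (hN γ r)
      push_cast at this
      exact this
    simp only [a, hh, add_mul, Finset.sum_add_distrib, ← Finset.mul_sum]
    congr 1
    by_cases hγ : γ = β
    · simp [hγ, ite_mul]
    · simp [hγ]
  have hsum : ∀ k, k < n → k ≠ 0 → ∑ r : R, (r : ℂ) ^ k = 0 := by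
    intro k hk hk0
    have hω := Complex.isPrimitiveRoot_exp n hn0.ne'
    set ω := Complex.exp (2 * Real.pi * Complex.I / n)
    have hne : ω ^ k ≠ 1 := hω.pow_ne_one_of_pos_of_lt hk0 hk
    have hωn : ω ∈ R := hmemR.2 hω.pow_eq_one
    let e : R ≃ R :=
      { toFun := fun r => ⟨ω * r, hmemR.2 (by rw [mul_pow, hω.pow_eq_one, hmemR.1 r.2, one_mul])⟩
        invFun := fun r => ⟨ω⁻¹ * r, hmemR.2 (by
          rw [mul_pow, inv_pow, hω.pow_eq_one, hmemR.1 r.2, inv_one, one_mul])⟩
        left_inv := fun r => Subtype.ext (inv_mul_cancel_left₀ (hω.ne_zero hn0.ne') _)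
        right_inv := fun r => Subtype.ext (mul_inv_cancel_left₀ (hω.ne_zero hn0.ne') _) }
    have heq := e.sum_comp fun r : R => (r : ℂ) ^ k
    simp only [e, Equiv.coe_fn_mk, mul_pow, ← Finset.mul_sum] at heq
    exact (mul_left_eq_self₀.1 heq).resolve_left hne
  refine ⟨β, ε, (r₀ : ℂ), u, hε, hmemR.1 r₀.2, fun k hk hk0 c => ?_, fun c => ?_⟩
  · rw [hexp]
    simp only [ha, hsum k hk hk0, mul_zero, zero_add, ite_mul, zero_mul, Finset.sum_ite_eq',
      mem_univ, if_true]
    ring
  · have := hexp 0 c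
    rw [pow_zero, mul_one] at this
    rw [this]
    simp only [ha, pow_zero, Finset.sum_const, card_univ, hcardR, nsmul_one, mul_one, add_mul,
      Finset.sum_add_distrib, ite_mul, zero_mul, Finset.sum_ite_eq', mem_univ, if_true,
      Finset.mul_sum]
    congr 1
    exact Finset.sum_congr rfl fun γ _ => by ring

end Cfsg.Agent.H84
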