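import Cfsg.Prelude.Def_CharExt
import Cfsg.Prelude.Def_Blocks
import Cfsg.Agent.H84.CoprimeFixed

namespace Cfsg.Agent.H84

open Cfsg.Agent

theorem fpf_correspondence {Γ : Type*} [Group Γ] [Fintype Γ] (G S : Subgroup Γ) [Fintype G]
    (hnorm : ∀ s ∈ S, ∀ g ∈ G, s * g * s⁻¹ ∈ G) (hcop : (Nat.card G).Coprime (Nat.card S))
    (htop : G ⊔ S = ⊤) (hcyc : IsCyclic S) (C : Subgroup Γ) [Fintype C]
    (hC : C = G ⊓ Subgroup.centralizer (S : Set Γ)) (hCG : C ≤ G)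
    (hfpf : ∀ x ∈ S, x ≠ 1 → G ⊓ Subgroup.centralizer ({x} : Set Γ) = C)
    (χ : Cfsg.IrrCharacter G) (χh : Cfsg.IrrCharacter Γ)
    (hext : ∀ g : G, (χh : Γ → ℂ) g = (χ : G → ℂ) g)
    (hdet : (Cfsg.detOrder (χh : Γ → ℂ)).Coprime (Nat.card S))
    (β : Cfsg.IrrCharacter C) (ε₀ : ℤ) (hε₀ : ε₀ = 1 ∨ ε₀ = -1)
    (hβ : ∀ c : C, ∀ s : Γ, Subgroup.zpowers s = S →
      (χh : Γ → ℂ) ((c : Γ) * s) = (ε₀ : ℂ) * (β : C → ℂ) c) :
    ∃ ε : ℤ, (ε = 1 ∨ ε = -1) ∧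
      (∃ μ : S → ℂ, Cfsg.IsCharacter S μ ∧ μ 1 = 1 ∧ (∀ x : S, μ x * μ x = 1) ∧
        ∀ c : C, ∀ x : S, x ≠ 1 →
          (χh : Γ → ℂ) ((c : Γ) * x) = (ε : ℂ) * (β : C → ℂ) c * μ x) ∧
      (∃ ϑ : C → ℂ, Cfsg.IsCharacter C ϑ ∧ (fun c : C => (χ : G → ℂ) ⟨c, hCG c.2⟩) =
        fun c => (Nat.card S : ℂ) * ϑ c + (ε : ℂ) * (β : C → ℂ) c) ∧
      (Nat.card S : ℤ) ∣ (Cfsg.charDegree (χ : G → ℂ) : ℤ) -
        ε * (Cfsg.charDegree (β : C → ℂ) : ℤ) := by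
  classical
  have hGn : G.Normal := by
    refine ⟨fun g hg x => ?_⟩
    have hx : x ∈ G ⊔ S := htop ▸ Subgroup.mem_top x
    have hle : G ⊔ S ≤ Subgroup.normalizer (G : Set Γ) := sup_le Subgroup.le_normalizer fun x hx => by
      rw [Subgroup.mem_normalizer_iff]
      intro y
      refine ⟨fun hy => hnorm x hx y hy, fun hy => ?_⟩
      have := hnorm x⁻¹ (S.inv_mem hx) _ hy
      simpa [mul_assoc] using this
    exact (Subgroup.mem_normalizer_iff.1 (hle hx) g).1 hg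
  obtain ⟨s, hs⟩ : ∃ s, Subgroup.zpowers s = S := by
    obtain ⟨⟨g, hg⟩, hgen⟩ := hcyc
    refine ⟨g, le_antisymm (Subgroup.zpowers_le.2 hg) fun x hx => ?_⟩
    obtain ⟨i, hi⟩ := hgen ⟨x, hx⟩
    exact ⟨i, congrArg Subtype.val hi⟩
  have hcard : Nat.card S = orderOf s := by rw [← hs, Nat.card_zpowers]
  have D : H1.CycData G C s := by
    refine ⟨hGn, hs ▸ htop, hcard ▸ hcop, fun c => ?_⟩
    rw [hC, Subgroup.mem_inf, ← hs, Subgroup.mem_centralizer_iff]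
    refine and_congr_right fun _ => ⟨fun h => (h s (Subgroup.mem_zpowers s)).symm, fun h y hy => ?_⟩
    obtain ⟨i, rfl⟩ := Subgroup.mem_zpowers_iff.1 hy
    exact ((Commute.symm h).zpow_left i).eq
  obtain ⟨p, hp0, hp⟩ := CharBasic.IsIrr.exists_degree β.2
  obtain ⟨q, hq0, hq⟩ := CharBasic.IsIrr.exists_degree χ.2
  have hdegβ : Cfsg.charDegree (β : C → ℂ) = p := by rw [Cfsg.charDegree, hp, Complex.natCast_re, Nat.floor_natCast]
  have hdegχ : Cfsg.charDegree (χ : G → ℂ) = q := by rw [Cfsg.charDegree, hq, Complex.natCast_re, Nat.floor_natCast]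
  obtain ⟨ε, r, ϑ, hε, hr2, hrn, hval, hϑ, hdec, hdiv⟩ :
      ∃ (ε : ℤ) (r : ℂ) (ϑ : C → ℂ), (ε = 1 ∨ ε = -1) ∧ r * r = 1 ∧ r ^ orderOf s = 1 ∧
        (∀ k, k < orderOf s → k ≠ 0 → ∀ c : C,
          (χh : Γ → ℂ) ((c : Γ) * s ^ k) = (ε : ℂ) * (β : C → ℂ) c * r ^ k) ∧
        Cfsg.IsCharacter C ϑ ∧
        (∀ c : C, (χh : Γ → ℂ) c = (orderOf s : ℂ) * ϑ c + (ε : ℂ) * (β : C → ℂ) c) ∧
        (orderOf s : ℤ) ∣ (q : ℤ) - ε * p := by
    by_cases hn : orderOf s = 1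
    · refine ⟨ε₀, 1, 0, hε₀, one_mul 1, one_pow _, fun k hk hk0 => absurd hk (by omega), CharBasic.IsChar.zero,
        fun c => ?_, by simp [hn]⟩
      have h1 := hβ c s hs
      rw [orderOf_eq_one_iff.1 hn, mul_one] at h1
      simp [h1]
    have hcan : H1.IsCanon (s := s) (χ : G → ℂ) (χh : Γ → ℂ) :=
      ⟨χh.2, χ.2, hext, hcard ▸ hdet⟩
    obtain ⟨β', ε, r, u, hε, hrn, hval, hdec⟩ := canon_fpf D hcan hn fun k hk hk0 c hc hcom => by
      have hx : s ^ k ≠ 1 := fun h1 =>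
        hk0 (Nat.eq_zero_of_dvd_of_lt (orderOf_dvd_of_pow_eq_one h1) hk)
      rw [← hfpf (s ^ k) (hs ▸ Subgroup.pow_mem _ (Subgroup.mem_zpowers s) k) hx, Subgroup.mem_inf]
      exact ⟨hc, Subgroup.mem_centralizer_singleton_iff.2 hcom⟩
    have h1 : ∀ c : C, (ε₀ : ℂ) * (β : C → ℂ) c = (ε : ℂ) * (β' : C → ℂ) c * r := fun c => by
      rw [← hβ c s hs]
      have := hval 1 (by have := orderOf_pos s; omega) one_ne_zero c
      rwa [pow_one, pow_one] at this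
    obtain ⟨p', hp'0, hp'⟩ := CharBasic.IsIrr.exists_degree β'.2
    have h2 := h1 1
    rw [hp, hp'] at h2
    have hεsq : ((ε : ℂ)) * ε = 1 := by rcases hε with rfl | rfl <;> norm_num
    have hε₀sq : ((ε₀ : ℂ)) * ε₀ = 1 := by rcases hε₀ with rfl | rfl <;> norm_num
    have hpp : p = p' := by
      have h3 := congrArg (fun w : ℂ => ‖w‖) h2
      have e1 : ‖((ε : ℂ))‖ = 1 := by rcases hε with rfl | rfl <;> simp
      have e2 : ‖((ε₀ : ℂ))‖ = 1 := by rcases hε₀ with rfl | rfl <;> simp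
      simp only [norm_mul, e1, e2, one_mul, Complex.norm_natCast,
        Complex.norm_eq_one_of_pow_eq_one hrn (orderOf_pos s).ne', mul_one] at h3
      exact_mod_cast h3
    subst hpp
    have hr : r = (ε₀ : ℂ) * ε := by
      refine mul_left_cancel₀ (show (p : ℂ) ≠ 0 by exact_mod_cast hp0.ne') ?_
      linear_combination -(ε : ℂ) * h2 - (p : ℂ) * r * hεsq
    have hββ : (β' : C → ℂ) = β := funext fun c => by
      have := h1 c
      rw [hr] at this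
      linear_combination -(ε₀ : ℂ) * this - ((β' : C → ℂ) c) * (ε : ℂ) * ε * hε₀sq -
        ((β' : C → ℂ) c) * hεsq + ((β : C → ℂ) c) * hε₀sq
    refine ⟨ε, r, fun c => ∑ γ, (u γ : ℂ) * (γ : C → ℂ) c, hε,
      by rw [hr]; linear_combination (ε : ℂ) * ε * hε₀sq + hεsq, hrn,
      fun k hk hk0 c => by rw [hval k hk hk0 c, hββ],
      ?_, fun c => by rw [hdec c, hββ], ?_⟩
    · rw [show (fun c : C => ∑ γ, (u γ : ℂ) * (γ : C → ℂ) c) =
        ∑ γ, (u γ : ℂ) • (γ : C → ℂ) from funext fun c => by rw [Finset.sum_apply]; rfl]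
      exact CharBasic.IsChar.sum _ _ fun γ _ => by
        rw [Nat.cast_smul_eq_nsmul]
        exact CharBasic.IsChar.nsmul (CharBasic.IsIrr.isCharacter γ.2) _
    · choose dg _ hdg using fun γ : Cfsg.IrrCharacter C => CharBasic.IsIrr.exists_degree γ.2
      refine ⟨∑ γ, (u γ : ℤ) * dg γ, ?_⟩
      refine Int.cast_injective (α := ℂ) ?_
      have h3 := hdec 1
      rw [hββ, hp, show (χh : Γ → ℂ) ((1 : C) : Γ) = (q : ℂ) by rw [← hq]; exact hext 1] at h3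
      simp only [hdg] at h3
      push_cast
      linear_combination h3
  refine ⟨ε, hε, ?_, ?_, by rw [hdegχ, hdegβ, hcard]; exact hdiv⟩
  · have hr0 : r ≠ 0 := left_ne_zero_of_mul_eq_one hr2
    let g : S := ⟨s, hs ▸ Subgroup.mem_zpowers s⟩
    have hg : ∀ x : S, x ∈ Subgroup.zpowers g := fun x => by
      obtain ⟨i, hi⟩ := Subgroup.mem_zpowers_iff.1 (hs ▸ x.2 : (x : Γ) ∈ Subgroup.zpowers s)
      exact Subgroup.mem_zpowers_iff.2 ⟨i, Subtype.ext (by simpa using hi)⟩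
    let μ : S →* ℂˣ := monoidHomOfForallMemZpowers hg (g' := Units.mk0 r hr0) (by
      rw [Subgroup.orderOf_mk]
      exact orderOf_dvd_of_pow_eq_one (Units.ext (by simpa using hrn)))
    have hμg : (μ g : ℂ) = r := by simp [μ]
    have hμk : ∀ x : S, ∃ k, k < orderOf s ∧ (x : Γ) = s ^ k ∧ (μ x : ℂ) = r ^ k := fun x => by
      obtain ⟨k, hk, hxk⟩ := Finset.mem_image.1 (mem_zpowers_iff_mem_range_orderOf.1 (hg x))
      refine ⟨k, ?_, ?_, ?_⟩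
      · rw [Finset.mem_range, Subgroup.orderOf_mk] at hk
        exact hk
      · rw [← hxk, Subgroup.coe_pow]
      · rw [← hxk, map_pow, Units.val_pow_eq_pow_val, hμg]
    refine ⟨fun x => (μ x : ℂ), CharBasic.IsIrr.isCharacter (CharInduce.isIrrCharacter_hom μ), by simp, fun x => ?_, fun c x hx => ?_⟩
    · obtain ⟨k, -, -, hk⟩ := hμk x
      show (μ x : ℂ) * (μ x : ℂ) = 1
      rw [hk, ← mul_pow, hr2, one_pow]
    · obtain ⟨k, hk, hxk, hμ⟩ := hμk x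
      show _ = _ * (μ x : ℂ)
      rw [hμ, hxk]
      refine hval k hk ?_ c
      rintro rfl
      exact hx (Subtype.ext (by simpa using hxk))
  · refine ⟨ϑ, hϑ, funext fun c => ?_⟩
    rw [hcard, ← hdec c]
    exact (hext ⟨c, hCG c.2⟩).symm

end Cfsg.Agent.H84
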