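import Cfsg.Agent.H35.Defect

/-!
# Blocks of defect `d` are separated by classes of defect `d`
-/

set_option linter.style.haveILetI false

namespace Cfsg.Agent.H84

open Cfsg Cfsg.Agent Cfsg.Agent.BlockBasic

variable {G : Type*} [Group G] [Finite G] {p : ℕ} [Fact p.Prime] {M : Ideal AlgInt}

/-- S4510. -/
theorem sameBlock_iff_defect_classes (hM : IsPModular p M) (d : ℕ) (χ ψ : IrrCharacter G)
    (hχ : blockDefect p (blockOf M (χ : G → ℂ)) = d)
    (hψ : blockDefect p (blockOf M (ψ : G → ℂ)) = d) :
    SameBlock M (χ : G → ℂ) (ψ : G → ℂ) ↔ ∀ x : G, ¬ p ∣ orderOf x →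
      (Nat.card (Subgroup.centralizer ({x} : Set G))).factorization p = d →
      MemLocalIdeal M (centralChar (χ : G → ℂ) x - centralChar (ψ : G → ℂ) x) := by
  classical
  refine ⟨fun h x _ _ => h x, fun h => ?_⟩
  cases nonempty_fintype G
  haveI : Finite (ConjClasses G) := Finite.of_surjective _ ConjClasses.mk_surjective
  haveI : Fintype (ConjClasses G) := Fintype.ofFinite _
  set B := blockOf M (χ : G → ℂ) with hBdef
  have hB : IsPBlock M B := isPBlock_blockOf M χ
  have hB' : IsPBlock M (blockOf M (ψ : G → ℂ)) := isPBlock_blockOf M ψ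
  obtain ⟨g, hg⟩ := exists_isDefectClass hM hB
  obtain ⟨g', hg'⟩ := exists_isDefectClass hM hB'
  have hgd := (H35.blockDefect_eq hM hB hg).symm.trans hχ
  have hgd' := (H35.blockDefect_eq hM hB' hg').symm.trans hψ
  have hmono : ∀ {A : Set (IrrCharacter G)} (_ : IsPBlock M A) {θ : IrrCharacter G} (_ : θ ∈ A)
      {u v : G}, ¬ MemLocalIdeal M (centralChar (θ : G → ℂ) u) →
      ¬ MemLocalIdeal M (blockCoeff A v) →
      (Nat.card (Subgroup.centralizer ({v} : Set G))).factorization p ≤
        (Nat.card (Subgroup.centralizer ({u} : Set G))).factorization p := by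
    intro A hA θ hθ u v hu hv
    obtain ⟨c, hc⟩ := H35.exists_sylImage_le hM hA hθ hu hv default
      (default : Sylow p (Subgroup.centralizer ({u} : Set G)))
    have := Subgroup.card_le_of_le hc
    rw [Subgroup.card_map_of_injective (MulAut.conj c).injective, H35.card_sylImage,
      H35.card_sylImage] at this
    exact (Nat.pow_le_pow_iff_right (Fact.out : p.Prime).one_lt).mp this
  -- the difference of central characters of the block idempotent lies in the ideal
  have key : MemLocalIdeal M (omega (χ : G → ℂ) (blockElem B) -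
      omega (ψ : G → ℂ) (blockElem B)) := by
    rw [omega_eq_sum_classes (CharBasic.IsIrr.isClassFunction χ.2) (isCentralElt_blockElem B),
      omega_eq_sum_classes (CharBasic.IsIrr.isClassFunction ψ.2) (isCentralElt_blockElem B),
      ← Finset.sum_sub_distrib]
    refine memLocalIdeal_sum hM _ _ fun C _ => ?_
    rw [coeff_blockElem, ← mul_sub]
    rw [memLocalIdeal_mul_iff hM (memLocalRing_blockCoeff hM hB _)
      ((locRing hM).sub_mem (memLocalRing_centralChar hM χ.2 _)
        (memLocalRing_centralChar hM ψ.2 _))]
    by_cases ha : MemLocalIdeal M (blockCoeff B C.out)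
    · exact Or.inl ha
    refine Or.inr ?_
    have hle : (Nat.card (Subgroup.centralizer ({C.out} : Set G))).factorization p ≤ d :=
      hgd ▸ hmono hB (self_mem_blockOf hM χ) (hg.2.2 χ (self_mem_blockOf hM χ)) ha
    rcases hle.lt_or_eq with hlt | heq
    · -- both central characters vanish there
      have h1 : MemLocalIdeal M (centralChar (χ : G → ℂ) C.out) := by
        by_contra hc
        have := hmono hB (self_mem_blockOf hM χ) hc hg.2.1
        omega
      have h2 : MemLocalIdeal M (centralChar (ψ : G → ℂ) C.out) := by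
        by_contra hc
        have := hmono hB' (self_mem_blockOf hM ψ) hc hg'.2.1
        omega
      exact memLocalIdeal_sub hM h1 h2
    · refine h _ (fun hd => ha ?_) heq
      rw [blockCoeff_eq_zero_of_singular hM hB hd]
      exact memLocalIdeal_zero hM
  rw [omega_blockElem, omega_blockElem, if_pos (self_mem_blockOf hM χ)] at key
  by_cases hmem : ψ ∈ B
  · exact hmem
  · rw [if_neg hmem, sub_zero] at key
    exact absurd key (not_memLocalIdeal_one hM)

end Cfsg.Agent.H84
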