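import Mathlib
import Cfsg.Agent.Coprime.SchurZassenhaus
import Cfsg.Agent.Hall.MinimalNormal

/-!
# Conjugacy of subgroups of equal order in solvable groups
-/

set_option linter.style.haveILetI false

namespace Cfsg.Agent.H84

open Cfsg.Agent Subgroup
open scoped Pointwise

universe u

section

variable {G : Type u} [Group G] [Finite G]

/-- A nontrivial elementary abelian normal `q`-subgroup under a cyclic Sylow `q`-subgroup is the
only subgroup of order `q` and lies in every subgroup of order divisible by `q`. -/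
theorem le_of_cyclic_sylow {q : ℕ} [hq : Fact q.Prime] (hcyc : ∀ Q : Sylow q G, IsCyclic Q)
    (N : Subgroup G) [N.Normal] (hNq : IsPGroup q N) (hN : N ≠ ⊥) (hexp : ∀ x ∈ N, x ^ q = 1)
    (H : Subgroup G) (hH : q ∣ Nat.card H) : N ≤ H := by
  obtain ⟨x, hx⟩ := exists_prime_orderOf_dvd_card' (G := H) q hH
  have hxo : orderOf (x : G) = q := by rw [Subgroup.orderOf_coe, hx]
  obtain ⟨Q, hQ⟩ := (IsPGroup.of_card (n := 1)
    (show Nat.card (Subgroup.zpowers (x : G)) = q ^ 1 by rw [Nat.card_zpowers, hxo, pow_one])).exists_le_sylow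
  have hNQ : N ≤ (Q : Subgroup G) := by
    obtain ⟨R, hR⟩ := hNq.exists_le_sylow
    obtain ⟨g, rfl⟩ := MulAction.exists_smul_eq G Q R
    intro y hy
    have h1 := hR (Subgroup.Normal.conj_mem ‹N.Normal› y hy g)
    rw [Sylow.coe_subgroup_smul, Subgroup.mem_pointwise_smul_iff_inv_smul_mem] at h1
    simpa [mul_assoc] using h1
  intro y hy
  by_cases hy1 : y = 1
  · rw [hy1]; exact H.one_mem
  have hxQ : (x : G) ∈ (Q : Subgroup G) := hQ (Subgroup.mem_zpowers _)
  haveI := hcyc Q
  -- in a cyclic group there are exactly `q` solutions of `z ^ q = 1`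
  classical
  haveI : Fintype (Q : Subgroup G) := Fintype.ofFinite _
  have hmem : (⟨y, hNQ hy⟩ : (Q : Subgroup G)) ∈
      Subgroup.zpowers (⟨(x : G), hxQ⟩ : (Q : Subgroup G)) := by
    have hle := IsCyclic.card_pow_eq_one_le (α := (Q : Subgroup G)) hq.out.pos
    have ho : orderOf (⟨(x : G), hxQ⟩ : (Q : Subgroup G)) = q := by rw [Subgroup.orderOf_mk, hxo]
    have hsub : (Finset.univ.filter fun z : (Q : Subgroup G) =>
        z ∈ Subgroup.zpowers (⟨(x : G), hxQ⟩ : (Q : Subgroup G))) ⊆
        Finset.univ.filter fun z : (Q : Subgroup G) => z ^ q = 1 := by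
      intro z hz
      obtain ⟨i, rfl⟩ := Subgroup.mem_zpowers_iff.1 (Finset.mem_filter.1 hz).2
      refine Finset.mem_filter.2 ⟨Finset.mem_univ _, ?_⟩
      rw [← zpow_natCast, ← zpow_mul, mul_comm, zpow_mul, zpow_natCast]
      rw [orderOf_dvd_iff_pow_eq_one.1 ho.dvd, one_zpow]
    have hc : (Finset.univ.filter fun z : (Q : Subgroup G) =>
        z ∈ Subgroup.zpowers (⟨(x : G), hxQ⟩ : (Q : Subgroup G))).card = q := by
      rw [← Fintype.card_subtype, ← Nat.card_eq_fintype_card]
      exact (Nat.card_zpowers _).trans ho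
    have heq := Finset.eq_of_subset_of_card_le hsub (by rw [hc]; exact hle)
    have : (⟨y, hNQ hy⟩ : (Q : Subgroup G)) ∈
        Finset.univ.filter fun z : (Q : Subgroup G) => z ^ q = 1 :=
      Finset.mem_filter.2 ⟨Finset.mem_univ _, Subtype.ext (hexp y hy)⟩
    rw [← heq] at this
    exact (Finset.mem_filter.1 this).2
  obtain ⟨i, hi⟩ := Subgroup.mem_zpowers_iff.1 hmem
  have h2 := congrArg Subtype.val hi
  rw [show y = (x : G) ^ i from h2.symm]
  exact H.zpow_mem x.2 i

/-- Lifting conjugacy from the quotient by an abelian normal subgroup. -/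
theorem conj_of_quotient (N : Subgroup G) [N.Normal] [IsMulCommutative N] (H K : Subgroup G)
    (hcard : Nat.card H = Nat.card K)
    (hcase : (N ≤ H ∧ N ≤ K) ∨ (Nat.card H).Coprime (Nat.card N))
    (hquo : ∀ A B : Subgroup (G ⧸ N), A = H.map (QuotientGroup.mk' N) →
      B = K.map (QuotientGroup.mk' N) → Nat.card A = Nat.card B →
      ∃ g, B = A.map (MulAut.conj g).toMonoidHom) :
    ∃ g : G, K = H.map (MulAut.conj g).toMonoidHom := by
  set π := QuotientGroup.mk' N with hπ
  have hc : Nat.card (H.map π) = Nat.card (K.map π) := by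
    rw [← relIndex_ker, ← relIndex_ker, QuotientGroup.ker_mk']
    rcases hcase with ⟨h1, h2⟩ | h
    · have e1 := Subgroup.card_mul_index (N.subgroupOf H)
      have e2 := Subgroup.card_mul_index (N.subgroupOf K)
      rw [Nat.card_congr (subgroupOfEquivOfLe h1).toEquiv] at e1
      rw [Nat.card_congr (subgroupOfEquivOfLe h2).toEquiv, ← hcard] at e2
      exact Nat.eq_of_mul_eq_mul_left Nat.card_pos (e1.trans e2.symm)
    · rw [← inf_relIndex_right, Coprime.inf_eq_bot h.symm, relIndex_bot_left,
        ← inf_relIndex_right, Coprime.inf_eq_bot (hcard ▸ h).symm, relIndex_bot_left, hcard]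
  obtain ⟨gq, hgq⟩ := hquo _ _ rfl rfl hc
  obtain ⟨g, rfl⟩ := QuotientGroup.mk'_surjective N gq
  set H' := H.map (MulAut.conj g).toMonoidHom with hH'
  have hmap : K.map π = H'.map π := by
    rw [hgq, hH', Subgroup.map_map, Subgroup.map_map]
    congr 1
  have hsup : K ⊔ N = H' ⊔ N := by
    have := congrArg (Subgroup.comap π) hmap
    rwa [Subgroup.comap_map_eq, Subgroup.comap_map_eq, QuotientGroup.ker_mk'] at this
  rcases hcase with ⟨h1, h2⟩ | h
  · refine ⟨g, ?_⟩
    have h3 : N ≤ H' := fun y hy => ⟨g⁻¹ * y * g,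
      h1 (by simpa using Subgroup.Normal.conj_mem ‹N.Normal› y hy g⁻¹), by simp [mul_assoc]⟩
    rw [sup_eq_left.2 h2, sup_eq_left.2 h3] at hsup
    exact hsup
  · have hcH : Nat.card H' = Nat.card H :=
      Subgroup.card_map_of_injective (MulAut.conj g).injective
    obtain ⟨n, -, hn⟩ := Coprime.exists_conj_of_le_sup_comm (N := N) (H₁ := H') (H₂ := K)
      (le_top.trans (Subgroup.normalizer_eq_top_iff.2 ‹N.Normal›).ge)
      (by rw [sup_comm, ← hsup]; exact le_sup_left) (by rw [hcH, hcard]) (by rw [hcH]; exact h)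
    refine ⟨n * g, ?_⟩
    rw [hn, hH', Subgroup.map_map]
    congr 1
    ext a
    simp [mul_assoc]

theorem cyclic_sylow_quotient {p : ℕ} [Fact p.Prime] (h : ∀ P : Sylow p G, IsCyclic P)
    (N : Subgroup G) [N.Normal] (Q : Sylow p (G ⧸ N)) : IsCyclic Q := by
  obtain ⟨P, rfl⟩ := Sylow.mapSurjective_surjective (QuotientGroup.mk'_surjective N) p Q
  haveI := h P
  rw [Sylow.coe_mapSurjective]
  exact isCyclic_of_surjective ((QuotientGroup.mk' N).subgroupMap (P : Subgroup G))
    (MonoidHom.subgroupMap_surjective _ _)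

end

/-- Subgroups of equal order whose primes have cyclic Sylow subgroups are conjugate. -/
theorem conj_of_cyclic_primes : ∀ (n : ℕ) (G : Type u) [Group G] [Finite G] [Group.IsSolvable G]
    (H K : Subgroup G), Nat.card G ≤ n → Nat.card H = Nat.card K →
    (∀ p : ℕ, p.Prime → p ∣ Nat.card H → ∀ P : Sylow p G, IsCyclic P) →
    ∃ g : G, K = H.map (MulAut.conj g).toMonoidHom := by
  intro n
  induction n with
  | zero => intro G _ _ _ H K hn; exact absurd hn (by have := Nat.card_pos (α := G); omega)
  | succ n ih =>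
    intro G _ _ _ H K hn hcard hcyc
    rcases subsingleton_or_nontrivial G with hss | hnt
    · exact ⟨1, Subsingleton.elim _ _⟩
    obtain ⟨N, hNn, hN, -, hmin⟩ := Hall.exists_minimal_normal_le (⊤ : Subgroup G) top_ne_bot
    haveI := hNn
    obtain ⟨hNc, q, hq, hNq, hexp⟩ := Hall.minimal_normal_of_solvable hN hmin
    haveI : Fact q.Prime := ⟨hq⟩
    have hlt : Nat.card (G ⧸ N) ≤ n := by
      have h1 := Subgroup.card_eq_card_quotient_mul_card_subgroup N
      have h2 : 1 < Nat.card N := (Subgroup.one_lt_card_iff_ne_bot N).2 hN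
      have h3 := Nat.card_pos (α := G ⧸ N)
      nlinarith
    refine conj_of_quotient N H K hcard ?_ fun A B hA hB hAB => ?_
    · by_cases hqH : q ∣ Nat.card H
      · exact Or.inl ⟨le_of_cyclic_sylow (hcyc q hq hqH) N hNq hN hexp H hqH,
          le_of_cyclic_sylow (hcyc q hq hqH) N hNq hN hexp K (hcard ▸ hqH)⟩
      · obtain ⟨a, ha⟩ := hNq.exists_card_eq
        exact Or.inr (ha ▸ ((Nat.Prime.coprime_iff_not_dvd hq).2 hqH).symm.pow_right a)
    · haveI : Group.IsSolvable (G ⧸ N) :=
        Group.isSolvable_of_surjective (QuotientGroup.mk'_surjective N)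
      refine ih (G ⧸ N) A B hlt hAB fun p hp hpA P => ?_
      haveI : Fact p.Prime := ⟨hp⟩
      exact cyclic_sylow_quotient (hcyc p hp (hpA.trans (hA ▸ Subgroup.card_map_dvd _ _))) N P

/-- The full statement. -/
theorem equal_order_conj : ∀ (n : ℕ) (G : Type u) [Group G] [Finite G] [Group.IsSolvable G]
    (r : ℕ), Nat.card G ≤ n →
    (∀ p : ℕ, p.Prime → ∀ H K : Subgroup G, IsPGroup p H → IsPGroup p K → Nat.card H = Nat.card K →
      ∃ g : G, K = H.map (MulAut.conj g).toMonoidHom) →
    (∀ p : ℕ, p.Prime → p ≠ r → ∀ P : Sylow p G, IsCyclic P) →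
    ∀ H K : Subgroup G, Nat.card H = Nat.card K → ∃ g : G, K = H.map (MulAut.conj g).toMonoidHom := by
  intro n
  induction n with
  | zero => intro G _ _ _ r hn; exact absurd hn (by have := Nat.card_pos (α := G); omega)
  | succ n ih =>
    intro G _ _ _ r hn hD hcyc H K hcard
    classical
    by_cases hr : r.Prime ∧ r ∣ Nat.card H
    swap
    · exact conj_of_cyclic_primes (Nat.card G) G H K le_rfl hcard fun p hp hpH => hcyc p hp
        fun h => hr ⟨h ▸ hp, h ▸ hpH⟩
    obtain ⟨hrp, hrH⟩ := hr
    haveI : Fact r.Prime := ⟨hrp⟩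
    rcases subsingleton_or_nontrivial G with hss | hnt
    · exact ⟨1, Subsingleton.elim _ _⟩
    obtain ⟨N, hNn, hN, -, hmin⟩ := Hall.exists_minimal_normal_le (⊤ : Subgroup G) top_ne_bot
    haveI := hNn
    obtain ⟨hNc, q, hq, hNq, hexp⟩ := Hall.minimal_normal_of_solvable hN hmin
    haveI : Fact q.Prime := ⟨hq⟩
    have hlt : Nat.card (G ⧸ N) ≤ n := by
      have h1 := Subgroup.card_eq_card_quotient_mul_card_subgroup N
      have h2 : 1 < Nat.card N := (Subgroup.one_lt_card_iff_ne_bot N).2 hN
      have h3 := Nat.card_pos (α := G ⧸ N)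
      nlinarith
    have hquo : ∀ A B : Subgroup (G ⧸ N), Nat.card A = Nat.card B →
        ∃ g, B = A.map (MulAut.conj g).toMonoidHom := by
      intro A B hAB
      haveI : Group.IsSolvable (G ⧸ N) :=
        Group.isSolvable_of_surjective (QuotientGroup.mk'_surjective N)
      refine ih (G ⧸ N) r hlt ?_ (fun p hp hpr P => ?_) A B hAB
      · intro p hp A B hA hB hAB
        haveI : Fact p.Prime := ⟨hp⟩
        -- lift `p`-subgroups of the quotient
        have hlift : ∀ A : Subgroup (G ⧸ N), IsPGroup p A → ∃ A' : Subgroup G, IsPGroup p A' ∧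
            A'.map (QuotientGroup.mk' N) = A ∧
            Nat.card A' = Nat.card A * p ^ (Nat.card N).factorization p := by
          intro A hA
          set X := A.comap (QuotientGroup.mk' N) with hX
          obtain ⟨S⟩ : Nonempty (Sylow p X) := inferInstance
          have hcX : Nat.card X = Nat.card A * Nat.card N := by
            have h1 : Nat.card (X.map (QuotientGroup.mk' N)) = Nat.card A := by
              rw [hX, map_comap_eq_self_of_surjective (QuotientGroup.mk'_surjective N)]
            rw [← h1, ← relIndex_ker, QuotientGroup.ker_mk', mul_comm]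
            have hNX : N ≤ X := fun x hx => by
              simp [hX, (QuotientGroup.eq_one_iff x).mpr hx, one_mem]
            have e1 := Subgroup.card_mul_index (N.subgroupOf X)
            rw [Nat.card_congr (subgroupOfEquivOfLe hNX).toEquiv] at e1
            exact e1.symm
          obtain ⟨a, ha⟩ := hA.exists_card_eq
          have hcS : Nat.card (S : Subgroup X) = Nat.card A * p ^ (Nat.card N).factorization p := by
            rw [Sylow.card_eq_multiplicity, hcX, Nat.factorization_mul Nat.card_pos.ne'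
              Nat.card_pos.ne', Finsupp.add_apply, pow_add]
            congr 1
            rw [ha, hp.factorization_pow, Finsupp.single_eq_same]
          refine ⟨(S : Subgroup X).map X.subtype, S.2.map _, ?_, ?_⟩
          · let f : X →* A := ((QuotientGroup.mk' N).comp X.subtype).codRestrict A fun x => x.2
            have hf : Function.Surjective f := by
              rintro ⟨y, hy⟩
              obtain ⟨x, rfl⟩ := QuotientGroup.mk'_surjective N y
              exact ⟨⟨x, hy⟩, rfl⟩
            have htop : (S : Subgroup X).map f = ⊤ := by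
              have hT : ((S.mapSurjective hf : Sylow p A) : Subgroup A) = ⊤ :=
                ((S.mapSurjective hf).is_maximal' (hA.of_equiv Subgroup.topEquiv.symm) le_top).symm
              rw [← Sylow.coe_mapSurjective hf S]
              exact hT
            calc ((S : Subgroup X).map X.subtype).map (QuotientGroup.mk' N)
                = ((S : Subgroup X).map f).map A.subtype := by
                  rw [Subgroup.map_map, Subgroup.map_map]; rfl
              _ = A := by rw [htop, ← MonoidHom.range_eq_map, Subgroup.range_subtype]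
          · rw [Subgroup.card_map_of_injective X.subtype_injective, hcS]
        obtain ⟨A', hA'p, hA', hA'c⟩ := hlift A hA
        obtain ⟨B', hB'p, hB', hB'c⟩ := hlift B hB
        obtain ⟨g, hg⟩ := hD p hp A' B' hA'p hB'p (by rw [hA'c, hB'c, hAB])
        refine ⟨QuotientGroup.mk' N g, ?_⟩
        rw [← hA', ← hB', hg, Subgroup.map_map, Subgroup.map_map]
        congr 1
      · haveI : Fact p.Prime := ⟨hp⟩
        exact cyclic_sylow_quotient (hcyc p hp hpr) N P
    by_cases hqr : q = r
    swap
    · refine conj_of_quotient N H K hcard ?_ fun A B _ _ hAB => hquo A B hAB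
      by_cases hqH : q ∣ Nat.card H
      · exact Or.inl ⟨le_of_cyclic_sylow (hcyc q hq hqr) N hNq hN hexp H hqH,
          le_of_cyclic_sylow (hcyc q hq hqr) N hNq hN hexp K (hcard ▸ hqH)⟩
      · obtain ⟨a, ha⟩ := hNq.exists_card_eq
        exact Or.inr (ha ▸ ((Nat.Prime.coprime_iff_not_dvd hq).2 hqH).symm.pow_right a)
    subst hqr
    -- common Sylow `r`-subgroup
    obtain ⟨SH⟩ : Nonempty (Sylow q H) := inferInstance
    obtain ⟨SK⟩ : Nonempty (Sylow q K) := inferInstance
    set R := (SH : Subgroup H).map H.subtype with hRdef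
    have hRc : Nat.card R = Nat.card ((SK : Subgroup K).map K.subtype) := by
      rw [hRdef, Subgroup.card_map_of_injective H.subtype_injective,
        Subgroup.card_map_of_injective K.subtype_injective, Sylow.card_eq_multiplicity,
        Sylow.card_eq_multiplicity, hcard]
    obtain ⟨g₀, hg₀⟩ := hD q hq R _ (SH.2.map _) (SK.2.map _) hRc
    set K' := K.map (MulAut.conj g₀⁻¹).toMonoidHom with hK'
    suffices hmain : ∃ g : G, K' = H.map (MulAut.conj g).toMonoidHom by
      obtain ⟨g, hg⟩ := hmain
      refine ⟨g₀ * g, ?_⟩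
      have h1 : K = K'.map (MulAut.conj g₀).toMonoidHom := by
        rw [hK', Subgroup.map_map]
        conv_lhs => rw [← Subgroup.map_id K]
        congr 1
        ext a
        simp [mul_assoc]
      rw [h1, hg, Subgroup.map_map]
      congr 1
      ext a
      simp [mul_assoc]
    have hcard' : Nat.card H = Nat.card K' := by
      rw [hK', Subgroup.card_map_of_injective (MulAut.conj g₀⁻¹).injective, hcard]
    have hRH : R ≤ H := Subgroup.map_subtype_le _
    have hRK : R ≤ K' := by
      intro x hx
      have h1 : g₀ * x * g₀⁻¹ ∈ (SK : Subgroup K).map K.subtype := by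
        rw [hg₀]; exact ⟨x, hx, rfl⟩
      exact ⟨g₀ * x * g₀⁻¹, Subgroup.map_subtype_le _ h1, by simp [mul_assoc]⟩
    by_cases hNR : N ≤ R
    · exact conj_of_quotient N H K' hcard' (Or.inl ⟨hNR.trans hRH, hNR.trans hRK⟩)
        fun A B _ _ hAB => hquo A B hAB
    -- `R ≤ N`
    have hconjN : ∀ X : Subgroup G, IsPGroup q X → Nat.card X = Nat.card N → X = N := by
      intro X hX hXc
      obtain ⟨g, hg⟩ := hD q hq N X hNq hX hXc.symm
      rw [hg]
      refine le_antisymm ?_ fun y hy => ⟨g⁻¹ * y * g,
        (by simpa using hNn.conj_mem y hy g⁻¹), by simp [mul_assoc]⟩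
      rintro _ ⟨y, hy, rfl⟩
      exact hNn.conj_mem y hy g
    have hRp : IsPGroup q R := SH.2.map _
    obtain ⟨a, ha⟩ := hRp.exists_card_eq
    obtain ⟨b, hb⟩ := hNq.exists_card_eq
    have hab : a ≤ b := by
      by_contra hlt'
      obtain ⟨X, hX⟩ := Sylow.exists_subgroup_card_pow_prime q
        (show q ^ b ∣ Nat.card R from ha ▸ pow_dvd_pow q (by omega))
      refine hNR ?_
      rw [← hconjN (X.map R.subtype) ((IsPGroup.of_card hX).map _)
        (by rw [Subgroup.card_map_of_injective R.subtype_injective, hX, hb])]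
      exact Subgroup.map_subtype_le _
    have hRN : R ≤ N := by
      obtain ⟨X, hX⟩ := Sylow.exists_subgroup_card_pow_prime q
        (show q ^ a ∣ Nat.card N from hb ▸ pow_dvd_pow q hab)
      obtain ⟨g, hg⟩ := hD q hq (X.map N.subtype) R ((IsPGroup.of_card hX).map _) hRp
        (by rw [Subgroup.card_map_of_injective N.subtype_injective, hX, ha])
      rw [hg]
      rintro _ ⟨y, hy, rfl⟩
      exact hNn.conj_mem y (Subgroup.map_subtype_le _ hy) g
    have hRnorm : ∀ W : Subgroup G, R ≤ W → Nat.card W = Nat.card H → W ⊓ N = R := by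
      intro W hW hWc
      symm
      refine Subgroup.eq_of_le_of_card_ge (le_inf hW hRN) ?_
      obtain ⟨c, hc⟩ := (hNq.to_le (inf_le_right : W ⊓ N ≤ N)).exists_card_eq
      have h1 : q ^ c ∣ Nat.card H := hc ▸ hWc ▸ Subgroup.card_dvd_of_le inf_le_left
      rw [hc, hRdef, Subgroup.card_map_of_injective H.subtype_injective, Sylow.card_eq_multiplicity]
      exact Nat.pow_le_pow_right hq.pos ((hq.pow_dvd_iff_le_factorization Nat.card_pos.ne').1 h1)
    set L := Subgroup.normalizer (R : Set G) with hL
    have hWL : ∀ W : Subgroup G, R ≤ W → Nat.card W = Nat.card H → W ≤ L := by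
      intro W hW hWc
      rw [hL, ← hRnorm W hW hWc]
      intro w hw
      rw [Subgroup.mem_normalizer_iff]
      intro y
      constructor
      · rintro ⟨h1, h2⟩
        exact ⟨W.mul_mem (W.mul_mem hw h1) (W.inv_mem hw), hNn.conj_mem y h2 w⟩
      · rintro ⟨h1, h2⟩
        have h1' := W.mul_mem (W.mul_mem (W.inv_mem hw) h1) hw
        have h2' := hNn.conj_mem _ h2 w⁻¹
        simp only [mul_assoc, inv_mul_cancel_left, inv_inv, inv_mul_cancel, mul_one] at h1' h2'
        exact ⟨h1', h2'⟩
    have hcompl : ∀ W : Subgroup G, R ≤ W → Nat.card W = Nat.card H → ∃ W₀ : Subgroup G,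
        W₀ ≤ W ∧ R ⊔ W₀ = W ∧ Nat.card W₀ * Nat.card R = Nat.card H ∧ ¬ q ∣ Nat.card W₀ := by
      intro W hW hWc
      haveI : (R.subgroupOf W).Normal :=
        normal_subgroupOf_of_le_normalizer (hWL W hW hWc)
      have hcR : Nat.card (R.subgroupOf W) = Nat.card R :=
        Nat.card_congr (subgroupOfEquivOfLe hW).toEquiv
      have hRmult : Nat.card R = q ^ (Nat.card H).factorization q := by
        rw [hRdef, Subgroup.card_map_of_injective H.subtype_injective, Sylow.card_eq_multiplicity]
      have hidx : ¬ q ∣ (R.subgroupOf W).index := by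
        have h1 := Subgroup.card_mul_index (R.subgroupOf W)
        rw [hcR, hWc, hRmult] at h1
        intro hd
        have h2 : q ^ ((Nat.card H).factorization q + 1) ∣ Nat.card H := by
          rw [pow_succ]
          exact (mul_dvd_mul_left _ hd).trans (dvd_of_eq h1)
        exact Nat.pow_succ_factorization_not_dvd Nat.card_pos.ne' hq h2
      obtain ⟨C, hC⟩ := Subgroup.exists_right_complement'_of_coprime (N := R.subgroupOf W)
        (by rw [hcR, hRmult]; exact (((Nat.Prime.coprime_iff_not_dvd hq).2 hidx)).pow_left _)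
      refine ⟨C.map W.subtype, Subgroup.map_subtype_le _, ?_, ?_, ?_⟩
      · have h1 := congrArg (Subgroup.map W.subtype) hC.sup_eq_top
        rwa [Subgroup.map_sup, map_subgroupOf_eq_of_le hW, ← MonoidHom.range_eq_map,
          Subgroup.range_subtype] at h1
      · rw [Subgroup.card_map_of_injective W.subtype_injective, ← hcR, mul_comm, hC.card_mul, hWc]
      · rw [Subgroup.card_map_of_injective W.subtype_injective, ← hC.symm.index_eq_card]
        exact hidx
    obtain ⟨H₀, hH₀, hH₀s, hH₀c, hH₀q⟩ := hcompl H hRH rfl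
    obtain ⟨K₀, hK₀, hK₀s, hK₀c, -⟩ := hcompl K' hRK hcard'.symm
    have hH₀L : H₀ ≤ L := hH₀.trans (hWL H hRH rfl)
    have hK₀L : K₀ ≤ L := hK₀.trans (hWL K' hRK hcard'.symm)
    obtain ⟨l, hl⟩ := conj_of_cyclic_primes (Nat.card L) L (H₀.subgroupOf L) (K₀.subgroupOf L) le_rfl
      (by
        rw [Nat.card_congr (subgroupOfEquivOfLe hH₀L).toEquiv,
          Nat.card_congr (subgroupOfEquivOfLe hK₀L).toEquiv]
        exact Nat.eq_of_mul_eq_mul_right Nat.card_pos (hH₀c.trans hK₀c.symm))
      fun p hp hpd P => by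
        haveI : Fact p.Prime := ⟨hp⟩
        have hpq : p ≠ q := fun h => hH₀q (by
          subst h
          rwa [Nat.card_congr (subgroupOfEquivOfLe hH₀L).toEquiv] at hpd)
        obtain ⟨T, hT⟩ := (P.2.map L.subtype).exists_le_sylow
        haveI := hcyc p hp hpq T
        exact isCyclic_of_injective
          ((L.subtype.comp (P : Subgroup L).subtype).codRestrict (T : Subgroup G)
            fun x => hT (Subgroup.mem_map_of_mem _ x.2))
          fun x y hxy => Subtype.ext (Subtype.ext (congrArg Subtype.val hxy :))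
    refine ⟨(l : G), ?_⟩
    have h1 := congrArg (Subgroup.map L.subtype) hl
    rw [map_subgroupOf_eq_of_le hK₀L, Subgroup.map_map] at h1
    have h2 : H₀.map (MulAut.conj (l : G)).toMonoidHom = K₀ := by
      rw [h1]
      conv_lhs => rw [← map_subgroupOf_eq_of_le hH₀L, Subgroup.map_map]
      congr 1
    have h3 : R.map (MulAut.conj (l : G)).toMonoidHom = R :=
      le_antisymm (by rintro _ ⟨y, hy, rfl⟩; exact (Subgroup.mem_normalizer_iff.1 l.2 y).1 hy)
        fun y hy => ⟨(l : G)⁻¹ * y * l, by
          have := (Subgroup.mem_normalizer_iff.1 (L.inv_mem l.2) y).1 hy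
          simpa using this, by simp [mul_assoc]⟩
    rw [← hH₀s, Subgroup.map_sup, h2, h3, hK₀s]

end Cfsg.Agent.H84
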