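import Cfsg.Agent.CharInduce.Induce
import Cfsg.Agent.BlockBasic.Basic

/-!
# Characters of full degree at `p'` are induced from a Sylow subgroup
-/

namespace Cfsg.Agent.H84

open Cfsg.Agent

variable {G : Type*} [Group G] [Fintype G] {p : ℕ} [hp : Fact p.Prime]

theorem pow_codegree_iff_induced (χ : Cfsg.IrrCharacter G) :
    (∃ k : ℕ, Nat.card G = p ^ k * Cfsg.charDegree (χ : G → ℂ)) ↔
      ∃ (P : Sylow p G) (θ : ↥(P : Subgroup G) → ℂ), Cfsg.IsCharacter ↥(P : Subgroup G) θ ∧
        (χ : G → ℂ) = Cfsg.indFun (P : Subgroup G) θ := by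
  have hd := BlockBasic.apply_one_eq_charDegree χ
  set d := Cfsg.charDegree (χ : G → ℂ) with hddef
  constructor
  · rintro ⟨k, hk⟩
    let P : Sylow p G := default
    haveI : Fintype (P : Subgroup G) := Fintype.ofFinite _
    refine ⟨P, ?_⟩
    set a := (Nat.card G).factorization p with ha
    have hPc : Nat.card (P : Subgroup G) = p ^ a := P.card_eq_multiplicity
    have hka : k ≤ a :=
      (hp.out.pow_dvd_iff_le_factorization Nat.card_pos.ne').1 ⟨d, hk⟩
    have hidx : d = p ^ (a - k) * (P : Subgroup G).index := by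
      have h := (P : Subgroup G).card_mul_index
      rw [hk, hPc, show a = k + (a - k) by omega, pow_add, mul_assoc] at h
      exact (Nat.eq_of_mul_eq_mul_left (pow_pos hp.out.pos k) h).symm
    obtain ⟨s, hs⟩ := CharBasic.IsChar.eq_multiset_sum
      (CharInduce.IsChar.res (CharBasic.IsIrr.isCharacter χ.2) (P : Subgroup G))
    -- a constituent of degree at most `p ^ (a - k)`
    obtain ⟨θ, hθs, hθ⟩ : ∃ θ ∈ s, Cfsg.charDegree (θ : ↥(P : Subgroup G) → ℂ) ≤ p ^ (a - k) := by
      by_contra hc
      push Not at hc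
      have hdvd : ∀ θ ∈ s, p ^ (a - k + 1) ∣ Cfsg.charDegree (θ : ↥(P : Subgroup G) → ℂ) :=
        fun θ hθ => by
          obtain ⟨j, -, hj⟩ := (Nat.dvd_prime_pow hp.out).1 (hPc ▸ BlockBasic.charDegree_dvd θ)
          rw [hj]
          refine pow_dvd_pow p ?_
          have := hc θ hθ
          rw [hj] at this
          exact (Nat.pow_lt_pow_iff_right hp.out.one_lt).1 this
      have hsum : (d : ℂ) = ((s.map fun θ : Cfsg.IrrCharacter ↥(P : Subgroup G) =>
          Cfsg.charDegree (θ : ↥(P : Subgroup G) → ℂ)).sum : ℕ) := by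
        have := congrFun hs 1
        simp only [Pi.multiset_sum_apply, Multiset.map_map, Function.comp_def,
          BlockBasic.apply_one_eq_charDegree, OneMemClass.coe_one] at this
        rw [this, Nat.cast_multiset_sum, Multiset.map_map]
        rfl
      rw [Nat.cast_inj] at hsum
      have h2 : p ^ (a - k + 1) ∣ d := hsum ▸ Multiset.dvd_sum fun x hx => by
        obtain ⟨θ, hθ, rfl⟩ := Multiset.mem_map.1 hx
        exact hdvd θ hθ
      rw [hidx, pow_succ, Nat.mul_dvd_mul_iff_left (pow_pos hp.out.pos _)] at h2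
      exact P.not_dvd_index h2
    refine ⟨θ, CharBasic.IsIrr.isCharacter θ.2, ?_⟩
    have hne : Cfsg.classInner (Cfsg.indFun (P : Subgroup G) (θ : ↥(P : Subgroup G) → ℂ))
        (χ : G → ℂ) ≠ 0 := by
      rw [CharInduce.classInner_indFun_left _ _ _ (CharBasic.IsIrr.isClassFunction χ.2), hs]
      classical
      rw [← Multiset.cons_erase hθs, Multiset.map_cons, Multiset.sum_cons,
        CharBasic.classInner_add_right, CharBasic.classInner_irr_self θ.2]
      obtain ⟨m, hm⟩ := CharBasic.classInner_isChar_nat (CharBasic.IsIrr.isCharacter θ.2)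
        (CharBasic.IsChar.multiset_sum ((s.erase θ).map Subtype.val) fun f hf => by
          obtain ⟨η, -, rfl⟩ := Multiset.mem_map.1 hf
          exact CharBasic.IsIrr.isCharacter η.2)
      rw [hm]
      exact_mod_cast Nat.succ_ne_zero m ∘ fun h => by omega
    obtain ⟨r, hr, hrχ⟩ := CharInduce.IsChar.exists_eq_add
      (CharInduce.IsChar.ind _ (CharBasic.IsIrr.isCharacter θ.2)) χ.2 hne
    obtain ⟨e, he⟩ := CharBasic.IsChar.exists_degree hr
    have h1 := congrFun hrχ 1
    rw [Pi.add_apply, he, hd, CharInduce.indFun_one, BlockBasic.apply_one_eq_charDegree] at h1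
    have h2 : (P : Subgroup G).index * Cfsg.charDegree (θ : ↥(P : Subgroup G) → ℂ) = d + e := by
      exact_mod_cast h1
    have he0 : e = 0 := by
      have := Nat.mul_le_mul_left (P : Subgroup G).index hθ
      rw [h2, mul_comm, ← hidx] at this
      omega
    rw [hrχ, CharInduce.IsChar.eq_zero_of_one_eq_zero hr (by rw [he, he0, Nat.cast_zero]), add_zero]
  · rintro ⟨P, θ, hθ, hχ⟩
    haveI : Fintype (P : Subgroup G) := Fintype.ofFinite _
    obtain ⟨e, he⟩ := CharBasic.IsChar.exists_degree hθ
    have h1 := congrFun hχ 1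
    rw [hd, CharInduce.indFun_one, he] at h1
    have h2 : d = (P : Subgroup G).index * e := by exact_mod_cast h1
    have h3 := BlockBasic.charDegree_dvd χ
    rw [← hddef, ← (P : Subgroup G).card_mul_index, h2, mul_comm (Nat.card (P : Subgroup G)),
      Nat.mul_dvd_mul_iff_left (Nat.pos_of_ne_zero Subgroup.FiniteIndex.index_ne_zero),
      P.card_eq_multiplicity, Nat.dvd_prime_pow hp.out] at h3
    obtain ⟨j, hj, hje⟩ := h3
    refine ⟨(Nat.card G).factorization p - j, ?_⟩
    have hc := (P : Subgroup G).card_mul_index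
    rw [P.card_eq_multiplicity] at hc
    rw [h2, hje, mul_left_comm, ← pow_add, Nat.sub_add_cancel hj, mul_comm, hc]

end Cfsg.Agent.H84
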