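import Cfsg.Agent.H84.InvariantAbove

namespace Cfsg.Agent.H84

theorem invariant_above_statement {Γ : Type*} [Group Γ] [Fintype Γ] (G S N : Subgroup Γ)
    [Fintype G] [Fintype N] (hnorm : ∀ s ∈ S, ∀ g ∈ G, s * g * s⁻¹ ∈ G) (hNG : N ≤ G)
    [hNn : (N.subgroupOf G).Normal] (hNS : ∀ s ∈ S, ∀ n ∈ N, s * n * s⁻¹ ∈ N)
    (hcop : (N.relIndex G).Coprime (Nat.card S)) (hsolv : Group.IsSolvable (G ⧸ N.subgroupOf G))
    (θ : Cfsg.IrrCharacter N)
    (hinv : ∀ s ∈ S, ∀ g g' : N, (g' : Γ) = s * g * s⁻¹ → (θ : N → ℂ) g' = (θ : N → ℂ) g) :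
    ∃ χ : Cfsg.IrrCharacter G,
      Cfsg.classInner (fun n : N => (χ : G → ℂ) ⟨n, hNG n.2⟩) (θ : N → ℂ) ≠ 0 ∧
      ∀ s ∈ S, ∀ g g' : G, (g' : Γ) = s * g * s⁻¹ → (χ : G → ℂ) g' = (χ : G → ℂ) g := by
  classical
  haveI : Fintype S := Fintype.ofFinite S
  haveI : Fintype (N.subgroupOf G) := Fintype.ofFinite _
  let φ : S →* MulAut G :=
    { toFun := fun s =>
        { toFun := fun g => ⟨(s : Γ) * g * (s : Γ)⁻¹, hnorm s s.2 g g.2⟩
          invFun := fun g => ⟨((s⁻¹ : S) : Γ) * g * ((s⁻¹ : S) : Γ)⁻¹, hnorm _ (s⁻¹).2 g g.2⟩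
          left_inv := fun g => Subtype.ext (by simp [mul_assoc])
          right_inv := fun g => Subtype.ext (by simp [mul_assoc])
          map_mul' := fun a b => Subtype.ext (by simp [mul_assoc]) }
      map_one' := MulEquiv.ext fun g => Subtype.ext (by simp)
      map_mul' := fun s t => MulEquiv.ext fun g => Subtype.ext (by simp [mul_assoc]) }
  let e := Subgroup.subgroupOfEquivOfLe hNG
  have hθ := CharInduce.IsIrr.comp θ.2 e.toMonoidHom e.surjective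
  obtain ⟨χ, hχ, hχinv⟩ := exists_invariant_above (S := S) _ G φ (N.subgroupOf G) le_rfl hsolv hcop
    (fun s m hm => hNS s s.2 m.1 hm) (fun m => (θ : N → ℂ) (e m)) hθ
    (fun s m => hinv s s.2 (e m) _ rfl)
  refine ⟨χ, ?_, fun s hs g g' h => ?_⟩
  · intro h0
    apply hχ
    rw [← h0, ← CharInduce.classInner_comp_mulEquiv e]
    rfl
  · rw [← hχinv ⟨s, hs⟩ g]
    exact congrArg _ (Subtype.ext h)

end Cfsg.Agent.H84
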