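import Cfsg.Agent.H84.Separated
import Cfsg.Agent.Cores.Basic
import Mathlib.GroupTheory.Sylow

/-!
# Abelian Sylow subgroups inverted by an involution
-/

open scoped Pointwise

set_option linter.style.haveILetI false
set_option linter.unusedSectionVars false

namespace Cfsg.Agent.H84

variable {G : Type*} [Group G] [Finite G] {p : ℕ} [hp : Fact p.Prime]

theorem defect_zero_or_inverted_sylow (h2G : 2 ∣ Nat.card G)
    (hC : ∀ g : G, g ≠ 1 → (∃ k : ℕ, orderOf g = p ^ k) →
      Odd (Nat.card ↥(Subgroup.centralizer ({g} : Set G)))) :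
    (∃ χ : Cfsg.IrrCharacter G,
      (Cfsg.charDegree (χ : G → ℂ)).factorization p = (Nat.card G).factorization p) ∨
    ∀ P : Sylow p G, Even (Nat.card ↥(Subgroup.normalizer ((P : Subgroup G) : Set G))) ∧
      IsMulCommutative ↥(P : Subgroup G) := by
  refine (exists_inverted (default : Sylow p G) h2G hC).imp_right ?_
  rintro ⟨t, u, ht, huP, hu1, htu⟩
  obtain ⟨j, hj⟩ := IsPGroup.iff_orderOf.1 (default : Sylow p G).isPGroup' ⟨u, huP⟩
  rw [Subgroup.orderOf_mk] at hj
  have ht1 : t * t = 1 := by rw [← sq, ← ht, pow_orderOf_eq_one]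
  have hti : t⁻¹ = t := inv_eq_of_mul_eq_one_right ht1
  set C := Subgroup.centralizer ({u} : Set G) with hCdef
  have hodd : Odd (Nat.card C) := hC u hu1 ⟨j, hj⟩
  have hCt : ∀ c, c ∈ C → t * c * t⁻¹ ∈ C := fun c hc => by
    rw [hCdef, Subgroup.mem_centralizer_singleton_iff] at hc ⊢
    have h : (t * c * t⁻¹) * (t * u * t⁻¹) = (t * u * t⁻¹) * (t * c * t⁻¹) := by
      simp only [mul_assoc, inv_mul_cancel_left]
      rw [← mul_assoc c u, hc, mul_assoc]
    rw [htu] at h
    exact (Commute.inv_right_iff.1 (show Commute _ _ from h)).eq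
  -- `t` fixes a Sylow subgroup of `C`
  let α : C ≃* C :=
    { toFun := fun c => ⟨t * c * t⁻¹, hCt _ c.2⟩
      invFun := fun c => ⟨t * c * t⁻¹, hCt _ c.2⟩
      left_inv := fun c => Subtype.ext (by
        show t * (t * (c : G) * t⁻¹) * t⁻¹ = c
        rw [hti, mul_assoc t (t * (c : G) * t) t, mul_assoc (t * (c : G)) t t, ht1, mul_one,
          ← mul_assoc, ht1, one_mul])
      right_inv := fun c => Subtype.ext (by
        show t * (t * (c : G) * t⁻¹) * t⁻¹ = c
        rw [hti, mul_assoc t (t * (c : G) * t) t, mul_assoc (t * (c : G)) t t, ht1, mul_one,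
          ← mul_assoc, ht1, one_mul])
      map_mul' := fun a b => Subtype.ext (by simp [mul_assoc]) }
  have hα2 : ∀ c, α (α c) = c := fun c => α.left_inv c
  let T : Sylow p C → Sylow p C := fun Q =>
    Q.comapOfInjective α.toMonoidHom α.injective
      (fun x _ => ⟨α x, hα2 x⟩)
  have hTcoe : ∀ Q : Sylow p C, (T Q : Subgroup C) = (Q : Subgroup C).comap α.toMonoidHom :=
    fun Q => rfl
  have hT : Function.Involutive T := fun Q => Sylow.ext (by
    rw [hTcoe, hTcoe]
    ext x
    simp [Subgroup.mem_comap, hα2])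
  obtain ⟨Q, hQ⟩ : ∃ Q : Sylow p C, T Q = Q := by
    classical
    by_contra hno
    push Not at hno
    haveI : Fintype (Sylow p C) := Fintype.ofFinite _
    have hev : Even (Nat.card (Sylow p C)) := by
      have : (hT.toPerm T).support = Finset.univ := Finset.eq_univ_of_forall fun Q =>
        Equiv.Perm.mem_support.2 (hno Q)
      rw [Nat.card_eq_fintype_card, ← Finset.card_univ, ← this]
      have h2 : (hT.toPerm T) ^ 2 = 1 := Equiv.ext fun Q => by simp [sq, hT Q]
      obtain ⟨n, hn⟩ := Equiv.Perm.sum_cycleType (hT.toPerm T) ▸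
        Multiset.dvd_sum (a := 2) fun k hk => by
          have h3 := (Equiv.Perm.dvd_of_mem_cycleType hk).trans (orderOf_dvd_of_pow_eq_one h2)
          have h4 := Equiv.Perm.two_le_of_mem_cycleType hk
          have h5 := Nat.le_of_dvd two_pos h3
          rw [show k = 2 by omega]
      exact ⟨n, by omega⟩
    have hdvd := (default : Sylow p C).card_dvd_index.trans
      (Subgroup.index_dvd_card _)
    exact Nat.not_even_iff_odd.2 (hodd.of_dvd_nat hdvd) hev
  set Q' : Subgroup G := (Q : Subgroup C).map C.subtype with hQ'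
  have hQ'C : Q' ≤ C := Subgroup.map_subtype_le _
  have hQ'p : IsPGroup p Q' := Q.isPGroup'.map _
  have hQnorm : ∀ q ∈ Q', t * q * t⁻¹ ∈ Q' := by
    rintro _ ⟨q, hq, rfl⟩
    refine ⟨α q, ?_, rfl⟩
    have h : q ∈ (T Q : Subgroup C) := by rw [hQ]; exact hq
    rw [hTcoe] at h
    exact h
  -- no nontrivial `p`-element commutes with `t`
  have hfix : ∀ q : G, q ∈ Q' → t * q * t⁻¹ = q → q = 1 := fun q hq hqt => by
    by_contra hq1
    obtain ⟨k, hk⟩ := IsPGroup.iff_orderOf.1 hQ'p ⟨q, hq⟩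
    rw [Subgroup.orderOf_mk] at hk
    have hmem : t ∈ Subgroup.centralizer ({q} : Set G) :=
      Subgroup.mem_centralizer_singleton_iff.2 (mul_inv_eq_iff_eq_mul.1 hqt)
    have h2 : 2 ∣ Nat.card (Subgroup.centralizer ({q} : Set G)) := by
      rw [← ht, ← Subgroup.orderOf_mk t hmem]
      exact orderOf_dvd_natCard _
    exact Nat.not_even_iff_odd.2 (hC q hq1 ⟨k, hk⟩) (even_iff_two_dvd.2 h2)
  have hinv : ∀ q : G, q ∈ Q' → t * q * t⁻¹ = q⁻¹ := by
    let F : Q' → Q' := fun q =>
      ⟨(q : G)⁻¹ * (t * q * t⁻¹), mul_mem (inv_mem q.2) (hQnorm _ q.2)⟩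
    have hF : Function.Injective F := fun a b hab => by
      have h : (a : G)⁻¹ * (t * a * t⁻¹) = (b : G)⁻¹ * (t * b * t⁻¹) := congrArg Subtype.val hab
      have h1 : t * ((b : G) * (a : G)⁻¹) * t⁻¹ = (b : G) * (a : G)⁻¹ := by
        calc t * ((b : G) * (a : G)⁻¹) * t⁻¹
            = (b : G) * ((b : G)⁻¹ * (t * b * t⁻¹)) * (t * (a : G)⁻¹ * t⁻¹) := by group
          _ = (b : G) * ((a : G)⁻¹ * (t * a * t⁻¹)) * (t * (a : G)⁻¹ * t⁻¹) := by rw [h]
          _ = (b : G) * (a : G)⁻¹ := by group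
      exact Subtype.ext (mul_inv_eq_one.1 (hfix _ (mul_mem b.2 (inv_mem a.2)) h1)).symm
    intro q hq
    obtain ⟨a, ha⟩ := (Finite.injective_iff_surjective.1 hF) ⟨q, hq⟩
    have ha' : (a : G)⁻¹ * (t * a * t⁻¹) = q := congrArg Subtype.val ha
    rw [← ha', hti]
    calc t * ((a : G)⁻¹ * (t * a * t)) * t
        = t * (a : G)⁻¹ * t * (a : G) * (t * t) := by group
      _ = _ := by rw [ht1, mul_one, mul_inv_rev, inv_inv, mul_inv_rev, mul_inv_rev, hti]; group
  have hab : IsMulCommutative Q' := ⟨⟨fun a b => Subtype.ext (by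
    have h := hinv _ (mul_mem a.2 b.2)
    have e : t * ((a : G) * b) * t⁻¹ = (t * a * t⁻¹) * (t * b * t⁻¹) := by group
    rw [e, hinv _ a.2, hinv _ b.2, ← mul_inv_rev, inv_inj] at h
    exact h.symm)⟩⟩
  have hQQ : ∀ a ∈ Q', ∀ b ∈ Q', a * b = b * a := fun a ha b hb =>
    congrArg Subtype.val (hab.is_comm.comm ⟨a, ha⟩ ⟨b, hb⟩)
  -- `Q'` is a Sylow subgroup of `G`
  set N := Subgroup.normalizer (Q' : Set G) with hN
  set Z := Subgroup.centralizer (Q' : Set G) with hZ
  have huC : u ∈ C := Subgroup.mem_centralizer_singleton_iff.2 rfl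
  have huQ : u ∈ Q' := by
    have hz : IsPGroup p (Subgroup.zpowers (⟨u, huC⟩ : C)) :=
      IsPGroup.of_card (n := j) (by rw [Nat.card_zpowers, Subgroup.orderOf_mk, hj])
    have hn : Subgroup.zpowers (⟨u, huC⟩ : C) ≤ Subgroup.normalizer ((Q : Subgroup C) : Set C) := by
      have hcen : (⟨u, huC⟩ : C) ∈ Subgroup.center C := Subgroup.mem_center_iff.2 fun c =>
        Subtype.ext (Subgroup.mem_centralizer_singleton_iff.1 c.2)
      exact (Subgroup.zpowers_le.2 hcen).trans (fun z hz => Subgroup.mem_normalizer_iff.2 fun w => by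
        rw [← Subgroup.mem_center_iff.1 hz w, mul_inv_cancel_right])
    have hsup : IsPGroup p ((Q : Subgroup C) ⊔ Subgroup.zpowers (⟨u, huC⟩ : C) : Subgroup C) :=
      Q.isPGroup'.to_sup_of_normal_left' hz hn
    refine ⟨⟨u, huC⟩, ?_, rfl⟩
    show (⟨u, huC⟩ : C) ∈ (Q : Subgroup C)
    rw [← Q.is_maximal' hsup le_sup_left]
    exact Subgroup.mem_sup_right (Subgroup.mem_zpowers _)
  have hZC : Z ≤ C := fun z hz =>
    Subgroup.mem_centralizer_singleton_iff.2 (Subgroup.mem_centralizer_iff.1 hz u huQ).symm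
  have hQZ : Q' ≤ Z := fun a ha => Subgroup.mem_centralizer_iff.2 fun b hb => hQQ b hb a ha
  have hdecomp : ∀ g ∈ N, ∃ z ∈ Z, ∃ w ∈ Subgroup.centralizer ({t} : Set G), z * w = g := by
    intro g hg
    set t' := g * t * g⁻¹ with ht'
    have hinv' : ∀ q ∈ Q', t' * q * t'⁻¹ = q⁻¹ := fun q hq => by
      have h1 : g⁻¹ * q * g ∈ Q' := by
        have := (Subgroup.mem_normalizer_iff.1 (inv_mem hg) q).1 hq
        simpa using this
      calc t' * q * t'⁻¹ = g * (t * (g⁻¹ * q * g) * t⁻¹) * g⁻¹ := by rw [ht']; group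
        _ = q⁻¹ := by rw [hinv _ h1]; group
    have ht'1 : t' * t' = 1 := by
      rw [ht', show g * t * g⁻¹ * (g * t * g⁻¹) = g * (t * t) * g⁻¹ by group, ht1]; group
    set w := t * t' with hw
    have hwZ : w ∈ Z := Subgroup.mem_centralizer_iff.2 fun q hq => by
      have h1 := hinv _ (inv_mem hq)
      rw [inv_inv] at h1
      have h2 : w * q * w⁻¹ = q := by
        calc w * q * w⁻¹ = t * (t' * q * t'⁻¹) * t⁻¹ := by rw [hw]; group
          _ = q := by rw [hinv' q hq, h1]
      exact (mul_inv_eq_iff_eq_mul.1 h2).symm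
    obtain ⟨k, hk⟩ : Odd (orderOf w) := by
      refine hodd.of_dvd_nat ?_
      rw [← Subgroup.orderOf_mk w (hZC hwZ)]
      exact orderOf_dvd_natCard _
    set c := w ^ (k + 1) with hc
    have hcw : c * c = w := by
      rw [hc, ← pow_add, show k + 1 + (k + 1) = orderOf w + 1 by omega, pow_succ,
        pow_orderOf_eq_one, one_mul]
    have htw : t * w * t⁻¹ = w⁻¹ := by
      rw [hw, mul_inv_rev, hti, inv_eq_of_mul_eq_one_right ht'1]
      calc t * (t * t') * t = (t * t) * t' * t := by group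
        _ = t' * t := by rw [ht1, one_mul]
    have htc : t * c * t⁻¹ = c⁻¹ := by
      rw [hc, ← conj_pow, htw, inv_pow]
    have hconj : c⁻¹ * t * c = t' := by
      calc c⁻¹ * t * c = t * (c * c) := by
            rw [← htc, hti, show t * c * t * t * c = t * c * (t * t) * c by group, ht1]
            group
        _ = t' := by rw [hcw, hw, ← mul_assoc, ht1, one_mul]
    have hcg : c * g ∈ Subgroup.centralizer ({t} : Set G) :=
      Subgroup.mem_centralizer_singleton_iff.2 (by
        calc c * g * t = c * t' * g := by rw [ht']; group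
          _ = t * (c * g) := by rw [← hconj]; group)
    exact ⟨c⁻¹, inv_mem (pow_mem hwZ _), c * g, hcg, by group⟩
  have hpC : ¬ p ∣ Nat.card (Subgroup.centralizer ({t} : Set G)) := fun hd => by
    obtain ⟨v, hv⟩ := exists_prime_orderOf_dvd_card' p hd
    rw [← Subgroup.orderOf_coe] at hv
    have hv1 : (v : G) ≠ 1 := fun h => by
      rw [h, orderOf_one] at hv; exact hp.out.ne_one hv.symm
    have hmem : t ∈ Subgroup.centralizer ({(v : G)} : Set G) :=
      Subgroup.mem_centralizer_singleton_iff.2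
        (Subgroup.mem_centralizer_singleton_iff.1 v.2).symm
    have h2 : 2 ∣ Nat.card (Subgroup.centralizer ({(v : G)} : Set G)) := by
      rw [← ht, ← Subgroup.orderOf_mk t hmem]
      exact orderOf_dvd_natCard _
    exact Nat.not_even_iff_odd.2 (hC v hv1 ⟨1, by rw [hv, pow_one]⟩) (even_iff_two_dvd.2 h2)
  -- the normalizer of `Q'` in a larger `p`-subgroup is `Q'`
  have htN : t ∈ N := Subgroup.mem_normalizer_iff.2 fun a => ⟨hQnorm a, fun ha => by
    have := hQnorm _ ha
    rwa [hti, mul_assoc t (t * a * t) t, mul_assoc (t * a) t t, ht1, mul_one, ← mul_assoc, ht1,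
      one_mul] at this⟩
  set K := Z.subgroupOf N with hK
  have hZN : Z ≤ N := fun z hz => Subgroup.mem_normalizer_iff.2 fun a => by
    constructor
    · intro ha
      rw [← Subgroup.mem_centralizer_iff.1 hz a ha, mul_inv_cancel_right]; exact ha
    · intro ha
      have := Subgroup.mem_centralizer_iff.1 hz _ ha
      rw [inv_mul_cancel_right] at this
      have h2 : a = z * a * z⁻¹ := mul_left_cancel this
      rw [h2]; exact ha
  obtain ⟨P₀, hP₀⟩ := hQ'p.exists_le_sylow
  have hP₀Q : (P₀ : Subgroup G) = Q' := by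
    by_contra hne
    have hlt : Q'.subgroupOf (P₀ : Subgroup G) < ⊤ := lt_top_iff_ne_top.2 fun h =>
      hne (le_antisymm (Subgroup.subgroupOf_eq_top.1 h) hP₀)
    haveI : Group.IsNilpotent (P₀ : Subgroup G) := P₀.isPGroup'.isNilpotent
    obtain ⟨⟨g, hgP⟩, hgN, hgQ⟩ := SetLike.exists_of_lt (normalizerCondition_of_isNilpotent _ hlt)
    have hgN' : g ∈ N := Subgroup.mem_normalizer_iff.2 fun a => by
      constructor
      · intro ha
        have := (Subgroup.mem_normalizer_iff.1 hgN ⟨a, hP₀ ha⟩).1 (Subgroup.mem_subgroupOf.2 ha)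
        exact Subgroup.mem_subgroupOf.1 this
      · intro ha
        have ha' : a ∈ (P₀ : Subgroup G) := by
          have := mul_mem (mul_mem (inv_mem hgP) (hP₀ ha)) hgP
          simpa [mul_assoc] using this
        exact Subgroup.mem_subgroupOf.1 ((Subgroup.mem_normalizer_iff.1 hgN ⟨a, ha'⟩).2
          (Subgroup.mem_subgroupOf.2 ha))
    haveI : K.Normal := by
      refine ⟨fun z hz y => Subgroup.mem_centralizer_iff.2 fun a ha => ?_⟩
      have h1 : (y : G)⁻¹ * a * (y : G) ∈ Q' := by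
        have := (Subgroup.mem_normalizer_iff.1 (inv_mem y.2) a).1 ha
        simpa using this
      have h2 := Subgroup.mem_centralizer_iff.1 (Subgroup.mem_subgroupOf.1 hz) _ h1
      show a * ((y : G) * (z : G) * (y : G)⁻¹) = (y : G) * (z : G) * (y : G)⁻¹ * a
      calc a * ((y : G) * (z : G) * (y : G)⁻¹)
          = (y : G) * (((y : G)⁻¹ * a * (y : G)) * (z : G)) * (y : G)⁻¹ := by group
        _ = (y : G) * ((z : G) * ((y : G)⁻¹ * a * (y : G))) * (y : G)⁻¹ := by rw [h2]
        _ = _ := by group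
    set R := Q' ⊔ Subgroup.zpowers g with hR
    have hRp : IsPGroup p R := P₀.isPGroup'.to_le (sup_le hP₀ (Subgroup.zpowers_le.2 hgP))
    have hRN : R ≤ N := sup_le (hQZ.trans hZN) (Subgroup.zpowers_le.2 hgN')
    have hQR : Q' < R := lt_of_le_of_ne le_sup_left fun h => hgQ (Subgroup.mem_subgroupOf.2
      (h ▸ Subgroup.mem_sup_right (Subgroup.mem_zpowers g)))
    set T0 := (Subgroup.centralizer ({t} : Set G) ⊓ N).subgroupOf N with hT0
    have htop : K ⊔ T0 = ⊤ := by
      refine eq_top_iff.2 fun y _ => ?_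
      obtain ⟨z, hz, w, hw, hzw⟩ := hdecomp (y : G) y.2
      have hwN : w ∈ N := by
        rw [show w = z⁻¹ * (y : G) by rw [← hzw]; group]
        exact mul_mem (inv_mem (hZN hz)) y.2
      rw [show y = ⟨z, hZN hz⟩ * ⟨w, hwN⟩ from Subtype.ext hzw.symm]
      exact mul_mem (Subgroup.mem_sup_left (Subgroup.mem_subgroupOf.2 hz))
        (Subgroup.mem_sup_right (Subgroup.mem_subgroupOf.2 ⟨hw, hwN⟩))
    have hdvd := Cores.card_sup_dvd T0 K
    rw [sup_comm, htop, mul_comm, Subgroup.card_top, hK, hT0, Nat.card_congr (Subgroup.subgroupOfEquivOfLe hZN).toEquiv,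
      Nat.card_congr (Subgroup.subgroupOfEquivOfLe inf_le_right).toEquiv] at hdvd
    have hdvd' : Nat.card R ∣ Nat.card C * Nat.card (Subgroup.centralizer ({t} : Set G)) :=
      (Subgroup.card_dvd_of_le hRN).trans (hdvd.trans
        (Nat.mul_dvd_mul (Subgroup.card_dvd_of_le hZC) (Subgroup.card_dvd_of_le inf_le_left)))
    obtain ⟨n, hn⟩ := IsPGroup.iff_card.1 hRp
    rw [hn] at hdvd'
    have hnC : p ^ n ∣ Nat.card C :=
      (Nat.Coprime.pow_left n (hp.out.coprime_iff_not_dvd.2 hpC)).dvd_of_dvd_mul_right hdvd'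
    have hQc : Nat.card Q' = p ^ (Nat.card C).factorization p := by
      rw [hQ', Subgroup.card_map_of_injective C.subtype_injective, Q.card_eq_multiplicity]
    have := Subgroup.card_dvd_of_le hQR.le
    have hle : Nat.card R ≤ Nat.card Q' := by
      rw [hn, hQc]
      exact Nat.pow_le_pow_right hp.out.pos
        ((hp.out.pow_dvd_iff_le_factorization Nat.card_pos.ne').1 hnC)
    exact hQR.ne (Subgroup.eq_of_le_of_card_ge hQR.le hle)
  intro P
  obtain ⟨g, hg⟩ := MulAction.exists_smul_eq G P₀ P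
  have hPQ : (P : Subgroup G) = Q'.map (MulAut.conj g).toMonoidHom := by
    rw [← hg, Sylow.coe_subgroup_smul, ← hP₀Q]; rfl
  constructor
  · have hmem : g * t * g⁻¹ ∈ Subgroup.normalizer ((P : Subgroup G) : Set G) := by
      rw [hPQ]
      refine Subgroup.mem_normalizer_iff.2 fun a => ?_
      simp only [Subgroup.mem_map, MulEquiv.coe_toMonoidHom, MulAut.conj_apply]
      constructor
      · rintro ⟨q, hq, rfl⟩
        exact ⟨t * q * t⁻¹, hQnorm q hq, by group⟩
      · rintro ⟨q, hq, hqa⟩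
        refine ⟨t * q * t⁻¹, hQnorm q hq, ?_⟩
        have e : a = g * t⁻¹ * g⁻¹ * (g * q * g⁻¹) * (g * t * g⁻¹) := by rw [hqa]; group
        rw [e, hti]; group
    have h2 : 2 ∣ Nat.card (Subgroup.normalizer ((P : Subgroup G) : Set G)) := by
      rw [← ht, ← show orderOf (g * t * g⁻¹) = orderOf t from
        MulEquiv.orderOf_eq (MulAut.conj g) t, ← Subgroup.orderOf_mk _ hmem]
      exact orderOf_dvd_natCard _
    exact even_iff_two_dvd.2 h2
  · refine ⟨⟨fun a b => Subtype.ext ?_⟩⟩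
    obtain ⟨x, hx, hxa⟩ : (a : G) ∈ Q'.map (MulAut.conj g).toMonoidHom := hPQ ▸ a.2
    obtain ⟨y, hy, hyb⟩ : (b : G) ∈ Q'.map (MulAut.conj g).toMonoidHom := hPQ ▸ b.2
    show (a : G) * b = b * a
    rw [← hxa, ← hyb, ← map_mul, ← map_mul, hQQ x hx y hy]

end Cfsg.Agent.H84
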