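import Cfsg.Agent.H84.PComplementUnique
import Cfsg.Agent.H24.FSIndicator
import Cfsg.Agent.PGroups.Basic
import Cfsg.Agent.H43.Galois
import Cfsg.Agent.CharInduce.CoprimeExt

/-!
# The Alperin–Feit–Thompson count of involutions in a `2`-group
-/

set_option linter.style.haveILetI false

namespace Cfsg.Agent.H84

open Cfsg.Agent
open scoped ComplexConjugate

/-- A commutative `2`-group with at most two square roots of one is cyclic. -/
theorem isCyclic_of_few_involutions {A : Type*} [CommGroup A] [Finite A] {m : ℕ}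
    (hA : Nat.card A = 2 ^ m) (h : Nat.card {x : A // x * x = 1} ≤ 2) : IsCyclic A := by
  classical
  cases nonempty_fintype A
  have hk : ∀ i : ℕ, Nat.card {x : A // x ^ (2 ^ i) = 1} ≤ 2 ^ i := by
    intro i
    induction i with
    | zero => simp
    | succ i ih =>
      let K : Subgroup A := (powMonoidHom (2 ^ (i + 1)) : A →* A).ker
      let f : K →* A := ((powMonoidHom (2 ^ i) : A →* A).comp K.subtype)
      have e1 : Nat.card {x : A // x ^ (2 ^ (i + 1)) = 1} = Nat.card K :=
        Nat.card_congr (Equiv.subtypeEquivRight fun x => by simp [K, MonoidHom.mem_ker])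
      rw [e1, ← Subgroup.card_mul_index f.ker, Subgroup.index_ker, pow_succ]
      refine Nat.mul_le_mul ?_ ?_
      · refine le_trans ?_ ih
        refine Nat.card_le_card_of_injective
          (fun x : f.ker => (⟨(x.1 : A), MonoidHom.mem_ker.1 x.2⟩ :
            {x : A // x ^ (2 ^ i) = 1})) fun x y hxy => ?_
        exact Subtype.ext (Subtype.ext (congrArg Subtype.val hxy :))
      · refine le_trans ?_ h
        refine Nat.card_le_card_of_injective
          (fun x : f.range => (⟨(x : A), by
            obtain ⟨y, hy⟩ := x.2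
            have h1 : (y : A) ^ (2 ^ (i + 1)) = 1 := MonoidHom.mem_ker.1 y.2
            rw [← hy, ← pow_two]
            show ((y : A) ^ (2 ^ i)) ^ 2 = 1
            rw [← pow_mul, ← pow_succ]
            exact h1⟩ : {x : A // x * x = 1})) fun x y hxy => ?_
        exact Subtype.ext (congrArg Subtype.val hxy :)
  refine isCyclic_of_card_pow_eq_one_le fun n hn => ?_
  obtain ⟨i, -, hi⟩ := (Nat.dvd_prime_pow Nat.prime_two).1 (Nat.gcd_dvd_right n (2 ^ m))
  calc (Finset.univ.filter fun a : A => a ^ n = 1).card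
      ≤ Nat.card {x : A // x ^ (2 ^ i) = 1} := by
        rw [Nat.card_eq_fintype_card, Fintype.card_subtype]
        refine Finset.card_le_card fun a ha => ?_
        rw [Finset.mem_filter] at ha ⊢
        refine ⟨Finset.mem_univ _, ?_⟩
        rw [← hi, pow_gcd_eq_one]
        exact ⟨ha.2, by rw [← hA]; exact pow_card_eq_one'⟩
    _ ≤ 2 ^ i := hk i
    _ ≤ n := hi ▸ Nat.le_of_dvd hn (Nat.gcd_dvd_left n (2 ^ m))

theorem involutions_mod_four {G : Type*} [Group G] [Finite G] (hG : IsPGroup 2 G)
    (ht : Nat.card {x : G // orderOf x = 2} % 4 = 1) :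
    IsCyclic G ∨ (commutator G).index = 4 := by
  classical
  cases nonempty_fintype G
  haveI : Finite (G →* ℂˣ) := finite_hom
  haveI : Fintype (G →* ℂˣ) := Fintype.ofFinite _
  obtain ⟨a, ha⟩ := hG.exists_card_eq
  choose deg hpos hdeg using fun χ : Cfsg.IrrCharacter G => CharBasic.IsIrr.exists_degree χ.2
  have hdd : ∀ χ : Cfsg.IrrCharacter G, Cfsg.charDegree (χ : G → ℂ) = deg χ := fun χ => by
    rw [Cfsg.charDegree, hdeg χ, Complex.natCast_re, Nat.floor_natCast]
  have hdiv : ∀ χ, ∃ i, deg χ = 2 ^ i := fun χ => by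
    obtain ⟨n, -, hn, hnd, -⟩ := CharBasic.IsIrr.degree_dvd χ.2
    have : deg χ = n := by exact_mod_cast (hdeg χ).symm.trans hn
    obtain ⟨i, -, hi⟩ := (Nat.dvd_prime_pow Nat.prime_two).1 (ha ▸ hnd)
    exact ⟨i, this.trans hi⟩
  let IsR : Cfsg.IrrCharacter G → Prop := fun χ => ∀ g, ((χ : G → ℂ) g).im = 0
  let e : Cfsg.IrrCharacter G → ℤ := fun χ =>
    if IsR χ then (if H24.FS.ind (χ : G → ℂ) = 1 then 1 else -1) else 0
  have he : ∀ χ : Cfsg.IrrCharacter G, H24.FS.ind (χ : G → ℂ) = (e χ : ℂ) := by
    intro χ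
    simp only [e]
    by_cases hR : IsR χ
    · rw [if_pos hR]
      rcases H24.FS.ind_eq_one_or χ.2 hR with h | h
      · rw [if_pos h, h, Int.cast_one]
      · rw [if_neg (by rw [h]; norm_num), h]
        norm_num
    · rw [if_neg hR, H24.FS.ind_eq_zero χ.2 hR, Int.cast_zero]
  -- the count
  set t := Nat.card {x : G // orderOf x = 2} with htdef
  have hsq : Nat.card {s : G // s * s = 1} = t + 1 := by
    rw [htdef, Nat.card_eq_fintype_card, Nat.card_eq_fintype_card, Fintype.card_subtype,
      Fintype.card_subtype, show (Finset.univ.filter fun s : G => s * s = 1) =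
        insert 1 (Finset.univ.filter fun s : G => orderOf s = 2) by
      ext s
      simp only [Finset.mem_filter, Finset.mem_univ, true_and, Finset.mem_insert]
      refine ⟨fun h => ?_, ?_⟩
      · by_cases h1 : s = 1
        · exact Or.inl h1
        · exact Or.inr (orderOf_eq_prime (by rw [pow_two]; exact h) h1)
      · rintro (rfl | h)
        · exact one_mul 1
        · rw [← pow_two, ← h, pow_orderOf_eq_one],
      Finset.card_insert_of_notMem (by simp)]
  have hsum : ((t : ℤ) + 1) = ∑ χ : Cfsg.IrrCharacter G, e χ * deg χ := by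
    refine Int.cast_injective (α := ℂ) ?_
    push_cast
    rw [← Nat.cast_one, ← Nat.cast_add, ← hsq, H24.FS.card_sqrt 1]
    refine Finset.sum_congr rfl fun χ _ => ?_
    rw [he, map_intCast, hdeg]
  -- linear characters
  let L : (G →* ℂˣ) → Cfsg.IrrCharacter G := fun l =>
    ⟨fun g => (l g : ℂ), CharInduce.isIrrCharacter_hom l⟩
  have hLinj : Function.Injective L := fun l l' h =>
    MonoidHom.ext fun g => Units.ext (congrFun (congrArg Subtype.val h) g)
  have hLdeg : ∀ χ, deg χ = 1 ↔ ∃ l, L l = χ := by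
    intro χ
    constructor
    · intro h
      obtain ⟨l, hl⟩ := CharInduce.IsChar.exists_hom_of_degree_one (CharBasic.IsIrr.isCharacter χ.2)
        (by rw [hdeg, h, Nat.cast_one])
      exact ⟨l, Subtype.ext (funext fun g => (hl g).symm)⟩
    · rintro ⟨l, rfl⟩
      have := hdeg (L l)
      simp only [L, map_one, Units.val_one] at this
      exact_mod_cast this.symm
  have hlsq : ∀ l : G →* ℂˣ, IsR (L l) ↔ l * l = 1 := by
    intro l
    have key : ∀ g, ((l g : ℂ)).im = 0 ↔ l g * l g = 1 := by
      intro g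
      rw [← Complex.conj_eq_iff_im]
      have h1 : (l g : ℂ) * conj (l g : ℂ) = 1 := by
        rw [Complex.mul_conj', CharInduce.norm_hom]; simp
      refine ⟨fun h => Units.ext ?_, fun h => ?_⟩
      · rw [h] at h1
        rw [Units.val_mul, h1, Units.val_one]
      · have h2 : (l g : ℂ) * (l g : ℂ) = 1 := by rw [← Units.val_mul, h, Units.val_one]
        exact mul_left_cancel₀ (Units.ne_zero _) (h1.trans h2.symm)
    refine ⟨fun h => MonoidHom.ext fun g => (key g).1 (h g), fun h g => (key g).2 ?_⟩
    exact DFunLike.congr_fun h g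
  have hL1 : ∀ l : G →* ℂˣ, e (L l) = if l * l = 1 then 1 else 0 := by
    intro l
    by_cases h : l * l = 1
    · rw [if_pos h]
      have h2 : H24.FS.ind ((L l : Cfsg.IrrCharacter G) : G → ℂ) = 1 := by
        rw [H24.FS.ind, Finset.sum_congr rfl fun s _ => show (l (s * s) : ℂ) = 1 by
          rw [map_mul, ← MonoidHom.mul_apply, h, MonoidHom.one_apply, Units.val_one]]
        simp
      simp only [e]
      rw [if_pos ((hlsq l).2 h), if_pos h2]
    · rw [if_neg h]
      simp only [e]
      rw [if_neg (fun hR => h ((hlsq l).1 hR))]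
  set c := Nat.card {l : G →* ℂˣ // l * l = 1} with hcdef
  set D := Finset.univ.filter fun χ : Cfsg.IrrCharacter G => deg χ = 2 with hDdef
  set r := (D.filter IsR).card with hrdef
  have hmod : ((t : ZMod 4) + 1) = (c : ZMod 4) + 2 * r := by
    have h1 := congrArg (fun z : ℤ => (z : ZMod 4)) hsum
    simp only [Int.cast_add, Int.cast_natCast, Int.cast_one, Int.cast_sum, Int.cast_mul] at h1
    rw [h1, ← Finset.sum_filter_add_sum_filter_not Finset.univ (fun χ => deg χ = 1)]
    congr 1
    · rw [show (Finset.univ.filter fun χ : Cfsg.IrrCharacter G => deg χ = 1) =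
        Finset.univ.image L by ext χ; simp [hLdeg],
        Finset.sum_image (fun l _ l' _ h => hLinj h), hcdef, Nat.card_eq_fintype_card,
        Fintype.card_subtype]
      simp only [(hLdeg _).2 ⟨_, rfl⟩, Nat.cast_one, mul_one, hL1]
      push_cast
      rw [Finset.sum_boole]
    · rw [← Finset.sum_filter_add_sum_filter_not _ (fun χ => deg χ = 2), Finset.filter_filter,
        show (Finset.univ.filter fun χ : Cfsg.IrrCharacter G => ¬ deg χ = 1 ∧ deg χ = 2) = D by
          ext χ; simp only [hDdef, Finset.mem_filter, Finset.mem_univ, true_and]; omega]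
      rw [Finset.sum_eq_zero (s := Finset.filter _ (Finset.univ.filter _)) ?_, add_zero, hrdef,
        ← Finset.sum_boole, Finset.mul_sum]
      · refine Finset.sum_congr rfl fun χ hχ => ?_
        rw [(Finset.mem_filter.1 hχ).2]
        simp only [e]
        by_cases hR : IsR χ
        · rw [if_pos hR, if_pos hR]
          split_ifs
          · norm_num
          · show ((-1 : ℤ) : ZMod 4) * ((2 : ℕ) : ZMod 4) = 2 * 1
            decide
        · rw [if_neg hR, if_neg hR]
          simp
      · intro χ hχ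
        simp only [Finset.mem_filter, Finset.mem_univ, true_and] at hχ
        obtain ⟨i, hi⟩ := hdiv χ
        obtain ⟨j, rfl⟩ : ∃ j, i = j + 2 := ⟨i - 2, by
          rcases i with - | - | i
          · exact absurd hi hχ.1
          · exact absurd hi hχ.2
          · omega⟩
        rw [hi, pow_add, Nat.cast_mul, show ((2 ^ 2 : ℕ) : ZMod 4) = 0 from rfl]
        simp
  have h2 : (c : ZMod 4) + 2 * r = 2 := by
    rw [← hmod, show (t : ZMod 4) = 1 by
      rw [← ZMod.natCast_mod t 4, ht, Nat.cast_one]]
    decide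
  obtain ⟨b, hb⟩ : ∃ b, Nat.card (G →* ℂˣ) = 2 ^ b := by
    rw [card_hom]
    obtain ⟨b, -, hb⟩ := (Nat.dvd_prime_pow Nat.prime_two).1 (ha ▸ (commutator G).index_dvd_card)
    exact ⟨b, hb⟩
  obtain ⟨d, hd⟩ : ∃ d, c = 2 ^ d := by
    let K : Subgroup (G →* ℂˣ) :=
      { carrier := {l | l * l = 1}
        one_mem' := one_mul 1
        mul_mem' := fun {x y} hx hy => by
          refine MonoidHom.ext fun g => ?_
          have h1 : x g * x g = 1 := DFunLike.congr_fun hx g
          have h2 : y g * y g = 1 := DFunLike.congr_fun hy g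
          show x g * y g * (x g * y g) = 1
          rw [mul_mul_mul_comm, h1, h2, one_mul]
        inv_mem' := fun {x} hx => by
          refine MonoidHom.ext fun g => ?_
          have h1 : x g * x g = 1 := DFunLike.congr_fun hx g
          show (x g)⁻¹ * (x g)⁻¹ = 1
          rw [← mul_inv_rev, h1, inv_one] }
    have hK : c = Nat.card K := rfl
    obtain ⟨d, -, hd⟩ := (Nat.dvd_prime_pow Nat.prime_two).1 (hb ▸ K.card_subgroup_dvd_card)
    exact ⟨d, hK.trans hd⟩
  by_cases hc2 : c ≤ 2
  · left
    have hcyc : IsCyclic (G →* ℂˣ) := isCyclic_of_few_involutions hb hc2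
    haveI : NeZero (Monoid.exponent (Abelianization G)) := ⟨Monoid.exponent_ne_zero_of_finite⟩
    obtain ⟨φ⟩ := CommGroup.monoidHom_mulEquiv_of_hasEnoughRootsOfUnity (Abelianization G) ℂ
    have hAb : IsCyclic (Abelianization G) := by
      let ψ : (G →* ℂˣ) →* (Abelianization G →* ℂˣ) :=
        { toFun := Abelianization.lift
          map_one' := by ext; simp
          map_mul' := fun _ _ => by ext; simp }
      haveI := hcyc
      exact isCyclic_of_surjective (φ.toMonoidHom.comp ψ)
        (φ.surjective.comp Abelianization.lift.surjective)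
    obtain ⟨q, hq⟩ := hAb.exists_generator
    obtain ⟨g, rfl⟩ := QuotientGroup.mk_surjective q
    refine ⟨g, fun x => ?_⟩
    have htop : Subgroup.zpowers g ⊔ frattini G = ⊤ := by
      rw [eq_top_iff]
      intro y _
      obtain ⟨i, hi⟩ := Subgroup.mem_zpowers_iff.1 (hq (Abelianization.of y))
      have hy : (g ^ i)⁻¹ * y ∈ commutator G := by
        rw [← Abelianization.ker_of G, MonoidHom.mem_ker, map_mul, map_inv, map_zpow,
          show Abelianization.of g ^ i = Abelianization.of y from hi, inv_mul_cancel]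
      have h3 := Subgroup.mul_mem_sup (S := Subgroup.zpowers g) (T := frattini G)
        (Subgroup.zpow_mem _ (Subgroup.mem_zpowers g) i) (PGroups.commutator_le_frattini hG hy)
      rwa [mul_inv_cancel_left] at h3
    exact Subgroup.mem_zpowers_iff.1 ((frattini_nongenerating htop).ge (Subgroup.mem_top x))
  right
  have hd2 : 2 ≤ d := by
    by_contra hd'
    rcases d with - | - | d
    · simp at hd; omega
    · simp at hd; omega
    · omega
  have hc4 : (c : ZMod 4) = 0 := by
    rw [hd]
    obtain ⟨j, rfl⟩ : ∃ j, d = 2 + j := ⟨d - 2, by omega⟩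
    rw [pow_add, Nat.cast_mul, show ((2 ^ 2 : ℕ) : ZMod 4) = 0 from rfl, zero_mul]
  have hrodd : Odd r := by
    rw [hc4, zero_add] at h2
    by_contra hev
    obtain ⟨j, hj⟩ := Nat.not_odd_iff_even.1 hev
    rw [hj] at h2
    push_cast at h2
    have key : ∀ z : ZMod 4, 2 * (z + z) ≠ 2 := by decide
    exact key _ h2
  -- `D` has odd size
  have hDodd : (D.card : ZMod 2) = 1 := by
    have hconj : ∀ χ : Cfsg.IrrCharacter G,
        Cfsg.IsIrrCharacter G fun g => conj ((χ : G → ℂ) g) := fun χ => H43.aut_irr (starRingAut : RingAut ℂ) χ.2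
    let σ : Cfsg.IrrCharacter G → Cfsg.IrrCharacter G := fun χ => ⟨_, hconj χ⟩
    have hσ : ∀ χ, σ (σ χ) = χ := fun χ => Subtype.ext (funext fun g => Complex.conj_conj _)
    have h1 : ∑ χ ∈ D.filter (fun χ => ¬ IsR χ), (1 : ZMod 2) = 0 := by
      refine Finset.sum_involution (fun χ _ => σ χ) (fun χ _ => by decide) (fun χ hχ _ hfix => ?_)
        (fun χ hχ => ?_) (fun χ _ => hσ χ)
      · refine (Finset.mem_filter.1 hχ).2 fun g => Complex.conj_eq_iff_im.1 ?_
        exact congrFun (congrArg Subtype.val hfix) g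
      · simp only [Finset.mem_filter, hDdef, Finset.mem_univ, true_and] at hχ ⊢
        refine ⟨?_, fun hR => hχ.2 fun g => ?_⟩
        · have h3 := hdeg (σ χ)
          simp only [σ, hdeg χ, map_natCast, Nat.cast_inj] at h3
          rw [← h3]
          exact hχ.1
        · have := hR g
          simpa [σ] using this
    rw [Finset.sum_const, nsmul_one] at h1
    rw [← Finset.card_filter_add_card_filter_not (s := D) IsR, Nat.cast_add, h1, add_zero, ← hrdef]
    obtain ⟨j, hj⟩ := hrodd
    rw [hj]
    push_cast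
    rw [show (2 : ZMod 2) = 0 from rfl, zero_mul, zero_add]
  -- a character fixed by all twists
  let D' := {χ : Cfsg.IrrCharacter G // deg χ = 2}
  have htw : ∀ (l : G →* ℂˣ) (χ : D'), deg (⟨fun g => (l g : ℂ) * (χ.1 : G → ℂ) g,
      CharInduce.isIrr_hom_mul χ.1.2 l⟩ : Cfsg.IrrCharacter G) = 2 := by
    intro l χ
    have h3 := hdeg (⟨fun g => (l g : ℂ) * (χ.1 : G → ℂ) g, CharInduce.isIrr_hom_mul χ.1.2 l⟩)
    simp only [map_one, Units.val_one, one_mul, hdeg χ.1, Nat.cast_inj] at h3
    rw [← h3]
    exact χ.2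
  letI act : MulAction (G →* ℂˣ) D' :=
    { smul := fun l χ => ⟨_, htw l χ⟩
      one_smul := fun χ => Subtype.ext (Subtype.ext (funext fun g => by
        show ((1 : G →* ℂˣ) g : ℂ) * _ = _
        simp))
      mul_smul := fun l m χ => Subtype.ext (Subtype.ext (funext fun g => by
        show (((l * m) g : ℂˣ) : ℂ) * _ = (l g : ℂ) * ((m g : ℂ) * _)
        rw [MonoidHom.mul_apply, Units.val_mul, mul_assoc])) }
  obtain ⟨χ, hχ⟩ : ∃ χ : D', ∀ l : G →* ℂˣ, l • χ = χ := by
    have hne : ¬ 2 ∣ Nat.card D' := by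
      rw [Nat.card_eq_fintype_card, Fintype.card_subtype, ← hDdef]
      intro h
      rw [← ZMod.natCast_eq_zero_iff] at h
      rw [h] at hDodd
      exact zero_ne_one hDodd
    obtain ⟨χ, hχ⟩ := (IsPGroup.of_card hb).nonempty_fixed_point_of_prime_not_dvd_card D' hne
    exact ⟨χ, hχ⟩
  have hfix : ∀ (l : G →* ℂˣ) (g : G), (l g : ℂ) * (χ.1 : G → ℂ) g = (χ.1 : G → ℂ) g := fun l g =>
    congrFun (congrArg (fun x : D' => ((x.1 : Cfsg.IrrCharacter G) : G → ℂ)) (hχ l)) g
  have hnorm : ∀ g, (χ.1 : G → ℂ) g ≠ 0 → g ∈ commutator G := by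
    intro g hg
    by_contra hgc
    obtain ⟨l, hl⟩ := exists_hom_apply_ne_one hgc
    exact hl (Units.ext ((mul_eq_right₀ hg).1 (hfix l g)))
  have hidx4 : (commutator G).index ≤ 4 := by
    have h1 := CharBasic.classInner_irr_self χ.1.2
    rw [CharBasic.classInner_def, inv_mul_eq_one₀ (by simp)] at h1
    have h4 : (Nat.card G : ℝ) = ∑ g : G, Complex.normSq ((χ.1 : G → ℂ) g) := by
      refine Complex.ofReal_injective ?_
      push_cast
      rw [h1]
      exact Finset.sum_congr rfl fun g _ => Complex.mul_conj _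
    have h5 : (Nat.card G : ℝ) ≤ ∑ g : G, if g ∈ commutator G then (4 : ℝ) else 0 := by
      rw [h4]
      refine Finset.sum_le_sum fun g _ => ?_
      split_ifs with hg
      · have := normSq_le_degree_sq χ.1 g
        rw [hdd, χ.2] at this
        norm_num at this ⊢
        exact this
      · rw [show (χ.1 : G → ℂ) g = 0 from not_not.1 (mt (hnorm g) hg), map_zero]
    rw [Finset.sum_ite, Finset.sum_const_zero, add_zero, Finset.sum_const, nsmul_eq_mul,
      ← Fintype.card_subtype, ← Nat.card_eq_fintype_card] at h5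
    have h6 : Nat.card G ≤ Nat.card (commutator G) * 4 := by exact_mod_cast h5
    rw [← Subgroup.card_mul_index (commutator G)] at h6
    exact Nat.le_of_mul_le_mul_left h6 Nat.card_pos
  have hcle : c ≤ (commutator G).index := by
    rw [← card_hom, hcdef]
    exact Nat.card_le_card_of_injective _ Subtype.val_injective
  have h4c : 4 ≤ c := by
    rw [hd]
    calc 4 = 2 ^ 2 := rfl
      _ ≤ 2 ^ d := Nat.pow_le_pow_right two_pos hd2
  omega

end Cfsg.Agent.H84
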