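import Mathlib

/-!
# Diagonal four-groups in `A₄ × A₄`
-/

namespace Cfsg.Agent.H84

abbrev A4 := ↥(alternatingGroup (Fin 4))

/-- Double transposition `(01)(23)`. -/
def kv1 : A4 := ⟨Equiv.swap 0 1 * Equiv.swap 2 3, Equiv.Perm.mem_alternatingGroup.2 (by decide)⟩

/-- Double transposition `(02)(13)`. -/
def kv2 : A4 := ⟨Equiv.swap 0 2 * Equiv.swap 1 3, Equiv.Perm.mem_alternatingGroup.2 (by decide)⟩

theorem klein_cases : ∀ v : A4, v * v = 1 → v = 1 ∨ v = kv1 ∨ v = kv2 ∨ v = kv1 * kv2 := by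
  decide +kernel

theorem kv_ne : kv1 ≠ 1 ∧ kv2 ≠ 1 ∧ kv1 * kv2 ≠ 1 := by decide +kernel

/-- The pair `(a, e)` maps both generators of the diagonal four-group into it. -/
def TwistOK (a e w1 w2 : A4) : Prop :=
  (a, e) * (kv1, w1) * ((a, e) * (a, e)) ∈ [(kv1, w1), (kv2, w2), (kv1 * kv2, w1 * w2)] ∧
  (a, e) * (kv2, w2) * ((a, e) * (a, e)) ∈ [(kv1, w1), (kv2, w2), (kv1 * kv2, w1 * w2)]

instance (a e w1 w2 : A4) : Decidable (TwistOK a e w1 w2) := instDecidableAnd

set_option maxHeartbeats 4000000 in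
set_option synthInstance.maxSize 2000 in
set_option synthInstance.maxHeartbeats 400000 in
theorem klein_twist : ∀ w1 : A4, w1 * w1 = 1 → w1 ≠ 1 → ∀ w2 : A4, w2 * w2 = 1 → w2 ≠ 1 →
    w1 ≠ w2 → ∀ a : A4, a * a * a = 1 → a ≠ 1 → ∀ b : A4, b * b * b = 1 → b ≠ 1 →
    TwistOK a b w1 w2 ∨ TwistOK a (b * b) w1 w2 := by
  decide +kernel

theorem diagonal_four (X : Sylow 2 (A4 × A4)) (Q : Sylow 3 (A4 × A4))
    (B : Subgroup (A4 × A4)) (hBX : B ≤ (X : Subgroup _)) (hB4 : Nat.card ↥B = 4) :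
    B ⊓ ((X : Subgroup _) ⊓ Subgroup.prod ⊤ ⊥) ≠ ⊥ ∨
    B ⊓ ((X : Subgroup _) ⊓ Subgroup.prod ⊥ ⊤) ≠ ⊥ ∨
      ∃ R : Subgroup (A4 × A4), R ≤ (Q : Subgroup _) ∧ Nat.card ↥R = 3 ∧
        R ≠ (Q : Subgroup _) ⊓ Subgroup.prod ⊤ ⊥ ∧ R ≠ (Q : Subgroup _) ⊓ Subgroup.prod ⊥ ⊤ ∧
        R ≤ Subgroup.normalizer (B : Set _) := by
  classical
  by_cases h1 : B ⊓ ((X : Subgroup _) ⊓ Subgroup.prod ⊤ ⊥) = ⊥
  swap
  · exact Or.inl h1
  by_cases h2 : B ⊓ ((X : Subgroup _) ⊓ Subgroup.prod ⊥ ⊤) = ⊥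
  swap
  · exact Or.inr (Or.inl h2)
  refine Or.inr (Or.inr ?_)
  have h1' : ∀ g ∈ B, g.2 = 1 → g = 1 := fun g hg h => by
    rw [← Subgroup.mem_bot, ← h1]
    exact ⟨hg, hBX hg, Subgroup.mem_prod.2 ⟨trivial, h⟩⟩
  have h2' : ∀ g ∈ B, g.1 = 1 → g = 1 := fun g hg h => by
    rw [← Subgroup.mem_bot, ← h2]
    exact ⟨hg, hBX hg, Subgroup.mem_prod.2 ⟨h, trivial⟩⟩
  have hfour : ∀ v : A4, v ^ 4 = 1 → v * v = 1 := by decide +kernel
  have hsq : ∀ g ∈ B, g * g = 1 := fun g hg => by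
    have h4 : g ^ 4 = 1 := by
      have := pow_card_eq_one' (x := (⟨g, hg⟩ : B))
      rw [hB4] at this
      exact congrArg Subtype.val this
    exact Prod.ext (hfour g.1 (congrArg Prod.fst h4)) (hfour g.2 (congrArg Prod.snd h4))
  -- the projection of `B` to the first factor is onto the four-group
  let π : B → {v : A4 // v * v = 1} := fun g => ⟨g.1.1, congrArg Prod.fst (hsq g.1 g.2)⟩
  have hπ : Function.Injective π := by
    intro g g' h
    have h' : g.1.1 = g'.1.1 := congrArg Subtype.val h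
    refine Subtype.ext (inv_mul_eq_one.1 (h2' _ (B.mul_mem (B.inv_mem g.2) g'.2) ?_))
    show (g.1.1)⁻¹ * g'.1.1 = 1
    rw [h', inv_mul_cancel]
  have hV : Nat.card {v : A4 // v * v = 1} = 4 := by
    rw [Nat.card_eq_fintype_card]; decide +kernel
  have hsurj : Function.Surjective π :=
    (hπ.bijective_of_nat_card_le (by rw [hV, hB4])).2
  obtain ⟨⟨⟨x1, w1⟩, hx⟩, hx'⟩ := hsurj ⟨kv1, by decide +kernel⟩
  obtain ⟨⟨⟨y1, w2⟩, hy⟩, hy'⟩ := hsurj ⟨kv2, by decide +kernel⟩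
  obtain rfl : x1 = kv1 := congrArg Subtype.val hx'
  obtain rfl : y1 = kv2 := congrArg Subtype.val hy'
  have hw1 : w1 ≠ 1 := fun h => kv_ne.1 (congrArg Prod.fst (h1' _ hx h))
  have hw2 : w2 ≠ 1 := fun h => kv_ne.2.1 (congrArg Prod.fst (h1' _ hy h))
  have hw12 : w1 ≠ w2 := fun h => by
    have h3 := congrArg Prod.fst (h1' _ (B.mul_mem hx hy) (by
      show w1 * w2 = 1
      rw [← h]; exact congrArg Prod.snd (hsq _ hx)))
    exact kv_ne.2.2 h3
  -- the Sylow `3`-subgroup is a product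
  have hQ9 : Nat.card (Q : Subgroup (A4 × A4)) = 9 := by
    rw [Sylow.card_eq_multiplicity, Nat.card_prod,
      show Nat.card A4 = 12 by rw [Nat.card_eq_fintype_card]; decide +kernel,
      show 12 * 12 = 3 ^ 2 * 16 from rfl, Nat.factorization_mul (by norm_num) (by norm_num),
      Finsupp.add_apply, Nat.prime_three.factorization_pow, Finsupp.single_eq_same,
      Nat.factorization_eq_zero_of_not_dvd (by norm_num : ¬ 3 ∣ 16)]
    norm_num
  have hfactor : ∀ f : A4 × A4 →* A4, ∃ g ∈ (Q : Subgroup (A4 × A4)), f g = 1 ∧ g ≠ 1 := by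
    intro f
    by_contra hcon
    push Not at hcon
    have hinj : Function.Injective (f.comp (Q : Subgroup (A4 × A4)).subtype) := by
      rw [injective_iff_map_eq_one]
      intro g hg
      exact Subtype.ext (hcon g.1 g.2 hg)
    have h := Subgroup.card_dvd_of_injective _ hinj
    rw [hQ9, show Nat.card A4 = 12 by rw [Nat.card_eq_fintype_card]; decide +kernel] at h
    norm_num at h
  have hnine : ∀ v : A4, v ^ 9 = 1 → v * v * v = 1 := by decide +kernel
  have hcube : ∀ g ∈ (Q : Subgroup (A4 × A4)), g.1 * g.1 * g.1 = 1 ∧ g.2 * g.2 * g.2 = 1 :=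
    fun g hg => by
      have := pow_card_eq_one' (x := (⟨g, hg⟩ : (Q : Subgroup (A4 × A4))))
      rw [hQ9] at this
      have h9 : g ^ 9 = 1 := congrArg Subtype.val this
      exact ⟨hnine _ (congrArg Prod.fst h9), hnine _ (congrArg Prod.snd h9)⟩
  obtain ⟨⟨qa, q2⟩, hqa, (rfl : q2 = 1), hqa1⟩ := hfactor (MonoidHom.snd A4 A4)
  obtain ⟨⟨q1, qb⟩, hqb, (rfl : q1 = 1), hqb1⟩ := hfactor (MonoidHom.fst A4 A4)
  have ha1 : qa ≠ 1 := fun h => hqa1 (by rw [h]; rfl)
  have hb1 : qb ≠ 1 := fun h => hqb1 (by rw [h]; rfl)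
  obtain ⟨e, he, hconj⟩ : ∃ e ∈ [qb, qb * qb], TwistOK qa e w1 w2 := by
    rcases klein_twist w1 (congrArg Prod.snd (hsq _ hx)) hw1 w2
      (congrArg Prod.snd (hsq _ hy)) hw2 hw12 qa (hcube _ hqa).1 ha1 qb (hcube _ hqb).2 hb1 with h | h
    · exact ⟨qb, by simp, h⟩
    · exact ⟨qb * qb, by simp, h⟩
  have heQ : ((1, e) : A4 × A4) ∈ (Q : Subgroup (A4 × A4)) := by
    simp only [List.mem_cons, List.not_mem_nil, or_false] at he
    rcases he with rfl | rfl
    · exact hqb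
    · simpa using mul_mem hqb hqb
  set r : A4 × A4 := (qa, e) with hr
  have hrQ : r ∈ (Q : Subgroup (A4 × A4)) := by simpa [hr] using mul_mem hqa heQ
  have he1 : e ≠ 1 := by
    simp only [List.mem_cons, List.not_mem_nil, or_false] at he
    rcases he with rfl | rfl
    · exact hb1
    · intro h
      have := (hcube _ hqb).2
      rw [show qb * qb * qb = qb by rw [h, one_mul]] at this
      exact hb1 this
  have hr3 : r * r * r = 1 := Prod.ext (hcube _ hrQ).1 (hcube _ hrQ).2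
  have hord : orderOf r = 3 := by
    haveI : Fact (Nat.Prime 3) := ⟨Nat.prime_three⟩
    refine orderOf_eq_prime (by rw [pow_succ, pow_two]; exact hr3) fun h => ha1 (congrArg Prod.fst h)
  refine ⟨Subgroup.zpowers r, Subgroup.zpowers_le.2 hrQ, by rw [Nat.card_zpowers, hord], ?_, ?_, ?_⟩
  · intro h
    have := (h ▸ Subgroup.mem_zpowers r :)
    exact he1 (Subgroup.mem_prod.1 this.2).2
  · intro h
    have := (h ▸ Subgroup.mem_zpowers r :)
    exact ha1 (Subgroup.mem_prod.1 this.2).1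
  rw [Subgroup.zpowers_le]
  have hstep : ∀ g ∈ B, r * g * (r * r) ∈ B := by
    have hmem : ∀ g ∈ [(kv1, w1), (kv2, w2)], r * g * (r * r) ∈ B := by
      intro g hg
      have h : r * g * (r * r) ∈ [(kv1, w1), (kv2, w2), (kv1 * kv2, w1 * w2)] := by
        simp only [List.mem_cons, List.not_mem_nil, or_false] at hg
        rcases hg with rfl | rfl
        · exact hconj.1
        · exact hconj.2
      simp only [List.mem_cons, List.not_mem_nil, or_false] at h
      rcases h with h | h | h <;> rw [h]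
      · exact hx
      · exact hy
      · exact B.mul_mem hx hy
    intro g hg
    have key : ∀ g' ∈ B, g.1 = g'.1 → g = g' := fun g' hg' h =>
      inv_mul_eq_one.1 (h2' _ (B.mul_mem (B.inv_mem hg) hg') (by
        show g.1⁻¹ * g'.1 = 1
        rw [h, inv_mul_cancel]))
    rcases klein_cases g.1 (congrArg Prod.fst (hsq g hg)) with h | h | h | h
    · rw [key 1 B.one_mem h, mul_one, ← mul_assoc, hr3]; exact B.one_mem
    · rw [key _ hx h]; exact hmem _ (by simp)
    · rw [key _ hy h]; exact hmem _ (by simp)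
    · rw [key _ (B.mul_mem hx hy) h]
      have h3 := B.mul_mem (hmem (kv1, w1) (by simp)) (hmem (kv2, w2) (by simp))
      convert h3 using 1
      calc r * ((kv1, w1) * (kv2, w2)) * (r * r)
          = r * (kv1, w1) * (1 * ((kv2, w2) * (r * r))) := by group
        _ = r * (kv1, w1) * ((r * r * r) * ((kv2, w2) * (r * r))) := by rw [hr3]
        _ = _ := by group
  have hinv : r * r = r⁻¹ := eq_inv_of_mul_eq_one_left hr3
  rw [Subgroup.mem_normalizer_iff]
  intro g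
  refine ⟨fun hg => by rw [← hinv]; exact hstep g hg, fun hg => ?_⟩
  have h3 := hstep _ (hstep _ hg)
  convert h3 using 1
  calc g = (r * r * r) * g * (r⁻¹ * (r * r * r) * r) := by
        rw [hr3, one_mul, mul_one, inv_mul_cancel, mul_one]
    _ = _ := by group

end Cfsg.Agent.H84
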