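import Mathlib.GroupTheory.Sylow
import Mathlib.GroupTheory.SpecificGroups.Cyclic
import Mathlib.Data.Nat.Totient
import Mathlib.Tactic

/-!
# Sylow normalisers in a simple group of order 2448 without elements of order six
-/

namespace Cfsg.Agent.H84

/-- The properties of `PSL(2, 17)` that are used. -/
structure IsPSLSeventeen (L : Type*) [Group L] : Prop where
  card_eq : Nat.card L = 2448
  simple : IsSimpleGroup L
  no_six : ∀ x : L, x ^ 6 = 1 → x ^ 2 = 1 ∨ x ^ 3 = 1
  exists_eight : ∃ x : L, orderOf x = 2 ^ 3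
  exists_nine : ∃ x : L, orderOf x = 3 ^ 2

variable {L : Type*} [Group L] [Finite L]

/-- In a group of order 16 all elements of order 8 have the same fourth power. -/
theorem pow_four_eq_of_orderOf_eight {S : Type*} [Group S] [Finite S] (h16 : Nat.card S = 16)
    {x s : S} (hx : orderOf x = 2 ^ 3) (hs : orderOf s = 2 ^ 3) : s ^ 4 = x ^ 4 := by
  have hidx : (Subgroup.zpowers x).index = 2 := by
    have h := (Subgroup.zpowers x).card_mul_index
    rw [Nat.card_zpowers, hx, h16] at h
    omega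
  obtain ⟨i, hi⟩ : s ^ 2 ∈ Subgroup.zpowers x := Subgroup.sq_mem_of_index_two hidx s
  have hx8 : x ^ 8 = 1 := by rw [show 8 = 2 ^ 3 by norm_num, ← hx, pow_orderOf_eq_one]
  have hs8 : s ^ 8 = 1 := by rw [show 8 = 2 ^ 3 by norm_num, ← hs, pow_orderOf_eq_one]
  have hx4 : x ^ 4 ≠ 1 := fun h => by
    have := orderOf_dvd_of_pow_eq_one h
    rw [hx] at this; norm_num at this
  have hs4 : s ^ 4 ≠ 1 := fun h => by
    have := orderOf_dvd_of_pow_eq_one h
    rw [hs] at this; norm_num at this
  change x ^ i = s ^ 2 at hi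
  have key : ∀ k : ℕ, s ^ (2 * k) = x ^ (i * (k : ℤ)) := fun k => by
    rw [pow_mul, ← hi, zpow_mul, zpow_natCast]
  rcases Int.even_or_odd' i with ⟨j, hj | hj⟩
  · have e : s ^ 4 = (x ^ 4) ^ j := by
      rw [show 4 = 2 * 2 by norm_num, key, ← zpow_natCast, ← zpow_mul, hj]
      congr 1; push_cast; ring
    rcases Int.even_or_odd' j with ⟨k, hk | hk⟩
    · exfalso; apply hs4
      rw [e, hk, zpow_mul, show ((2 : ℤ)) = ((2 : ℕ) : ℤ) from rfl, zpow_natCast, ← pow_mul, hx8,
        one_zpow]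
    · rw [e, hk, zpow_add, zpow_mul, show ((2 : ℤ)) = ((2 : ℕ) : ℤ) from rfl, zpow_natCast, ← pow_mul,
        hx8, one_zpow, one_mul, zpow_one]
  · exfalso
    have e := key 4
    rw [show 2 * 4 = 8 by norm_num, hs8, hj,
      show (2 * j + 1) * ((4 : ℕ) : ℤ) = ((8 : ℕ) : ℤ) * j + ((4 : ℕ) : ℤ) by push_cast; ring,
      zpow_add, zpow_mul, zpow_natCast, hx8, one_zpow, one_mul, zpow_natCast] at e
    exact hx4 e.symm

theorem IsPSLSeventeen.not_commute (h : IsPSLSeventeen L) {y z : L} (hy : orderOf y = 3)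
    (hz : orderOf z = 2) : y * z ≠ z * y := by
  intro hc
  have hco : Commute y z := hc
  have h3 : y ^ 3 = 1 := hy ▸ pow_orderOf_eq_one y
  have h2 : z ^ 2 = 1 := hz ▸ pow_orderOf_eq_one z
  have hy1 : y ≠ 1 := fun e => by rw [e, orderOf_one] at hy; norm_num at hy
  have hz1 : z ≠ 1 := fun e => by rw [e, orderOf_one] at hz; norm_num at hz
  rcases h.no_six (y * z) (by
    rw [hco.mul_pow, show y ^ 6 = (y ^ 3) ^ 2 by rw [← pow_mul], show z ^ 6 = (z ^ 2) ^ 3 by
      rw [← pow_mul], h3, h2, one_pow, one_pow, one_mul]) with e | e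
  · rw [hco.mul_pow, h2, mul_one] at e
    exact hy1 (by rwa [pow_succ, e, one_mul] at h3)
  · rw [hco.mul_pow, h3, one_mul, pow_succ, h2, one_mul] at e
    exact hz1 e

/-- An element of order 17 does not normalize a subgroup of order 9 or 16. -/
theorem IsPSLSeventeen.not_seventeen (h : IsPSLSeventeen L) (S : Subgroup L)
    (hS : Nat.card S = 16 ∨ Nat.card S = 9) :
    ¬ 17 ∣ Nat.card (Subgroup.normalizer (S : Set L)) := by
  haveI : Fact (Nat.Prime 17) := ⟨by norm_num⟩
  intro hd
  obtain ⟨⟨y, hyN⟩, hy⟩ := exists_prime_orderOf_dvd_card' 17 hd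
  rw [Subgroup.orderOf_mk] at hy
  -- the conjugation action is trivial
  have hfix : ∀ s ∈ S, y * s * y⁻¹ = s := by
    intro s hs
    by_contra hne
    let f : Fin 17 → S := fun i => ⟨y ^ (i : ℕ) * s * (y ^ (i : ℕ))⁻¹,
      (Subgroup.mem_normalizer_iff.1 (pow_mem hyN (i : ℕ)) s).1 hs⟩
    have hinj : Function.Injective f := by
      intro i j hij
      by_contra hij'
      have e : y ^ (i : ℕ) * s * (y ^ (i : ℕ))⁻¹ = y ^ (j : ℕ) * s * (y ^ (j : ℕ))⁻¹ :=
        congrArg Subtype.val hij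
      apply hne
      have hmem : (y ^ (j : ℕ))⁻¹ * y ^ (i : ℕ) ∈ Subgroup.centralizer ({s} : Set L) := by
        rw [Subgroup.mem_centralizer_singleton_iff]
        calc (y ^ (j : ℕ))⁻¹ * y ^ (i : ℕ) * s
            = (y ^ (j : ℕ))⁻¹ * (y ^ (i : ℕ) * s * (y ^ (i : ℕ))⁻¹) * y ^ (i : ℕ) := by group
          _ = s * ((y ^ (j : ℕ))⁻¹ * y ^ (i : ℕ)) := by rw [e]; group
      set w := (y ^ (j : ℕ))⁻¹ * y ^ (i : ℕ) with hw
      have hw1 : w ≠ 1 := fun e1 => by
        rw [hw, inv_mul_eq_one, pow_eq_pow_iff_modEq, hy] at e1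
        exact hij' (Fin.ext (Nat.ModEq.eq_of_lt_of_lt e1.symm i.2 j.2))
      have hwy : w ∈ Subgroup.zpowers y :=
        mul_mem (inv_mem (Subgroup.npow_mem_zpowers _ _)) (Subgroup.npow_mem_zpowers _ _)
      have hord : orderOf w = 17 := by
        have h1 : orderOf w ∣ 17 := hy ▸ orderOf_dvd_of_mem_zpowers hwy
        exact ((Nat.dvd_prime (by norm_num)).1 h1).resolve_left fun h2 => hw1 (orderOf_eq_one_iff.1 h2)
      have hle : Subgroup.zpowers w = Subgroup.zpowers y :=
        Subgroup.eq_of_le_of_card_ge (Subgroup.zpowers_le.2 hwy)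
          (by rw [Nat.card_zpowers, Nat.card_zpowers, hord, hy])
      have hyc : y ∈ Subgroup.centralizer ({s} : Set L) :=
        (Subgroup.zpowers_le.2 hmem) (hle ▸ Subgroup.mem_zpowers y)
      rw [Subgroup.mem_centralizer_singleton_iff] at hyc
      rw [hyc, mul_inv_cancel_right]
    have := Nat.card_le_card_of_injective f hinj
    rw [Nat.card_fin] at this
    omega
  let Y : Sylow 17 L := Sylow.ofCard (Subgroup.zpowers y) (by
    rw [Nat.card_zpowers, hy, h.card_eq]
    have : (2448 : ℕ).factorization 17 = 1 := by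
      rw [show (2448 : ℕ) = 17 ^ 1 * 144 by norm_num, Nat.factorization_mul (by norm_num) (by norm_num),
        Nat.Prime.factorization_pow (by norm_num), Finsupp.add_apply, Finsupp.single_eq_same,
        Nat.factorization_eq_zero_of_not_dvd (by norm_num)]
    rw [this, pow_one])
  have hNY : S ⊔ Subgroup.zpowers y ≤ Subgroup.normalizer ((Y : Subgroup L) : Set L) := by
    refine sup_le (fun s hs => ?_) Subgroup.le_normalizer
    show s ∈ Subgroup.normalizer ((Subgroup.zpowers y : Subgroup L) : Set L)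
    rw [Subgroup.mem_normalizer_iff]
    have hc : Commute s y := by
      have := hfix s hs
      rw [mul_inv_eq_iff_eq_mul] at this
      exact this.symm
    have hcall : ∀ z ∈ Subgroup.zpowers y, s * z = z * s := by
      rintro z ⟨k, rfl⟩
      exact (hc.zpow_right k).eq
    intro z
    constructor
    · intro hz
      rw [hcall z hz, mul_inv_cancel_right]; exact hz
    · intro hz
      have := hcall _ hz
      have e : z = s * z * s⁻¹ := by
        calc z = s⁻¹ * (s * z * s⁻¹) * s := by group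
          _ = s⁻¹ * ((s * z * s⁻¹) * s) := by group
          _ = s * z * s⁻¹ := by rw [← this]; group
      rw [e]; exact hz
  have hd1 := Subgroup.card_dvd_of_le hNY
  have h17 : 17 ∣ Nat.card (Subgroup.normalizer ((Y : Subgroup L) : Set L)) :=
    (hy ▸ Nat.card_zpowers y ▸ Subgroup.card_dvd_of_le le_sup_right).trans hd1
  have hSd := (Subgroup.card_dvd_of_le le_sup_left).trans hd1
  have hmul := (Subgroup.normalizer ((Y : Subgroup L) : Set L)).card_mul_index
  have hmod : Nat.card (Sylow 17 L) ≡ 1 [MOD 17] := card_sylow_modEq_one 17 L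
  rw [Y.card_eq_index_normalizer] at hmod
  rw [h.card_eq] at hmul
  set n := (Subgroup.normalizer ((Y : Subgroup L) : Set L)).index with hn
  have hn1 : n = 1 := by
    have hdvd : n ∣ 16 ∨ n ∣ 9 := by
      rcases hS with hS | hS
      · right
        obtain ⟨c, hc⟩ : 16 * 17 ∣ Nat.card (Subgroup.normalizer ((Y : Subgroup L) : Set L)) :=
          Nat.Coprime.mul_dvd_of_dvd_of_dvd (by norm_num) (hS ▸ hSd) h17
        rw [hc] at hmul
        exact ⟨c, by linarith [mul_comm n c]⟩
      · left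
        obtain ⟨c, hc⟩ : 9 * 17 ∣ Nat.card (Subgroup.normalizer ((Y : Subgroup L) : Set L)) :=
          Nat.Coprime.mul_dvd_of_dvd_of_dvd (by norm_num) (hS ▸ hSd) h17
        rw [hc] at hmul
        exact ⟨c, by linarith [mul_comm n c]⟩
    have hle : n ≤ 16 := by
      rcases hdvd with h1 | h1 <;> have := Nat.le_of_dvd (by norm_num) h1 <;> omega
    have hmod' : n % 17 = 1 % 17 := hmod
    omega
  have hnor : (Y : Subgroup L).Normal := Subgroup.normalizer_eq_top_iff.1 (Subgroup.index_eq_one.1 hn1)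
  haveI := h.simple
  rcases hnor.eq_bot_or_eq_top with e | e
  · have : Nat.card (Subgroup.zpowers y) = 1 := by
      rw [show Subgroup.zpowers y = (Y : Subgroup L) from rfl, e, Subgroup.card_bot]
    rw [Nat.card_zpowers, hy] at this; norm_num at this
  · have : Nat.card (Subgroup.zpowers y) = 2448 := by
      rw [show Subgroup.zpowers y = (Y : Subgroup L) from rfl, e, Subgroup.card_top, h.card_eq]
    rw [Nat.card_zpowers, hy] at this; norm_num at this

/-- The normaliser of a Sylow 2-subgroup has order 16. -/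
theorem IsPSLSeventeen.normalizer_two (h : IsPSLSeventeen L) (S : Subgroup L)
    (hS : Nat.card S = 16) : Nat.card (Subgroup.normalizer (S : Set L)) = 16 := by
  set N := Subgroup.normalizer (S : Set L) with hN
  have hd : Nat.card N ∣ 2448 := h.card_eq ▸ Subgroup.card_subgroup_dvd_card _
  obtain ⟨k, hk⟩ : 16 ∣ Nat.card N := hS ▸ Subgroup.card_dvd_of_le Subgroup.le_normalizer
  have hk153 : k ∣ 153 := by
    rw [hk, show (2448 : ℕ) = 16 * 153 by norm_num] at hd
    exact Nat.dvd_of_mul_dvd_mul_left (by norm_num) hd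
  have h17 := h.not_seventeen S (Or.inl hS)
  have h3 : ¬ 3 ∣ Nat.card N := by
    intro h3
    haveI : Fact (Nat.Prime 3) := ⟨by norm_num⟩
    haveI : Fact (Nat.Prime 2) := ⟨Nat.prime_two⟩
    obtain ⟨⟨y, hyN⟩, hy⟩ := exists_prime_orderOf_dvd_card' 3 h3
    rw [Subgroup.orderOf_mk] at hy
    obtain ⟨x₀, hx₀⟩ := h.exists_eight
    obtain ⟨Q, hQ⟩ := (IsPGroup.of_card (p := 2) (n := 3)
      (show Nat.card (Subgroup.zpowers x₀) = 2 ^ 3 by rw [Nat.card_zpowers, hx₀])).exists_le_sylow
    let T : Sylow 2 L := Sylow.ofCard S (by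
      rw [hS, h.card_eq]
      have : (2448 : ℕ).factorization 2 = 4 := by
        rw [show (2448 : ℕ) = 2 ^ 4 * 153 by norm_num, Nat.factorization_mul (by norm_num) (by norm_num),
          Nat.Prime.factorization_pow Nat.prime_two, Finsupp.add_apply, Finsupp.single_eq_same,
          Nat.factorization_eq_zero_of_not_dvd (by norm_num)]
      rw [this]; norm_num)
    obtain ⟨g, hg⟩ := MulAction.exists_smul_eq L Q T
    have hx : g * x₀ * g⁻¹ ∈ S := by
      have : g * x₀ * g⁻¹ ∈ ((g • Q : Sylow 2 L) : Subgroup L) := by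
        rw [Sylow.coe_subgroup_smul]
        exact ⟨x₀, hQ (Subgroup.mem_zpowers _), rfl⟩
      rw [hg] at this
      exact this
    set x := g * x₀ * g⁻¹ with hxdef
    have hxo : orderOf x = 2 ^ 3 := by
      rw [hxdef, ← MulAut.conj_apply, MulEquiv.orderOf_eq, hx₀]
    have hx' : y * x * y⁻¹ ∈ S := (Subgroup.mem_normalizer_iff.1 hyN x).1 hx
    have e := pow_four_eq_of_orderOf_eight (S := S) hS (x := ⟨x, hx⟩) (s := ⟨_, hx'⟩)
      (by rw [Subgroup.orderOf_mk, hxo])
      (by rw [Subgroup.orderOf_mk, ← MulAut.conj_apply, MulEquiv.orderOf_eq, hxo])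
    have e2 : y * x ^ 4 * y⁻¹ = x ^ 4 := by
      rw [← conj_pow]; exact congrArg Subtype.val e
    refine h.not_commute hy (z := x ^ 4) ?_ (mul_inv_eq_iff_eq_mul.1 e2)
    rw [orderOf_pow, hxo]; rfl
  have hk1 : k = 1 := by
    have : k ∣ 1 := by
      refine Nat.Coprime.dvd_of_dvd_mul_right (n := 153) ?_ (by rwa [one_mul])
      rw [show 153 = 3 ^ 2 * 17 by norm_num]
      exact Nat.Coprime.mul_right
        (Nat.Coprime.pow_right _ ((Nat.prime_three.coprime_iff_not_dvd.2
          fun hh => h3 (hk ▸ hh.mul_left 16)).symm))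
        (((show Nat.Prime 17 by norm_num).coprime_iff_not_dvd.2
          fun hh => h17 (hk ▸ hh.mul_left 16)).symm)
    exact Nat.dvd_one.1 this
  rw [hk, hk1]

/-- The normaliser of a Sylow 3-subgroup has order at most 18. -/
theorem IsPSLSeventeen.normalizer_three (h : IsPSLSeventeen L) (S : Subgroup L)
    (hS : Nat.card S = 9) : Nat.card (Subgroup.normalizer (S : Set L)) ≤ 18 := by
  haveI : Fact (Nat.Prime 3) := ⟨by norm_num⟩
  haveI : Fact (Nat.Prime 2) := ⟨Nat.prime_two⟩
  set N := Subgroup.normalizer (S : Set L) with hN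
  have hd : Nat.card N ∣ 2448 := h.card_eq ▸ Subgroup.card_subgroup_dvd_card _
  obtain ⟨k, hk⟩ : 9 ∣ Nat.card N := hS ▸ Subgroup.card_dvd_of_le Subgroup.le_normalizer
  have hk272 : k ∣ 16 * 17 := by
    rw [hk, show (2448 : ℕ) = 9 * (16 * 17) by norm_num] at hd
    exact Nat.dvd_of_mul_dvd_mul_left (by norm_num) hd
  have h17 := h.not_seventeen S (Or.inr hS)
  have hk16 : k ∣ 16 := Nat.Coprime.dvd_of_dvd_mul_right
    (((show Nat.Prime 17 by norm_num).coprime_iff_not_dvd.2
      fun hh => h17 (hk ▸ hh.mul_left 9)).symm) hk272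
  -- the Sylow subgroup is cyclic
  obtain ⟨x₀, hx₀⟩ := h.exists_nine
  obtain ⟨Q, hQ⟩ := (IsPGroup.of_card (p := 3) (n := 2)
    (show Nat.card (Subgroup.zpowers x₀) = 3 ^ 2 by rw [Nat.card_zpowers, hx₀])).exists_le_sylow
  let T : Sylow 3 L := Sylow.ofCard S (by
    rw [hS, h.card_eq]
    have : (2448 : ℕ).factorization 3 = 2 := by
      rw [show (2448 : ℕ) = 3 ^ 2 * 272 by norm_num, Nat.factorization_mul (by norm_num) (by norm_num),
        Nat.Prime.factorization_pow Nat.prime_three, Finsupp.add_apply, Finsupp.single_eq_same,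
        Nat.factorization_eq_zero_of_not_dvd (by norm_num)]
    rw [this]; norm_num)
  obtain ⟨g, hg⟩ := MulAction.exists_smul_eq L Q T
  have hx : g * x₀ * g⁻¹ ∈ S := by
    have : g * x₀ * g⁻¹ ∈ ((g • Q : Sylow 3 L) : Subgroup L) := by
      rw [Sylow.coe_subgroup_smul]
      exact ⟨x₀, hQ (Subgroup.mem_zpowers _), rfl⟩
    rw [hg] at this
    exact this
  haveI : IsCyclic S := isCyclic_of_orderOf_eq_card ⟨_, hx⟩ (by
    rw [Subgroup.orderOf_mk, ← MulAut.conj_apply, MulEquiv.orderOf_eq, hx₀, hS]; norm_num)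
  obtain ⟨R⟩ : Nonempty (Sylow 2 N) := inferInstance
  let c : (R : Subgroup N) →* MulAut S :=
    (S.normalizerMonoidHom).comp ((R : Subgroup N).subtype)
  have hinj : Function.Injective c := by
    rw [← MonoidHom.ker_eq_bot_iff]
    by_contra hne
    have hp : IsPGroup 2 c.ker := R.isPGroup'.to_subgroup _
    haveI : Nontrivial c.ker := Subgroup.nontrivial_iff_ne_bot _ |>.2 hne
    obtain ⟨n, hn0, hn⟩ := (IsPGroup.nontrivial_iff_card hp).1 inferInstance
    obtain ⟨z, hz⟩ := exists_prime_orderOf_dvd_card' (G := c.ker) 2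
      (by rw [hn]; exact dvd_pow_self 2 hn0.ne')
    have hzo : orderOf (((z : (R : Subgroup N)) : N) : L) = 2 := by
      rw [Subgroup.orderOf_coe, Subgroup.orderOf_coe, Subgroup.orderOf_coe, hz]
    set z' : L := (((z : (R : Subgroup N)) : N) : L) with hz'
    obtain ⟨y, hy⟩ := exists_prime_orderOf_dvd_card' (G := S) 3 (by rw [hS]; norm_num)
    refine h.not_commute (y := (y : L)) (by rw [Subgroup.orderOf_coe, hy]) hzo ?_
    have e : c (z : (R : Subgroup N)) y = y := by rw [MonoidHom.mem_ker.1 z.2]; rfl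
    have e2 : z' * (y : L) * z'⁻¹ = y := congrArg Subtype.val e
    rw [mul_inv_eq_iff_eq_mul] at e2
    exact e2.symm
  have hR : Nat.card (R : Subgroup N) ∣ 6 := by
    have := Subgroup.card_dvd_of_injective c hinj
    rwa [IsCyclic.card_mulAut, hS, show Nat.totient 9 = 6 from by decide] at this
  have hk6 : k ∣ 2 := by
    obtain ⟨j, -, rfl⟩ := (Nat.dvd_prime_pow Nat.prime_two (m := 4)).1 hk16
    have : 2 ^ j ∣ Nat.card (R : Subgroup N) :=
      R.pow_dvd_card_of_pow_dvd_card (hk ▸ dvd_mul_left _ _)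
    exact (Nat.Coprime.pow_left j (show Nat.Coprime 2 3 by norm_num)).dvd_of_dvd_mul_right
      (show 2 ^ j ∣ 2 * 3 from this.trans hR)
  have := Nat.le_of_dvd (by norm_num) hk6
  omega

end Cfsg.Agent.H84
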