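import Cfsg.Agent.CharBasic.Equivalence
import Cfsg.Agent.H84.UniquePSingular
import Cfsg.Agent.H75.Basic
import Cfsg.Agent.H75.Cover

/-!
# A normal `p`-complement and one `p`-singular character
-/

set_option linter.style.haveILetI false

namespace Cfsg.Agent.H84

open Cfsg.Agent
open scoped ComplexConjugate

/-- An integer that is a natural multiple of an algebraic integer is divisible. -/
theorem dvd_of_natCast_eq_mul {n M : ℕ} {z : ℂ} (hz : IsIntegral ℤ z)
    (h : (n : ℂ) = (M : ℂ) * z) : M ∣ n := by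
  rcases Nat.eq_zero_or_pos M with rfl | hM
  · simp_all
  have hzq : z = algebraMap ℚ ℂ ((n : ℚ) / M) := by
    have hM' : (M : ℂ) ≠ 0 := Nat.cast_ne_zero.2 hM.ne'
    rw [map_div₀, map_natCast, map_natCast, eq_div_iff hM', h, mul_comm]
  rw [hzq, isIntegral_algebraMap_iff (algebraMap ℚ ℂ).injective] at hz
  obtain ⟨k, hk⟩ := IsIntegrallyClosed.isIntegral_iff.1 hz
  have h2 : (n : ℚ) = (M : ℚ) * (k : ℚ) := by
    rw [show (algebraMap ℤ ℚ) k = (k : ℚ) from rfl] at hk
    rw [hk]
    field_simp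
  have h3 : (n : ℤ) = (M : ℤ) * k := by exact_mod_cast h2
  exact Int.natCast_dvd_natCast.1 ⟨k, h3⟩

/-- A sum over a set with a free action of `L` of an invariant function. -/
theorem exists_sum_eq_card_mul {L α : Type*} [Group L] [Finite L] (t : L → α → α)
    (h1 : ∀ a, t 1 a = a) (hmul : ∀ l m a, t (l * m) a = t l (t m a)) (S : Finset α)
    (hmem : ∀ a ∈ S, ∀ l, t l a ∈ S) (hfree : ∀ a ∈ S, ∀ l, t l a = a → l = 1) (F : α → ℂ)
    (hF : ∀ a ∈ S, IsIntegral ℤ (F a)) (hinv : ∀ a ∈ S, ∀ l, F (t l a) = F a) :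
    ∃ z : ℂ, IsIntegral ℤ z ∧ ∑ a ∈ S, F a = (Nat.card L : ℂ) * z := by
  classical
  cases nonempty_fintype L
  induction S using Finset.strongInduction with
  | _ S ih =>
    rcases S.eq_empty_or_nonempty with rfl | ⟨a, ha⟩
    · exact ⟨0, isIntegral_zero, by simp⟩
    let O : Finset α := Finset.univ.image fun l => t l a
    have hOS : O ⊆ S := fun b hb => by
      obtain ⟨l, -, rfl⟩ := Finset.mem_image.1 hb
      exact hmem a ha l
    have haO : a ∈ O := Finset.mem_image.2 ⟨1, Finset.mem_univ _, h1 a⟩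
    have hss : S \ O ⊂ S := Finset.sdiff_ssubset hOS ⟨a, haO⟩
    obtain ⟨z, hz, hzs⟩ := ih (S \ O) hss (fun b hb l => by
      obtain ⟨hbS, hbO⟩ := Finset.mem_sdiff.1 hb
      refine Finset.mem_sdiff.2 ⟨hmem b hbS l, fun h => hbO ?_⟩
      obtain ⟨m, -, hm⟩ := Finset.mem_image.1 h
      refine Finset.mem_image.2 ⟨l⁻¹ * m, Finset.mem_univ _, ?_⟩
      rw [hmul, hm, ← hmul, inv_mul_cancel, h1])
      (fun b hb => hfree b (Finset.mem_sdiff.1 hb).1) (fun b hb => hF b (Finset.mem_sdiff.1 hb).1)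
      (fun b hb => hinv b (Finset.mem_sdiff.1 hb).1)
    refine ⟨z + F a, hz.add (hF a ha), ?_⟩
    rw [← Finset.sum_sdiff hOS, hzs, mul_add]
    congr 1
    rw [Finset.sum_image]
    · simp [hinv a ha, Nat.card_eq_fintype_card]
    · intro l _ m _ hlm
      have : t (m⁻¹ * l) a = a := by
        simp only at hlm
        rw [hmul, hlm, ← hmul, inv_mul_cancel, h1]
      exact (inv_mul_eq_one.1 (hfree a ha _ this)).symm

section

variable {G : Type*} [Group G] [Finite G]

/-- A linear character fixing `χ` has order dividing `χ(1)`. -/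
theorem hom_pow_degree_eq_one (l : G →* ℂˣ) (χ : Cfsg.IrrCharacter G)
    (h : ∀ g, (l g : ℂ) * (χ : G → ℂ) g = (χ : G → ℂ) g) (g : G) :
    l g ^ Cfsg.charDegree (χ : G → ℂ) = 1 := by
  obtain ⟨n, ρ, hρ, e⟩ := χ.2
  have hn : Cfsg.charDegree (χ : G → ℂ) = n := by
    have h1 := BlockBasic.apply_one_eq_charDegree χ
    rw [← e, Representation.char_one, Module.finrank_fin_fun] at h1
    rw [← e]
    exact (Nat.cast_injective h1).symm
  let σ : Representation ℂ G (Fin n → ℂ) :=
    { toFun := fun g => (l g : ℂ) • ρ g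
      map_one' := by simp
      map_mul' := fun a b => by
        rw [map_mul, map_mul, Units.val_mul, smul_mul_smul_comm] }
  have hchar : ρ.character = σ.character := funext fun g => by
    show LinearMap.trace ℂ _ (ρ g) = LinearMap.trace ℂ _ ((l g : ℂ) • ρ g)
    rw [map_smul, smul_eq_mul]
    have := (h g).symm
    rw [← e] at this
    exact this
  obtain ⟨E⟩ := CharBasic.nonempty_equiv_of_character_eq ρ σ hchar
  have hc : LinearMap.det (σ g) = LinearMap.det (ρ g) := by
    rw [← LinearMap.det_conj (ρ g) E.toLinearEquiv]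
    congr 1
    refine LinearMap.ext fun v => ?_
    obtain ⟨w, rfl⟩ := E.toLinearEquiv.surjective v
    simp only [LinearMap.coe_comp, LinearEquiv.coe_coe, Function.comp_apply,
      LinearEquiv.symm_apply_apply]
    exact (E.toIntertwiningMap.isIntertwining _ _ g w).symm
  have hσ : σ g = (l g : ℂ) • ρ g := rfl
  rw [hσ, LinearMap.det_smul, Module.finrank_fin_fun] at hc
  have hne : LinearMap.det (ρ g) ≠ 0 := fun h0 => by
    have h1 : LinearMap.det (ρ g) * LinearMap.det (ρ g⁻¹) = 1 := by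
      rw [← map_mul, ← map_mul, mul_inv_cancel, map_one, map_one]
    rw [h0, zero_mul] at h1
    exact zero_ne_one h1
  refine Units.ext ?_
  rw [hn, Units.val_pow_eq_pow_val, Units.val_one]
  exact (mul_eq_right₀ hne).1 hc

/-- The number of linear characters as homomorphisms. -/
theorem card_hom : Nat.card (G →* ℂˣ) = (commutator G).index := by
  cases nonempty_fintype G
  haveI : NeZero (Monoid.exponent (Abelianization G)) := ⟨Monoid.exponent_ne_zero_of_finite⟩
  rw [Nat.card_congr Abelianization.lift, CommGroup.card_monoidHom_of_hasEnoughRootsOfUnity,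
    Subgroup.index_eq_card]
  rfl

theorem finite_hom : Finite (G →* ℂˣ) :=
  Nat.finite_of_card_ne_zero (card_hom (G := G) ▸ Subgroup.index_ne_zero_of_finite)

theorem exists_hom_apply_ne_one {g : G} (hg : g ∉ commutator G) : ∃ l : G →* ℂˣ, l g ≠ 1 := by
  cases nonempty_fintype G
  have ha : Abelianization.of g ≠ 1 := fun h => hg (by rw [← Abelianization.ker_of G]; exact h)
  obtain ⟨φ, hφ⟩ := CommGroup.exists_apply_ne_one_of_hasEnoughRootsOfUnity (Abelianization G) ℂ ha
  exact ⟨φ.comp Abelianization.of, hφ⟩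

/-- Orthogonality for linear characters. -/
theorem sum_hom_apply [Fintype (G →* ℂˣ)] (g : G) [Decidable (g ∈ commutator G)] :
    ∑ l : G →* ℂˣ, (l g : ℂ) = if g ∈ commutator G then ((commutator G).index : ℂ) else 0 := by
  split_ifs with hg
  · have : ∀ l : G →* ℂˣ, (l g : ℂ) = 1 := fun l => by
      have h : g ∈ l.ker := Abelianization.commutator_subset_ker l hg
      rw [MonoidHom.mem_ker] at h
      rw [h, Units.val_one]
    simp [this, ← card_hom, Nat.card_eq_fintype_card]
  · obtain ⟨m, hm⟩ := exists_hom_apply_ne_one hg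
    have h : (m g : ℂ) * ∑ l : G →* ℂˣ, (l g : ℂ) = ∑ l : G →* ℂˣ, (l g : ℂ) := by
      rw [Finset.mul_sum]
      exact Fintype.sum_equiv (Equiv.mulLeft m) _ _ fun l => by simp
    by_contra h0
    exact hm (Units.ext ((mul_eq_right₀ h0).1 h))

section Twist

variable (N : Subgroup G) [N.Normal]

/-- Twist by a linear character of `G ⧸ N`. -/
noncomputable def twistQ (l : G ⧸ N →* ℂˣ) (χ : Cfsg.IrrCharacter G) : Cfsg.IrrCharacter G :=
  ⟨fun g => ((l.comp (QuotientGroup.mk' N)) g : ℂ) * (χ : G → ℂ) g, isIrr_hom_mul _ χ⟩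

theorem twistQ_apply (l : G ⧸ N →* ℂˣ) (χ : Cfsg.IrrCharacter G) (g : G) :
    (twistQ N l χ : G → ℂ) g = (l (g : G ⧸ N) : ℂ) * (χ : G → ℂ) g := rfl

theorem charDegree_twistQ (l : G ⧸ N →* ℂˣ) (χ : Cfsg.IrrCharacter G) :
    Cfsg.charDegree (twistQ N l χ : G → ℂ) = Cfsg.charDegree (χ : G → ℂ) := by
  simp [Cfsg.charDegree, twistQ_apply]

theorem twistQ_one (χ : Cfsg.IrrCharacter G) : twistQ N 1 χ = χ :=
  Subtype.ext (funext fun g => by simp [twistQ_apply])

theorem twistQ_mul (l m : G ⧸ N →* ℂˣ) (χ : Cfsg.IrrCharacter G) :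
    twistQ N (l * m) χ = twistQ N l (twistQ N m χ) :=
  Subtype.ext (funext fun g => by simp [twistQ_apply, mul_assoc])

/-- Twisting acts freely on characters of `p'`-degree when `G ⧸ N` is a `p`-group. -/
theorem twistQ_free {p : ℕ} [hp : Fact p.Prime] (hidx : ∃ k : ℕ, N.index = p ^ k)
    (χ : Cfsg.IrrCharacter G) (hχ : ¬ p ∣ Cfsg.charDegree (χ : G → ℂ)) (l : G ⧸ N →* ℂˣ)
    (h : twistQ N l χ = χ) : l = 1 := by
  obtain ⟨k, hk⟩ := hidx
  refine MonoidHom.ext fun q => ?_
  obtain ⟨g, rfl⟩ := QuotientGroup.mk_surjective q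
  have h1 := hom_pow_degree_eq_one (l.comp (QuotientGroup.mk' N)) χ
    (fun g => congrFun (congrArg Subtype.val h) g) g
  have h2 : l (g : G ⧸ N) ^ (p ^ k) = 1 := by
    rw [← map_pow, ← hk, Subgroup.index_eq_card, pow_card_eq_one', map_one]
  refine orderOf_eq_one_iff.1 (Nat.eq_one_of_dvd_coprimes ?_ (orderOf_dvd_of_pow_eq_one h2)
    (orderOf_dvd_of_pow_eq_one h1))
  exact Nat.Coprime.pow_left k (hp.out.coprime_iff_not_dvd.2 hχ)

/-- Twist-free characters have constant square sum on the kernel of all twists. -/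
theorem sum_normSq_twist_free [Fintype G] (χ : Cfsg.IrrCharacter G)
    (hfree : ∀ l : G ⧸ N →* ℂˣ, twistQ N l χ = χ → l = 1)
    [DecidablePred fun g : G => (g : G ⧸ N) ∈ commutator (G ⧸ N)] :
    ((commutator (G ⧸ N)).index : ℝ) *
      ∑ g ∈ Finset.univ.filter (fun g : G => (g : G ⧸ N) ∈ commutator (G ⧸ N)),
        Complex.normSq ((χ : G → ℂ) g) = (Nat.card G : ℝ) := by
  classical
  haveI := finite_hom (G := G ⧸ N)
  cases nonempty_fintype (G ⧸ N →* ℂˣ)
  have h : ∑ l : G ⧸ N →* ℂˣ, ∑ g : G, (twistQ N l χ : G → ℂ) g * conj ((χ : G → ℂ) g) =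
      (Nat.card G : ℂ) := by
    have h1 : ∀ l : G ⧸ N →* ℂˣ, ∑ g : G, (twistQ N l χ : G → ℂ) g * conj ((χ : G → ℂ) g) =
        if l = 1 then (Nat.card G : ℂ) else 0 := by
      intro l
      split_ifs with hl
      · subst hl
        rw [twistQ_one]
        have h2 := CharBasic.classInner_irr_self χ.2
        rw [CharBasic.classInner_def,
          inv_mul_eq_one₀ (Nat.cast_ne_zero.2 Nat.card_pos.ne')] at h2
        exact h2.symm
      · have h2 := CharBasic.classInner_irr_of_ne (twistQ N l χ).2 χ.2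
          (fun e => hl (hfree l (Subtype.ext e)))
        rw [CharBasic.classInner_def] at h2
        exact (mul_eq_zero.1 h2).resolve_left
          (inv_ne_zero (Nat.cast_ne_zero.2 Nat.card_pos.ne'))
    simp [h1]
  rw [Finset.sum_comm] at h
  simp only [twistQ_apply, mul_assoc, ← Finset.sum_mul, sum_hom_apply, ite_mul, zero_mul,
    Complex.mul_conj] at h
  rw [← Finset.sum_filter, ← Finset.mul_sum] at h
  exact_mod_cast h

end Twist

end

section Main

variable {G : Type*} [Group G] [Finite G] {p : ℕ} [hp : Fact p.Prime]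

/-- A nilpotency criterion: `G ⧸ N` nonabelian forces `N = 1`. -/
theorem commutator_quotient_eq_bot (hnil : ¬ Group.IsNilpotent G) (N : Subgroup G) [N.Normal]
    (hidx : ∃ k : ℕ, N.index = p ^ k)
    (hone : Nat.card {χ : Cfsg.IrrCharacter G // p ∣ Cfsg.charDegree (χ : G → ℂ)} = 1) :
    commutator (G ⧸ N) = ⊥ := by
  classical
  by_contra hQ
  obtain ⟨k, hk⟩ := hidx
  have hQp : IsPGroup p (G ⧸ N) := IsPGroup.of_card (n := k) (by rw [← Subgroup.index_eq_card, hk])
  cases nonempty_fintype G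
  cases nonempty_fintype (Cfsg.IrrCharacter (G ⧸ N))
  haveI hss := (Nat.card_eq_one_iff_unique.1 hone).1
  have hdeg : ∀ η : Cfsg.IrrCharacter (G ⧸ N), ¬ Cfsg.charDegree (η : G ⧸ N → ℂ) = 1 →
      p ∣ Cfsg.charDegree (η : G ⧸ N → ℂ) := by
    intro η hη
    have hd := BlockBasic.charDegree_dvd η
    rw [← Subgroup.index_eq_card, hk] at hd
    obtain ⟨j, -, hj⟩ := (Nat.dvd_prime_pow hp.out).1 hd
    rw [hj] at hη ⊢
    exact dvd_pow_self p fun h => hη (by rw [h, pow_zero])
  obtain ⟨η, hη⟩ : ∃ η : Cfsg.IrrCharacter (G ⧸ N), p ∣ Cfsg.charDegree (η : G ⧸ N → ℂ) := by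
    by_contra hc
    push Not at hc
    apply hQ
    have h := card_eq_index_add_sum (G := G ⧸ N)
    rw [Finset.sum_eq_zero (fun η hη => absurd (hdeg η (Finset.mem_filter.1 hη).2) (hc η)),
      add_zero, ← (commutator (G ⧸ N)).card_mul_index] at h
    have hi : 0 < (commutator (G ⧸ N)).index :=
      Nat.pos_of_ne_zero Subgroup.index_ne_zero_of_finite
    exact Subgroup.eq_bot_of_card_eq _ ((mul_eq_right₀ hi.ne').1 h)
  let lift : Cfsg.IrrCharacter (G ⧸ N) → Cfsg.IrrCharacter G := fun η =>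
    ⟨_, CharInduce.IsIrr.comp η.2 (QuotientGroup.mk' N) (QuotientGroup.mk'_surjective N)⟩
  have hliftd : ∀ η, Cfsg.charDegree (lift η : G → ℂ) = Cfsg.charDegree (η : G ⧸ N → ℂ) :=
    fun η => by simp [lift, Cfsg.charDegree]
  have hηu : ∀ η' : Cfsg.IrrCharacter (G ⧸ N), p ∣ Cfsg.charDegree (η' : G ⧸ N → ℂ) → η' = η := by
    intro η' hη'
    have he : lift η' = lift η := congrArg Subtype.val (Subsingleton.elim
      (⟨lift η', (hliftd η').symm ▸ hη'⟩ :
        {χ : Cfsg.IrrCharacter G // p ∣ Cfsg.charDegree (χ : G → ℂ)})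
      ⟨lift η, (hliftd η).symm ▸ hη⟩)
    refine Subtype.ext (funext fun q => ?_)
    obtain ⟨g, rfl⟩ := QuotientGroup.mk_surjective q
    exact congrFun (congrArg Subtype.val he) g
  have honeQ : Nat.card {χ : Cfsg.IrrCharacter (G ⧸ N) //
      p ∣ Cfsg.charDegree (χ : G ⧸ N → ℂ)} = 1 :=
    Nat.card_eq_one_iff_unique.2 ⟨⟨fun a b => Subtype.ext ((hηu _ a.2).trans (hηu _ b.2).symm)⟩,
      ⟨⟨η, hη⟩⟩⟩
  obtain ⟨hp2, hE⟩ := extraspecial_of_unique_p_singular hQp honeQ
  set χ := lift η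
  have hχu : ∀ ψ : Cfsg.IrrCharacter G, p ∣ Cfsg.charDegree (ψ : G → ℂ) → ψ = χ := fun ψ hψ =>
    congrArg Subtype.val (Subsingleton.elim
      (⟨ψ, hψ⟩ : {χ : Cfsg.IrrCharacter G // p ∣ Cfsg.charDegree (χ : G → ℂ)})
      ⟨χ, (hliftd η).symm ▸ hη⟩)
  have hη2 : Cfsg.charDegree (η : G ⧸ N → ℂ) ^ 2 = (commutator (G ⧸ N)).index := by
    have h := card_eq_index_add_sum (G := G ⧸ N)
    rw [show (Finset.univ.filter fun η' : Cfsg.IrrCharacter (G ⧸ N) =>
        ¬ Cfsg.charDegree (η' : G ⧸ N → ℂ) = 1) = {η} by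
      ext η'
      simp only [Finset.mem_filter, Finset.mem_univ, true_and, Finset.mem_singleton]
      refine ⟨fun h => hηu η' (hdeg η' h), ?_⟩
      rintro rfl h
      rw [h] at hη
      exact hp.out.not_dvd_one hη, Finset.sum_singleton,
      ← (commutator (G ⧸ N)).card_mul_index] at h
    have h2 : Nat.card (commutator (G ⧸ N)) = 2 := by rw [hE.1.2.2, hE.2]
    rw [h2] at h
    omega
  have hχ0 : ∀ g : G, (g : G ⧸ N) ∉ commutator (G ⧸ N) → (χ : G → ℂ) g = 0 := by
    intro g hg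
    obtain ⟨l, hl⟩ := exists_hom_apply_ne_one hg
    have h := congrArg (fun ψ : Cfsg.IrrCharacter G => (ψ : G → ℂ) g)
      (hχu (twistQ N l χ) (by rw [charDegree_twistQ, hliftd]; exact hη))
    simp only [twistQ_apply] at h
    by_contra h0
    exact hl (Units.ext ((mul_eq_right₀ h0).1 h))
  -- every character is trivial on `N`
  have key : ∀ ψ : Cfsg.IrrCharacter G, ∀ x ∈ N, (ψ : G → ℂ) x = (ψ : G → ℂ) 1 := by
    intro ψ x hx
    have hxN : (x : G ⧸ N) = 1 := (QuotientGroup.eq_one_iff x).2 hx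
    have hχx : (χ : G → ℂ) x = (χ : G → ℂ) 1 := by
      show (η : G ⧸ N → ℂ) (x : G ⧸ N) = (η : G ⧸ N → ℂ) ((1 : G) : G ⧸ N)
      rw [hxN, QuotientGroup.mk_one]
    by_cases hψ : p ∣ Cfsg.charDegree (ψ : G → ℂ)
    · rw [hχu ψ hψ, hχx]
    have hfree := twistQ_free N ⟨k, hk⟩ ψ hψ
    have hS := sum_normSq_twist_free N ψ hfree
    set Φ : G → ℂ := fun g => (ψ : G → ℂ) g * (χ : G → ℂ) g with hΦ
    have hΦc : Cfsg.IsCharacter G Φ :=
      CharInduce.IsChar.mul (CharBasic.IsIrr.isCharacter ψ.2) (CharBasic.IsIrr.isCharacter χ.2)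
    obtain ⟨n, hn⟩ := CharBasic.classInner_isChar_nat hΦc hΦc
    have hn1 : n = 1 := by
      have hn0 : n ≠ 0 := fun h0 => by
        rw [h0, Nat.cast_zero, CharBasic.classInner_self_eq_zero] at hn
        have h1 := congrFun hn 1
        simp [hΦ, CharBasic.IsIrr.one_ne_zero ψ.2, CharBasic.IsIrr.one_ne_zero χ.2] at h1
      have hle : n ≤ 1 := by
        rw [CharBasic.classInner_def] at hn
        simp only [Complex.mul_conj] at hn
        rw [inv_mul_eq_iff_eq_mul₀ (Nat.cast_ne_zero.2 Nat.card_pos.ne')] at hn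
        have hnr : ∑ g : G, Complex.normSq (Φ g) = (Nat.card G : ℝ) * n := by exact_mod_cast hn
        rw [← Finset.sum_subset (Finset.subset_univ (Finset.univ.filter
          fun g : G => (g : G ⧸ N) ∈ commutator (G ⧸ N)))
          (fun g _ hg => by
            simp [hΦ, hχ0 g (by simpa using hg)])] at hnr
        have hb : ∀ g : G, Complex.normSq (Φ g) ≤
            ((commutator (G ⧸ N)).index : ℝ) * Complex.normSq ((ψ : G → ℂ) g) := by
          intro g
          have h1 := normSq_le_degree_sq χ g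
          rw [hliftd, show (Cfsg.charDegree (η : G ⧸ N → ℂ) : ℝ) ^ 2 =
            ((commutator (G ⧸ N)).index : ℝ) by exact_mod_cast hη2] at h1
          rw [hΦ, map_mul, mul_comm]
          exact mul_le_mul_of_nonneg_right h1 (Complex.normSq_nonneg _)
        have h2 := Finset.sum_le_sum (s := Finset.univ.filter
          fun g : G => (g : G ⧸ N) ∈ commutator (G ⧸ N)) fun g _ => hb g
        rw [hnr, ← Finset.mul_sum, hS] at h2
        have hG : (0 : ℝ) < Nat.card G := Nat.cast_pos.2 Nat.card_pos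
        have h3 : (n : ℝ) ≤ 1 := le_of_mul_le_mul_left (by rw [mul_one]; exact h2) hG
        exact_mod_cast h3
      omega
    rw [hn1, Nat.cast_one] at hn
    have hΦi := CharInduce.isIrr_of_norm_one hΦc hn
    have hd : Cfsg.charDegree Φ = Cfsg.charDegree (ψ : G → ℂ) * Cfsg.charDegree (χ : G → ℂ) := by
      have h1 := BlockBasic.apply_one_eq_charDegree (⟨Φ, hΦi⟩ : Cfsg.IrrCharacter G)
      simp only [hΦ, BlockBasic.apply_one_eq_charDegree] at h1
      exact_mod_cast h1.symm
    have he := hχu ⟨Φ, hΦi⟩ (by rw [hd, hliftd]; exact hη.mul_left _)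
    have hev : ∀ g, (ψ : G → ℂ) g * (χ : G → ℂ) g = (χ : G → ℂ) g := fun g =>
      congrFun (congrArg Subtype.val he) g
    have hne := CharBasic.IsIrr.one_ne_zero χ.2
    have e1 := hev x
    have e2 := hev 1
    rw [hχx] at e1
    rw [(mul_eq_right₀ hne).1 e1, (mul_eq_right₀ hne).1 e2]
  apply hnil
  have hN1 : N = ⊥ := (Subgroup.eq_bot_iff_forall N).2 fun x hx =>
    CharBasic.eq_one_of_forall_irr fun ψ => key ψ x hx
  have : IsPGroup p G := IsPGroup.of_card (n := k) (by rw [← hk, hN1, Subgroup.index_bot])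
  exact this.isNilpotent

/-- S4763. -/
theorem unique_p_singular_class (hnil : ¬ Group.IsNilpotent G) (N : Subgroup G) [N.Normal]
    (hN : (Nat.card N).Coprime p) (hidx : ∃ k : ℕ, N.index = p ^ k)
    (hone : Nat.card {χ : Cfsg.IrrCharacter G // p ∣ Cfsg.charDegree (χ : G → ℂ)} = 1) :
    Nat.card {C : ConjClasses G // p ∣ Nat.card C.carrier} = 1 := by
  classical
  have hQ := commutator_quotient_eq_bot hnil N hidx hone
  obtain ⟨k, hk⟩ := hidx
  cases nonempty_fintype G
  obtain ⟨⟨⟨χ, hχ⟩⟩, hss⟩ := Nat.card_pos_iff.1 (hone ▸ Nat.one_pos)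
  haveI := (Nat.card_eq_one_iff_unique.1 hone).1
  have hχu : ∀ ψ : Cfsg.IrrCharacter G, p ∣ Cfsg.charDegree (ψ : G → ℂ) → ψ = χ := fun ψ hψ =>
    congrArg Subtype.val (Subsingleton.elim
      (⟨ψ, hψ⟩ : {χ : Cfsg.IrrCharacter G // p ∣ Cfsg.charDegree (χ : G → ℂ)}) ⟨χ, hχ⟩)
  have hLcard : Nat.card (G ⧸ N →* ℂˣ) = p ^ k := by
    rw [card_hom, hQ, Subgroup.index_bot, ← Subgroup.index_eq_card, hk]
  haveI := finite_hom (G := G ⧸ N)
  have hχ0 : ∀ g : G, g ∉ N → (χ : G → ℂ) g = 0 := by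
    intro g hg
    obtain ⟨l, hl⟩ := exists_hom_apply_ne_one (g := (g : G ⧸ N))
      (by rw [hQ, Subgroup.mem_bot]; exact fun h => hg ((QuotientGroup.eq_one_iff g).1 h))
    have h := congrArg (fun ψ : Cfsg.IrrCharacter G => (ψ : G → ℂ) g)
      (hχu (twistQ N l χ) (by rw [charDegree_twistQ]; exact hχ))
    simp only [twistQ_apply] at h
    by_contra h0
    exact hl (Units.ext ((mul_eq_right₀ h0).1 h))
  -- the characters of `p'`-degree contribute multiples of `p ^ k`
  have hsum : ∀ a b : G, (a : G ⧸ N) = (b : G ⧸ N) → ∃ z : ℂ, IsIntegral ℤ z ∧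
      ∑ ψ : Cfsg.IrrCharacter G, (ψ : G → ℂ) a * conj ((ψ : G → ℂ) b) =
        (χ : G → ℂ) a * conj ((χ : G → ℂ) b) + ((p ^ k : ℕ) : ℂ) * z := by
    intro a b hab
    obtain ⟨z, hz, hzs⟩ := exists_sum_eq_card_mul (twistQ N) (twistQ_one N) (twistQ_mul N)
      (Finset.univ.erase χ)
      (fun ψ hψ l => Finset.mem_erase.2 ⟨fun h => Finset.ne_of_mem_erase hψ (hχu ψ (by
        rw [← charDegree_twistQ N l ψ, h]; exact hχ)), Finset.mem_univ _⟩)
      (fun ψ hψ l h => twistQ_free N ⟨k, hk⟩ ψ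
        (fun hd => Finset.ne_of_mem_erase hψ (hχu ψ hd)) l h)
      (fun ψ => (ψ : G → ℂ) a * conj ((ψ : G → ℂ) b))
      (fun ψ _ => by
        refine (CharBasic.IsChar.isIntegral (CharBasic.IsIrr.isCharacter ψ.2) a).mul ?_
        rw [← CharBasic.IsChar.inv_apply (CharBasic.IsIrr.isCharacter ψ.2)]
        exact CharBasic.IsChar.isIntegral (CharBasic.IsIrr.isCharacter ψ.2) _)
      (fun ψ _ l => by
        simp only [twistQ_apply, map_mul, hab]
        have : (l (b : G ⧸ N) : ℂ) * conj (l (b : G ⧸ N) : ℂ) = 1 := by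
          rw [Complex.mul_conj', CharInduce.norm_hom]
          simp
        linear_combination ((ψ : G → ℂ) a * conj ((ψ : G → ℂ) b)) * this)
    exact ⟨z, hz, by rw [← Finset.add_sum_erase _ _ (Finset.mem_univ χ), hzs, hLcard]⟩
  have hout : ∀ g : G, g ∉ N → p ^ k ∣ Nat.card (Subgroup.centralizer ({g} : Set G)) := by
    intro g hg
    obtain ⟨z, hz, hzs⟩ := hsum g g rfl
    rw [CharBasic.second_orthogonality_self, hχ0 g hg, zero_mul, zero_add] at hzs
    exact dvd_of_natCast_eq_mul hz hzs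
  have hfull : ∀ g : G, p ∣ Nat.card (Subgroup.centralizer ({g} : Set G)) →
      p ^ k ∣ Nat.card (Subgroup.centralizer ({g} : Set G)) := by
    intro g hg
    by_cases hgN : g ∈ N
    swap
    · exact hout g hgN
    obtain ⟨u, hu⟩ := exists_prime_orderOf_dvd_card' p hg
    have hcomm : Commute g (u : G) := (Subgroup.mem_centralizer_singleton_iff.1 u.2).symm
    have hup : (u : G) ^ p = 1 := by
      rw [← SubmonoidClass.coe_pow, ← hu, pow_orderOf_eq_one, OneMemClass.coe_one]
    have huN : (u : G) ∉ N := fun h => by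
      have h1 : orderOf (u : G) = p := by rw [Subgroup.orderOf_coe, hu]
      have h2 := Subgroup.orderOf_dvd_natCard N h
      rw [h1] at h2
      exact hp.out.ne_one (Nat.eq_one_of_dvd_coprimes hN h2 dvd_rfl)
    have hguN : g * (u : G) ∉ N := fun h => huN ((mul_mem_cancel_left hgN).1 h)
    refine (hout _ hguN).trans (Subgroup.card_dvd_of_le fun x hx => ?_)
    rw [Subgroup.mem_centralizer_singleton_iff] at hx ⊢
    have h1 : Commute x (g ^ p) := by
      have := (Commute.pow_right (show Commute x (g * u) from hx) p)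
      rwa [hcomm.mul_pow, hup, mul_one] at this
    have hco : (orderOf g).Coprime p :=
      Nat.Coprime.coprime_dvd_left (Subgroup.orderOf_dvd_natCard N hgN) hN
    obtain ⟨m, hm⟩ := exists_pow_eq_self_of_coprime hco.symm
    rw [← hm]
    exact (h1.pow_right m).eq
  have hsize : ∀ g : G, p ∣ Nat.card (ConjClasses.mk g).carrier ↔
      ¬ p ∣ Nat.card (Subgroup.centralizer ({g} : Set G)) ∧ 0 < k := by
    intro g
    rw [Nat.card_coe_set_eq, H75.ncard_carrier]
    have hprod := (Subgroup.centralizer ({g} : Set G)).card_mul_index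
    rw [← N.card_mul_index, hk] at hprod
    constructor
    · intro hd
      refine ⟨fun hC => ?_, ?_⟩
      · obtain ⟨c, hc⟩ := hfull g hC
        rw [hc, mul_assoc, mul_comm (Nat.card N)] at hprod
        have h2 := mul_left_cancel₀ (pow_ne_zero k hp.out.ne_zero) hprod
        have h3 : p ∣ Nat.card N := h2 ▸ hd.mul_left c
        exact hp.out.ne_one (Nat.eq_one_of_dvd_coprimes hN h3 dvd_rfl)
      · by_contra hk0
        have hk0' : k = 0 := by omega
        rw [hk0', pow_zero, mul_one] at hprod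
        have h3 : p ∣ Nat.card N := hprod ▸ hd.mul_left _
        exact hp.out.ne_one (Nat.eq_one_of_dvd_coprimes hN h3 dvd_rfl)
    · rintro ⟨hC, hk0⟩
      refine (hp.out.dvd_mul.1 ?_).resolve_left hC
      rw [hprod]
      exact (dvd_pow_self p hk0.ne').mul_left _
  have hk0 : 0 < k := by
    by_contra hk0
    have h := BlockBasic.charDegree_dvd χ
    rw [← N.card_mul_index, hk, show k = 0 by omega, pow_zero, mul_one] at h
    exact hp.out.ne_one (Nat.eq_one_of_dvd_coprimes hN (hχ.trans h) dvd_rfl)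
  -- existence
  have hex : ∃ g : G, ¬ p ∣ Nat.card (Subgroup.centralizer ({g} : Set G)) := by
    by_contra hc
    push Not at hc
    obtain ⟨P⟩ : Nonempty (Sylow p G) := inferInstance
    have hfac : (Nat.card G).factorization p = k := by
      rw [← N.card_mul_index, hk, Nat.factorization_mul Nat.card_pos.ne'
        (pow_ne_zero k hp.out.ne_zero), Finsupp.add_apply, Nat.factorization_eq_zero_of_not_dvd
        (fun h => hp.out.ne_one (Nat.eq_one_of_dvd_coprimes hN h dvd_rfl)),
        hp.out.factorization_pow, Finsupp.single_eq_same, zero_add]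
    have htop : Subgroup.centralizer ((P : Subgroup G) : Set G) = ⊤ := by
      refine H75.eq_top_of_conj_cover _ fun g => ?_
      obtain ⟨S, hS⟩ := Sylow.exists_subgroup_card_pow_prime p (hfull g (hc g))
      set S' := S.map (Subgroup.centralizer ({g} : Set G)).subtype
      have hS' : Nat.card S' = p ^ k := by
        rw [Nat.card_congr (S.equivMapOfInjective _
          (Subgroup.subtype_injective _)).symm.toEquiv, hS]
      let Q : Sylow p G := Sylow.ofCard S' (by rw [hS', hfac])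
      obtain ⟨a, ha⟩ := MulAction.exists_smul_eq G Q P
      refine ⟨a, Subgroup.mem_centralizer_iff.2 fun y hy => ?_⟩
      have hy' : y ∈ ((a • Q : Sylow p G) : Subgroup G) := by rw [ha]; exact hy
      rw [Sylow.coe_subgroup_smul, Subgroup.mem_pointwise_smul_iff_inv_smul_mem] at hy'
      obtain ⟨s, -, hs⟩ := Subgroup.mem_map.1 (show (MulAut.conj a)⁻¹ • y ∈ S' from hy')
      have h1 : (MulAut.conj a)⁻¹ • y = a⁻¹ * y * a := by simp
      rw [h1] at hs
      have h2 := Subgroup.mem_centralizer_singleton_iff.1 s.2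
      rw [Subgroup.coe_subtype] at hs
      rw [hs] at h2
      calc y * (a * g * a⁻¹) = a * ((a⁻¹ * y * a) * g) * a⁻¹ := by group
        _ = a * (g * (a⁻¹ * y * a)) * a⁻¹ := by rw [h2]
        _ = (a * g * a⁻¹) * y := by group
    have hle : (P : Subgroup G) ≤ Subgroup.center G := fun y hy =>
      Subgroup.mem_center_iff.2 fun x => by
        have hx : x ∈ Subgroup.centralizer ((P : Subgroup G) : Set G) := by
          rw [htop]; trivial
        exact (Subgroup.mem_centralizer_iff.1 hx y hy).symm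
    obtain ⟨n, -, hn, -, hdvd⟩ := CharBasic.IsIrr.degree_dvd χ.2
    rw [BlockBasic.apply_one_eq_charDegree, Nat.cast_inj] at hn
    subst hn
    exact P.not_dvd_index (hχ.trans (hdvd.trans (Subgroup.index_dvd_of_le hle)))
  obtain ⟨g₀, hg₀⟩ := hex
  have huniq : ∀ a b : G, ¬ p ∣ Nat.card (Subgroup.centralizer ({a} : Set G)) →
      ¬ p ∣ Nat.card (Subgroup.centralizer ({b} : Set G)) → IsConj a b := by
    intro a b ha hb
    by_contra hab
    have hin : ∀ c : G, ¬ p ∣ Nat.card (Subgroup.centralizer ({c} : Set G)) → c ∈ N := fun c hc => by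
      by_contra hcN
      exact hc ((dvd_pow_self p hk0.ne').trans (hout c hcN))
    have hq : ∀ c : G, c ∈ N → (c : G ⧸ N) = 1 := fun c hc => (QuotientGroup.eq_one_iff c).2 hc
    obtain ⟨za, hza, ea⟩ := hsum a a rfl
    obtain ⟨zb, hzb, eb⟩ := hsum b b rfl
    obtain ⟨z, hz, e⟩ := hsum a b (by rw [hq a (hin a ha), hq b (hin b hb)])
    rw [CharBasic.second_orthogonality_self] at ea eb
    rw [CharBasic.second_orthogonality_not_isConj hab] at e
    set M : ℂ := ((p ^ k : ℕ) : ℂ)
    have hi : ∀ c : G, IsIntegral ℤ ((χ : G → ℂ) c) :=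
      fun c => CharBasic.IsChar.isIntegral (CharBasic.IsIrr.isCharacter χ.2) c
    have hic : ∀ c : G, IsIntegral ℤ (conj ((χ : G → ℂ) c)) := fun c => by
      rw [← CharBasic.IsChar.inv_apply (CharBasic.IsIrr.isCharacter χ.2)]
      exact hi _
    have h : ((Nat.card (Subgroup.centralizer ({a} : Set G)) *
        Nat.card (Subgroup.centralizer ({b} : Set G)) : ℕ) : ℂ) = M *
        (za * (Nat.card (Subgroup.centralizer ({b} : Set G)) : ℂ) +
          (χ : G → ℂ) a * conj ((χ : G → ℂ) a) * zb -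
          z * (conj ((χ : G → ℂ) a) * (χ : G → ℂ) b)) := by
      push_cast
      rw [ea, eb]
      linear_combination (conj ((χ : G → ℂ) a) * (χ : G → ℂ) b) * (-e)
    have hdiv := dvd_of_natCast_eq_mul (((hza.mul (isIntegral_natCast ..)).add
      (((hi a).mul (hic a)).mul hzb)).sub (hz.mul ((hic a).mul (hi b)))) h
    exact (hp.out.dvd_mul.1 ((dvd_pow_self p hk0.ne').trans hdiv)).elim ha hb
  refine Nat.card_eq_one_iff_unique.2 ⟨⟨fun A B => ?_⟩,
    ⟨⟨ConjClasses.mk g₀, (hsize g₀).2 ⟨hg₀, hk0⟩⟩⟩⟩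
  obtain ⟨a, ha⟩ := ConjClasses.exists_rep A.1
  obtain ⟨b, hb⟩ := ConjClasses.exists_rep B.1
  refine Subtype.ext ?_
  rw [← ha, ← hb, ConjClasses.mk_eq_mk_iff_isConj]
  exact huniq a b ((hsize a).1 (by rw [ha]; exact A.2)).1 ((hsize b).1 (by rw [hb]; exact B.2)).1

end Main

end Cfsg.Agent.H84
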