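import Cfsg.Agent.Linear.TwoSL
import Cfsg.Agent.Linear.TwoClasses
import Cfsg.Agent.Linear.Simple
import Cfsg.Agent.Linear.Order
import Mathlib.Data.Nat.Totient

/-!
# Element orders in `PSL(2, 17)`
-/

namespace Cfsg.Agent.H84

open Matrix
open Cfsg.Agent.Linear

instance fact_prime_seventeen : Fact (Nat.Prime 17) := ⟨by norm_num⟩

local notation "S17" => Matrix.SpecialLinearGroup (Fin 2) (ZMod 17)
local notation "M17" => Matrix (Fin 2) (Fin 2) (ZMod 17)
local notation "P17" => Matrix.ProjectiveSpecialLinearGroup (Fin 2) (ZMod 17)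

theorem card_psl_seventeen : Nat.card P17 = 2448 := by
  have h := card_PSL_two_mul (F := ZMod 17)
  rw [ZMod.card] at h
  norm_num at h ⊢
  omega

theorem isSimpleGroup_psl_seventeen : IsSimpleGroup P17 :=
  isSimpleGroup_PSL_fin le_rfl fun _ => by rw [Nat.card_zmod]; norm_num

theorem mem_center_iff_coe (g : S17) :
    g ∈ Subgroup.center S17 ↔ (g : M17) = 1 ∨ (g : M17) = -1 := by
  rw [mem_center_SL_two]
  refine or_congr ⟨fun h => by rw [h]; rfl, fun h => Subtype.ext h⟩
    ⟨fun h => by rw [h]; rfl, fun h => Subtype.ext h⟩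

theorem mk_pow_eq_one_iff (g : S17) (k : ℕ) :
    (QuotientGroup.mk g : P17) ^ k = 1 ↔ ((g : M17) ^ k = 1 ∨ (g : M17) ^ k = -1) := by
  rw [← QuotientGroup.mk_pow, QuotientGroup.eq_one_iff, mem_center_iff_coe,
    Matrix.SpecialLinearGroup.coe_pow]

/-- There are no elements of order six. -/
theorem no_order_six (x : P17) (h6 : x ^ 6 = 1) : x ^ 2 = 1 ∨ x ^ 3 = 1 := by
  obtain ⟨g, rfl⟩ := QuotientGroup.mk_surjective x
  rw [mk_pow_eq_one_iff] at h6 ⊢
  rw [mk_pow_eq_one_iff]
  set m := (g : M17) with hm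
  set t := m 0 0 + m 1 1 with ht
  have hdet : m 0 0 * m 1 1 - m 0 1 * m 1 0 = 1 := SL_det_two g
  have h2 : m ^ 2 = t • m - (1 : M17) := by
    rw [sq]
    ext i j
    fin_cases i <;> fin_cases j <;>
      simp [Matrix.mul_apply, Fin.sum_univ_two, ht] <;>
      first | linear_combination hdet | linear_combination -hdet | ring
  have hmul : ∀ a b : ZMod 17, (a • m + b • (1 : M17)) * m = (a * t + b) • m + (-a) • (1 : M17) := by
    intro a b
    rw [add_mul, smul_mul_assoc, smul_mul_assoc, one_mul, ← sq, h2, smul_sub, smul_smul, neg_smul,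
      add_smul]
    abel
  have h2' : m ^ 2 = t • m + (-1 : ZMod 17) • (1 : M17) := by
    rw [h2, neg_smul, one_smul, sub_eq_add_neg]
  have h3 : m ^ 3 = (t * t + -1) • m + (-t) • (1 : M17) := by rw [pow_succ, h2', hmul]
  have h4 : m ^ 4 = ((t * t + -1) * t + -t) • m + (-(t * t + -1)) • (1 : M17) := by
    rw [pow_succ, h3, hmul]
  have h5 : m ^ 5 = (((t * t + -1) * t + -t) * t + -(t * t + -1)) • m +
      (-((t * t + -1) * t + -t)) • (1 : M17) := by
    rw [pow_succ, h4, hmul]
  have h6' := h6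
  rw [pow_succ, h5, hmul] at h6'
  set a := ((((t * t + -1) * t + -t) * t + -(t * t + -1)) * t + -((t * t + -1) * t + -t)) with ha
  -- either the matrix is scalar or the coefficient vanishes
  by_cases ha0 : a = 0
  · have hall : ∀ t : ZMod 17,
        ((((t * t + -1) * t + -t) * t + -(t * t + -1)) * t + -((t * t + -1) * t + -t)) = 0 →
          t = 0 ∨ t = 1 ∨ t = -1 := by decide
    rcases hall t ha0 with e | e | e
    · refine Or.inl (Or.inr ?_)
      rw [h2', e, zero_smul, zero_add, neg_smul, one_smul]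
    · refine Or.inr (Or.inr ?_)
      rw [h3, e]; simp
    · refine Or.inr (Or.inl ?_)
      rw [h3, e]; simp
  · have hscal : ∃ c : ZMod 17, m = c • (1 : M17) := by
      rcases h6' with e | e
      · refine ⟨a⁻¹ * (1 - -(((t * t + -1) * t + -t) * t + -(t * t + -1))), ?_⟩
        rw [← smul_smul, sub_smul, one_smul, eq_inv_smul_iff₀ ha0]
        exact eq_sub_of_add_eq e
      · refine ⟨a⁻¹ * (-1 - -(((t * t + -1) * t + -t) * t + -(t * t + -1))), ?_⟩
        rw [← smul_smul, sub_smul, neg_smul, one_smul, eq_inv_smul_iff₀ ha0]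
        exact eq_sub_of_add_eq e
    obtain ⟨c, hc⟩ := hscal
    have hd : c ^ 2 = 1 := by
      rw [hc] at hdet
      simp at hdet
      rw [sq]; exact hdet
    refine Or.inl (Or.inl ?_)
    rw [hc, smul_pow, hd, one_pow, one_smul]

theorem orderOf_eight : orderOf (QuotientGroup.mk (compSL (5 : ZMod 17)) : P17) = 2 ^ 3 := by
  refine orderOf_eq_prime_pow ?_ ?_
  · rw [mk_pow_eq_one_iff, compSL_coe]; decide +kernel
  · rw [mk_pow_eq_one_iff, compSL_coe]; decide +kernel

theorem orderOf_nine : orderOf (QuotientGroup.mk (compSL (3 : ZMod 17)) : P17) = 3 ^ 2 := by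
  refine orderOf_eq_prime_pow ?_ ?_
  · rw [mk_pow_eq_one_iff, compSL_coe]; decide +kernel
  · rw [mk_pow_eq_one_iff, compSL_coe]; decide +kernel

end Cfsg.Agent.H84
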