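import Cfsg.Agent.H84.PTwoCentralizer
import Cfsg.Agent.H54.CentralBlocks
import Cfsg.Agent.H43.CoprimeAverage

/-!
# The blocks of full defect when `C(P) = P × Z(G)` has index two in `N(P)`
-/

set_option linter.unusedSectionVars false
set_option linter.style.haveILetI false
set_option maxHeartbeats 1000000

open scoped ComplexConjugate

namespace Cfsg.Agent.H84.PTwo

open CharBasic BlockBasic CycOne

universe u

variable {G : Type u} [Group G] [Fintype G] {p : ℕ} [hp : Fact p.Prime]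

/-- `C(P) = P × Z(G)` has index two in `N(P)`. -/
structure TH (P : Sylow p G) : Prop where
  card_P : Nat.card P = p
  five_le : 5 ≤ p
  cen_eq : ∀ g ∈ cen P, ∃ y ∈ (P : Subgroup G), ∃ z ∈ Subgroup.center G, g = y * z
  index_two : (cenN P).index = 2
  center_inf : ∀ y ∈ (P : Subgroup G), y ∈ Subgroup.center G → y = 1

/-- The two characters have the same central character on the centre. -/
def Same (χ ψ : IrrCharacter G) : Prop :=
  ∀ z ∈ Subgroup.center G, centralChar (χ : G → ℂ) z = centralChar (ψ : G → ℂ) z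

theorem Same.refl (χ : IrrCharacter G) : Same χ χ := fun _ _ => rfl
theorem Same.symm {χ ψ : IrrCharacter G} (h : Same χ ψ) : Same ψ χ := fun z hz => (h z hz).symm
theorem Same.trans {χ ψ η : IrrCharacter G} (h : Same χ ψ) (h' : Same ψ η) : Same χ η :=
  fun z hz => (h z hz).trans (h' z hz)

variable {P : Sylow p G} (h : TH P)

include h

theorem TH.center_regular {z : G} (hz : z ∈ Subgroup.center G) : ¬ p ∣ orderOf z := by
  intro hd
  set w := z ^ (orderOf z / p) with hw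
  have hwc : w ∈ Subgroup.center G := pow_mem hz _
  have hword : orderOf w = p := orderOf_pow_orderOf_div (orderOf_pos z).ne' hd
  obtain ⟨Q, hQ⟩ := (IsPGroup.of_card (G := Subgroup.zpowers w) (n := 1)
    (by rw [Nat.card_zpowers, hword, pow_one])).exists_le_sylow
  obtain ⟨c, hc⟩ := MulAction.exists_smul_eq G P Q
  rw [← hc] at hQ
  have h1 := Fusion.mem_sylow_smul.1 (hQ (Subgroup.mem_zpowers w))
  rw [Subgroup.mem_center_iff.1 hwc c⁻¹, inv_mul_cancel_right] at h1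
  have := h.center_inf w h1 hwc
  rw [this, orderOf_one] at hword
  exact hp.out.ne_one hword.symm

theorem TH.center_le_cen : Subgroup.center G ≤ cen P := fun z hz =>
  Subgroup.mem_centralizer_iff.2 fun y _ => Subgroup.mem_center_iff.1 hz y

theorem TH.cen_comm : IsMulCommutative (cen P) := by
  haveI := H86.Abelian.isMulCommutative_sylow P h.card_P
  refine ⟨⟨fun a b => Subtype.ext ?_⟩⟩
  obtain ⟨y, hy, z, hz, ha⟩ := h.cen_eq a a.2
  obtain ⟨y', hy', z', hz', hb⟩ := h.cen_eq b b.2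
  show (a : G) * b = b * a
  rw [ha, hb]
  calc y * z * (y' * z') = y * y' * (z * z') := by
        rw [mul_assoc, ← mul_assoc z, ← Subgroup.mem_center_iff.1 hz y']; group
    _ = y' * y * (z' * z) := by
        rw [H86.Abelian.mul_comm_sylow P hy hy', Subgroup.mem_center_iff.1 hz' z]
    _ = y' * z' * (y * z) := by
        rw [mul_assoc y', mul_assoc y', ← mul_assoc z', ← Subgroup.mem_center_iff.1 hz' y]; group

theorem TH.eq_inv_of_not_mem {n : G} (hn : n ∈ nor P) (hnC : n ∉ cen P) {y : G}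
    (hy : y ∈ (P : Subgroup G)) : n * y * n⁻¹ = y⁻¹ := by
  rcases eq_or_ne y 1 with rfl | hy1
  · simp
  have hsq : n * n ∈ cen P := by
    have := Subgroup.mul_self_mem_of_index_two h.index_two (⟨n, hn⟩ : nor P)
    exact this
  obtain ⟨k, hk⟩ := Subgroup.mem_zpowers_iff.1 (show n * y * n⁻¹ ∈ Subgroup.zpowers y by
    rw [zpowers_eq P h.card_P hy hy1]; exact (Subgroup.mem_normalizer_iff.1 hn y).1 hy)
  have hy2 : y ^ (k * k) = y := by
    calc y ^ (k * k) = (n * y * n⁻¹) ^ k := by rw [zpow_mul, hk]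
      _ = n * (n * y * n⁻¹) * n⁻¹ := by rw [conj_zpow, hk]
      _ = y := by
          have := Subgroup.mem_centralizer_iff.1 hsq y hy
          calc n * (n * y * n⁻¹) * n⁻¹ = (n * n * y) * (n⁻¹ * n⁻¹) := by group
            _ = y := by rw [← this]; group
  have hord : orderOf y = p := by rw [← Nat.card_zpowers, zpowers_eq P h.card_P hy hy1]; exact h.card_P
  have h3 : (p : ℤ) ∣ (k - 1) * (k + 1) := by
    rw [← hord, orderOf_dvd_iff_zpow_eq_one, show (k - 1) * (k + 1) = k * k - 1 by ring, zpow_sub,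
      zpow_one, hy2, mul_inv_cancel]
  rcases (Int.Prime.dvd_mul' hp.out h3) with h4 | h4 <;>
    rw [← hord, orderOf_dvd_iff_zpow_eq_one] at h4
  · rw [zpow_sub, zpow_one, mul_inv_eq_one, hk] at h4
    refine absurd ?_ hnC
    rw [cen_eq_centralizer P h.card_P hy hy1]
    exact Subgroup.mem_centralizer_singleton_iff.2 (mul_inv_eq_iff_eq_mul.1 h4)
  · rw [zpow_add, zpow_one, hk] at h4
    exact mul_eq_one_iff_eq_inv.1 h4

theorem TH.exists_not_mem : ∃ n ∈ nor P, n ∉ cen P := by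
  by_contra hno
  push Not at hno
  have : cenN P = ⊤ := eq_top_iff.2 fun n _ => hno _ n.2
  have h2 := h.index_two
  rw [this, Subgroup.index_top] at h2
  omega

/-- The sum over `P` is `p` times a natural number bounding the values outside `C(P)`. -/
theorem TH.exists_mult [Fintype (P : Subgroup G)] (χ : IrrCharacter G) :
    ∃ m : ℕ, (p : ℂ) * m = ∑ y : (P : Subgroup G), (χ : G → ℂ) y ∧
      ∀ n ∈ nor P, n ∉ cen P → ‖(χ : G → ℂ) n‖ ≤ m ∧ (m = 1 → ‖(χ : G → ℂ) n‖ = 1) := by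
  have hF : IsCharacter (nor P) (fun l : nor P => (Nat.card (P : Subgroup G) : ℂ)⁻¹ *
      ∑ k : (P : Subgroup G), (χ : G → ℂ) ((k : G) * l)) := by
    convert H43.isCharacter_avg (IsIrr.isCharacter χ.2) (P : Subgroup G) (nor P)
      (fun l hl k hk => (Subgroup.mem_normalizer_iff.1 hl k).1 hk) using 5 with l
  obtain ⟨m, hm⟩ := IsChar.exists_degree hF
  have hp0 : (p : ℂ) ≠ 0 := Nat.cast_ne_zero.2 hp.out.ne_zero
  rw [show Nat.card (P : Subgroup G) = p from h.card_P] at hm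
  refine ⟨m, ?_, fun n hn hnC => ?_⟩
  · rw [← hm]
    simp only [OneMemClass.coe_one, mul_one]
    rw [← mul_assoc, mul_inv_cancel₀ hp0, one_mul]
  have hval : (Nat.card (P : Subgroup G) : ℂ)⁻¹ * ∑ y : (P : Subgroup G), (χ : G → ℂ) ((y : G) * n) =
      (χ : G → ℂ) n := by
    rw [show Nat.card (P : Subgroup G) = p from h.card_P]
    have hconst : ∀ y : (P : Subgroup G), (χ : G → ℂ) ((y : G) * n) = (χ : G → ℂ) n := by
      intro y
      obtain ⟨w, hw⟩ := ((Nat.Coprime.pow_left_bijective (n := 2) (G := (P : Subgroup G))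
        (by rw [show Nat.card (P : Subgroup G) = p from h.card_P, Nat.coprime_primes hp.out Nat.prime_two]
            have := h.five_le; omega)).surjective y)
      have hwy : (y : G) = (w : G) * w := by rw [← hw]; simp [pow_two]
      have hnw : n * (w : G)⁻¹ = (w : G) * n := by
        have h1 := h.eq_inv_of_not_mem hn hnC w.2
        rw [mul_inv_eq_iff_eq_mul] at h1
        calc n * (w : G)⁻¹ = (w : G) * ((w : G)⁻¹ * n) * (w : G)⁻¹ := by group
          _ = (w : G) * (n * (w : G)) * (w : G)⁻¹ := by rw [h1]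
          _ = _ := by group
      rw [hwy, mul_assoc, ← hnw, ← mul_assoc]
      exact IsIrr.isClassFunction χ.2 n (w : G)
    rw [Finset.sum_congr rfl fun y _ => hconst y, Finset.sum_const, Finset.card_univ,
      ← Nat.card_eq_fintype_card, show Nat.card (P : Subgroup G) = p from h.card_P, nsmul_eq_mul,
      ← mul_assoc, inv_mul_cancel₀ hp0, one_mul]
  constructor
  · have h1 := IsChar.norm_le hF (⟨n, hn⟩ : nor P)
    have h2 : ‖((Nat.card (P : Subgroup G) : ℂ)⁻¹ *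
        ∑ y : (P : Subgroup G), (χ : G → ℂ) ((y : G) * ((1 : nor P) : G)))‖ = m := by
      rw [show Nat.card (P : Subgroup G) = p from h.card_P, hm, Complex.norm_natCast]
    rw [← h2, ← hval]
    exact h1
  · intro hm1
    obtain ⟨l, hl⟩ := CharInduce.IsChar.exists_hom_of_degree_one hF (by
      rw [show Nat.card (P : Subgroup G) = p from h.card_P, hm, hm1, Nat.cast_one])
    have h2 := hl ⟨n, hn⟩
    rw [← hval]
    refine Eq.trans ?_ (CharInduce.norm_hom l ⟨n, hn⟩)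
    rw [← h2]

variable [Fintype (cen P)]

theorem TH.lin (ψ : IrrCharacter (cen P)) : (ψ : cen P → ℂ) 1 = 1 :=
  haveI := h.cen_comm; H85.apply_one_eq_one_of_comm ψ

theorem TH.lin_mul (ψ : IrrCharacter (cen P)) (a b : cen P) :
    (ψ : cen P → ℂ) (a * b) = (ψ : cen P → ℂ) a * (ψ : cen P → ℂ) b :=
  H86.apply_mul_of_one ψ.2 (h.lin ψ) a b

/-- A constituent of the restriction has the central character of the character. -/
theorem TH.central_of_cMult {χ : IrrCharacter G} {ψ : IrrCharacter (cen P)}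
    (hc : cMult P χ ψ ≠ 0) {z : G} (hz : z ∈ Subgroup.center G) :
    (ψ : cen P → ℂ) ⟨z, h.center_le_cen hz⟩ = centralChar (χ : G → ℂ) z := by
  set zz : cen P := ⟨z, h.center_le_cen hz⟩
  set ω := centralChar (χ : G → ℂ) z
  have h1 : ∀ c : cen P, (χ : G → ℂ) ((c * zz : cen P) : G) * conj ((ψ : cen P → ℂ) (c * zz)) =
      (ω * conj ((ψ : cen P → ℂ) zz)) * ((χ : G → ℂ) c * conj ((ψ : cen P → ℂ) c)) := fun c => by
    rw [Subgroup.coe_mul, show ((zz : cen P) : G) = z from rfl, H54.CB.apply_mul_center χ hz,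
      h.lin_mul, map_mul]
    ring
  set T := ∑ c : cen P, (χ : G → ℂ) c * conj ((ψ : cen P → ℂ) c)
  have hT : T = (ω * conj ((ψ : cen P → ℂ) zz)) * T := by
    rw [Finset.mul_sum, ← Finset.sum_congr rfl fun c _ => h1 c]
    exact (Equiv.sum_comp (Equiv.mulRight zz) fun c =>
      (χ : G → ℂ) c * conj ((ψ : cen P → ℂ) c)).symm
  have hT0 : T ≠ 0 := fun h0 => hc (by
    have h2 := cMult_spec P χ ψ
    rw [classInner_def, show ∑ c : cen P, (χ : G → ℂ) c * conj ((ψ : cen P → ℂ) c) = 0 from h0,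
      mul_zero] at h2
    exact_mod_cast h2.symm)
  have h3 : ω * conj ((ψ : cen P → ℂ) zz) = 1 := by
    have : (ω * conj ((ψ : cen P → ℂ) zz) - 1) * T = 0 := by rw [sub_mul, one_mul, ← hT, sub_self]
    exact sub_eq_zero.1 ((mul_eq_zero.1 this).resolve_right hT0)
  have h4 : (ψ : cen P → ℂ) zz * conj ((ψ : cen P → ℂ) zz) = 1 := by
    rw [conj_apply_eq_inv, ← h.lin_mul, mul_inv_cancel, h.lin]
  calc (ψ : cen P → ℂ) zz = (ψ : cen P → ℂ) zz * (ω * conj ((ψ : cen P → ℂ) zz)) := by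
        rw [h3, mul_one]
    _ = ω * ((ψ : cen P → ℂ) zz * conj ((ψ : cen P → ℂ) zz)) := by ring
    _ = ω := by rw [h4, mul_one]

theorem TH.bs_center (hP : Nat.card P = p) (ψ : IrrCharacter (cen P)) {z : G}
    (hz : z ∈ Subgroup.center G) :
    (bs P hP ψ : cen P → ℂ) ⟨z, h.center_le_cen hz⟩ = (ψ : cen P → ℂ) ⟨z, h.center_le_cen hz⟩ :=
  bs_regular P hP ψ (by rw [Subgroup.orderOf_mk]; exact h.center_regular hz)

theorem TH.eq_of_central {φ φ' : IrrCharacter (cen P)} (hφ : IsTriv (sylC P) φ)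
    (hφ' : IsTriv (sylC P) φ')
    (hz : ∀ z (hz : z ∈ Subgroup.center G), (φ : cen P → ℂ) ⟨z, h.center_le_cen hz⟩ =
      (φ' : cen P → ℂ) ⟨z, h.center_le_cen hz⟩) : φ = φ' := by
  refine Subtype.ext (funext fun c => ?_)
  obtain ⟨y, hy, z, hzc, hc⟩ := h.cen_eq c c.2
  have hc' : c = (⟨y, le_cen P h.card_P hy⟩ : cen P) * ⟨z, h.center_le_cen hzc⟩ := Subtype.ext hc
  rw [hc', h.lin_mul, h.lin_mul, hφ _ hy, hφ' _ hy, hz z hzc, h.lin, h.lin]

theorem TH.cact_triv [Fintype (nor P)] {φ : IrrCharacter (cen P)} (hφ : IsTriv (sylC P) φ)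
    (n : nor P) : cact P n φ = φ := by
  refine h.eq_of_central (isTriv_cact P h.card_P n hφ) hφ fun z hz => ?_
  rw [cact_apply]
  refine congrArg _ (Subtype.ext ?_)
  rw [cenConj_coe]
  show (n : G) * z * (n : G)⁻¹ = z
  rw [Subgroup.mem_center_iff.1 hz (n : G), mul_inv_cancel_right]

omit [Fintype (cen P)] in
/-- The block of full defect of a character of degree prime to `p`. -/
theorem TH.exists_block [Fintype (P : Subgroup G)] [DecidableEq (P : Subgroup G)]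
    (χ₀ : IrrCharacter G) (hχ₀ : ¬ p ∣ charDegree (χ₀ : G → ℂ)) :
    ∃ (X₁ X₂ : IrrCharacter G) (Y : Finset (IrrCharacter G)) (ε₁ ε₂ δ : ℤ),
      X₁ ≠ X₂ ∧ X₁ ∉ Y ∧ X₂ ∉ Y ∧ 2 * Y.card + 1 = p ∧
      (ε₁ = 1 ∨ ε₁ = -1) ∧ (ε₂ = 1 ∨ ε₂ = -1) ∧ (δ = 1 ∨ δ = -1) ∧
      (χ₀ = X₁ ∨ χ₀ = X₂ ∨ χ₀ ∈ Y) ∧
      (∀ χ, χ = X₁ ∨ χ = X₂ ∨ χ ∈ Y → Same χ χ₀) ∧
      (∀ χ, Same χ χ₀ → χ ≠ X₁ → χ ≠ X₂ → χ ∉ Y →
        ∀ y : (P : Subgroup G), y ≠ 1 → (χ : G → ℂ) y = 0) ∧
      (∀ y : (P : Subgroup G), y ≠ 1 →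
        (X₁ : G → ℂ) y = ε₁ ∧ (X₂ : G → ℂ) y = ε₂ ∧ ∑ u ∈ Y, (u : G → ℂ) y = -(δ : ℂ) ∧
          ∀ u ∈ Y, conj ((u : G → ℂ) y) = (u : G → ℂ) y) ∧
      (∀ u ∈ Y, ∑ y ∈ Finset.univ.erase (1 : (P : Subgroup G)), (u : G → ℂ) y = -2 * (δ : ℂ)) ∧
      ∀ u ∈ Y, ∀ g : G, ¬ p ∣ orderOf g →
        (δ : ℂ) * (u : G → ℂ) g = (ε₁ : ℂ) * (X₁ : G → ℂ) g + (ε₂ : ℂ) * (X₂ : G → ℂ) g := by
  classical
  letI : Fintype (cen P) := Fintype.ofFinite _
  letI : Fintype (nor P) := Fintype.ofFinite _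
  haveI := h.cen_comm
  have hP := h.card_P
  obtain ⟨M, hM⟩ := exists_isPModular hp.out
  obtain ⟨B, θ, hχB, hθ, hBP, hd, hind⟩ := exists_root P hP hM hχ₀
  obtain ⟨S⟩ := nonempty_blockShape P hP hM hBP hd hθ hind
  have hst : stab P θ = ⊤ := eq_top_iff.2 fun n _ => h.cact_triv hθ n
  have he : idx P θ = 2 := by rw [idx, hst, Subgroup.relIndex_top_right]; exact h.index_two
  -- central characters in the block
  have hθz : ∀ χ ∈ B, ∀ z (hz : z ∈ Subgroup.center G),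
      (θ : cen P → ℂ) ⟨z, h.center_le_cen hz⟩ = centralChar (χ : G → ℂ) z := by
    intro χ hχ z hz
    obtain ⟨ψ, hv⟩ := exists_vec_ne_zero P hP hM hind.2.1 hd hχ
    obtain ⟨-, n, hn⟩ := support_vec P hP hM hBP hθ hind hχ hv
    rw [h.cact_triv hθ] at hn
    rcases eq_or_ne (cMult P χ ψ) 0 with h0 | h0
    · have h1 : cMult P χ (bs P hP ψ) ≠ 0 := fun e => hv (by rw [vec, h0, e]; simp)
      rw [hn, h.central_of_cMult h1 hz]
    · rw [hn, h.bs_center hP ψ hz, h.central_of_cMult h0 hz]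
  have hsame : ∀ χ ∈ B, Same χ χ₀ := fun χ hχ z hz => by
    rw [← hθz χ hχ z hz, hθz χ₀ hχB z hz]
  have hsupp : ∀ χ, Same χ χ₀ → ∀ ψ, vec P hP χ ψ ≠ 0 → ψ ∈ fam P hP θ ∧ χ ∈ B := by
    intro χ hχ ψ hv
    have hnt : ¬ IsTriv (sylC P) ψ := fun ht => hv (vec_of_isTriv P hP χ ht)
    have hbs : bs P hP ψ = θ := by
      refine h.eq_of_central (isTriv_bs P hP ψ) hθ fun z hz => ?_
      rw [hθz χ₀ hχB z hz, ← hχ z hz]
      rcases eq_or_ne (cMult P χ ψ) 0 with h0 | h0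
      · exact h.central_of_cMult (fun e => hv (by rw [vec, h0, e]; simp)) hz
      · rw [h.bs_center hP ψ hz, h.central_of_cMult h0 hz]
    have hf : ψ ∈ fam P hP θ := (mem_fam P hP).2 ⟨hbs, fun e => hnt (e ▸ hθ)⟩
    exact ⟨hf, by_contra fun hχB' => hv (vec_eq_zero_off P hP hM hind hf hχB')⟩
  -- the two characters outside the exceptional family
  have hcard : Set.ncard (B \ (S.Y : Set (IrrCharacter G))) = 2 := by
    rw [← Nat.card_coe_set_eq, S.card_diff, he]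
  obtain ⟨X₁, X₂, hne, hX⟩ := Set.ncard_eq_two.1 hcard
  have hX₁ : X₁ ∈ B ∧ X₁ ∉ S.Y := by
    have : X₁ ∈ B \ (S.Y : Set (IrrCharacter G)) := by rw [hX]; simp
    exact ⟨this.1, this.2⟩
  have hX₂ : X₂ ∈ B ∧ X₂ ∉ S.Y := by
    have : X₂ ∈ B \ (S.Y : Set (IrrCharacter G)) := by rw [hX]; simp
    exact ⟨this.1, this.2⟩
  have hmemB : ∀ χ ∈ B, χ = X₁ ∨ χ = X₂ ∨ χ ∈ S.Y := by
    intro χ hχ
    by_cases hY : χ ∈ S.Y
    · exact Or.inr (Or.inr hY)
    · have : χ ∈ B \ (S.Y : Set (IrrCharacter G)) := ⟨hχ, hY⟩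
      rw [hX] at this
      rcases this with e | e
      · exact Or.inl e
      · exact Or.inr (Or.inl e)
  have hdvd : ∀ y : (P : Subgroup G), y ≠ 1 → p ∣ orderOf (⟨y, le_cen P hP y.2⟩ : cen P) := by
    intro y hy
    have hy1 : (y : G) ≠ 1 := fun e => hy (Subtype.ext e)
    rw [Subgroup.orderOf_mk, ← Nat.card_zpowers, zpowers_eq P hP y.2 hy1, hP]
  have hθy : ∀ (y : G) (hy : y ∈ (P : Subgroup G)), (θ : cen P → ℂ) ⟨y, le_cen P hP hy⟩ = 1 :=
    fun y hy => (hθ ⟨y, le_cen P hP hy⟩ hy).trans (h.lin θ)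
  have hout : ∀ χ ∈ B, χ ∉ S.Y → ∀ y : (P : Subgroup G), y ≠ 1 →
      (χ : G → ℂ) y = ((-S.a χ : ℤ) : ℂ) := by
    intro χ hχ hY y hy
    have h1 := singular_formula P hP hM hBP hθ hind hχ (S.vec_out χ hχ hY) (hdvd y hy)
    rw [hst, Subgroup.card_top, Finset.sum_congr rfl (g := fun _ : nor P => (1 : ℂ)) fun n _ => by
      rw [show (cenConj P n ⟨(y : G), le_cen P hP y.2⟩ : cen P) =
        ⟨(n : G) * y * (n : G)⁻¹, le_cen P hP ((Subgroup.mem_normalizer_iff.1 n.2 y).1 y.2)⟩ from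
        Subtype.ext (cenConj_coe P n _)]
      exact hθy _ ((Subgroup.mem_normalizer_iff.1 n.2 y).1 y.2), Finset.sum_const, Finset.card_univ, ← Nat.card_eq_fintype_card, nsmul_one,
      mul_comm] at h1
    push_cast
    exact mul_right_cancel₀ (Nat.cast_ne_zero.2 Nat.card_pos.ne') h1
  -- the exceptional values
  obtain ⟨n₀, hn₀, hn₀C⟩ := h.exists_not_mem
  have hin : ∀ u ∈ S.Y, ∃ ψ ∈ fam P hP θ, ∀ y : (P : Subgroup G), y ≠ 1 → (u : G → ℂ) y =
      (S.δ : ℂ) * ((ψ : cen P → ℂ) ⟨y, le_cen P hP y.2⟩ +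
        (ψ : cen P → ℂ) ⟨(y⁻¹ : (P : Subgroup G)), le_cen P hP (y⁻¹).2⟩) := by
    intro u hu
    obtain ⟨ψ, hψ, hζ⟩ := S.ζ_surj u hu
    refine ⟨ψ, hψ, fun y hy => ?_⟩
    set ψ' := cact P ⟨n₀, hn₀⟩ ψ with hψ'
    have hne' : ψ ≠ ψ' := fun e =>
      hn₀C (mem_cen_of_fix P hP (not_isTriv_of_mem_fam P hP hψ) (n := ⟨n₀, hn₀⟩) e.symm)
    have hψ'f : ψ' ∈ fam P hP θ := cact_mem_fam P hP hψ (h.cact_triv hθ _)
    have horb : (fam P hP θ).filter (fun φ => ∃ n : nor P, cact P n ψ = φ) = {ψ, ψ'} := by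
      refine (Finset.eq_of_subset_of_card_le ?_ ?_).symm
      · intro φ hφ
        rcases Finset.mem_insert.1 hφ with rfl | hφ
        · exact Finset.mem_filter.2 ⟨hψ, 1, cact_one P φ⟩
        · rw [Finset.mem_singleton.1 hφ]
          exact Finset.mem_filter.2 ⟨hψ'f, _, rfl⟩
      · rw [card_orbit_fam P hP hψ, he, Finset.card_pair hne']
    rw [singular_eq P hP u (c := ⟨(y : G), le_cen P hP y.2⟩) (hdvd y hy),
      ← Finset.sum_subset (Finset.subset_univ {ψ, ψ'}) (fun φ _ hφ => ?_), Finset.sum_pair hne',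
      hψ', vec_cact, cact_apply, ← hζ, S.vec_self ψ hψ, ← mul_add]
    · refine congrArg _ (congrArg _ (congrArg _ (Subtype.ext ?_)))
      rw [cenConj_coe]
      exact h.eq_inv_of_not_mem hn₀ hn₀C y.2
    · rcases eq_or_ne (vec P hP u φ) 0 with h0 | h0
      · rw [h0, Int.cast_zero, zero_mul]
      exfalso
      obtain ⟨hφf, -⟩ := hsupp u (hsame u (S.subset u hu)) φ h0
      refine h0 (S.vec_other u hu φ hφf fun hζ' => hφ ?_)
      obtain ⟨m, hm⟩ := (S.ζ_eq φ hφf ψ hψ).1 (hζ'.trans hζ.symm)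
      rw [← horb]
      exact Finset.mem_filter.2 ⟨hφf, m, hm⟩
  have hsum : ∀ y : (P : Subgroup G), y ≠ 1 → ∑ u ∈ S.Y, (u : G → ℂ) y = -(S.δ : ℂ) := by
    intro y hy
    have hexp : ∀ u ∈ S.Y, (u : G → ℂ) y = ∑ φ ∈ fam P hP θ,
        if S.ζ φ = u then (S.δ : ℂ) * (φ : cen P → ℂ) ⟨y, le_cen P hP y.2⟩ else 0 := by
      intro u hu
      rw [singular_eq P hP u (c := ⟨(y : G), le_cen P hP y.2⟩) (hdvd y hy),
        ← Finset.sum_subset (Finset.subset_univ (fam P hP θ)) (fun φ _ hφ => ?_)]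
      · refine Finset.sum_congr rfl fun φ hφ => ?_
        split_ifs with e
        · rw [← e, S.vec_self φ hφ]
        · rw [S.vec_other u hu φ hφ e, Int.cast_zero, zero_mul]
      · rcases eq_or_ne (vec P hP u φ) 0 with h0 | h0
        · rw [h0, Int.cast_zero, zero_mul]
        · exact absurd (hsupp u (hsame u (S.subset u hu)) φ h0).1 hφ
    rw [Finset.sum_congr rfl hexp, Finset.sum_comm,
      Finset.sum_congr rfl (g := fun φ : IrrCharacter (cen P) =>
        (S.δ : ℂ) * (φ : cen P → ℂ) ⟨y, le_cen P hP y.2⟩) fun φ hφ => by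
        rw [Finset.sum_ite_eq, if_pos (S.ζ_mem φ hφ)],
      ← Finset.mul_sum, sum_fam_singular P hP hθ (hdvd y hy), hθy _ y.2, mul_neg, mul_one]
  refine ⟨X₁, X₂, S.Y, -S.a X₁, -S.a X₂, S.δ, hne, hX₁.2, hX₂.2, ?_, ?_, ?_, S.δ_sign,
    hmemB χ₀ hχB, ?_, ?_, fun y hy => ⟨hout _ hX₁.1 hX₁.2 y hy, hout _ hX₂.1 hX₂.2 y hy, hsum y hy,
      fun u hu => ?_⟩, ?_, ?_⟩
  · have := S.card_Y
    rw [he] at this
    omega
  · rcases S.a_sign X₁ hX₁.1 hX₁.2 with e | e <;> simp [e]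
  · rcases S.a_sign X₂ hX₂.1 hX₂.2 with e | e <;> simp [e]
  · rintro χ (rfl | rfl | hχ)
    · exact hsame _ hX₁.1
    · exact hsame _ hX₂.1
    · exact hsame _ (S.subset χ hχ)
  · intro χ hχ h1 h2 h3 y hy
    rw [show (χ : G → ℂ) y = _ from singular_eq P hP χ (c := ⟨(y : G), le_cen P hP y.2⟩) (hdvd y hy)]
    refine Finset.sum_eq_zero fun φ _ => ?_
    rcases eq_or_ne (vec P hP χ φ) 0 with h0 | h0
    · rw [h0, Int.cast_zero, zero_mul]
    · exfalso
      rcases hmemB χ (hsupp χ hχ φ h0).2 with e | e | e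
      · exact h1 e
      · exact h2 e
      · exact h3 e
  · obtain ⟨ψ, -, hψ⟩ := hin u hu
    rw [hψ y hy, map_mul, map_add, conj_apply_eq_inv, conj_apply_eq_inv, map_intCast]
    rw [add_comm]
    refine congrArg _ (congrArg₂ _ (congrArg _ (Subtype.ext ?_)) (congrArg _ (Subtype.ext ?_))) <;> simp
  · intro u hu
    obtain ⟨ψ, hψf, hψ⟩ := hin u hu
    rw [Finset.sum_congr rfl fun y hy => hψ y (Finset.ne_of_mem_erase hy), ← Finset.mul_sum,
      Finset.sum_add_distrib]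
    let b : ↥(P : Subgroup G) → ℂ := fun y => (ψ : cen P → ℂ) ⟨y, le_cen P hP y.2⟩
    have hbmul : ∀ x y, b (x * y) = b x * b y := fun x y => by
      simp only [b]; rw [← h.lin_mul]; rfl
    have hb1 : b 1 = 1 := h.lin ψ
    obtain ⟨y₀, hy₀⟩ : ∃ y₀, b y₀ ≠ 1 := by
      by_contra hall
      push Not at hall
      refine not_isTriv_of_mem_fam P hP hψf fun x hx => ?_
      rw [h.lin]
      exact hall ⟨(x : G), hx⟩
    have htot : ∑ y, b y = 0 := by
      have hs : b y₀ * ∑ y, b y = ∑ y, b y := by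
        rw [Finset.mul_sum]
        exact Fintype.sum_equiv (Equiv.mulLeft y₀) _ _ fun y => (hbmul y₀ y).symm
      have : (b y₀ - 1) * ∑ y, b y = 0 := by rw [sub_mul, one_mul, hs, sub_self]
      exact (mul_eq_zero.1 this).resolve_left (sub_ne_zero.2 hy₀)
    have e1 : ∑ y ∈ Finset.univ.erase (1 : (P : Subgroup G)), b y = -1 := by
      rw [Finset.sum_erase_eq_sub (Finset.mem_univ _), htot, hb1, zero_sub]
    have e2 : ∑ y ∈ Finset.univ.erase (1 : (P : Subgroup G)), b y⁻¹ = -1 := by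
      rw [← e1]
      exact Finset.sum_equiv (Equiv.inv _) (fun y => by simp) (fun y _ => by simp)
    show (S.δ : ℂ) * (∑ y ∈ Finset.univ.erase (1 : (P : Subgroup G)), b y +
      ∑ y ∈ Finset.univ.erase (1 : (P : Subgroup G)), b y⁻¹) = _
    rw [e1, e2]; ring
  · intro u hu g hg
    have h1 := S.regular_relation hM hind hu hg
    rw [hX, finsum_mem_pair hne] at h1
    push_cast
    linear_combination h1

end Cfsg.Agent.H84.PTwo
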