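import Cfsg.Agent.CycOne.Values
import Cfsg.Agent.H35.Consequences
import Cfsg.Agent.CharBasic.Kernel
import Cfsg.Agent.H86.PrimeOrderBlock
import Cfsg.Agent.H81.Central

/-!
# A faithful character of degree `p - 2` and a Sylow subgroup of order `p`

The restriction to the centralizer of `P` shows that this centralizer is `P × Z(G)` and has index
two in the normalizer.
-/

set_option linter.unusedSectionVars false
set_option linter.style.haveILetI false
set_option maxHeartbeats 1000000

open scoped ComplexConjugate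

namespace Cfsg.Agent.H84.PTwo

open CharBasic BlockBasic CycOne

universe u

variable {G : Type u} [Group G] [Fintype G] {p : ℕ} [hp : Fact p.Prime]

/-- An element on which a faithful irreducible character has full norm is central. -/
theorem mem_center_of_norm {χ : G → ℂ} (hχ : IsIrrCharacter G χ)
    (hfaith : ∀ g : G, χ g = χ 1 → g = 1) {y : G} (hy : ‖χ y‖ = ‖χ 1‖) :
    y ∈ Subgroup.center G := by
  obtain ⟨m, ρ, -, rfl⟩ := hχ
  obtain ⟨ω, hω⟩ := (IsChar.norm_eq_iff_scalar ρ y).1 hy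
  refine Subgroup.mem_center_iff.2 fun g => ?_
  have hcomm : ρ (g * y) = ρ (y * g) := by
    rw [map_mul, map_mul, hω]
    exact LinearMap.ext fun v => by simp
  have h1 : ρ ((y * g)⁻¹ * (g * y)) = 1 := by
    rw [map_mul, hcomm, ← map_mul, inv_mul_cancel, map_one]
  exact (inv_mul_eq_one.1 (hfaith _ (by
    show LinearMap.trace ℂ _ (ρ _) = LinearMap.trace ℂ _ (ρ 1)
    rw [h1, map_one ρ]))).symm

variable (P : Sylow p G) (hP : Nat.card P = p)

include hP

theorem factorization_eq_one : (Nat.card G).factorization p = 1 := by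
  rw [← Nat.pow_right_injective hp.out.two_le |>.eq_iff]
  show p ^ (Nat.card G).factorization p = p ^ 1
  rw [pow_one, ← P.card_eq_multiplicity]
  exact hP

/-- The block of a character of degree prime to `p`. -/
theorem exists_root [Fintype (cen P)] [Fintype (nor P)] {M : Ideal AlgInt} (hM : IsPModular p M)
    {χ : IrrCharacter G} (hdeg : ¬ p ∣ charDegree (χ : G → ℂ)) :
    ∃ (B : Set (IrrCharacter G)) (θ : IrrCharacter (cen P)), χ ∈ B ∧
      IsTriv (sylC P) θ ∧ IsDefectGroup p M B (P : Subgroup G) ∧ 0 < blockDefect p B ∧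
      IsInducedBlock M (cen P) (blockOf M (θ : cen P → ℂ)) B := by
  have hB : IsPBlock M (blockOf M (χ : G → ℂ)) := ⟨χ, rfl⟩
  have hmem : χ ∈ blockOf M (χ : G → ℂ) := mem_blockOf.2 (sameBlock_refl hM _)
  have hfac := factorization_eq_one P hP
  have hd : blockDefect p (blockOf M (χ : G → ℂ)) = 1 := by
    rw [blockDefect, hfac, show sInf ((fun χ : IrrCharacter G =>
      (charDegree (χ : G → ℂ)).factorization p) '' blockOf M (χ : G → ℂ)) = 0 from
      Nat.sInf_eq_zero.2 (Or.inl ⟨χ, hmem, Nat.factorization_eq_zero_of_not_dvd hdeg⟩)]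
  obtain ⟨g, hg⟩ := exists_isDefectClass (p := p) hM hB
  have hD : IsDefectGroup p M (blockOf M (χ : G → ℂ))
      (H35.sylImage (default : Sylow p (Subgroup.centralizer ({g} : Set G)))) :=
    ⟨g, hg, default, rfl⟩
  have hcard := H35.card_defectGroup hM hB hD
  rw [hd, pow_one] at hcard
  obtain ⟨Q, hle⟩ := (IsPGroup.of_card (p := p) (n := 1)
    (G := (H35.sylImage (default : Sylow p (Subgroup.centralizer ({g} : Set G))) : Subgroup G))
      (by rw [pow_one]; exact hcard)).exists_le_sylow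
  have hQ : Nat.card (Q : Subgroup G) = p := by rw [Q.card_eq_multiplicity, hfac, pow_one]
  have hQe := Subgroup.eq_of_le_of_card_ge hle (le_of_eq (hQ.trans hcard.symm))
  obtain ⟨c, hc⟩ := MulAction.exists_smul_eq G Q P
  have hBP : IsDefectGroup p M (blockOf M (χ : G → ℂ)) (P : Subgroup G) := by
    have h1 := H35.isDefectGroup_conj hD c
    rw [hQe] at h1
    rw [← hc, Sylow.coe_subgroup_smul]
    exact h1
  obtain ⟨ψ, hψ⟩ : ∃ ψ, vec P hP χ ψ ≠ 0 :=
    exists_vec_ne_zero P hP hM hB (by rw [hd]; exact one_pos) hmem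
  exact ⟨_, bs P hP ψ, hmem, isTriv_bs P hP ψ, hBP, by rw [hd]; exact one_pos,
    induced_of_vec_ne_zero P hP hM hB hmem hψ⟩

variable [Fintype (cen P)]

/-- The contribution of a fibre of `bs` to the degree. -/
noncomputable def fibDeg (χ : IrrCharacter G) (φ : IrrCharacter (cen P)) : ℕ :=
  open scoped Classical in
  ∑ ψ ∈ Finset.univ.filter (fun ψ => bs P hP ψ = φ), cMult P χ ψ * charDegree (ψ : cen P → ℂ)

theorem sum_fibDeg (χ : IrrCharacter G) :
    ∑ φ, fibDeg P hP χ φ = charDegree (χ : G → ℂ) := by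
  classical
  apply Nat.cast_injective (R := ℂ)
  simp only [fibDeg]
  rw [Finset.sum_fiberwise, Nat.cast_sum, ← apply_one_eq_charDegree,
    show ((1 : G)) = ((1 : cen P) : G) from rfl, restrict_eq]
  exact Finset.sum_congr rfl fun ψ _ => by rw [Nat.cast_mul, ← apply_one_eq_charDegree]

theorem fibDeg_eq (χ : IrrCharacter G) {φ : IrrCharacter (cen P)} (hφ : IsTriv (sylC P) φ) :
    (fibDeg P hP χ φ : ℤ) = (charDegree (φ : cen P → ℂ) : ℤ) *
      ((p : ℤ) * cMult P χ φ + ∑ ψ ∈ fam P hP φ, vec P hP χ ψ) := by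
  classical
  have hdeg : ∀ ψ, bs P hP ψ = φ →
      charDegree (ψ : cen P → ℂ) = charDegree (φ : cen P → ℂ) := fun ψ hψ => by
    have h := bs_apply_one P hP ψ
    rw [hψ, apply_one_eq_charDegree, apply_one_eq_charDegree] at h
    exact_mod_cast h.symm
  have hset : Finset.univ.filter (fun ψ => bs P hP ψ = φ) = insert φ (fam P hP φ) := by
    ext ψ
    rw [Finset.mem_filter, Finset.mem_insert, mem_fam P hP]
    constructor
    · intro h
      by_cases e : ψ = φ
      · exact Or.inl e
      · exact Or.inr ⟨h.2, e⟩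
    · rintro (rfl | h)
      · exact ⟨Finset.mem_univ _, bs_of_isTriv P hP hφ⟩
      · exact ⟨Finset.mem_univ _, h.1⟩
  have hnm : φ ∉ fam P hP φ := fun h => ((mem_fam P hP).1 h).2 rfl
  have hc : ∀ ψ ∈ fam P hP φ, (cMult P χ ψ : ℤ) = cMult P χ φ + vec P hP χ ψ := fun ψ hψ => by
    rw [vec, ((mem_fam P hP).1 hψ).1]; ring
  rw [fibDeg, hset, Finset.sum_insert hnm]
  push_cast
  rw [Finset.sum_congr rfl (g := fun ψ => ((cMult P χ φ : ℤ) + vec P hP χ ψ) *
      (charDegree (φ : cen P → ℂ) : ℤ)) fun ψ hψ => by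
        rw [hc ψ hψ, hdeg ψ ((mem_fam P hP).1 hψ).1], ← Finset.sum_mul, Finset.sum_add_distrib,
    Finset.sum_const, nsmul_eq_mul]
  have hcf : ((fam P hP φ).card : ℤ) + 1 = p := by exact_mod_cast card_fam P hP hφ
  linear_combination ((cMult P χ φ : ℤ) * (charDegree (φ : cen P → ℂ) : ℤ)) * hcf

variable [Fintype (nor P)]

theorem fibDeg_cact (χ : IrrCharacter G) (n : nor P) (φ : IrrCharacter (cen P)) :
    fibDeg P hP χ (cact P n φ) = fibDeg P hP χ φ := by
  classical
  refine (Finset.sum_bij' (fun ψ _ => cact P n ψ) (fun ψ _ => cact P n⁻¹ ψ) ?_ ?_ ?_ ?_ ?_).symm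
  · intro ψ hψ
    exact Finset.mem_filter.2 ⟨Finset.mem_univ _, by rw [bs_cact, (Finset.mem_filter.1 hψ).2]⟩
  · intro ψ hψ
    refine Finset.mem_filter.2 ⟨Finset.mem_univ _, ?_⟩
    rw [bs_cact, (Finset.mem_filter.1 hψ).2, cact_mul, mul_inv_cancel, cact_one]
  · intro ψ _; rw [cact_mul, mul_inv_cancel, cact_one]
  · intro ψ _; rw [cact_mul, inv_mul_cancel, cact_one]
  · intro ψ _
    rw [cMult_cact]
    congr 1
    apply Nat.cast_injective (R := ℂ)
    rw [← apply_one_eq_charDegree, ← apply_one_eq_charDegree, cact_apply, map_one]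

/-- The conclusion on the centralizer. -/
theorem centralizer_structure (hp5 : 5 ≤ p) (hnn : ¬ (P : Subgroup G).Normal)
    {χ : IrrCharacter G} (hfaith : ∀ g : G, (χ : G → ℂ) g = (χ : G → ℂ) 1 → g = 1)
    (hdeg : charDegree (χ : G → ℂ) = p - 2) :
    (∀ g ∈ cen P, ∃ y ∈ (P : Subgroup G), ∃ z ∈ Subgroup.center G, g = y * z) ∧
      (cenN P).index = 2 ∧
      ∀ y ∈ (P : Subgroup G), y ∈ Subgroup.center G → y = 1 := by
  classical
  have hcentral : ∀ y ∈ (P : Subgroup G), y ∈ Subgroup.center G → y = 1 := by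
    intro y hy hyZ
    by_contra hy1
    refine hnn ⟨fun x hx g => ?_⟩
    have hxZ : x ∈ Subgroup.center G := by
      have hle : (P : Subgroup G) ≤ Subgroup.center G := by
        rw [← zpowers_eq P hP hy hy1]; exact Subgroup.zpowers_le.2 hyZ
      exact hle hx
    rwa [Subgroup.mem_center_iff.1 hxZ g, mul_inv_cancel_right]
  obtain ⟨M, hM⟩ := exists_isPModular hp.out
  obtain ⟨B, θ, hχB, hθ, hBP, hd, hind⟩ := exists_root P hP hM (χ := χ) (by
    rw [hdeg]
    exact Nat.not_dvd_of_pos_of_lt (by omega) (by omega))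
  obtain ⟨S⟩ := nonempty_blockShape P hP hM hBP hd hθ hind
  set d := charDegree (θ : cen P → ℂ) with hd'
  have hd0 : 0 < d := charDegree_pos θ
  set e := idx P θ with he
  have he0 : 0 < e := idx_pos P θ
  have he1 : e ∣ p - 1 := S.idx_dvd
  have hep : e ≤ p - 1 := Nat.le_of_dvd (by omega) he1
  set f := (cenN P).index with hf
  have hfp : f ∣ p - 1 := H86.Abelian.relIndex_dvd P hP
  -- fibres outside the orbit of `θ`
  have hoff : ∀ φ, IsTriv (sylC P) φ → (∀ n : nor P, cact P n θ ≠ φ) → ∀ ψ ∈ fam P hP φ,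
      vec P hP χ ψ = 0 := by
    intro φ _ hne ψ hψ
    by_contra hv
    obtain ⟨-, n, hn⟩ := support_vec P hP hM hBP hθ hind hχB hv
    exact hne n (hn.trans ((mem_fam P hP).1 hψ).1)
  have hle : ∀ φ, fibDeg P hP χ φ ≤ p - 2 := fun φ => by
    rw [← hdeg, ← sum_fibDeg P hP χ]
    exact Finset.single_le_sum (fun a _ => Nat.zero_le _) (Finset.mem_univ φ)
  have hoff0 : ∀ φ, IsTriv (sylC P) φ → (∀ n : nor P, cact P n θ ≠ φ) →
      ∀ ψ, bs P hP ψ = φ → cMult P χ ψ = 0 := by
    intro φ hφ hne ψ hψ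
    have h1 := fibDeg_eq P hP χ hφ
    rw [Finset.sum_eq_zero (hoff φ hφ hne), add_zero] at h1
    have h2 := hle φ
    have h3 : cMult P χ φ = 0 := by
      by_contra h0
      have h4 : p ≤ charDegree (φ : cen P → ℂ) * (p * cMult P χ φ) :=
        (Nat.le_mul_of_pos_right p (Nat.pos_of_ne_zero h0)).trans
          (Nat.le_mul_of_pos_left _ (charDegree_pos φ))
      have h5 : fibDeg P hP χ φ = charDegree (φ : cen P → ℂ) * (p * cMult P χ φ) := by
        exact_mod_cast h1
      omega
    by_cases hψφ : ψ = φ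
    · rw [hψφ, h3]
    · have h4 := hoff φ hφ hne ψ ((mem_fam P hP).2 ⟨hψ, hψφ⟩)
      rw [vec, hψ, h3] at h4
      omega
  have hθdeg : (fibDeg P hP χ θ : ℤ) =
      (d : ℤ) * ((p : ℤ) * cMult P χ θ + ∑ ψ ∈ fam P hP θ, vec P hP χ ψ) := fibDeg_eq P hP χ hθ
  have hnotP : ¬ ∀ y ∈ (P : Subgroup G), (χ : G → ℂ) y = (χ : G → ℂ) 1 := by
    intro hall
    refine hnn ?_
    have : (P : Subgroup G) = ⊥ := Subgroup.eq_bot_iff_forall _ |>.2 fun y hy => hfaith y (hall y hy)
    rw [this]
    infer_instance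
  have hall_triv : (∀ ψ, cMult P χ ψ ≠ 0 → IsTriv (sylC P) ψ) → False := by
    intro htriv
    refine hnotP fun y hy => ?_
    have h1 := restrict_eq P χ (⟨y, le_cen P hP hy⟩ : cen P)
    have h2 := restrict_eq P χ (1 : cen P)
    refine (h1.trans (Finset.sum_congr rfl fun ψ _ => ?_)).trans h2.symm
    rcases eq_or_ne (cMult P χ ψ) 0 with h0 | h0
    · simp [h0]
    · rw [htriv ψ h0 ⟨y, le_cen P hP hy⟩ hy]
  by_cases hY : χ ∈ S.Y
  swap
  · -- outside the exceptional family
    exfalso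
    have hvec := S.vec_out χ hχB hY
    rw [S.sum_fam_out hχB hY hθ] at hθdeg
    have h2 : (fibDeg P hP χ θ : ℤ) ≤ ((p - 2 : ℕ) : ℤ) := by exact_mod_cast hle θ
    rw [hθdeg, Nat.cast_sub (by omega)] at h2
    have hdZ : (1 : ℤ) ≤ d := by exact_mod_cast hd0
    rcases S.a_sign χ hχB hY with ha | ha <;> rw [ha] at h2
    · push_cast at h2
      have h0 : (0 : ℤ) ≤ (p : ℤ) * cMult P χ θ := by positivity
      have h5 : (5 : ℤ) ≤ p := by exact_mod_cast hp5
      nlinarith
    · have hm : cMult P χ θ ≤ 1 := by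
        by_contra hm
        have : (2 : ℤ) ≤ cMult P χ θ := by exact_mod_cast Nat.succ_le_of_lt (not_le.1 hm)
        have h5 : (5 : ℤ) ≤ p := by exact_mod_cast hp5
        push_cast at h2
        have hX : (p : ℤ) + 1 ≤ (p : ℤ) * cMult P χ θ + ((p : ℤ) - 1) * -1 := by
          have := mul_le_mul_of_nonneg_left this (Nat.cast_nonneg (α := ℤ) p)
          linarith
        nlinarith [mul_le_mul_of_nonneg_right hdZ (by linarith :
          (0 : ℤ) ≤ (p : ℤ) * cMult P χ θ + ((p : ℤ) - 1) * -1)]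
      have hfam0 : ∀ ψ ∈ fam P hP θ, cMult P χ ψ = 0 := by
        intro ψ hψ
        have h3 := hvec ψ hψ
        rw [vec, ((mem_fam P hP).1 hψ).1, ha] at h3
        omega
      refine hall_triv fun ψ hψ0 => ?_
      by_contra hnt
      by_cases hconj : ∀ n : nor P, cact P n θ ≠ bs P hP ψ
      · exact hψ0 (hoff0 _ (isTriv_bs P hP ψ) hconj ψ rfl)
      · push Not at hconj
        obtain ⟨n, hn⟩ := hconj
        have h4 : cact P n⁻¹ ψ ∈ fam P hP θ := by
          refine (mem_fam P hP).2 ⟨?_, fun e => hnt ?_⟩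
          · rw [bs_cact, ← hn, cact_mul, mul_inv_cancel, cact_one]
          · have := isTriv_cact P hP n (e ▸ hθ : IsTriv (sylC P) (cact P n⁻¹ ψ))
            rwa [cact_mul, inv_mul_cancel, cact_one] at this
        have h5 := hfam0 _ h4
        rw [cMult_cact] at h5
        exact hψ0 h5
  -- the exceptional family
  obtain ⟨ψ₀, hψ₀, hζ₀⟩ := S.ζ_surj χ hY
  rw [S.sum_fam_in hY] at hθdeg
  have h2 := hle θ
  have hv₀ : vec P hP χ ψ₀ = S.δ := hζ₀ ▸ S.vec_self ψ₀ hψ₀
  rcases S.δ_sign with hδ | hδ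
  · -- `δ = 1` forces `N = C`
    exfalso
    rw [hδ] at hθdeg hv₀
    have hm0 : cMult P χ θ = 0 := by
      by_contra h0
      have h1 : fibDeg P hP χ θ = d * (p * cMult P χ θ + e) := by
        have : (fibDeg P hP χ θ : ℤ) = ((d * (p * cMult P χ θ + e) : ℕ) : ℤ) := by
          rw [hθdeg]; push_cast; ring
        exact_mod_cast this
      have h4 : p ≤ d * (p * cMult P χ θ + e) :=
        ((Nat.le_mul_of_pos_right p (Nat.pos_of_ne_zero h0)).trans (Nat.le_add_right _ _)).trans
          (Nat.le_mul_of_pos_left _ hd0)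
      omega
    have hbs0 : ∀ ψ, cMult P χ (bs P hP ψ) = 0 := by
      intro ψ
      by_cases hconj : ∀ n : nor P, cact P n θ ≠ bs P hP ψ
      · exact hoff0 _ (isTriv_bs P hP ψ) hconj _ (bs_of_isTriv P hP (isTriv_bs P hP ψ))
      · push Not at hconj
        obtain ⟨n, hn⟩ := hconj
        rw [← hn, cMult_cact, hm0]
    have hdsum := degree_sum P hP hM hBP hθ hind hχB
    rw [S.sum_fam_in hY, hδ, card_stab, ← Subgroup.card_mul_index (cenN P), card_cenN] at hdsum
    have hsum : ∑ ψ : IrrCharacter (cen P), vec P hP χ ψ * (charDegree (ψ : cen P → ℂ) : ℤ) =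
        ((p - 2 : ℕ) : ℤ) := by
      rw [← hdeg]
      apply Int.cast_injective (α := ℂ)
      push_cast
      simp only [vec, hbs0, Nat.cast_zero, sub_zero, Int.cast_natCast, ← apply_one_eq_charDegree]
      rw [← restrict_eq]
      rfl
    rw [hsum] at hdsum
    push_cast at hdsum
    have hne : (e : ℤ) * (Nat.card (cen P) : ℤ) ≠ 0 := by
      have h2 : 0 < Nat.card (cen P) := Nat.card_pos
      positivity
    have hfd : ((p - 2 : ℕ) : ℤ) = ((f * d : ℕ) : ℤ) :=
      mul_left_cancel₀ hne (hdsum.trans (by push_cast; ring))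
    have hfd' : p - 2 = f * d := by exact_mod_cast hfd
    have hf1 : f = 1 := Nat.dvd_one.1 (by
      have := Nat.dvd_sub hfp (Dvd.intro d hfd'.symm : f ∣ p - 2)
      rwa [show (p - 1) - (p - 2) = 1 by omega] at this)
    have hnc : ∀ (n : nor P) (ψ : IrrCharacter (cen P)), cact P n ψ = ψ := fun n ψ =>
      cact_eq_self_of_mem P (by
        have : n ∈ cenN P := by rw [Subgroup.index_eq_one.1 hf1]; exact Subgroup.mem_top n
        exact this) ψ
    have he1' : e = 1 := Nat.eq_one_of_dvd_one (by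
      rw [← hf1]; exact dvd_of_mul_right_eq _
        (Subgroup.relIndex_mul_index (cenN_le_stab P θ)))
    -- a single constituent
    have hone : ∀ ψ, cMult P χ ψ ≠ 0 → ψ = ψ₀ := by
      intro ψ hψ
      have hv : vec P hP χ ψ ≠ 0 := by rw [vec, hbs0]; simpa using hψ
      obtain ⟨hnt, n, hn⟩ := support_vec P hP hM hBP hθ hind hχB hv
      rw [hnc] at hn
      have hψf : ψ ∈ fam P hP θ := (mem_fam P hP).2 ⟨hn.symm, fun e => hnt (e ▸ hθ)⟩
      by_contra hne
      refine hv (S.vec_other χ hY ψ hψf fun hζ => hne ?_)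
      obtain ⟨n', hn'⟩ := (S.ζ_eq ψ hψf ψ₀ hψ₀).1 (hζ.trans hζ₀.symm)
      rw [← hn', hnc]
    obtain ⟨y, hy, hy1⟩ : ∃ y ∈ (P : Subgroup G), y ≠ 1 := by
      haveI : Nontrivial (P : Subgroup G) :=
        Finite.one_lt_card_iff_nontrivial.1 (hP.symm ▸ hp.out.one_lt)
      obtain ⟨y, hy⟩ := exists_ne (1 : (P : Subgroup G))
      exact ⟨y, y.2, fun e => hy (Subtype.ext e)⟩
    refine hy1 (hcentral y hy (mem_center_of_norm χ.2 hfaith ?_))
    have hval : ∀ c : cen P, (χ : G → ℂ) c = (cMult P χ ψ₀ : ℂ) * (ψ₀ : cen P → ℂ) c := fun c => by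
      rw [restrict_eq]
      exact Finset.sum_eq_single ψ₀ (fun ψ _ hne => by
        rw [show cMult P χ ψ = 0 from by_contra fun h0 => hne (hone ψ h0), Nat.cast_zero, zero_mul])
        (fun h => absurd (Finset.mem_univ _) h)
    have h1 := hval ⟨y, le_cen P hP hy⟩
    have h2 := hval 1
    simp only [Subgroup.coe_one] at h2
    rw [h1, h2, norm_mul, norm_mul]
    congr 1
    obtain ⟨ω, hω, hω1⟩ := H81.exists_centralHom (sylC P)
      (fun x hx => Subgroup.mem_center_iff.2 fun k => ((isCS P hP).comm x hx k).symm) ψ₀.2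
    have h3 := hω ⟨⟨y, le_cen P hP hy⟩, hy⟩ 1
    rw [mul_one] at h3
    rw [h3, norm_mul, hω1, one_mul]
  · -- `δ = -1`
    rw [hδ] at hθdeg hv₀
    have hm1 : 1 ≤ cMult P χ θ := by
      rw [vec, ((mem_fam P hP).1 hψ₀).1] at hv₀
      omega
    have hZ : (fibDeg P hP χ θ : ℤ) ≤ ((p - 2 : ℕ) : ℤ) := by exact_mod_cast h2
    rw [hθdeg, Nat.cast_sub (by omega : 2 ≤ p)] at hZ
    push_cast at hZ
    have hm : cMult P χ θ = 1 := by
      by_contra hm
      have h3 : (2 : ℤ) ≤ cMult P χ θ := by exact_mod_cast (by omega : 2 ≤ cMult P χ θ)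
      have h4 : (e : ℤ) + 1 ≤ p := by exact_mod_cast (by omega : e + 1 ≤ p)
      have hdZ : (1 : ℤ) ≤ d := by exact_mod_cast hd0
      have h5 : (5 : ℤ) ≤ p := by exact_mod_cast hp5
      rw [← he] at hZ
      have hX : (p : ℤ) + 1 ≤ (p : ℤ) * cMult P χ θ + (e : ℤ) * -1 := by
        have := mul_le_mul_of_nonneg_left h3 (Nat.cast_nonneg (α := ℤ) p)
        linarith
      nlinarith [mul_le_mul_of_nonneg_right hdZ (by linarith :
          (0 : ℤ) ≤ (p : ℤ) * cMult P χ θ + (e : ℤ) * -1)]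
    have hR : fibDeg P hP χ θ = d * (p - e) := by
      have : (fibDeg P hP χ θ : ℤ) = ((d * (p - e) : ℕ) : ℤ) := by
        rw [hθdeg, hm, Nat.cast_mul, Nat.cast_sub (by omega)]; push_cast; ring
      exact_mod_cast this
    have he_ne : e ≠ p - 1 := by
      intro hee
      -- then `P` is in the kernel
      have hfam0 : ∀ ψ ∈ fam P hP θ, cMult P χ ψ = 0 := by
        have horb : (fam P hP θ).filter (fun ψ' => ∃ n : nor P, cact P n ψ₀ = ψ') = fam P hP θ := by
          refine Finset.eq_of_subset_of_card_le (Finset.filter_subset _ _) ?_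
          rw [card_orbit_fam P hP hψ₀]
          have := card_fam P hP hθ
          omega
        intro ψ hψ
        rw [← horb, Finset.mem_filter] at hψ
        obtain ⟨-, n, rfl⟩ := hψ
        rw [cMult_cact]
        rw [vec, ((mem_fam P hP).1 hψ₀).1, hm] at hv₀
        omega
      refine hall_triv fun ψ hψ0 => ?_
      by_contra hnt
      by_cases hconj : ∀ n : nor P, cact P n θ ≠ bs P hP ψ
      · exact hψ0 (hoff0 _ (isTriv_bs P hP ψ) hconj ψ rfl)
      · push Not at hconj
        obtain ⟨n, hn⟩ := hconj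
        have h4 : cact P n⁻¹ ψ ∈ fam P hP θ := by
          refine (mem_fam P hP).2 ⟨?_, fun e => hnt ?_⟩
          · rw [bs_cact, ← hn, cact_mul, mul_inv_cancel, cact_one]
          · have := isTriv_cact P hP n (e ▸ hθ : IsTriv (sylC P) (cact P n⁻¹ ψ))
            rwa [cact_mul, inv_mul_cancel, cact_one] at this
        have h5 := hfam0 _ h4
        rw [cMult_cact] at h5
        exact hψ0 h5
    have he2 : 2 * e ≤ p - 1 := by
      obtain ⟨r, hr⟩ := he1
      rcases r with _ | _ | r
      · omega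
      · omega
      · rw [hr, mul_comm 2]; exact Nat.mul_le_mul_left e (by omega)
    have hd1 : d = 1 := by
      by_contra hne
      have : 2 * (p - e) ≤ d * (p - e) := Nat.mul_le_mul_right _ (by omega)
      omega
    rw [hd1, one_mul] at hR
    -- all constituents lie over `θ`
    have honly : ∀ φ, φ ≠ θ → fibDeg P hP χ φ = 0 := by
      intro φ hne
      by_contra h0
      obtain ⟨n, hn⟩ : ∃ n : nor P, cact P n θ = φ := by
        by_contra hc
        push Not at hc
        refine h0 (Finset.sum_eq_zero fun ψ hψ => ?_)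
        have hφ : IsTriv (sylC P) φ := (Finset.mem_filter.1 hψ).2 ▸ isTriv_bs P hP ψ
        rw [hoff0 φ hφ hc ψ (Finset.mem_filter.1 hψ).2, zero_mul]
      have h3 : fibDeg P hP χ θ + fibDeg P hP χ φ ≤ p - 2 := by
        rw [← hdeg, ← sum_fibDeg P hP χ, ← Finset.sum_pair hne.symm]
        exact Finset.sum_le_sum_of_subset (Finset.subset_univ _)
      rw [← hn, fibDeg_cact, hR] at h3
      omega
    have htot : fibDeg P hP χ θ = p - 2 := by
      rw [← hdeg, ← sum_fibDeg P hP χ]
      exact (Finset.sum_eq_single θ (fun φ _ hne => honly φ hne)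
        (fun h => absurd (Finset.mem_univ _) h)).symm
    have hee : e = 2 := by omega
    have hstab : ∀ n : nor P, cact P n θ = θ := by
      intro n
      by_contra hne
      have := honly _ hne
      rw [fibDeg_cact, htot] at this
      omega
    refine ⟨fun g hg => ?_, ?_, hcentral⟩
    · let c : cen P := ⟨g, hg⟩
      refine ⟨(pPart (p := p) c : cen P).1, pPart_coe_mem P hP c,
        (pReg (p := p) c : cen P).1, ?_, ?_⟩
      swap
      · show g = _
        rw [← Subgroup.coe_mul, pPart_mul_pReg]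
      have hreg := not_dvd_orderOf_pReg (p := p) c
      refine mem_center_of_norm χ.2 hfaith ?_
      obtain ⟨ω, hω, hω1⟩ : ∃ ω : ℂ, (χ : G → ℂ) (pReg (p := p) c : cen P).1 =
          ω * (χ : G → ℂ) 1 ∧ ‖ω‖ = 1 := by
        refine ⟨(θ : cen P → ℂ) (pReg (p := p) c), ?_, ?_⟩
        · rw [show ((1 : G)) = ((1 : cen P) : G) from rfl, restrict_eq, restrict_eq, Finset.mul_sum]
          refine Finset.sum_congr rfl fun ψ _ => ?_
          rcases eq_or_ne (cMult P χ ψ) 0 with h0 | h0
          · simp [h0]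
          have hbs : bs P hP ψ = θ := by
            by_contra hne
            have h1 := honly _ hne
            rw [fibDeg, Finset.sum_eq_zero_iff] at h1
            exact h0 ((mul_eq_zero.1 (h1 ψ (Finset.mem_filter.2 ⟨Finset.mem_univ _, rfl⟩))).resolve_right
              (charDegree_pos ψ).ne')
          have hθ1 : (θ : cen P → ℂ) 1 = 1 := by rw [apply_one_eq_charDegree, ← hd', hd1, Nat.cast_one]
          rw [← bs_apply_one P hP ψ, hbs, hθ1, ← bs_regular P hP ψ hreg, hbs]
          ring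
        · have hθ1 : (θ : cen P → ℂ) 1 = 1 := by rw [apply_one_eq_charDegree, ← hd', hd1, Nat.cast_one]
          obtain ⟨l, hl⟩ := CharInduce.IsChar.exists_hom_of_degree_one
            (IsIrr.isCharacter θ.2) hθ1
          rw [hl, CharInduce.norm_hom]
      rw [hω, norm_mul, hω1, one_mul]
    · have hst : stab P θ = ⊤ := eq_top_iff.2 fun n _ => hstab n
      rw [← hee, he, idx, hst, Subgroup.relIndex_top_right]

end Cfsg.Agent.H84.PTwo
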