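import Cfsg.Agent.H84.PTwoBlocks
import Cfsg.Agent.H84.ClassProd
import Cfsg.Agent.H81.AlgInt

/-!
# Self-centralizing `P` of order `p`, `|N(P) : P| = 2` and a faithful character of degree `p - 2`

Then the group is perfect of order `p (p - 1) (p - 2)` and has one class of involutions.
-/

set_option linter.unusedSectionVars false
set_option linter.style.haveILetI false
set_option maxHeartbeats 1000000

open scoped ComplexConjugate

namespace Cfsg.Agent.H84.PTwo

open CharBasic BlockBasic CycOne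

universe u

variable {G : Type u} [Group G] [Fintype G] {p : ℕ} [hp : Fact p.Prime] {P : Sylow p G}
  (h : TH P) (hZ : Subgroup.center G = ⊥)

include h hZ

theorem TH.cen_le : cen P ≤ (P : Subgroup G) := by
  intro g hg
  obtain ⟨y, hy, z, hz, rfl⟩ := h.cen_eq g hg
  rw [hZ, Subgroup.mem_bot] at hz
  rwa [hz, mul_one]

theorem TH.centralizer_singleton {y : G} (hy : y ∈ (P : Subgroup G)) (hy1 : y ≠ 1) :
    Subgroup.centralizer ({y} : Set G) = (P : Subgroup G) := by
  rw [← cen_eq_centralizer P h.card_P hy hy1]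
  exact le_antisymm (h.cen_le hZ) (le_cen P h.card_P)

theorem TH.card_eq : Nat.card G = Nat.card (Sylow p G) * (2 * p) := by
  have hN : Nat.card (nor P) = 2 * p := by
    have hc : cen P = (P : Subgroup G) := le_antisymm (h.cen_le hZ) (le_cen P h.card_P)
    have h1 := (cenN P).card_mul_index
    rw [h.index_two, card_cenN] at h1
    rw [← h1, hc, show Nat.card (P : Subgroup G) = p from h.card_P, mul_comm]
  rw [← hN, P.card_eq_index_normalizer]
  exact (Subgroup.index_mul_card _).symm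

theorem TH.singular_iff {g : G} :
    p ∣ orderOf g ↔ ∃ Q : Sylow p G, g ∈ (Q : Subgroup G) ∧ g ≠ 1 := by
  constructor
  · intro hg
    set w := g ^ (orderOf g / p) with hw
    have hword : orderOf w = p := orderOf_pow_orderOf_div (orderOf_pos g).ne' hg
    obtain ⟨Q, hQ⟩ := (IsPGroup.of_card (G := Subgroup.zpowers w) (n := 1)
      (by rw [Nat.card_zpowers, hword, pow_one])).exists_le_sylow
    refine ⟨Q, ?_, fun e => by rw [e, orderOf_one, Nat.dvd_one] at hg; exact hp.out.ne_one hg⟩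
    obtain ⟨c, hc⟩ := MulAction.exists_smul_eq G P Q
    rw [← hc] at hQ ⊢
    have hm := Fusion.mem_sylow_smul.1 (hQ (Subgroup.mem_zpowers _))
    have hw1 : c⁻¹ * w * c ≠ 1 := fun e => by
      have := congrArg (fun z => c * z * c⁻¹) e
      simp [mul_assoc] at this
      rw [this, orderOf_one] at hword
      exact hp.out.ne_one hword.symm
    refine Fusion.mem_sylow_smul.2 ?_
    show c⁻¹ * g * c ∈ (P : Subgroup G)
    rw [← h.centralizer_singleton hZ hm hw1]
    refine Subgroup.mem_centralizer_singleton_iff.2 ?_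
    calc c⁻¹ * g * c * (c⁻¹ * w * c) = c⁻¹ * (g * w) * c := by group
      _ = c⁻¹ * (w * g) * c := by rw [hw, (Commute.self_pow g _).eq]
      _ = _ := by group
  · rintro ⟨Q, hQ, hg1⟩
    obtain ⟨k, hk⟩ := IsPGroup.iff_orderOf.1 Q.isPGroup' ⟨g, hQ⟩
    rw [Subgroup.orderOf_mk] at hk
    rw [hk]
    exact dvd_pow_self p fun e => hg1 (orderOf_eq_one_iff.1 (by rw [hk, e, pow_zero]))

open scoped Classical in
/-- Sums over the singular elements reduce to `P`. -/
theorem TH.sum_singular [Fintype (P : Subgroup G)] {F : G → ℂ}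
    (hF : ∀ c g, F (c * g * c⁻¹) = F g) :
    ∑ g ∈ Finset.univ.filter (fun g : G => p ∣ orderOf g), F g =
      (Nat.card (Sylow p G) : ℂ) * ∑ y ∈ Finset.univ.erase (1 : (P : Subgroup G)), F y := by
  haveI : Fintype (Sylow p G) := Fintype.ofFinite _
  have huniq : ∀ g : G, g ≠ 1 → ∀ Q R : Sylow p G, g ∈ (Q : Subgroup G) → g ∈ (R : Subgroup G) →
      Q = R := by
    intro g hg1 Q R hQ hR
    have hc : ∀ T : Sylow p G, g ∈ (T : Subgroup G) → (T : Subgroup G) = Subgroup.zpowers g := by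
      intro T hT
      exact (zpowers_eq T (by rw [T.card_eq_multiplicity, ← P.card_eq_multiplicity]; exact h.card_P)
        hT hg1).symm
    exact Sylow.ext ((hc Q hQ).trans (hc R hR).symm)
  rw [show (Nat.card (Sylow p G) : ℂ) * ∑ y ∈ Finset.univ.erase (1 : (P : Subgroup G)), F y =
      ∑ Q : Sylow p G, ∑ g ∈ Finset.univ.filter (fun g : G => g ∈ (Q : Subgroup G) ∧ g ≠ 1), F g from ?_]
  · rw [← Finset.sum_biUnion]
    · refine Finset.sum_congr (Finset.ext fun g => ?_) fun _ _ => rfl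
      simp only [Finset.mem_filter, Finset.mem_univ, true_and, Finset.mem_biUnion]
      exact h.singular_iff hZ
    · intro Q _ R _ hne
      refine Finset.disjoint_left.2 fun g hQ hR => hne ?_
      simp only [Finset.mem_filter, Finset.mem_univ, true_and] at hQ hR
      exact huniq g hQ.2 Q R hQ.1 hR.1
  · rw [Nat.card_eq_fintype_card, ← nsmul_eq_mul, ← Finset.card_univ, ← Finset.sum_const]
    refine Finset.sum_congr rfl fun Q _ => ?_
    obtain ⟨c, hc⟩ := MulAction.exists_smul_eq G P Q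
    refine Finset.sum_bij (fun (y : (P : Subgroup G)) _ => c * (y : G) * c⁻¹) ?_ ?_ ?_ ?_
    · intro y hy
      simp only [Finset.mem_filter, Finset.mem_univ, true_and]
      refine ⟨?_, fun e => Finset.ne_of_mem_erase hy (Subtype.ext (conj_eq_one_iff.1 e))⟩
      rw [← hc]
      refine Fusion.mem_sylow_smul.2 ?_
      simp [mul_assoc]
    · intro y₁ _ y₂ _ e
      exact Subtype.ext (by simpa using e)
    · intro g hg
      simp only [Finset.mem_filter, Finset.mem_univ, true_and] at hg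
      rw [← hc] at hg
      refine ⟨⟨_, Fusion.mem_sylow_smul.1 hg.1⟩, Finset.mem_erase.2 ⟨fun e => hg.2 ?_, Finset.mem_univ _⟩, by group⟩
      have := congrArg (fun z : (P : Subgroup G) => c * (z : G) * c⁻¹) e
      simpa [mul_assoc] using this
    · intro y _
      exact (hF c y).symm

open scoped Classical in
/-- The structure of the group. -/
theorem TH.core {u₀ : IrrCharacter G} (hu₀ : charDegree (u₀ : G → ℂ) = p - 2)
    (hfaith : ∀ g : G, (u₀ : G → ℂ) g = (u₀ : G → ℂ) 1 → g = 1) :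
    commutator G = ⊤ ∧ 2 * Nat.card (Sylow p G) = (p - 1) * (p - 2) ∧
      Nat.card G = p * (p - 1) * (p - 2) ∧
      ∀ n ∈ nor P, n ∉ cen P → ∀ u : G, orderOf u = 2 → IsConj u n := by
  letI : Fintype (P : Subgroup G) := Fintype.ofFinite _
  have h5 := h.five_le
  have hp0 : (p : ℂ) ≠ 0 := Nat.cast_ne_zero.2 hp.out.ne_zero
  have hsameAll : ∀ χ ψ : IrrCharacter G, Same χ ψ := by
    intro χ ψ z hz
    rw [hZ, Subgroup.mem_bot] at hz
    rw [hz, H54.CB.centralChar_one, H54.CB.centralChar_one]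
  have hdeg1 : charDegree ((trivialIrr : IrrCharacter G) : G → ℂ) = 1 := by
    have h1 := apply_one_eq_charDegree (trivialIrr : IrrCharacter G)
    simp only [trivialIrr] at h1 ⊢
    exact_mod_cast h1.symm
  obtain ⟨X₁, X₂, Y, ε₁, ε₂, δ, hne, hY₁, hY₂, hYc, hε₁, hε₂, hδ, hmem, -, hvan, hval, hsumP,
    hreg⟩ := h.exists_block trivialIrr (by rw [hdeg1, Nat.dvd_one]; exact hp.out.ne_one)
  have herasecard : ((Finset.univ.erase (1 : (P : Subgroup G))).card : ℂ) = (p : ℂ) - 1 := by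
    rw [Finset.card_erase_of_mem (Finset.mem_univ _), Finset.card_univ, ← Nat.card_eq_fintype_card,
      show Nat.card (P : Subgroup G) = p from h.card_P, Nat.cast_sub hp.out.one_le, Nat.cast_one]
  have hp5 : (5 : ℤ) ≤ p := by exact_mod_cast h5
  have htrivY : (trivialIrr : IrrCharacter G) ∉ Y := fun hm => by
    have h1 := hsumP _ hm
    simp only [trivialIrr, Finset.sum_const, nsmul_one] at h1
    rw [herasecard] at h1
    have : ((p : ℤ) - 1) = -2 * δ := by exact_mod_cast h1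
    rcases hδ with e | e <;> rw [e] at this <;> linarith
  obtain ⟨θ, a, ha, hθne, hθY, hvan', hθval, hreg'⟩ : ∃ (θ : IrrCharacter G) (a : ℤ),
      (a = 1 ∨ a = -1) ∧ θ ≠ trivialIrr ∧ θ ∉ Y ∧
      (∀ χ, χ ≠ trivialIrr → χ ≠ θ → χ ∉ Y → ∀ y : (P : Subgroup G), y ≠ 1 → (χ : G → ℂ) y = 0) ∧
      (∀ y : (P : Subgroup G), y ≠ 1 → (θ : G → ℂ) y = a) ∧
      ∀ u ∈ Y, ∀ g : G, ¬ p ∣ orderOf g →
        (δ : ℂ) * (u : G → ℂ) g = 1 + (a : ℂ) * (θ : G → ℂ) g := by
    obtain ⟨y₀, hy₀⟩ : ∃ y : (P : Subgroup G), y ≠ 1 := by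
      haveI : Nontrivial (P : Subgroup G) :=
        Finite.one_lt_card_iff_nontrivial.1 (h.card_P.symm ▸ hp.out.one_lt)
      exact exists_ne 1
    rcases hmem with e | e | e
    · subst e
      have he1 : ε₁ = 1 := by
        have h1 := (hval y₀ hy₀).1
        simp only [trivialIrr] at h1
        exact_mod_cast h1.symm
      refine ⟨X₂, ε₂, hε₂, hne.symm, hY₂, fun χ => hvan χ (hsameAll _ _),
        fun y hy => (hval y hy).2.1, fun u hu g hg => ?_⟩
      rw [hreg u hu g hg, he1]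
      simp [trivialIrr]
    · subst e
      have he2 : ε₂ = 1 := by
        have h1 := (hval y₀ hy₀).2.1
        simp only [trivialIrr] at h1
        exact_mod_cast h1.symm
      refine ⟨X₁, ε₁, hε₁, hne, hY₁, fun χ h1 h2 h3 => hvan χ (hsameAll _ _) h2 h1 h3,
        fun y hy => (hval y hy).1, fun u hu g hg => ?_⟩
      rw [hreg u hu g hg, he2]
      simp [trivialIrr, add_comm]
    · exact absurd e htrivY
  -- the given character is exceptional
  have hPsum : ∀ χ : IrrCharacter G, (charDegree (χ : G → ℂ) : ℂ) +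
      ∑ y ∈ Finset.univ.erase (1 : (P : Subgroup G)), (χ : G → ℂ) y =
      ∑ y : (P : Subgroup G), (χ : G → ℂ) y := fun χ => by
    rw [← apply_one_eq_charDegree, ← Finset.add_sum_erase _ _ (Finset.mem_univ (1 : (P : Subgroup G)))]
    rfl
  have hu₀Y : u₀ ∈ Y := by
    by_contra hno
    have hcase : ∃ c : ℤ, (c = 0 ∨ c = 1 ∨ c = -1) ∧
        ∀ y : (P : Subgroup G), y ≠ 1 → (u₀ : G → ℂ) y = c := by
      by_cases e1 : u₀ = trivialIrr
      · rw [e1, hdeg1] at hu₀; omega
      by_cases e2 : u₀ = θ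
      · exact ⟨a, by tauto, fun y hy => e2 ▸ hθval y hy⟩
      · exact ⟨0, Or.inl rfl, fun y hy => by rw [hvan' u₀ e1 e2 hno y hy, Int.cast_zero]⟩
    obtain ⟨c, hc, hcv⟩ := hcase
    obtain ⟨m, hm, -⟩ := h.exists_mult u₀
    rw [← hPsum, hu₀, Finset.sum_congr rfl fun y hy => hcv y (Finset.ne_of_mem_erase hy),
      Finset.sum_const, nsmul_eq_mul, herasecard, Nat.cast_sub (by omega)] at hm
    push_cast at hm
    have hZ' : (p : ℤ) * m = p - 2 + (p - 1) * c := by exact_mod_cast hm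
    have hdvd : (p : ℤ) ∣ 2 + c := ⟨-(m : ℤ) + 1 + c, by linear_combination hZ'⟩
    have := Int.le_of_dvd (by omega) hdvd
    omega
  have hδ1 : δ = -1 := by
    obtain ⟨m, hm, -⟩ := h.exists_mult u₀
    rw [← hPsum, hu₀, hsumP u₀ hu₀Y, Nat.cast_sub (by omega)] at hm
    push_cast at hm
    have hZ' : (p : ℤ) * m = p - 2 - 2 * δ := by
      have : ((p : ℂ) * m) = (p : ℂ) - 2 - 2 * δ := by linear_combination hm
      exact_mod_cast this
    rcases hδ with e | e
    · rw [e] at hZ'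
      have hdvd : (p : ℤ) ∣ 4 := ⟨-(m : ℤ) + 1, by linear_combination hZ'⟩
      have := Int.le_of_dvd (by norm_num) hdvd
      omega
    · exact e
  subst hδ1
  have hone' : ¬ p ∣ orderOf (1 : G) := by rw [orderOf_one, Nat.dvd_one]; exact hp.out.ne_one
  have hdθ : a = -1 ∧ charDegree (θ : G → ℂ) = p - 1 := by
    have h1 := hreg' u₀ hu₀Y 1 hone'
    rw [apply_one_eq_charDegree, apply_one_eq_charDegree, hu₀, Nat.cast_sub (by omega)] at h1
    push_cast at h1
    have h2 : (a : ℤ) * (charDegree (θ : G → ℂ) : ℤ) = 1 - p := by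
      have : (a : ℂ) * (charDegree (θ : G → ℂ) : ℂ) = 1 - (p : ℂ) := by linear_combination -h1
      exact_mod_cast this
    rcases ha with e | e <;> rw [e] at h2
    · have := charDegree_pos θ; omega
    · exact ⟨e, by omega⟩
  obtain ⟨ha1, hdθ⟩ := hdθ
  subst ha1
  have hu : ∀ u ∈ Y, ∀ g : G, ¬ p ∣ orderOf g → (u : G → ℂ) g = (θ : G → ℂ) g - 1 := fun u hu g hg => by
    have h1 := hreg' u hu g hg
    push_cast at h1
    linear_combination -h1
  have hθ1 : (θ : G → ℂ) 1 = (p : ℂ) - 1 := by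
    rw [apply_one_eq_charDegree, hdθ, Nat.cast_sub hp.out.one_le, Nat.cast_one]
  have hu1 : ∀ u ∈ Y, (u : G → ℂ) 1 = (p : ℂ) - 2 := fun u huY => by
    rw [hu u huY 1 hone', hθ1]; ring
  have hYval : ∀ y : (P : Subgroup G), y ≠ 1 → ∑ u ∈ Y, (u : G → ℂ) y = 1 := fun y hy => by
    rw [(hval y hy).2.2.1]; push_cast; ring
  have hreal : ∀ y : (P : Subgroup G), y ≠ 1 → ∀ u ∈ Y, conj ((u : G → ℂ) y) = (u : G → ℂ) y :=
    fun y hy => (hval y hy).2.2.2
  set S := insert (trivialIrr : IrrCharacter G) (insert θ Y) with hS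
  have hS1 : (trivialIrr : IrrCharacter G) ∉ insert θ Y := by simp [hθne.symm, htrivY]
  have hsplit : ∀ (F : IrrCharacter G → ℂ), (∀ χ ∉ S, F χ = 0) →
      ∑ χ, F χ = F trivialIrr + (F θ + ∑ u ∈ Y, F u) := fun F hF => by
    rw [← Finset.sum_subset (Finset.subset_univ S) fun χ _ hχ => hF χ hχ, hS, Finset.sum_insert hS1,
      Finset.sum_insert hθY]
  have hvanS : ∀ χ ∉ S, ∀ y : (P : Subgroup G), y ≠ 1 → (χ : G → ℂ) y = 0 := fun χ hχ => by
    simp only [hS, Finset.mem_insert, not_or] at hχ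
    exact hvan' χ hχ.1 hχ.2.1 hχ.2.2
  have hYsq : ∀ y : (P : Subgroup G), y ≠ 1 →
      ∑ u ∈ Y, (u : G → ℂ) y * (u : G → ℂ) y = (p : ℂ) - 2 := by
    intro y hy
    have hy' : (y : G) ≠ 1 := fun e => hy (Subtype.ext e)
    have h1 := second_orthogonality_self (y : G)
    rw [h.centralizer_singleton hZ y.2 hy', show Nat.card (P : Subgroup G) = p from h.card_P,
      hsplit _ (fun χ hχ => by rw [hvanS χ hχ y hy, zero_mul]), hθval y hy,
      Finset.sum_congr rfl fun u hu => by rw [hreal y hy u hu]] at h1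
    simp only [trivialIrr, map_one, mul_one] at h1
    push_cast at h1
    simp only [map_neg, map_one] at h1
    linear_combination h1
  -- values of `θ` on the regular elements
  obtain ⟨y₀, hy₀⟩ : ∃ y : (P : Subgroup G), y ≠ 1 := by
    haveI : Nontrivial (P : Subgroup G) :=
      Finite.one_lt_card_iff_nontrivial.1 (h.card_P.symm ▸ hp.out.one_lt)
    exact exists_ne 1
  have hG0 : (Nat.card G : ℂ) ≠ 0 := Nat.cast_ne_zero.2 Nat.card_pos.ne'
  have hp1 : (p : ℂ) - 1 ≠ 0 := by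
    rw [sub_ne_zero, ← Nat.cast_one, Ne, Nat.cast_inj]; omega
  have hp2 : (p : ℂ) - 2 ≠ 0 := by
    rw [sub_ne_zero, show (2 : ℂ) = ((2 : ℕ) : ℂ) by norm_num, Ne, Nat.cast_inj]; omega
  have hθnat : ∀ g : G, ¬ p ∣ orderOf g → ∃ k : ℕ, k ≤ p - 1 ∧ (θ : G → ℂ) g = k := by
    intro g hg
    set m := (Subgroup.centralizer ({(y₀ : G)} : Set G)).index with hm
    have hm0 : (m : ℂ) ≠ 0 := Nat.cast_ne_zero.2 Subgroup.FiniteIndex.index_ne_zero
    have hcoef := coeff_classSum_mul_eq (y₀ : G) (y₀ : G) g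
    rw [coeff_classSum_mul, hsplit _ (fun χ hχ => by
      rw [Cfsg.centralChar, hvanS χ hχ y₀ hy₀]; simp)] at hcoef
    rw [Finset.sum_congr rfl (g := fun u : IrrCharacter G => ((m : ℂ) ^ 2 / ((p : ℂ) - 2) *
      (conj ((θ : G → ℂ) g) - 1)) * ((u : G → ℂ) y₀ * (u : G → ℂ) y₀)) fun u huY => by
        rw [Cfsg.centralChar, hu1 u huY, hu u huY g hg, ← hm, map_sub, map_one]
        field_simp,
      ← Finset.mul_sum, hYsq y₀ hy₀, Cfsg.centralChar, Cfsg.centralChar, hθval y₀ hy₀, hθ1,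
      ← hm] at hcoef
    simp only [trivialIrr, map_one, mul_one, div_one, one_mul] at hcoef
    push_cast at hcoef
    set N := (Finset.univ.filter fun x : G => IsConj (y₀ : G) x ∧ IsConj (y₀ : G) (x⁻¹ * g)).card
    have hθc : conj ((θ : G → ℂ) g) =
        (((N * Nat.card G * (p - 1) : ℕ) : ℚ) / ((m ^ 2 * p : ℕ) : ℚ) : ℚ) := by
      push_cast [Nat.cast_sub hp.out.one_le]
      field_simp at hcoef ⊢
      linear_combination -hcoef
    have hθq : (θ : G → ℂ) g =
        (((N * Nat.card G * (p - 1) : ℕ) : ℚ) / ((m ^ 2 * p : ℕ) : ℚ) : ℚ) := by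
      rw [← Complex.conj_conj ((θ : G → ℂ) g), hθc, map_ratCast]
    obtain ⟨z, hz⟩ := H81.int_of_isIntegral_ratCast (hθq ▸ isIntegral_apply θ g)
    have hz0 : 0 ≤ z := by
      have : (0 : ℚ) ≤ z := by rw [hz]; positivity
      exact_mod_cast this
    obtain ⟨k, rfl⟩ := Int.eq_ofNat_of_zero_le hz0
    have hval' : (θ : G → ℂ) g = (k : ℂ) := by rw [hθq, ← hz]; simp
    refine ⟨k, ?_, hval'⟩
    have h1 := IsChar.norm_le (IsIrr.isCharacter θ.2) g
    rw [hval', apply_one_eq_charDegree θ, hdθ, Complex.norm_natCast, Complex.norm_natCast] at h1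
    exact_mod_cast h1
  have hconjθ : ∀ g : G, conj ((θ : G → ℂ) g) = (θ : G → ℂ) g := by
    intro g
    by_cases hg : p ∣ orderOf g
    · obtain ⟨Q, hQ, hg1⟩ := (h.singular_iff hZ).1 hg
      obtain ⟨c, hc⟩ := MulAction.exists_smul_eq G P Q
      rw [← hc] at hQ
      have hv := hθval ⟨_, Fusion.mem_sylow_smul.1 hQ⟩ fun e => hg1 (by
        have := congrArg (fun z : (P : Subgroup G) => c * (z : G) * c⁻¹) e
        simpa [mul_assoc] using this)
      have hcl := IsIrr.isClassFunction θ.2 g c⁻¹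
      rw [inv_inv] at hcl
      rw [← hcl, hv]
      simp
    · obtain ⟨k, -, hk⟩ := hθnat g hg
      rw [hk, Complex.conj_natCast]
  -- sums over the group
  set n := Nat.card (Sylow p G) with hn
  have hG : (Nat.card G : ℂ) = (n : ℂ) * (2 * (p : ℂ)) := by exact_mod_cast h.card_eq hZ
  have hsplitG : ∀ F : G → ℂ, (∀ c g, F (c * g * c⁻¹) = F g) →
      ∑ g, F g = ∑ g ∈ Finset.univ.filter (fun g : G => ¬ p ∣ orderOf g), F g +
        (n : ℂ) * ∑ y ∈ Finset.univ.erase (1 : (P : Subgroup G)), F y := fun F hF => by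
    rw [← h.sum_singular hZ hF, add_comm, Finset.sum_filter_add_sum_filter_not]
  have hclθ : ∀ c g, (θ : G → ℂ) (c * g * c⁻¹) = (θ : G → ℂ) g := fun c g =>
    IsIrr.isClassFunction θ.2 g c
  set R := Finset.univ.filter (fun g : G => ¬ p ∣ orderOf g) with hR
  have hR1 : ∑ g ∈ R, (θ : G → ℂ) g = (n : ℂ) * ((p : ℂ) - 1) := by
    have h1 := classInner_irr_of_ne θ.2 isIrrCharacter_one (fun e => hθne (Subtype.ext e))
    rw [classInner_def, mul_eq_zero] at h1
    have h2 := h1.resolve_left (inv_ne_zero hG0)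
    simp only [map_one, mul_one] at h2
    rw [hsplitG _ hclθ, Finset.sum_congr rfl fun y hy => hθval y (Finset.ne_of_mem_erase hy),
      Finset.sum_const, nsmul_eq_mul, herasecard] at h2
    push_cast at h2
    linear_combination h2
  have hR2 : ∑ g ∈ R, (θ : G → ℂ) g ^ 2 = (n : ℂ) * ((p : ℂ) + 1) := by
    have h1 := classInner_irr_self θ.2
    rw [classInner_def, inv_mul_eq_iff_eq_mul₀ hG0, mul_one] at h1
    simp only [hconjθ] at h1
    rw [hsplitG _ (fun c g => by simp only [hclθ]),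
      Finset.sum_congr rfl (s₁ := Finset.univ.erase (1 : (P : Subgroup G))) (g := fun _ => (1 : ℂ))
        fun y hy => by
        rw [hθval y (Finset.ne_of_mem_erase hy)]; norm_num,
      Finset.sum_const, nsmul_eq_mul, herasecard, hG] at h1
    simp only [pow_two]
    linear_combination h1
  -- the cubic bound
  have hR3 : ((Y.card : ℂ)) * (∑ g ∈ R, ((θ : G → ℂ) g - 1) ^ 2 * (θ : G → ℂ) g) -
      (n : ℂ) * ((p : ℂ) - 1) * ((p : ℂ) - 2) ∈ Set.range (fun k : ℕ => (k : ℂ) * (Nat.card G : ℂ)) := by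
    have hΦ : IsCharacter G (∑ u ∈ Y, fun g => (u : G → ℂ) g * conj ((u : G → ℂ) g)) := by
      refine IsChar.sum Y _ fun u _ => ?_
      exact CharInduce.IsChar.mul (IsIrr.isCharacter u.2)
        (CharInduce.IsChar.conj (IsIrr.isCharacter u.2))
    obtain ⟨k, hk⟩ := classInner_isChar_nat hΦ (IsIrr.isCharacter θ.2)
    rw [classInner_def, inv_mul_eq_iff_eq_mul₀ hG0] at hk
    refine ⟨k, ?_⟩
    show (k : ℂ) * (Nat.card G : ℂ) = _
    rw [mul_comm, ← hk, hsplitG _ (fun c g => by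
      simp only [Finset.sum_apply, IsIrr.isClassFunction, hclθ]
      congr 1
      exact Finset.sum_congr rfl fun u _ => by rw [IsIrr.isClassFunction u.2 g c]),
      Finset.sum_congr rfl (g := fun g => (Y.card : ℂ) * (((θ : G → ℂ) g - 1) ^ 2 * (θ : G → ℂ) g))
        (s₁ := R) fun g hg => by
        rw [hR, Finset.mem_filter] at hg
        rw [Finset.sum_apply, Finset.sum_congr rfl (g := fun _ => ((θ : G → ℂ) g - 1) ^ 2)
          fun u huY => by rw [hu u huY g hg.2, map_sub, map_one, hconjθ]; ring,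
          Finset.sum_const, nsmul_eq_mul, hconjθ]
        ring,
      ← Finset.mul_sum, Finset.sum_congr rfl (g := fun _ => -((p : ℂ) - 2))
        (s₁ := Finset.univ.erase (1 : (P : Subgroup G))) fun y hy => by
        rw [Finset.sum_apply, hconjθ, hθval y (Finset.ne_of_mem_erase hy),
          Finset.sum_congr rfl fun u huY => by rw [hreal y (Finset.ne_of_mem_erase hy) u huY],
          hYsq y (Finset.ne_of_mem_erase hy)]
        push_cast; ring,
      Finset.sum_const, nsmul_eq_mul, herasecard]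
    ring
  choose! k hk1 hk using hθnat
  have hkR : ∀ (f : ℕ → ℤ), ((∑ g ∈ R, f (k g) : ℤ) : ℂ) = ∑ g ∈ R, ((f (k g) : ℤ) : ℂ) :=
    fun f => Int.cast_sum _ _
  have hmemR : ∀ g ∈ R, ¬ p ∣ orderOf g := fun g hg => (Finset.mem_filter.1 hg).2
  have hK1 : ∑ g ∈ R, (k g : ℤ) = (n : ℤ) * ((p : ℤ) - 1) := by
    apply Int.cast_injective (α := ℂ)
    push_cast
    rw [← hR1]
    exact Finset.sum_congr rfl fun g hg => (hk g (hmemR g hg)).symm
  have hK2 : ∑ g ∈ R, (k g : ℤ) ^ 2 = (n : ℤ) * ((p : ℤ) + 1) := by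
    apply Int.cast_injective (α := ℂ)
    push_cast
    rw [← hR2]
    exact Finset.sum_congr rfl fun g hg => by rw [hk g (hmemR g hg)]
  have hK3 : (n : ℤ) * ((p : ℤ) - 1) * ((p : ℤ) - 2) ≤
      (Y.card : ℤ) * ∑ g ∈ R, ((k g : ℤ) - 1) ^ 2 * (k g : ℤ) := by
    obtain ⟨j, hj⟩ := hR3
    have : (Y.card : ℤ) * (∑ g ∈ R, ((k g : ℤ) - 1) ^ 2 * (k g : ℤ)) -
        (n : ℤ) * ((p : ℤ) - 1) * ((p : ℤ) - 2) = (j : ℤ) * (Nat.card G : ℤ) := by
      apply Int.cast_injective (α := ℂ)
      push_cast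
      refine Eq.trans ?_ hj.symm
      congr 2
      exact Finset.sum_congr rfl fun g hg => by rw [hk g (hmemR g hg)]
    have : (0 : ℤ) ≤ (j : ℤ) * (Nat.card G : ℤ) := by positivity
    linarith
  have hYc' : 2 * (Y.card : ℤ) + 1 = p := by exact_mod_cast hYc
  have hK3' : 2 * (n : ℤ) * ((p : ℤ) - 2) ≤ ∑ g ∈ R, ((k g : ℤ) - 1) ^ 2 * (k g : ℤ) := by
    rw [show (p : ℤ) - 1 = 2 * (Y.card : ℤ) by linarith] at hK3
    refine le_of_mul_le_mul_left ?_ (show (0 : ℤ) < (Y.card : ℤ) by linarith)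
    linarith
  have hnonneg : ∀ g ∈ R, 0 ≤ ((p : ℤ) - 1 - k g) * (k g : ℤ) * ((k g : ℤ) - 1) := by
    intro g hg
    have h1 : (k g : ℤ) + 1 ≤ p := by
      have := hk1 g (hmemR g hg); omega
    rcases Nat.eq_zero_or_pos (k g) with e | e
    · rw [e]; simp
    · have : (1 : ℤ) ≤ k g := by exact_mod_cast e
      exact mul_nonneg (mul_nonneg (by linarith) (by linarith)) (by linarith)
  have hzero : ∀ g ∈ R, ((p : ℤ) - 1 - k g) * (k g : ℤ) * ((k g : ℤ) - 1) = 0 := by
    refine (Finset.sum_eq_zero_iff_of_nonneg hnonneg).1 (le_antisymm ?_ (Finset.sum_nonneg hnonneg))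
    rw [Finset.sum_congr rfl (g := fun g => ((p : ℤ) - 2) * (k g : ℤ) ^ 2 - ((p : ℤ) - 2) * (k g : ℤ)
      - ((k g : ℤ) - 1) ^ 2 * (k g : ℤ)) fun g _ => by ring, Finset.sum_sub_distrib,
      Finset.sum_sub_distrib, ← Finset.mul_sum, ← Finset.mul_sum, hK1, hK2]
    nlinarith
  have hk01 : ∀ g, ¬ p ∣ orderOf g → g ≠ 1 → k g = 0 ∨ k g = 1 := by
    intro g hg hg1
    rcases mul_eq_zero.1 (hzero g (Finset.mem_filter.2 ⟨Finset.mem_univ _, hg⟩)) with e | e
    · rcases mul_eq_zero.1 e with e | e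
      · exfalso
        refine hg1 (hfaith g ?_)
        rw [hu u₀ hu₀Y g hg, hu₀Y |> hu1 u₀, hk g hg]
        have : ((k g : ℤ) : ℂ) = (((p : ℤ) - 1 : ℤ) : ℂ) := by rw [show (k g : ℤ) = p - 1 by linarith]
        push_cast at this
        rw [this]; ring
      · exact Or.inl (by exact_mod_cast e)
    · exact Or.inr (by linarith)
  have hn2 : 2 * n = (p - 1) * (p - 2) := by
    have h1mem : (1 : G) ∈ R := Finset.mem_filter.2 ⟨Finset.mem_univ _, hone'⟩
    have hk1' : (k 1 : ℤ) = p - 1 := by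
      have := hk 1 hone'
      rw [hθ1] at this
      have h2 : ((k 1 : ℤ) : ℂ) = (((p : ℤ) - 1 : ℤ) : ℂ) := by push_cast; exact this.symm
      exact_mod_cast h2
    have hsum : ∑ g ∈ R, ((k g : ℤ) ^ 2 - (k g : ℤ)) = ((p : ℤ) - 1) ^ 2 - ((p : ℤ) - 1) := by
      rw [← hk1']
      refine Finset.sum_eq_single (1 : G) (fun g hg hg1 => ?_) (fun h => absurd h1mem h)
      rcases hk01 g (hmemR g hg) hg1 with e | e <;> rw [e] <;> norm_num
    rw [Finset.sum_sub_distrib, hK1, hK2] at hsum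
    apply Nat.cast_injective (R := ℤ)
    push_cast [Nat.cast_sub hp.out.one_le, Nat.cast_sub (show 2 ≤ p by omega)]
    linear_combination hsum
  refine ⟨?_, hn2, ?_, ?_⟩
  · -- perfect
    by_contra hne
    obtain ⟨x, -, hx⟩ := SetLike.exists_of_lt (lt_top_iff_ne_top.2 hne)
    obtain ⟨l, hl⟩ := CommGroup.exists_apply_ne_one_of_hasEnoughRootsOfUnity (Abelianization G) ℂ
      (a := Abelianization.of x) (fun e => hx (by rwa [← Abelianization.ker_of, MonoidHom.mem_ker]))
    let L : G →* ℂˣ := l.comp Abelianization.of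
    let χ : IrrCharacter G := ⟨_, CharInduce.isIrrCharacter_hom L⟩
    have hχ1 : (χ : G → ℂ) 1 = 1 := by simp [χ]
    have hchi : χ ≠ trivialIrr := fun e => hl (Units.ext (congrFun (congrArg Subtype.val e) x))
    have hchiθ : χ ≠ θ := fun e => by
      rw [e, hθ1] at hχ1
      have : ((p : ℤ) : ℂ) - 1 = ((1 : ℤ) : ℂ) := by push_cast; exact hχ1
      have h2 : (p : ℤ) - 1 = 1 := by exact_mod_cast this
      omega
    have hchiY : χ ∉ Y := fun e => by
      rw [hu1 χ e] at hχ1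
      have : ((p : ℤ) : ℂ) - 2 = ((1 : ℤ) : ℂ) := by push_cast; exact hχ1
      have h2 : (p : ℤ) - 2 = 1 := by exact_mod_cast this
      omega
    exact Units.ne_zero _ (hvan' χ hchi hchiθ hchiY y₀ hy₀)
  · rw [h.card_eq hZ, ← hn, show n * (2 * p) = 2 * n * p by ring, hn2]; ring
  · -- involutions
    intro w hw hwC u hu2
    have hureg : ¬ p ∣ orderOf u := fun e => by
      rw [hu2] at e; have := Nat.le_of_dvd two_pos e; omega
    have hu1' : u ≠ 1 := fun e => by rw [e, orderOf_one] at hu2; omega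
    have hcoef : (classSum u * classSum u).coeff (y₀ : G) ≠ 0 := by
      rw [coeff_classSum_mul_eq]
      set m := ((Subgroup.centralizer ({u} : Set G)).index : ℂ) with hm
      have hm0 : m ≠ 0 := Nat.cast_ne_zero.2 Subgroup.FiniteIndex.index_ne_zero
      rw [hsplit _ (fun χ hχ => by rw [hvanS χ hχ y₀ hy₀, map_zero, mul_zero]),
        Finset.sum_congr rfl (g := fun v : IrrCharacter G =>
          m ^ 2 * ((θ : G → ℂ) u - 1) ^ 2 / ((p : ℂ) - 2) * conj ((v : G → ℂ) y₀)) fun v hv => by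
          rw [Cfsg.centralChar, hu v hv u hureg, hu1 v hv, ← hm]
          field_simp,
        ← Finset.mul_sum, ← map_sum, hYval y₀ hy₀, map_one, mul_one, hθval y₀ hy₀,
        Cfsg.centralChar, Cfsg.centralChar, hθ1, ← hm]
      simp only [trivialIrr, map_one, mul_one, div_one, one_mul]
      refine mul_ne_zero (inv_ne_zero hG0) ?_
      push_cast
      simp only [map_neg, map_one]
      rcases hk01 u hureg hu1' with e | e <;> rw [hk u hureg, e]
      · push_cast
        rw [show m * m + (((p : ℂ) - 1) * (m * 0 / ((p : ℂ) - 1) * (m * 0 / ((p : ℂ) - 1))) * -1 +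
          m ^ 2 * (0 - 1) ^ 2 / ((p : ℂ) - 2)) = m ^ 2 * ((p : ℂ) - 1) / ((p : ℂ) - 2) by
            field_simp; ring]
        exact div_ne_zero (mul_ne_zero (pow_ne_zero 2 hm0) hp1) hp2
      · push_cast
        rw [show m * m + (((p : ℂ) - 1) * (m * 1 / ((p : ℂ) - 1) * (m * 1 / ((p : ℂ) - 1))) * -1 +
          m ^ 2 * (1 - 1) ^ 2 / ((p : ℂ) - 2)) = m ^ 2 * ((p : ℂ) - 2) / ((p : ℂ) - 1) by
            field_simp; ring]
        exact div_ne_zero (mul_ne_zero (pow_ne_zero 2 hm0) hp2) hp1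
    obtain ⟨g, hg, hg'⟩ := exists_of_coeff_ne_zero hcoef
    have huu : u * u = 1 := by rw [← pow_two, ← hu2, pow_orderOf_eq_one]
    have hsqconj : ∀ x, IsConj u x → x * x = 1 := fun x hx => by
      obtain ⟨d, rfl⟩ := isConj_iff.1 hx
      calc d * u * d⁻¹ * (d * u * d⁻¹) = d * (u * u) * d⁻¹ := by group
        _ = 1 := by rw [huu]; group
    have hgg := hsqconj g hg
    have hgi : g⁻¹ = g := inv_eq_of_mul_eq_one_right hgg
    have hgy := hsqconj _ hg'
    rw [hgi] at hgy
    have hinv : g * y₀ * g⁻¹ = (y₀ : G)⁻¹ := by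
      rw [hgi]
      exact eq_inv_of_mul_eq_one_left (by rw [← hgy]; group)
    have hgN : g ∈ nor P := by
      refine Subgroup.mem_normalizer_iff.2 fun x => ?_
      have hmap : (P : Subgroup G).map (MulAut.conj g).toMonoidHom = (P : Subgroup G) := by
        have hz := zpowers_eq P h.card_P y₀.2 (fun e => hy₀ (Subtype.ext e))
        conv_lhs => rw [← hz]
        rw [MonoidHom.map_zpowers, MulEquiv.coe_toMonoidHom, MulAut.conj_apply, hinv,
          Subgroup.zpowers_inv, hz]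
      conv_rhs => rw [← hmap]
      exact ⟨fun hx => ⟨x, hx, rfl⟩, fun ⟨x', hx', e⟩ => by
        rwa [← (MulAut.conj g).injective e]⟩
    have hgC : g ∉ cen P := by
      intro hgC
      have h1 := Subgroup.mem_centralizer_iff.1 hgC (y₀ : G) y₀.2
      rw [← h1, mul_inv_cancel_right] at hinv
      have h2 : y₀ ^ 2 = 1 := Subtype.ext (by
        rw [Subgroup.coe_pow, pow_two, Subgroup.coe_one]
        exact mul_eq_one_iff_eq_inv.2 hinv)
      have h3 := orderOf_dvd_of_pow_eq_one h2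
      rw [← Subgroup.orderOf_coe, ← Nat.card_zpowers,
        zpowers_eq P h.card_P y₀.2 (fun e => hy₀ (Subtype.ext e)), h.card_P] at h3
      have := Nat.le_of_dvd two_pos h3
      omega
    have hmem : w⁻¹ * g ∈ (P : Subgroup G) := by
      refine h.cen_le hZ ?_
      have := (Subgroup.mul_mem_iff_of_index_two h.index_two (a := (⟨w, hw⟩ : nor P)⁻¹)
        (b := ⟨g, hgN⟩)).2 ?_
      · exact this
      · constructor
        · intro hh; exact absurd ((Subgroup.inv_mem_iff _).1 hh) hwC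
        · intro hh; exact absurd hh hgC
    refine hg.trans (isConj_iff.2 ?_)
    obtain ⟨v, hv⟩ := ((Nat.Coprime.pow_left_bijective (n := 2) (G := (P : Subgroup G))
      (by rw [show Nat.card (P : Subgroup G) = p from h.card_P, Nat.coprime_primes hp.out Nat.prime_two]
          omega)).surjective ⟨_, hmem⟩)
    have hv' : w⁻¹ * g = (v : G) * v := by
      rw [show w⁻¹ * g = ((⟨_, hmem⟩ : (P : Subgroup G)) : G) from rfl, ← hv]; simp [pow_two]
    refine ⟨v, ?_⟩
    have hwv := h.eq_inv_of_not_mem hw hwC v.2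
    have hge : g = w * ((v : G) * v) := by rw [← hv']; group
    rw [mul_inv_eq_iff_eq_mul] at hwv
    calc (v : G) * g * (v : G)⁻¹ = (v : G) * (w * (v : G)) := by rw [hge]; group
      _ = (v : G) * ((v : G)⁻¹ * w) := by rw [hwv]
      _ = w := by group

end Cfsg.Agent.H84.PTwo
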