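import Cfsg.Agent.H84.PTwoTwisted

/-!
# The linear character with the central character of a faithful character of degree `p - 2`
-/

set_option linter.unusedSectionVars false
set_option linter.style.haveILetI false
set_option maxHeartbeats 1000000

open scoped ComplexConjugate

namespace Cfsg.Agent.H84.PTwo

open CharBasic BlockBasic CycOne

universe u

variable {G : Type u} [Group G] [Fintype G] {p : ℕ} [hp : Fact p.Prime] {P : Sylow p G}

theorem TH.sum_P_eq (h : TH P) [Fintype (P : Subgroup G)] [DecidableEq (P : Subgroup G)]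
    (χ : IrrCharacter G) {c : ℂ}
    (hc : ∀ y : (P : Subgroup G), y ≠ 1 → (χ : G → ℂ) y = c) :
    ∃ m : ℕ, (p : ℂ) * m = (charDegree (χ : G → ℂ) : ℂ) + ((p : ℂ) - 1) * c ∧
      ∀ n ∈ nor P, n ∉ cen P → ‖(χ : G → ℂ) n‖ ≤ m := by
  obtain ⟨m, hm, hm'⟩ := h.exists_mult χ
  refine ⟨m, ?_, fun n hn hnC => (hm' n hn hnC).1⟩
  rw [hm, ← Finset.add_sum_erase _ _ (Finset.mem_univ (1 : (P : Subgroup G))),
    Finset.sum_congr rfl fun y hy => hc y (Finset.ne_of_mem_erase hy), Finset.sum_const,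
    Finset.card_erase_of_mem (Finset.mem_univ _), Finset.card_univ, ← Nat.card_eq_fintype_card,
    show Nat.card (P : Subgroup G) = p from h.card_P, nsmul_eq_mul, Nat.cast_sub hp.out.one_le,
    Nat.cast_one, ← apply_one_eq_charDegree]
  rfl

/-- The values of the principal block bound the coefficient from below. -/
theorem TH.principal_bound (h : TH P) {n y : G} (hn : n ∈ nor P) (hnC : n ∉ cen P)
    (hy : y ∈ (P : Subgroup G)) (hy1 : y ≠ 1) :
    open scoped Classical in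
    ∃ r : ℝ, ((p : ℝ) - 1) ^ 2 / (p : ℝ) ^ 2 ≤ r ∧
      ∑ χ ∈ Finset.univ.filter (fun χ => Same χ (trivialIrr : IrrCharacter G)), term n y χ =
        (r : ℂ) := by
  classical
  letI : Fintype (P : Subgroup G) := Fintype.ofFinite _
  have h5 := h.five_le
  have hdeg1 : charDegree ((trivialIrr : IrrCharacter G) : G → ℂ) = 1 := by
    have h1 := apply_one_eq_charDegree (trivialIrr : IrrCharacter G)
    simp only [trivialIrr] at h1 ⊢
    exact_mod_cast h1.symm
  obtain ⟨X₁, X₂, Y, ε₁, ε₂, δ, hne, hY₁, hY₂, -, hε₁, hε₂, hδ, hmem, hsame, hvan, hval, hsumP,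
    hreg⟩ := h.exists_block trivialIrr (by rw [hdeg1, Nat.dvd_one]; exact hp.out.ne_one)
  have herase : ((Finset.univ.erase (1 : (P : Subgroup G))).card : ℂ) = (p : ℂ) - 1 := by
    rw [Finset.card_erase_of_mem (Finset.mem_univ _), Finset.card_univ, ← Nat.card_eq_fintype_card,
      show Nat.card (P : Subgroup G) = p from h.card_P, Nat.cast_sub hp.out.one_le, Nat.cast_one]
  have hp5 : (5 : ℤ) ≤ p := by exact_mod_cast h5
  have hnotY : ∀ χ : IrrCharacter G, ∀ c : ℤ, (c = 1 ∨ c = -1) →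
      (∀ y : (P : Subgroup G), y ≠ 1 → (χ : G → ℂ) y = c) → χ ∉ Y := by
    intro χ c hc hv hm
    have h1 := hsumP _ hm
    rw [Finset.sum_congr rfl fun y hy => hv y (Finset.ne_of_mem_erase hy), Finset.sum_const,
      nsmul_eq_mul, herase] at h1
    have : ((p : ℤ) - 1) * c = -2 * δ := by exact_mod_cast h1
    rcases hc with e | e <;> rcases hδ with e' | e' <;> rw [e, e'] at this <;> linarith
  have htriv1 : ∀ y : (P : Subgroup G), y ≠ 1 →
      ((trivialIrr : IrrCharacter G) : G → ℂ) y = ((1 : ℤ) : ℂ) := fun y _ => by simp [trivialIrr]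
  obtain ⟨y₀, hy₀, hy₀'⟩ : ∃ y₀ : (P : Subgroup G), y₀ ≠ 1 ∧ (y₀ : G) = y :=
    ⟨⟨y, hy⟩, fun e => hy1 (congrArg Subtype.val e), rfl⟩
  obtain ⟨θ, a, ha, hθne, hθY, hθsame, hvan', hθval, hreg'⟩ :
      ∃ (θ : IrrCharacter G) (a : ℤ), (a = 1 ∨ a = -1) ∧ θ ≠ trivialIrr ∧ θ ∉ Y ∧
      Same θ trivialIrr ∧ (∀ χ, Same χ trivialIrr → χ ≠ trivialIrr → χ ≠ θ → χ ∉ Y →
        ∀ y : (P : Subgroup G), y ≠ 1 → (χ : G → ℂ) y = 0) ∧
      (∀ y : (P : Subgroup G), y ≠ 1 → (θ : G → ℂ) y = a) ∧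
      ∀ u ∈ Y, ∀ g : G, ¬ p ∣ orderOf g →
        (δ : ℂ) * (u : G → ℂ) g = 1 + (a : ℂ) * (θ : G → ℂ) g := by
    rcases hmem with e | e | e
    · subst e
      have he1 : ε₁ = 1 := by
        have h1 := (hval y₀ hy₀).1
        simp only [trivialIrr] at h1
        exact_mod_cast h1.symm
      refine ⟨X₂, ε₂, hε₂, hne.symm, hY₂, hsame _ (Or.inr (Or.inl rfl)), fun χ hs => hvan χ hs,
        fun y hy => (hval y hy).2.1, fun u hu g hg => ?_⟩
      rw [hreg u hu g hg, he1]
      simp [trivialIrr]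
    · subst e
      have he2 : ε₂ = 1 := by
        have h1 := (hval y₀ hy₀).2.1
        simp only [trivialIrr] at h1
        exact_mod_cast h1.symm
      refine ⟨X₁, ε₁, hε₁, hne, hY₁, hsame _ (Or.inl rfl),
        fun χ hs h1 h2 h3 => hvan χ hs h2 h1 h3,
        fun y hy => (hval y hy).1, fun u hu g hg => ?_⟩
      rw [hreg u hu g hg, he2]
      simp [trivialIrr, add_comm]
    · exact absurd e (hnotY _ 1 (Or.inl rfl) htriv1)
  have htY := hnotY _ 1 (Or.inl rfl) htriv1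
  -- `θ` is real
  have hreal : ∀ g, conj ((θ : G → ℂ) g) = (θ : G → ℂ) g := by
    let θ' : IrrCharacter G := ⟨_, CharInduce.IsIrr.conj θ.2⟩
    have hv : ∀ y : (P : Subgroup G), y ≠ 1 → (θ' : G → ℂ) y = a := fun y hy => by
      show conj ((θ : G → ℂ) y) = _
      rw [hθval y hy, map_intCast]
    have hs : Same θ' trivialIrr := fun z hz => by
      have h1 := hθsame z hz
      rw [H54.CB.centralChar_of_mem_center _ hz, H54.CB.centralChar_of_mem_center _ hz] at h1 ⊢
      simp only [trivialIrr, div_one] at h1 ⊢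
      show conj ((θ : G → ℂ) z) / conj ((θ : G → ℂ) 1) = 1
      rw [← map_div₀, h1, map_one]
    intro g
    suffices θ' = θ from congrFun (congrArg Subtype.val this) g
    by_contra hne'
    have hne1 : θ' ≠ trivialIrr := fun e => hθne (Subtype.ext (funext fun g => by
      have h1 := congrFun (congrArg Subtype.val e) g
      change conj ((θ : G → ℂ) g) = 1 at h1
      have h2 := congrArg (starRingEnd ℂ) h1
      rw [Complex.conj_conj, map_one] at h2
      rw [h2]; rfl))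
    have h0 := hvan' θ' hs hne1 hne' (hnotY _ a ha hv) y₀ hy₀
    rw [hv y₀ hy₀] at h0
    rcases ha with e | e <;> rw [e] at h0 <;> norm_num at h0
  have hregn := h.regular_of_not_mem hn hnC
  obtain ⟨x, hx⟩ : ∃ x : ℝ, (θ : G → ℂ) n = (x : ℂ) :=
    ⟨_, (Complex.conj_eq_iff_re.1 (hreal n)).symm⟩
  have hone' : ¬ p ∣ orderOf (1 : G) := by rw [orderOf_one, Nat.dvd_one]; exact hp.out.ne_one
  set d := charDegree (θ : G → ℂ) with hd
  have hd0 : 0 < d := charDegree_pos θ
  obtain ⟨m, hm, hmn⟩ := h.sum_P_eq θ (c := (a : ℂ)) hθval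
  have hmZ : (p : ℤ) * m = d + ((p : ℤ) - 1) * a := by exact_mod_cast hm
  -- an exceptional character
  obtain ⟨u₀, hu₀⟩ : ∃ u, u ∈ Y := by
    by_contra hno
    push Not at hno
    have := (hval y₀ hy₀).2.2.1
    rw [Finset.sum_eq_zero fun u hu => absurd hu (hno u)] at this
    rcases hδ with e | e <;> rw [e] at this <;> norm_num at this
  obtain ⟨k, hk, hkn⟩ := h.exists_mult u₀
  rw [← Finset.add_sum_erase _ _ (Finset.mem_univ (1 : (P : Subgroup G))), hsumP u₀ hu₀] at hk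
  have hu1 : ∀ u ∈ Y, (δ : ℂ) * (u : G → ℂ) 1 = 1 + (a : ℂ) * (d : ℂ) := fun u hu => by
    rw [hreg' u hu 1 hone', apply_one_eq_charDegree θ]
  have hdu : (δ : ℤ) * (charDegree (u₀ : G → ℂ) : ℤ) = 1 + a * d := by
    have h1 := hu1 u₀ hu₀
    rw [apply_one_eq_charDegree] at h1
    exact_mod_cast h1
  have hkZ : (p : ℤ) * k = charDegree (u₀ : G → ℂ) - 2 * δ := by
    have h1 : (p : ℂ) * k = (charDegree (u₀ : G → ℂ) : ℂ) + -2 * (δ : ℂ) := by
      rw [hk, ← apply_one_eq_charDegree]; rfl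
    have : (p : ℤ) * k = charDegree (u₀ : G → ℂ) + -2 * δ := by exact_mod_cast h1
    linarith
  have hδa : δ = a := by
    have hpos := charDegree_pos u₀
    rcases ha with e | e <;> rcases hδ with e' | e' <;> rw [e, e'] at hdu ⊢ <;> omega
  subst hδa
  have hδsq : (δ : ℂ) * δ = 1 := by
    rcases hδ with e | e <;> rw [e] <;> norm_num
  have hkd : (p : ℤ) * k = d - δ ∧ (m : ℤ) = k + δ := by
    rcases hδ with e | e <;> subst e
    · refine ⟨by linarith, ?_⟩
      refine mul_left_cancel₀ (show (p : ℤ) ≠ 0 by omega) ?_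
      linarith
    · refine ⟨by linarith, ?_⟩
      refine mul_left_cancel₀ (show (p : ℤ) ≠ 0 by omega) ?_
      linarith
  have hun : ∀ u ∈ Y, (u : G → ℂ) n = (δ : ℂ) * (1 + (δ : ℂ) * x) := fun u hu => by
    have h1 := hreg' u hu n hregn
    rw [hx] at h1
    rw [← h1, ← mul_assoc, hδsq, one_mul]
  have hxk : x ≤ (k : ℝ) - 1 := by
    have h1 := hmn n hn hnC
    rw [hx, Complex.norm_real, Real.norm_eq_abs] at h1
    have h2 := (hkn n hn hnC).1
    rw [hun u₀ hu₀] at h2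
    rcases hδ with e | e <;> subst e
    · rw [show (((1 : ℤ) : ℂ) * (1 + ((1 : ℤ) : ℂ) * (x : ℂ))) = ((1 + x : ℝ) : ℂ) by push_cast; ring,
        Complex.norm_real, Real.norm_eq_abs] at h2
      linarith [(abs_le.1 h2).2]
    · have h3 : (m : ℝ) = (k : ℝ) + -1 := by exact_mod_cast hkd.2
      linarith [(abs_le.1 h1).2]
  -- the sum
  have hinvn : ∀ χ : IrrCharacter G, (χ : G → ℂ) n⁻¹ = conj ((χ : G → ℂ) n) := fun χ =>
    (conj_apply_eq_inv χ n).symm
  set S := insert (trivialIrr : IrrCharacter G) (insert θ Y) with hS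
  have hS1 : (trivialIrr : IrrCharacter G) ∉ insert θ Y := by simp [hθne.symm, htY]
  have hsum : ∑ χ ∈ Finset.univ.filter (fun χ => Same χ (trivialIrr : IrrCharacter G)), term n y χ =
      term n y trivialIrr + (term n y θ + ∑ u ∈ Y, term n y u) := by
    rw [← Finset.sum_insert hθY, ← Finset.sum_insert hS1]
    symm
    refine Finset.sum_subset (fun χ hχ => Finset.mem_filter.2 ⟨Finset.mem_univ _, ?_⟩) ?_
    · rcases Finset.mem_insert.1 hχ with rfl | hχ
      · exact Same.refl _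
      rcases Finset.mem_insert.1 hχ with rfl | hχ
      · exact hθsame
      · exact hsame χ (Or.inr (Or.inr hχ))
    · intro χ hχ hχS
      simp only [Finset.mem_insert, not_or] at hχS
      rw [term, ← hy₀', hvan' χ (Finset.mem_filter.1 hχ).2 hχS.1 hχS.2.1 hχS.2.2 y₀ hy₀]
      simp
  have hd0' : (0 : ℝ) < d := by exact_mod_cast hd0
  have hD1 : (1 : ℝ) + (δ : ℝ) * d ≠ 0 := by
    intro e
    have : (1 : ℤ) + δ * d = 0 := by exact_mod_cast e
    have := charDegree_pos u₀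
    rw [← hdu] at *
    rcases hδ with e | e <;> subst e <;> omega
  refine ⟨((d : ℝ) - x) ^ 2 / ((d : ℝ) * ((d : ℝ) + δ)), ?_, ?_⟩
  · have hp2 : (2 : ℝ) ≤ p := by exact_mod_cast hp.out.two_le
    rcases hδ with e | e <;> subst e
    · push_cast
      refine bound_rhs_pos hp2 ?_ hxk
      have : (p : ℤ) * k = (d : ℤ) - 1 := hkd.1
      have : (p : ℝ) * k = (d : ℝ) - 1 := by exact_mod_cast this
      linarith
    · push_cast
      rw [← sub_eq_add_neg]
      refine bound_rhs_neg hp2 ?_ ?_ hxk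
      · have : (p : ℤ) * k = (d : ℤ) - -1 := hkd.1
        have : (p : ℝ) * k = (d : ℝ) - -1 := by exact_mod_cast this
        linarith
      · have h1 := charDegree_pos u₀
        have : (1 : ℤ) < d := by linarith [(by exact_mod_cast h1 : (0 : ℤ) < charDegree (u₀ : G → ℂ))]
        exact_mod_cast this
  · rw [hsum, Finset.sum_congr rfl (g := fun u : IrrCharacter G =>
      (1 + (δ : ℂ) * x) * (1 + (δ : ℂ) * x) / ((δ : ℂ) * (1 + (δ : ℂ) * (d : ℂ))) *
        conj ((u : G → ℂ) y)) fun u hu => by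
      have h1 : (u : G → ℂ) 1 = (δ : ℂ) * (1 + (δ : ℂ) * (d : ℂ)) := by
        rw [← hu1 u hu, ← mul_assoc, hδsq, one_mul]
      rw [term, hinvn, hun u hu, h1, map_mul, map_add, map_mul, map_one, map_intCast, Complex.conj_ofReal,
        show (δ : ℂ) * (1 + (δ : ℂ) * (x : ℂ)) * ((δ : ℂ) * (1 + (δ : ℂ) * (x : ℂ))) =
          ((δ : ℂ) * δ) * ((1 + (δ : ℂ) * (x : ℂ)) * (1 + (δ : ℂ) * (x : ℂ))) by ring, hδsq, one_mul]
      ring,
      ← Finset.mul_sum, ← map_sum, ← hy₀', (hval y₀ hy₀).2.2.1, map_neg, map_intCast, term, term,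
      hinvn θ, hθval y₀ hy₀, apply_one_eq_charDegree θ, hx, Complex.conj_ofReal, map_intCast]
    simp only [trivialIrr, map_one, mul_one, div_one, ← hd]
    have hd0C : (d : ℂ) ≠ 0 := Nat.cast_ne_zero.2 hd0.ne'
    rcases hδ with e | e <;> subst e <;> push_cast at hD1 ⊢
    · have : (d : ℂ) + 1 ≠ 0 := by exact_mod_cast d.succ_ne_zero
      have h2 : (1 : ℂ) + (d : ℂ) ≠ 0 := by rwa [add_comm]
      simp only [one_mul, mul_one] at *
      field_simp
      ring
    · have h1 : (d : ℂ) - 1 ≠ 0 := by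
        intro e
        have e' : (((d : ℝ) - 1 : ℝ) : ℂ) = ((0 : ℝ) : ℂ) := by push_cast; exact e
        exact hD1 (by linarith [Complex.ofReal_injective e'])
      have h2 : (1 : ℂ) - (d : ℂ) ≠ 0 := fun e => h1 (by linear_combination -e)
      simp only [neg_mul, one_mul, mul_one, ← sub_eq_add_neg] at *
      field_simp
      ring

/-- There is a linear character with the same central character. -/
theorem TH.exists_linear (h : TH P) (h7 : 7 ≤ p) {ζ : IrrCharacter G}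
    (hdeg : charDegree (ζ : G → ℂ) = p - 2)
    (hfaith : ∀ g : G, (ζ : G → ℂ) g = (ζ : G → ℂ) 1 → g = 1) :
    ∃ L : IrrCharacter G, (L : G → ℂ) 1 = 1 ∧ Same L ζ := by
  classical
  letI : Fintype (P : Subgroup G) := Fintype.ofFinite _
  obtain ⟨n, hn, hnC⟩ := h.exists_not_mem
  haveI : Nontrivial (P : Subgroup G) :=
    Finite.one_lt_card_iff_nontrivial.1 (h.card_P.symm ▸ hp.out.one_lt)
  obtain ⟨y₀, hy₀⟩ := exists_ne (1 : (P : Subgroup G))
  have hy1 : (y₀ : G) ≠ 1 := fun e => hy₀ (Subtype.ext e)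
  have hpd : ¬ p ∣ charDegree (ζ : G → ℂ) := by
    rw [hdeg]; exact Nat.not_dvd_of_pos_of_lt (by omega) (by omega)
  obtain ⟨X₁, X₂, Y, ε₁, ε₂, δ, hne, hY₁, hY₂, -, hε₁, hε₂, hδ, hmem, hsame, hvan, hval, hsumP,
    hreg⟩ := h.exists_block ζ hpd
  have hp7 : (7 : ℤ) ≤ p := by exact_mod_cast h7
  have hdegZ : (charDegree (ζ : G → ℂ) : ℤ) = (p : ℤ) - 2 := by omega
  have hζY : ζ ∈ Y := by
    by_contra hno
    obtain ⟨c, hc, hcv⟩ : ∃ c : ℤ, (c = 1 ∨ c = -1) ∧
        ∀ y : (P : Subgroup G), y ≠ 1 → (ζ : G → ℂ) y = c := by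
      rcases hmem with e | e | e
      · exact ⟨ε₁, hε₁, fun y hy => e ▸ (hval y hy).1⟩
      · exact ⟨ε₂, hε₂, fun y hy => e ▸ (hval y hy).2.1⟩
      · exact absurd e hno
    obtain ⟨m, hm, -⟩ := h.sum_P_eq ζ (c := (c : ℂ)) hcv
    have hm' : (p : ℤ) * m = (charDegree (ζ : G → ℂ) : ℤ) + ((p : ℤ) - 1) * c := by exact_mod_cast hm
    rw [hdegZ] at hm'
    rcases hc with e | e <;> rw [e] at hm'
    · have : (p : ℤ) ∣ 3 := ⟨-(m : ℤ) + 2, by linarith⟩
      have := Int.le_of_dvd (by norm_num) this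
      omega
    · nlinarith
  obtain ⟨m, hm, hmn⟩ := h.exists_mult ζ
  have hδ1 : δ = -1 ∧ m = 1 := by
    rw [← Finset.add_sum_erase _ _ (Finset.mem_univ (1 : (P : Subgroup G))), hsumP ζ hζY] at hm
    have h1 : (p : ℂ) * m = (charDegree (ζ : G → ℂ) : ℂ) + -2 * (δ : ℂ) := by
      rw [hm, ← apply_one_eq_charDegree]; rfl
    have h2 : (p : ℤ) * m = (charDegree (ζ : G → ℂ) : ℤ) + -2 * δ := by exact_mod_cast h1
    rw [hdegZ] at h2
    rcases hδ with e | e <;> rw [e] at h2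
    · have : (p : ℤ) ∣ 4 := ⟨-(m : ℤ) + 1, by linarith⟩
      have := Int.le_of_dvd (by norm_num) this
      omega
    · refine ⟨e, ?_⟩
      have : (p : ℤ) * m = p * 1 := by linarith
      have := mul_left_cancel₀ (show (p : ℤ) ≠ 0 by omega) this
      omega
  obtain ⟨hδ1, hm1⟩ := hδ1
  subst hδ1
  have hnorm : ‖(ζ : G → ℂ) n‖ = 1 := (hmn n hn hnC).2 hm1
  have hone' : ¬ p ∣ orderOf (1 : G) := by rw [orderOf_one, Nat.dvd_one]; exact hp.out.ne_one
  have hregn := h.regular_of_not_mem hn hnC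
  have key : ∀ A B : IrrCharacter G, A ≠ B → A ∉ Y → B ∉ Y → Same A ζ → Same B ζ →
      (∀ χ, Same χ ζ → χ ≠ A → χ ≠ B → χ ∉ Y → ∀ y : (P : Subgroup G), y ≠ 1 → (χ : G → ℂ) y = 0) →
      (∀ y : (P : Subgroup G), y ≠ 1 → (A : G → ℂ) y = 1) →
      (∀ y : (P : Subgroup G), y ≠ 1 → (B : G → ℂ) y = -1) →
      (∀ u ∈ Y, ∀ g : G, ¬ p ∣ orderOf g → (u : G → ℂ) g = (B : G → ℂ) g - (A : G → ℂ) g) →
      ∃ L : IrrCharacter G, (L : G → ℂ) 1 = 1 ∧ Same L ζ := by
    intro A B hAB hAY hBY hAs hBs hvanAB hA hB hrel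
    obtain ⟨mA, hmA, hmAn⟩ := h.sum_P_eq A hA
    have hmA' : (p : ℤ) * mA = (charDegree (A : G → ℂ) : ℤ) + ((p : ℤ) - 1) := by
      have : (p : ℂ) * mA = (charDegree (A : G → ℂ) : ℂ) + ((p : ℂ) - 1) := by rw [hmA]; ring
      exact_mod_cast this
    have hdB : (charDegree (B : G → ℂ) : ℤ) = charDegree (A : G → ℂ) + ((p : ℤ) - 2) := by
      have h1 := hrel ζ hζY 1 hone'
      rw [apply_one_eq_charDegree, apply_one_eq_charDegree, apply_one_eq_charDegree] at h1
      have : (charDegree (ζ : G → ℂ) : ℤ) = (charDegree (B : G → ℂ) : ℤ) - charDegree (A : G → ℂ) := by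
        exact_mod_cast h1
      omega
    have hdA0 := charDegree_pos A
    rcases mA with _ | _ | k
    · simp at hmA'; omega
    · refine ⟨A, ?_, hAs⟩
      rw [apply_one_eq_charDegree]
      have : charDegree (A : G → ℂ) = 1 := by simp at hmA'; omega
      rw [this, Nat.cast_one]
    exfalso
    obtain ⟨r, hr, hr'⟩ := h.principal_bound hn hnC y₀.2 hy1
    have hbal := h.balanced hn hnC hfaith hnorm y₀.2 hy1 ζ trivialIrr
    rw [hr'] at hbal
    have hinvn : ∀ χ : IrrCharacter G, (χ : G → ℂ) n⁻¹ = conj ((χ : G → ℂ) n) := fun χ =>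
      (conj_apply_eq_inv χ n).symm
    have hsum : ∑ χ ∈ Finset.univ.filter (fun χ => Same χ ζ), term n (y₀ : G) χ =
        term n (y₀ : G) A + (term n (y₀ : G) B + ∑ u ∈ Y, term n (y₀ : G) u) := by
      rw [← Finset.sum_insert hBY, ← Finset.sum_insert (by simp [hAB, hAY])]
      symm
      refine Finset.sum_subset (fun χ hχ => Finset.mem_filter.2 ⟨Finset.mem_univ _, ?_⟩) ?_
      · rcases Finset.mem_insert.1 hχ with rfl | hχ
        · exact hAs
        rcases Finset.mem_insert.1 hχ with rfl | hχ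
        · exact hBs
        · exact hsame χ (Or.inr (Or.inr hχ))
      · intro χ hχ hχS
        simp only [Finset.mem_insert, not_or] at hχS
        rw [term, hvanAB χ (Finset.mem_filter.1 hχ).2 hχS.1 hχS.2.1 hχS.2.2 y₀ hy₀]
        simp
    set D : ℝ := (charDegree (A : G → ℂ) : ℝ) with hD
    have hDval : D = (p : ℝ) * ((k + 1 : ℕ) : ℝ) + 1 := by
      have h1 : ((charDegree (A : G → ℂ) : ℤ) : ℝ) = (((p : ℤ) * ((k + 1 : ℕ) : ℤ) + 1 : ℤ) : ℝ) := by
        congr 1
        push_cast at hmA' ⊢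
        linarith
      push_cast at h1 ⊢
      rw [hD, h1]
    have hq : ((p : ℝ) - 2) = (charDegree (ζ : G → ℂ) : ℝ) := by
      rw [hdeg, Nat.cast_sub (by omega)]; norm_num
    have hB1 : (B : G → ℂ) 1 = ((D + ((p : ℝ) - 2) : ℝ) : ℂ) := by
      rw [apply_one_eq_charDegree, hD]
      have : ((charDegree (B : G → ℂ) : ℤ) : ℂ) =
          ((charDegree (A : G → ℂ) : ℤ) : ℂ) + (((p : ℤ) - 2 : ℤ) : ℂ) := by
        rw [hdB, Int.cast_add]
      push_cast at this ⊢
      exact this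
    have hval' : term n (y₀ : G) A + (term n (y₀ : G) B + ∑ u ∈ Y, term n (y₀ : G) u) =
        ((‖(A : G → ℂ) n‖ ^ 2 / D - ‖(B : G → ℂ) n‖ ^ 2 / (D + ((p : ℝ) - 2)) +
          1 / ((p : ℝ) - 2) : ℝ) : ℂ) := by
      have hu : ∀ u ∈ Y, term n (y₀ : G) u =
          (1 / (((p : ℝ) - 2 : ℝ) : ℂ)) * conj ((u : G → ℂ) y₀) := fun u hu => by
        have hun : (u : G → ℂ) n = (ζ : G → ℂ) n := by
          rw [hrel u hu n hregn, hrel ζ hζY n hregn]
        have hu1 : (u : G → ℂ) 1 = (ζ : G → ℂ) 1 := by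
          rw [hrel u hu 1 hone', hrel ζ hζY 1 hone']
        rw [term, hinvn, hun, Complex.mul_conj', hnorm, hu1, apply_one_eq_charDegree, hq]
        push_cast
        ring
      rw [Finset.sum_congr rfl hu, ← Finset.mul_sum, ← map_sum, (hval y₀ hy₀).2.2.1, term, term,
        hinvn A, hinvn B, Complex.mul_conj', Complex.mul_conj', hA y₀ hy₀, hB y₀ hy₀, hB1,
        apply_one_eq_charDegree A]
      simp only [map_neg, map_one, map_intCast, Int.cast_neg, Int.cast_one, hD]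
      push_cast
      ring
    rw [hsum, hval'] at hbal
    have heq := Complex.ofReal_injective hbal
    have hAn : ‖(A : G → ℂ) n‖ ≤ ((k + 1 : ℕ) : ℝ) + 1 := by
      have := hmAn n hn hnC
      push_cast at this ⊢
      linarith
    have hBn : ‖(A : G → ℂ) n‖ - 1 ≤ ‖(B : G → ℂ) n‖ := by
      have h1 : (A : G → ℂ) n = (B : G → ℂ) n - (ζ : G → ℂ) n := by rw [hrel ζ hζY n hregn]; ring
      have h2 := norm_sub_le ((B : G → ℂ) n) ((ζ : G → ℂ) n)
      rw [← h1, hnorm] at h2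
      linarith
    have := bound_lhs (p := p) (X' := ‖(B : G → ℂ) n‖) (Nat.le_add_left 1 k) (by exact_mod_cast h7)
      rfl hDval (norm_nonneg _) hAn (norm_nonneg _) hBn
    linarith
  rcases hε₁ with e₁ | e₁ <;> rcases hε₂ with e₂ | e₂
  · exfalso
    have h1 := hreg ζ hζY 1 hone'
    rw [e₁, e₂, apply_one_eq_charDegree, apply_one_eq_charDegree, apply_one_eq_charDegree] at h1
    have : (-1 : ℤ) * (charDegree (ζ : G → ℂ) : ℤ) =
        1 * (charDegree (X₁ : G → ℂ) : ℤ) + 1 * charDegree (X₂ : G → ℂ) := by exact_mod_cast h1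
    omega
  · refine key X₁ X₂ hne hY₁ hY₂ (hsame _ (Or.inl rfl)) (hsame _ (Or.inr (Or.inl rfl))) hvan
      (fun y hy => by rw [(hval y hy).1, e₁, Int.cast_one])
      (fun y hy => by rw [(hval y hy).2.1, e₂]; norm_num) fun u hu g hg => ?_
    have h1 := hreg u hu g hg
    rw [e₁, e₂] at h1
    push_cast at h1
    linear_combination -h1
  · refine key X₂ X₁ hne.symm hY₂ hY₁ (hsame _ (Or.inr (Or.inl rfl))) (hsame _ (Or.inl rfl))
      (fun χ hs a b => hvan χ hs b a)
      (fun y hy => by rw [(hval y hy).2.1, e₂, Int.cast_one])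
      (fun y hy => by rw [(hval y hy).1, e₁]; norm_num) fun u hu g hg => ?_
    have h1 := hreg u hu g hg
    rw [e₁, e₂] at h1
    push_cast at h1
    linear_combination -h1
  · exfalso
    have h1 := hreg ζ hζY 1 hone'
    rw [e₁, e₂, apply_one_eq_charDegree, apply_one_eq_charDegree, apply_one_eq_charDegree] at h1
    have h2 : (-1 : ℤ) * (charDegree (ζ : G → ℂ) : ℤ) =
        -1 * (charDegree (X₁ : G → ℂ) : ℤ) + -1 * charDegree (X₂ : G → ℂ) := by exact_mod_cast h1
    have hge : ∀ X : IrrCharacter G, (∀ y : (P : Subgroup G), y ≠ 1 → (X : G → ℂ) y = ((-1 : ℤ) : ℂ)) →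
        (p : ℤ) - 1 ≤ charDegree (X : G → ℂ) := fun X hX => by
      obtain ⟨j, hj, -⟩ := h.sum_P_eq X hX
      have : (p : ℤ) * j = (charDegree (X : G → ℂ) : ℤ) + ((p : ℤ) - 1) * -1 := by exact_mod_cast hj
      have : (0 : ℤ) ≤ (p : ℤ) * j := by positivity
      linarith
    have := hge X₁ fun y hy => by rw [(hval y hy).1, e₁]
    have := hge X₂ fun y hy => by rw [(hval y hy).2.1, e₂]
    omega

end Cfsg.Agent.H84.PTwo
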