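import Cfsg.Agent.H84.PTwoPermSetup

/-!
# The permutation character of a primitive group of degree `2 p`
-/

set_option linter.unusedSectionVars false
set_option linter.style.haveILetI false
set_option maxHeartbeats 1000000

open scoped ComplexConjugate

namespace Cfsg.Agent.H84.PTwoPerm

open MulAction CharBasic BlockBasic CycOne

variable {α : Type*} [Fintype α] [DecidableEq α] {p : ℕ} [hp : Fact p.Prime]
  {G : Subgroup (Equiv.Perm α)} {P : Sylow p G} (h : Hyp p G P)

include h

open scoped Classical in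
/-- There is a faithful character of degree `p - 2` and `P` fixes no point. -/
theorem Hyp.exists_faithful [Fintype G] (hnot2 : ¬ IsMultiplyPretransitive G α 2) :
    ∃ u : IrrCharacter G, charDegree (u : G → ℂ) = p - 2 ∧
      (∀ g : G, (u : G → ℂ) g = (u : G → ℂ) 1 → g = 1) ∧
      ∀ y ∈ (P : Subgroup G), y ≠ 1 → ∀ a : α, y • a ≠ a := by
  haveI := h.prim
  letI : DecidableEq G := Classical.decEq _
  letI : Fintype (P : Subgroup G) := Fintype.ofFinite _
  have hth := h.th
  have hZ := h.center_eq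
  have h5 := h.five_le
  have hp5 : (5 : ℤ) ≤ p := by exact_mod_cast h5
  have hsameAll : ∀ χ ψ : IrrCharacter G, PTwo.Same χ ψ := by
    intro χ ψ z hz
    rw [hZ, Subgroup.mem_bot] at hz
    rw [hz, H54.CB.centralChar_one, H54.CB.centralChar_one]
  have hdeg1 : charDegree ((trivialIrr : IrrCharacter G) : G → ℂ) = 1 := by
    have h1 := apply_one_eq_charDegree (trivialIrr : IrrCharacter G)
    simp only [trivialIrr] at h1 ⊢
    exact_mod_cast h1.symm
  obtain ⟨X₁, X₂, Y, ε₁, ε₂, δ, hne, hY₁, hY₂, hYc, hε₁, hε₂, hδ, hmem, -, hvan, hval, hsumP,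
    hreg⟩ := hth.exists_block trivialIrr (by rw [hdeg1, Nat.dvd_one]; exact hp.out.ne_one)
  have herase : ((Finset.univ.erase (1 : (P : Subgroup G))).card : ℂ) = (p : ℂ) - 1 := by
    rw [Finset.card_erase_of_mem (Finset.mem_univ _), Finset.card_univ, ← Nat.card_eq_fintype_card,
      show Nat.card (P : Subgroup G) = p from h.card_sylow, Nat.cast_sub hp.out.one_le, Nat.cast_one]
  obtain ⟨y₀, hy₀⟩ : ∃ y : (P : Subgroup G), y ≠ 1 := by
    haveI : Nontrivial (P : Subgroup G) :=
      Finite.one_lt_card_iff_nontrivial.1 (h.card_sylow.symm ▸ hp.out.one_lt)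
    exact exists_ne 1
  have hy₀' : (y₀ : G) ≠ 1 := fun e => hy₀ (Subtype.ext e)
  have hnotY : ∀ χ : IrrCharacter G, ∀ c : ℤ, (c = 1 ∨ c = -1) →
      (∀ y : (P : Subgroup G), y ≠ 1 → (χ : G → ℂ) y = c) → χ ∉ Y := by
    intro χ c hc hv hm
    have h1 := hsumP _ hm
    rw [Finset.sum_congr rfl fun y hy => hv y (Finset.ne_of_mem_erase hy), Finset.sum_const,
      nsmul_eq_mul, herase] at h1
    have : ((p : ℤ) - 1) * c = -2 * δ := by exact_mod_cast h1
    rcases hc with e | e <;> rcases hδ with e' | e' <;> rw [e, e'] at this <;> linarith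
  have htriv1 : ∀ y : (P : Subgroup G), y ≠ 1 →
      ((trivialIrr : IrrCharacter G) : G → ℂ) y = ((1 : ℤ) : ℂ) := fun y _ => by simp [trivialIrr]
  have htY := hnotY _ 1 (Or.inl rfl) htriv1
  obtain ⟨θ, a, ha, hθne, hθY, hvan', hθval, hreg'⟩ : ∃ (θ : IrrCharacter G) (a : ℤ),
      (a = 1 ∨ a = -1) ∧ θ ≠ trivialIrr ∧ θ ∉ Y ∧
      (∀ χ, χ ≠ trivialIrr → χ ≠ θ → χ ∉ Y → ∀ y : (P : Subgroup G), y ≠ 1 → (χ : G → ℂ) y = 0) ∧
      (∀ y : (P : Subgroup G), y ≠ 1 → (θ : G → ℂ) y = a) ∧
      ∀ u ∈ Y, ∀ g : G, ¬ p ∣ orderOf g →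
        (δ : ℂ) * (u : G → ℂ) g = 1 + (a : ℂ) * (θ : G → ℂ) g := by
    rcases hmem with e | e | e
    · subst e
      have he1 : ε₁ = 1 := by
        have h1 := (hval y₀ hy₀).1
        simp only [trivialIrr] at h1
        exact_mod_cast h1.symm
      refine ⟨X₂, ε₂, hε₂, hne.symm, hY₂, fun χ => hvan χ (hsameAll _ _),
        fun y hy => (hval y hy).2.1, fun u hu g hg => ?_⟩
      rw [hreg u hu g hg, he1]
      simp [trivialIrr]
    · subst e
      have he2 : ε₂ = 1 := by
        have h1 := (hval y₀ hy₀).2.1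
        simp only [trivialIrr] at h1
        exact_mod_cast h1.symm
      refine ⟨X₁, ε₁, hε₁, hne, hY₁, fun χ h1 h2 h3 => hvan χ (hsameAll _ _) h2 h1 h3,
        fun y hy => (hval y hy).1, fun u hu g hg => ?_⟩
      rw [hreg u hu g hg, he2]
      simp [trivialIrr, add_comm]
    · exact absurd e htY
  have hone' : ¬ p ∣ orderOf (1 : G) := by rw [orderOf_one, Nat.dvd_one]; exact hp.out.ne_one
  obtain ⟨u₀, hu₀⟩ : ∃ u, u ∈ Y := by
    refine Finset.card_pos.1 ?_
    omega
  set d := charDegree (θ : G → ℂ) with hd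
  have hd0 : 0 < d := charDegree_pos θ
  set du := charDegree (u₀ : G → ℂ) with hdu'
  have hdu0 : 0 < du := charDegree_pos u₀
  have hdu : (δ : ℤ) * (du : ℤ) = 1 + a * d := by
    have h1 := hreg' u₀ hu₀ 1 hone'
    rw [apply_one_eq_charDegree, apply_one_eq_charDegree] at h1
    exact_mod_cast h1
  have hδa : δ = a := by
    rcases ha with e | e <;> rcases hδ with e' | e' <;> rw [e, e'] at hdu ⊢ <;> omega
  subst hδa
  -- the multiplicities in the permutation character
  set π : G → ℂ := fun g => (Nat.card (fixedBy α g) : ℂ) with hπ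
  have hπchar : IsCharacter G π := S0157.isCharacter_perm α
  have hπcl := IsChar.isClassFunction hπchar
  choose n hn using fun χ : IrrCharacter G => classInner_isChar_nat hπchar (IsIrr.isCharacter χ.2)
  obtain ⟨x₀⟩ : Nonempty α := Fintype.card_pos_iff.1 (by rw [h.card_pts]; omega)
  have hn1 : n trivialIrr = 1 := by
    have hX1 : Nat.card (Quotient (MulAction.orbitRel G α)) = 1 := by
      refine Nat.card_eq_one_iff_unique.2 ⟨⟨fun a b => ?_⟩, ⟨Quotient.mk _ x₀⟩⟩
      induction a using Quotient.inductionOn with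
      | h a =>
        induction b using Quotient.inductionOn with
        | h b =>
          obtain ⟨g, rfl⟩ := MulAction.exists_smul_eq G b a
          exact Quotient.sound ⟨g, rfl⟩
    apply Nat.cast_injective (R := ℂ)
    rw [← hn, classInner_def]
    simp only [trivialIrr, map_one, mul_one, hπ]
    rw [← Nat.cast_sum, S0157.orbit_count α, hX1, one_mul, Nat.cast_one,
      inv_mul_cancel₀ (Nat.cast_ne_zero.2 Nat.card_pos.ne')]
  set f := Nat.card (fixedBy α (y₀ : G)) with hf
  have hπy : ∀ y : (P : Subgroup G), y ≠ 1 → π y = (f : ℂ) := fun y hy => by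
    rw [hπ, hf]
    exact congrArg Nat.cast (h.fixed_const y.2 (fun e => hy (Subtype.ext e)) y₀.2 hy₀')
  have hnY : ∀ u ∈ Y, n u = n u₀ := by
    intro u hu
    apply Nat.cast_injective (R := ℂ)
    rw [← hn, ← hn, classInner_def, classInner_def]
    refine congrArg _ ?_
    rw [← sub_eq_zero, ← Finset.sum_sub_distrib,
      ← Finset.sum_filter_add_sum_filter_not Finset.univ (fun g : G => p ∣ orderOf g),
      hth.sum_singular hZ (F := fun g => π g * conj ((u : G → ℂ) g) - π g * conj ((u₀ : G → ℂ) g))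
        (fun c g => by
          show π _ * _ - π _ * _ = _
          rw [hπcl g c, IsIrr.isClassFunction u.2 g c, IsIrr.isClassFunction u₀.2 g c])]
    have h1 : ∑ g ∈ Finset.univ.filter (fun g : G => ¬ p ∣ orderOf g),
        (π g * conj ((u : G → ℂ) g) - π g * conj ((u₀ : G → ℂ) g)) = 0 := by
      refine Finset.sum_eq_zero fun g hg => ?_
      have hg' := (Finset.mem_filter.1 hg).2
      have e : (δ : ℂ) * (u : G → ℂ) g = (δ : ℂ) * (u₀ : G → ℂ) g := by
        rw [hreg' u hu g hg', hreg' u₀ hu₀ g hg']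
      rw [mul_left_cancel₀ (by rcases hδ with e | e <;> rw [e] <;> norm_num) e, sub_self]
    rw [h1, add_zero]
    refine mul_eq_zero_of_right _ ?_
    rw [Finset.sum_congr rfl (g := fun y : (P : Subgroup G) =>
      (f : ℂ) * conj ((u : G → ℂ) y) - (f : ℂ) * conj ((u₀ : G → ℂ) y)) fun y hy => by
        show π y * _ - π y * _ = _
        rw [hπy y (Finset.ne_of_mem_erase hy)],
      Finset.sum_sub_distrib, ← Finset.mul_sum, ← Finset.mul_sum, ← map_sum, ← map_sum,
      hsumP u hu, hsumP u₀ hu₀, sub_self]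
  set w := n u₀ with hw
  set c := n θ with hc
  have hexp := classFunction_expansion hπcl
  have hval0 : ∀ g, π g = ∑ χ : IrrCharacter G, (n χ : ℂ) * (χ : G → ℂ) g := fun g => by
    conv_lhs => rw [hexp]
    simp [Finset.sum_apply, hn]
  have hS1 : (trivialIrr : IrrCharacter G) ∉ insert θ Y := by simp [hθne.symm, htY]
  set S := insert (trivialIrr : IrrCharacter G) (insert θ Y) with hS
  have hfeq : (f : ℤ) = 1 + c * δ + w * -δ := by
    have h1 := hval0 y₀
    rw [hπy y₀ hy₀, ← Finset.sum_subset (Finset.subset_univ S) (fun χ _ hχ => by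
        simp only [hS, Finset.mem_insert, not_or] at hχ
        rw [hvan' χ hχ.1 hχ.2.1 hχ.2.2 y₀ hy₀, mul_zero]),
      hS, Finset.sum_insert hS1, Finset.sum_insert hθY,
      Finset.sum_congr rfl (g := fun u : IrrCharacter G => (w : ℂ) * (u : G → ℂ) y₀)
        fun u hu => by rw [hnY u hu],
      ← Finset.mul_sum, (hval y₀ hy₀).2.2.1, hθval y₀ hy₀, hn1] at h1
    simp only [trivialIrr, Nat.cast_one, mul_one] at h1
    apply Int.cast_injective (α := ℂ)
    push_cast
    rw [h1]; ring
  have hduY : ∀ u ∈ Y, charDegree (u : G → ℂ) = du := fun u hu => by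
    apply Nat.cast_injective (R := ℂ)
    rw [hdu', ← apply_one_eq_charDegree, ← apply_one_eq_charDegree]
    refine mul_left_cancel₀ (show (δ : ℂ) ≠ 0 by rcases hδ with e | e <;> rw [e] <;> norm_num) ?_
    rw [hreg' u hu 1 hone', hreg' u₀ hu₀ 1 hone']
  have htot : ∑ χ : IrrCharacter G, n χ * charDegree (χ : G → ℂ) = 2 * p := by
    apply Nat.cast_injective (R := ℂ)
    push_cast
    rw [Finset.sum_congr rfl fun χ _ => by rw [← apply_one_eq_charDegree], ← hval0 1, hπ]
    show ((Nat.card (fixedBy α (1 : G)) : ℕ) : ℂ) = _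
    rw [fixedBy_one_eq_univ, Nat.card_congr (Equiv.Set.univ α), Nat.card_eq_fintype_card, h.card_pts]
    push_cast
    ring
  have hsplit : ∑ χ ∈ S, n χ * charDegree (χ : G → ℂ) = 1 + (c * d + Y.card * (w * du)) := by
    rw [hS, Finset.sum_insert hS1, Finset.sum_insert hθY, hn1, hdeg1, one_mul,
      Finset.sum_congr rfl (g := fun _ => w * du) fun u hu => by rw [hnY u hu, hduY u hu],
      Finset.sum_const, smul_eq_mul]
  have hdeg : 1 + (c * d + Y.card * (w * du)) ≤ 2 * p := by
    rw [← htot, ← hsplit]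
    exact Finset.sum_le_sum_of_subset (Finset.subset_univ _)
  have ht : 2 ≤ Y.card := by omega
  have hf0p := h.fixed_zero_or_p y₀.2 hy₀'
  rw [← hf] at hf0p
  obtain ⟨k, hk⟩ : ∃ k : ℕ, (p : ℤ) * k = du - 2 * δ := by
    obtain ⟨k, hk, -⟩ := hth.exists_mult u₀
    rw [← Finset.add_sum_erase _ _ (Finset.mem_univ (1 : (P : Subgroup G))), hsumP u₀ hu₀] at hk
    refine ⟨k, ?_⟩
    have h1 : (p : ℂ) * k = (du : ℂ) + -2 * (δ : ℂ) := by
      rw [hk, hdu', ← apply_one_eq_charDegree]; rfl
    have : (p : ℤ) * k = du + -2 * δ := by exact_mod_cast h1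
    linarith
  -- the kernel of an exceptional character does not contain `P`
  have hker : ∀ g : G, (u₀ : G → ℂ) g = (u₀ : G → ℂ) 1 → g = 1 := by
    intro g hg
    obtain ⟨N, hN, hmemN, -⟩ := IsChar.exists_kernel (IsIrr.isCharacter u₀.2)
    by_contra hg1
    have hN0 : N ≠ ⊥ := fun e => hg1 (by
      have := (hmemN g).2 hg
      rwa [e, Subgroup.mem_bot] at this)
    have hle := h.le_normal N hN0
    have h1 := hsumP u₀ hu₀
    rw [Finset.sum_congr rfl (g := fun _ : (P : Subgroup G) => (u₀ : G → ℂ) 1)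
        fun y _ => (hmemN (y : G)).1 (hle y.2), Finset.sum_const, nsmul_eq_mul,
      herase, apply_one_eq_charDegree, ← hdu'] at h1
    have h2 : ((p : ℤ) - 1) * du = -2 * δ := by exact_mod_cast h1
    have h3 : (p : ℤ) - 1 ≤ ((p : ℤ) - 1) * du :=
      le_mul_of_one_le_right (by linarith) (by exact_mod_cast hdu0)
    rcases hδ with e | e <;> rw [e] at h2 <;> linarith
  rcases hδ with e | e <;> subst e
  · -- `a = 1`
    exfalso
    have hd1 : d = p * k + 1 := by
      apply Nat.cast_injective (R := ℤ)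
      push_cast
      linarith
    rcases k with _ | k
    · -- `θ` is linear and `u₀` has degree two
      have hθ1 : (θ : G → ℂ) 1 = 1 := by
        rw [apply_one_eq_charDegree, ← hd, hd1]; simp
      obtain ⟨l, hl⟩ := CharInduce.IsChar.exists_hom_of_degree_one (IsIrr.isCharacter θ.2) hθ1
      have hPK : (P : Subgroup G) ≤ l.ker := fun y hy => by
        rcases eq_or_ne y 1 with rfl | hy1
        · exact one_mem _
        refine MonoidHom.mem_ker.2 (Units.ext ?_)
        rw [← hl, hθval ⟨y, hy⟩ (fun e => hy1 (congrArg Subtype.val e))]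
        simp
      have hKp : IsPGroup p l.ker := by
        refine IsPGroup.iff_orderOf.2 fun g => ?_
        rcases eq_or_ne (g : G) 1 with e | hg1
        · exact ⟨0, by rw [← Subgroup.orderOf_coe, e, orderOf_one, pow_zero]⟩
        by_cases hsing : p ∣ orderOf (g : G)
        · obtain ⟨Q, hQ, -⟩ := (hth.singular_iff hZ).1 hsing
          obtain ⟨j, hj⟩ := IsPGroup.iff_orderOf.1 Q.isPGroup' ⟨g, hQ⟩
          rw [Subgroup.orderOf_mk] at hj
          exact ⟨j, by rw [← Subgroup.orderOf_coe]; exact hj⟩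
        · exfalso
          refine hg1 (hker g ?_)
          have h1 := hreg' u₀ hu₀ g hsing
          have h2 := hreg' u₀ hu₀ 1 hone'
          rw [hl, MonoidHom.mem_ker.1 g.2] at h1
          rw [hl, map_one] at h2
          have : ((1 : ℤ) : ℂ) ≠ 0 := by norm_num
          exact mul_left_cancel₀ this (h1.trans h2.symm)
      exact h.not_normal (P.is_maximal' hKp hPK ▸ (inferInstance : l.ker.Normal))
    · -- `d ≥ p + 1`
      have hd2 : p + 1 ≤ d := by rw [hd1]; have : p ≤ p * (k + 1) := Nat.le_mul_of_pos_right p k.succ_pos; omega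
      have hdu2 : p + 2 ≤ du := by
        have h1 : (du : ℤ) = d + 1 := by linarith
        omega
      have hw0 : w = 0 := by
        by_contra hw0
        have h1 : 2 * (p + 2) ≤ Y.card * (w * du) :=
          Nat.mul_le_mul ht (hdu2.trans (Nat.le_mul_of_pos_left _ (Nat.pos_of_ne_zero hw0)))
        omega
      have hc1 : c ≤ 1 := by
        by_contra hc1
        have h1 : 2 * (p + 1) ≤ c * d := Nat.mul_le_mul (by omega) hd2
        omega
      rw [hw0] at hfeq
      omega
  · -- `a = -1`
    have hd1 : d + 1 = p * k := by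
      apply Nat.cast_injective (R := ℤ)
      push_cast
      linarith
    have hk0 : 1 ≤ k := by
      rcases k with _ | k
      · simp at hd1
      · omega
    have hpk : p ≤ p * k := Nat.le_mul_of_pos_right p hk0
    have hdu1 : du + 1 = d := by
      apply Nat.cast_injective (R := ℤ)
      push_cast
      linarith
    have hw1 : w ≤ 1 := by
      by_contra hw1
      have h1 : 2 * (2 * (p - 2)) ≤ Y.card * (w * du) :=
        Nat.mul_le_mul ht (Nat.mul_le_mul (by omega) (by omega))
      omega
    have hc2 : c ≤ 2 := by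
      by_contra hc2
      have h1 : 3 * (p - 1) ≤ c * d := Nat.mul_le_mul (by omega) (by omega)
      omega
    have hf0 : f = 0 := by omega
    have hcw : c = 1 + w := by omega
    have hw0 : w = 0 := by
      by_contra hw0
      have hw1' : w = 1 := by omega
      have hc' : c = 2 := by omega
      rw [hw1', hc', one_mul] at hdeg
      have h1 : 2 * du ≤ Y.card * du := Nat.mul_le_mul_right _ ht
      omega
    have hc' : c = 1 := by omega
    rw [hw0, hc', one_mul, Nat.zero_mul, Nat.mul_zero, add_zero] at hdeg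
    have hk2 : k ≤ 2 := by
      by_contra hk2
      have : p * 3 ≤ p * k := Nat.mul_le_mul_left _ (by omega)
      omega
    rcases (show k = 1 ∨ k = 2 by omega) with hk1 | hk1
    · refine ⟨u₀, by rw [← hdu']; rw [hk1] at hd1; omega, hker, fun y hy hy1 a ha => ?_⟩
      have h1 := h.fixed_const hy hy1 y₀.2 hy₀'
      rw [← hf, hf0, Nat.card_eq_zero] at h1
      rcases h1 with h1 | h1
      · exact h1.false ⟨a, ha⟩
      · exact not_finite (fixedBy α y)
    · exfalso
      refine hnot2 ((S0157.result (G := G) α (by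
        rw [Nat.card_eq_fintype_card, h.card_pts]; omega)).1 ?_)
      suffices e : (fun g : G => (Nat.card (fixedBy α g) : ℂ) - 1) = (θ : G → ℂ) from e ▸ θ.2
      have hother : ∀ χ : IrrCharacter G, χ ≠ trivialIrr → χ ≠ θ → n χ = 0 := by
        intro χ h1 h2
        by_cases hχY : χ ∈ Y
        · rw [hnY χ hχY, hw0]
        by_contra h0
        have hle : ∑ ψ ∈ insert χ S, n ψ * charDegree (ψ : G → ℂ) ≤ 2 * p := by
          rw [← htot]; exact Finset.sum_le_sum_of_subset (Finset.subset_univ _)
        rw [Finset.sum_insert (by simp [hS, h1, h2, hχY]), hsplit, hw0, hc', one_mul, Nat.zero_mul,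
          Nat.mul_zero, add_zero] at hle
        have : 0 < n χ * charDegree (χ : G → ℂ) :=
          Nat.mul_pos (Nat.pos_of_ne_zero h0) (charDegree_pos χ)
        rw [hk1] at hd1
        omega
      funext g
      show π g - 1 = _
      rw [hval0 g, ← Finset.sum_subset (Finset.subset_univ {trivialIrr, θ}) (fun χ _ hχ => by
        simp only [Finset.mem_insert, Finset.mem_singleton, not_or] at hχ
        rw [hother χ hχ.1 hχ.2, Nat.cast_zero, zero_mul]),
        Finset.sum_pair hθne.symm, hn1, show n θ = 1 from hc']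
      simp [trivialIrr]

end Cfsg.Agent.H84.PTwoPerm
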