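import Cfsg.Agent.H84.PTwoPermChars

/-!
# A primitive group of degree `2 p` with Sylow normalizer of order `2 p` is doubly transitive or `A₅`
-/

set_option linter.unusedSectionVars false
set_option linter.style.haveILetI false
set_option maxHeartbeats 1000000

namespace Cfsg.Agent.H84.PTwoPerm

open MulAction CharBasic BlockBasic CycOne Matrix

theorem sl_sq {F : Type*} [Field F] (h2 : (2 : F) = 0) {g : Matrix.SpecialLinearGroup (Fin 2) F}
    {k : ℕ} (hg : g ^ (2 ^ k) = 1) : g * g = 1 := by
  set A : Matrix (Fin 2) (Fin 2) F := (g : Matrix (Fin 2) (Fin 2) F) with hA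
  have h2' : ∀ M : Matrix (Fin 2) (Fin 2) F, M + M = 0 := fun M => by
    ext i j
    rw [Matrix.add_apply, Matrix.zero_apply, ← two_mul, h2, zero_mul]
  have hone : (1 : Matrix (Fin 2) (Fin 2) F) + 1 = 0 := h2' 1
  set M := A + 1 with hM
  have hsq : ∀ B : Matrix (Fin 2) (Fin 2) F, (B + 1) ^ 2 = B ^ 2 + 1 := fun B => by
    rw [pow_two, pow_two, add_mul, mul_add, one_mul, mul_one]
    rw [show B * B + B + (B + 1) = B * B + (B + B) + 1 by abel, h2' B, add_zero]
  have hpow : ∀ j : ℕ, M ^ (2 ^ j) = A ^ (2 ^ j) + 1 := by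
    intro j
    induction j with
    | zero => simp [hM]
    | succ j ih => rw [pow_succ, pow_mul, ih, hsq, ← pow_mul]
  have hnil : M ^ (2 ^ k) = 0 := by
    rw [hpow, hA, ← Matrix.SpecialLinearGroup.coe_pow, hg, Matrix.SpecialLinearGroup.coe_one, hone]
  have hdet : M.det = 0 := by
    have := congrArg Matrix.det hnil
    rw [Matrix.det_pow, Matrix.det_zero] at this
    exact eq_zero_of_pow_eq_zero this
  have hMM : M * M = M.trace • M := by
    have hd := hdet
    rw [Matrix.det_fin_two] at hd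
    refine Matrix.ext ?_
    simp only [Fin.forall_fin_two, Matrix.mul_apply, Fin.sum_univ_two, Matrix.smul_apply,
      Matrix.trace_fin_two, smul_eq_mul]
    refine ⟨⟨?_, ?_⟩, ?_, ?_⟩ <;>
      first | ring1 | linear_combination -hd | linear_combination hd
  have hgen : ∀ j : ℕ, M ^ (j + 1) = M.trace ^ j • M := by
    intro j
    induction j with
    | zero => simp
    | succ j ih => rw [pow_succ, ih, Matrix.smul_mul, hMM, smul_smul, ← pow_succ]
  have hM2 : M * M = 0 := by
    have h1 := hgen (2 ^ k)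
    rw [pow_succ, hnil, zero_mul] at h1
    rcases smul_eq_zero.1 h1.symm with e | e
    · rw [hMM, eq_zero_of_pow_eq_zero e, zero_smul]
    · rw [e, mul_zero]
  have hAA : A * A = 1 := by
    have h1 := hsq A
    rw [← hM, pow_two, pow_two, hM2] at h1
    have h3 : A * A + 1 + 1 = 1 := by rw [← h1, zero_add]
    rwa [add_assoc, hone, add_zero] at h3
  exact Subtype.ext hAA

variable {α : Type*} [Fintype α] [DecidableEq α] {p : ℕ} [hp : Fact p.Prime]
  {G : Subgroup (Equiv.Perm α)} {P : Sylow p G} (h : Hyp p G P)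

include h

theorem Hyp.false_of_seven [Fintype G] (h7 : 7 ≤ p) (hnot2 : ¬ IsMultiplyPretransitive G α 2) :
    False := by
  classical
  haveI := h.prim
  have hth := h.th
  obtain ⟨u, hu, hfaith, hfree⟩ := h.exists_faithful hnot2
  obtain ⟨-, -, hcard, hconj⟩ := hth.core h.center_eq hu hfaith
  obtain ⟨a, F, _, _, hpa, hF, ⟨e⟩⟩ := hth.iso_special h.center_eq (by omega) hu hfaith
  obtain ⟨n, hn, hnC⟩ := hth.exists_not_mem
  haveI : Fact (Nat.Prime 2) := ⟨Nat.prime_two⟩
  set q := 2 ^ a with hq
  rcases a with _ | _ | _ | a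
  · simp [hq] at hpa; omega
  · simp [hq] at hpa; omega
  · simp [hq] at hpa; omega
  have hq8 : 8 ≤ q := by
    rw [hq, show a + 1 + 1 + 1 = a + 3 by omega, pow_add]
    have : 0 < 2 ^ a := by positivity
    omega
  have h2F : (2 : F) = 0 := by
    have h1 : ((q : ℕ) : F) = 0 := by rw [← hF]; exact Nat.cast_card_eq_zero F
    rw [hq, Nat.cast_pow] at h1
    have := eq_zero_of_pow_eq_zero h1
    simpa using this
  -- a Sylow 2-subgroup
  let S : Sylow 2 G := default
  have hSsq : ∀ s : G, s ∈ (S : Subgroup G) → s * s = 1 := by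
    intro s hs
    obtain ⟨k, hk⟩ := S.isPGroup' ⟨s, hs⟩
    have hk' : s ^ (2 ^ k) = 1 := congrArg Subtype.val hk
    refine e.injective ?_
    rw [map_mul, map_one]
    exact sl_sq h2F (by rw [← map_pow, hk', map_one])
  have hScomm : ∀ s t : G, s ∈ (S : Subgroup G) → t ∈ (S : Subgroup G) → s * t = t * s := by
    intro s t hs ht
    have h1 := hSsq _ (mul_mem hs ht)
    calc s * t = s * (s * t * (s * t)) * t := by rw [h1, mul_one]
      _ = (s * s) * (t * s) * (t * t) := by group
      _ = t * s := by rw [hSsq s hs, hSsq t ht, one_mul, mul_one]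
  have hcardG : Nat.card G = q * ((q + 1) * (q - 1)) := by
    rw [hcard, hpa, show q + 1 - 1 = q by omega, show q + 1 - 2 = q - 1 by omega]; ring
  have hSc : Nat.card (S : Subgroup G) = q := by
    have h1 : (Nat.card G).factorization 2 = a + 1 + 1 + 1 := by
      have hne : (q + 1) * (q - 1) ≠ 0 := Nat.mul_ne_zero (by omega) (by omega)
      rw [hcardG, Nat.factorization_mul (by omega) hne, hq, Nat.Prime.factorization_pow Nat.prime_two,
        Finsupp.add_apply, Finsupp.single_eq_same,
        Nat.factorization_eq_zero_of_not_dvd (n := (2 ^ (a + 1 + 1 + 1) + 1) * _), add_zero]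
      have : 2 ∣ 2 ^ (a + 1 + 1 + 1) := dvd_pow_self 2 (by omega)
      rw [Nat.prime_two.dvd_mul]
      omega
    rw [S.card_eq_multiplicity, h1]
  have hstab : ∀ x : α, Nat.card (stabilizer G x) * 2 = q * (q - 1) := by
    intro x
    have h1 := h.stabilizer_card x
    rw [hcard, hpa, show q + 1 - 1 = q by omega, show q + 1 - 2 = q - 1 by omega] at h1
    refine Nat.eq_of_mul_eq_mul_left (show 0 < q + 1 by omega) ?_
    linarith
  -- involutions fix at most two points
  have hn3 : ∀ x : Fin 3 → α, Function.Injective x → (∀ i, n • x i = x i) → False := by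
    intro x hx hfix
    let F' : ↥(P : Subgroup G) × Fin 3 → α := fun z => (z.1 : G) • x z.2
    have hinj : Function.Injective F' := by
      rintro ⟨y, i⟩ ⟨y', j⟩ hyy
      change (y : G) • x i = (y' : G) • x j at hyy
      set z : (P : Subgroup G) := y⁻¹ * y' with hz
      have hzx : (z : G) • x j = x i := by
        rw [hz, Subgroup.coe_mul, Subgroup.coe_inv, mul_smul, ← hyy, inv_smul_smul]
      have hzi : (z : G)⁻¹ • x j = x i := by
        rw [← hth.eq_inv_of_not_mem hn hnC z.2, mul_smul, mul_smul,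
          show n⁻¹ • x j = x j from inv_smul_eq_iff.2 (hfix j).symm, hzx, hfix i]
      have hz2 : (z : G) * z = 1 := by
        by_contra hne
        refine hfree _ (mul_mem z.2 z.2) hne (x j) ?_
        rw [mul_smul, hzx, ← hzi, smul_inv_smul]
      have hz1 : z = 1 := by
        by_contra hne
        have hne' : (z : G) ≠ 1 := fun e => hne (Subtype.ext e)
        have := orderOf_dvd_of_pow_eq_one (show (z : G) ^ 2 = 1 by rw [pow_two, hz2])
        rw [h.orderOf_eq z.2 hne'] at this
        have := Nat.le_of_dvd two_pos this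
        omega
      rw [hz1, OneMemClass.coe_one, one_smul] at hzx
      rw [hz, inv_mul_eq_one] at hz1
      exact Prod.ext hz1 (hx hzx).symm
    have := Nat.card_le_card_of_injective F' hinj
    rw [Nat.card_prod, h.card_sylow, Nat.card_eq_fintype_card, Nat.card_eq_fintype_card,
      Fintype.card_fin, h.card_pts] at this
    omega
  have hinv3 : ∀ s : G, orderOf s = 2 → ∀ x y z : α, x ≠ y → x ≠ z → y ≠ z →
      s • x = x → s • y = y → s • z = z → False := by
    intro s hs x y z hxy hxz hyz hx hy hz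
    obtain ⟨c, hc⟩ := isConj_iff.1 (hconj n hn hnC s hs)
    have hfix : ∀ w : α, s • w = w → n • (c • w) = c • w := fun w hw => by
      rw [← hc, mul_smul, mul_smul, inv_smul_smul, hw]
    refine hn3 ![c • x, c • y, c • z] ?_ ?_
    · intro i j hij
      fin_cases i <;> fin_cases j <;> first | rfl | simp_all
    · intro i
      fin_cases i
      · exact hfix x hx
      · exact hfix y hy
      · exact hfix z hz
  obtain ⟨x₀⟩ : Nonempty α := Fintype.card_pos_iff.1 (by rw [h.card_pts]; omega)
  have hfixed : ∀ s : G, orderOf s = 2 → ∃ x : α, s • x = x := by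
    intro s hs
    obtain ⟨t, ht⟩ := exists_prime_orderOf_dvd_card' (G := stabilizer G x₀) 2 (by
      have h1 := hstab x₀
      have : q = 4 * 2 ^ (a + 1) := by rw [hq]; ring
      rw [this] at h1
      exact ⟨2 ^ (a + 1) * (4 * 2 ^ (a + 1) - 1), by linarith⟩)
    have ht' : orderOf (t : G) = 2 := by rw [Subgroup.orderOf_coe]; exact ht
    obtain ⟨c, hc⟩ := isConj_iff.1 ((hconj n hn hnC (t : G) ht').trans (hconj n hn hnC s hs).symm)
    refine ⟨c • x₀, ?_⟩
    rw [← hc, mul_smul, mul_smul, inv_smul_smul, show (t : G) • x₀ = x₀ from t.2]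
  have hord2 : ∀ s : G, s ∈ (S : Subgroup G) → s ≠ 1 → orderOf s = 2 := fun s hs hs1 =>
    orderOf_eq_prime (by rw [pow_two, hSsq s hs]) hs1
  -- a point moved by `S` to at most two points
  obtain ⟨s, hs, hs1⟩ : ∃ s ∈ (S : Subgroup G), s ≠ 1 := by
    haveI : Nontrivial (S : Subgroup G) :=
      Finite.one_lt_card_iff_nontrivial.1 (by rw [hSc]; omega)
    obtain ⟨s, hs⟩ := exists_ne (1 : (S : Subgroup G))
    exact ⟨s, s.2, fun e => hs (Subtype.ext e)⟩
  obtain ⟨x, hx⟩ := hfixed s (hord2 s hs hs1)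
  obtain ⟨t, ht, htx⟩ : ∃ t ∈ (S : Subgroup G), t • x ≠ x := by
    by_contra hno
    push Not at hno
    have hle : (S : Subgroup G) ≤ stabilizer G x := fun v hv => hno v hv
    obtain ⟨j, hj⟩ := Subgroup.card_dvd_of_le hle
    have h1 := hstab x
    rw [hj, hSc, mul_assoc] at h1
    have h2 := Nat.eq_of_mul_eq_mul_left (show 0 < q by omega) h1
    have : 2 ∣ q := by rw [hq]; exact dvd_pow_self 2 (by omega)
    omega
  set T : Subgroup G := (S : Subgroup G) ⊓ stabilizer G x with hT
  have hmemT : ∀ v ∈ T, v ∈ (S : Subgroup G) ∧ v • x = x ∧ v • (t • x) = t • x := fun v hv => by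
    refine ⟨hv.1, hv.2, ?_⟩
    rw [← mul_smul, hScomm v t hv.1 ht, mul_smul, show v • x = x from hv.2]
  have htwo : ∀ v ∈ (S : Subgroup G), v • x = x ∨ v • x = t • x := by
    intro v hv
    by_contra hno
    push Not at hno
    refine hinv3 s (hord2 s hs hs1) x (t • x) (v • x) htx.symm hno.1.symm (fun e => hno.2 e.symm)
      hx ?_ ?_
    · rw [← mul_smul, hScomm s t hs ht, mul_smul, hx]
    · rw [← mul_smul, hScomm s v hs hv, mul_smul, hx]
  have hTc : q ≤ 2 * Nat.card T := by
    rw [← hSc]
    have hsplit : ∀ v : (S : Subgroup G), (v : G) • x ≠ x → t⁻¹ * (v : G) ∈ T := fun v hv => by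
      refine ⟨Subgroup.mul_mem _ (Subgroup.inv_mem _ ht) v.2, ?_⟩
      show (t⁻¹ * (v : G)) • x = x
      rw [mul_smul, (htwo v v.2).resolve_left hv, inv_smul_smul]
    let Φ : ↥(S : Subgroup G) → T ⊕ T := fun v =>
      if hv : (v : G) • x = x then Sum.inl ⟨v, v.2, hv⟩ else Sum.inr ⟨_, hsplit v hv⟩
    have hΦ : Function.Injective Φ := by
      intro v w hvw
      simp only [Φ] at hvw
      split_ifs at hvw with hv hw hw
      · exact Subtype.ext (congrArg Subtype.val (Sum.inl.inj hvw) :)
      · exact Subtype.ext (mul_left_cancel (congrArg Subtype.val (Sum.inr.inj hvw) :))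
    have := Nat.card_le_card_of_injective Φ hΦ
    rwa [Nat.card_sum, ← two_mul] at this
  have htne : t ≠ 1 := fun e => htx (by rw [e, one_smul])
  obtain ⟨z, hz⟩ := hfixed t (hord2 t ht htne)
  have hzx : z ≠ x := fun e => htx (e ▸ hz)
  have hzt : z ≠ t • x := fun e => by
    have h1 : t • (t • x) = t • x := e ▸ hz
    exact htx (smul_left_cancel t h1)
  have hmove : ∀ v ∈ T, v ≠ 1 → v • z ≠ z := fun v hv hv1 e =>
    hinv3 v (hord2 v (hmemT v hv).1 hv1) x (t • x) z htx.symm hzx.symm hzt.symm (hmemT v hv).2.1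
      (hmemT v hv).2.2 e
  have hinjT : Function.Injective fun v : T => (v : G) • z := by
    intro v w hvw
    by_contra hne
    refine hmove ((w : G)⁻¹ * v) (mul_mem (inv_mem w.2) v.2)
      (fun e => hne (Subtype.ext (inv_mul_eq_one.1 e).symm)) ?_
    change (v : G) • z = (w : G) • z at hvw
    rw [mul_smul, hvw, inv_smul_smul]
  have hfixT : ∀ v : T, t • ((v : G) • z) = (v : G) • z := fun v => by
    rw [← mul_smul, hScomm t v ht (hmemT v v.2).1, mul_smul, hz]
  obtain ⟨ι⟩ : Nonempty (Fin 3 ↪ T) :=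
    Function.Embedding.nonempty_of_card_le (by
      rw [Fintype.card_fin, ← Nat.card_eq_fintype_card]; omega)
  exact hinv3 t (hord2 t ht htne) ((ι 0 : G) • z) ((ι 1 : G) • z) ((ι 2 : G) • z)
    (hinjT.ne (ι.injective.ne (by decide))) (hinjT.ne (ι.injective.ne (by decide)))
    (hinjT.ne (ι.injective.ne (by decide))) (hfixT _) (hfixT _) (hfixT _)

theorem Hyp.iso_five [Fintype G] (hnot2 : ¬ IsMultiplyPretransitive G α 2) :
    p = 5 ∧ Nonempty (G ≃* alternatingGroup (Fin 5)) := by
  obtain ⟨u, hu, hfaith, -⟩ := h.exists_faithful hnot2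
  have h5 := h.five_le
  have hp5 : p = 5 := by
    by_contra hne
    have : p ≠ 6 := fun e => by rw [e] at hp; exact absurd hp.out (by norm_num)
    exact h.false_of_seven (by omega) hnot2
  exact ⟨hp5, h.th.iso_altFive h.center_eq hp5 hu hfaith⟩

end Cfsg.Agent.H84.PTwoPerm
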