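import Cfsg.Agent.H84.PTwoRecognition
import Cfsg.Agent.S0157
import Mathlib.GroupTheory.GroupAction.Primitive
import Mathlib.GroupTheory.Transfer

/-!
# Primitive groups of degree `2 p` with Sylow normalizer of order `2 p`: first facts
-/

set_option linter.unusedSectionVars false
set_option linter.style.haveILetI false

open scoped ComplexConjugate

namespace Cfsg.Agent.H84.PTwoPerm

open MulAction CharBasic BlockBasic CycOne

variable {α : Type*} [Fintype α] [DecidableEq α] {p : ℕ} [hp : Fact p.Prime]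
  {G : Subgroup (Equiv.Perm α)} {P : Sylow p G}

/-- The hypotheses. -/
structure Hyp (p : ℕ) [Fact p.Prime] (G : Subgroup (Equiv.Perm α)) (P : Sylow p G) : Prop where
  three_lt : 3 < p
  card_pts : Fintype.card α = 2 * p
  prim : IsPreprimitive G α
  card_norm : Nat.card (Subgroup.normalizer ((P : Subgroup G) : Set G)) = 2 * p

variable (h : Hyp p G P)

include h

theorem Hyp.five_le : 5 ≤ p := by
  have h3 := h.three_lt
  rcases Nat.lt_or_ge p 5 with h4 | h4
  · exact absurd hp.out (by rw [show p = 4 by omega]; norm_num)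
  · exact h4

theorem Hyp.two_p_dvd_of_transitive (H : Subgroup G) (ht : IsPretransitive H α) :
    2 * p ∣ Nat.card H := by
  haveI := ht
  obtain ⟨x⟩ : Nonempty α := Fintype.card_pos_iff.1 (by rw [h.card_pts]; have := hp.out.pos; omega)
  have h1 := MulAction.index_stabilizer_of_transitive H x
  rw [Nat.card_eq_fintype_card, h.card_pts] at h1
  rw [← h1]
  exact Subgroup.index_dvd_card _

theorem Hyp.dvd_card : 2 * p ∣ Nat.card G := by
  haveI := h.prim
  have := h.two_p_dvd_of_transitive ⊤ ⟨fun a b => by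
    obtain ⟨g, hg⟩ := MulAction.exists_smul_eq G a b
    exact ⟨⟨g, Subgroup.mem_top g⟩, hg⟩⟩
  rwa [Subgroup.card_top] at this

theorem Hyp.card_sylow : Nat.card (P : Subgroup G) = p := by
  have h1 : Nat.card (P : Subgroup G) ∣ 2 * p := by
    rw [← h.card_norm]; exact Subgroup.card_dvd_of_le Subgroup.le_normalizer
  have hdvd : p ∣ Nat.card G := (dvd_mul_left p 2).trans h.dvd_card
  obtain ⟨k, hk⟩ := IsPGroup.iff_card.1 P.isPGroup'
  have hk0 : k ≠ 0 := by
    rintro rfl
    exact P.not_dvd_index (by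
      have := (P : Subgroup G).card_mul_index
      rw [hk, pow_zero, one_mul] at this
      rwa [this])
  have hk1 : k ≤ 1 := by
    by_contra hk1
    rw [hk] at h1
    have h2 : p ^ 2 ∣ 2 * p := (pow_dvd_pow p (by omega)).trans h1
    rw [pow_two] at h2
    have := Nat.le_of_dvd two_pos (Nat.dvd_of_mul_dvd_mul_right hp.out.pos h2)
    have := h.three_lt
    omega
  rw [hk, show k = 1 by omega, pow_one]

/-- A nontrivial normal subgroup is transitive. -/
theorem Hyp.transitive_of_normal (H : Subgroup G) [H.Normal] (hH : H ≠ ⊥) :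
    IsPretransitive H α := by
  haveI := h.prim
  refine IsQuasiPreprimitive.isPretransitive_of_normal fun e => hH ?_
  refine (Subgroup.eq_bot_iff_forall _).2 fun g hg => Subtype.ext (Equiv.ext fun a => ?_)
  have : a ∈ fixedPoints H α := e ▸ Set.mem_univ a
  exact this ⟨g, hg⟩

theorem Hyp.dvd_card_normal (H : Subgroup G) [H.Normal] (hH : H ≠ ⊥) : 2 * p ∣ Nat.card H :=
  h.two_p_dvd_of_transitive H (h.transitive_of_normal H hH)

theorem Hyp.not_normal : ¬ (P : Subgroup G).Normal := by
  intro hN
  have hne : (P : Subgroup G) ≠ ⊥ := fun e => by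
    have := h.card_sylow
    rw [e, Subgroup.card_bot] at this
    exact hp.out.ne_one this.symm
  have := h.dvd_card_normal (P : Subgroup G) hne
  rw [h.card_sylow] at this
  have := Nat.le_of_dvd hp.out.pos this
  have := hp.out.pos
  omega

/-- A nontrivial normal subgroup contains `P`. -/
theorem Hyp.le_normal (H : Subgroup G) [hHn : H.Normal] (hH : H ≠ ⊥) : (P : Subgroup G) ≤ H := by
  haveI : Fintype G := Fintype.ofFinite _
  have hdvd := (dvd_mul_left p 2).trans (h.dvd_card_normal H hH)
  obtain ⟨x, hx⟩ := exists_prime_orderOf_dvd_card' (G := H) p hdvd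
  obtain ⟨Q, hQ⟩ := (IsPGroup.of_card (p := p) (n := 1) (G := Subgroup.zpowers (x : G)) (by
    rw [Nat.card_zpowers, Subgroup.orderOf_coe, hx, pow_one])).exists_le_sylow
  have hQc : Nat.card (Q : Subgroup G) = p := by
    rw [Q.card_eq_multiplicity, ← P.card_eq_multiplicity]; exact h.card_sylow
  have hQH : (Q : Subgroup G) ≤ H := by
    rw [← zpowers_eq Q hQc (hQ (Subgroup.mem_zpowers _)) (fun e => by
      rw [← Subgroup.orderOf_coe, e, orderOf_one] at hx; exact hp.out.ne_one hx.symm)]
    exact Subgroup.zpowers_le.2 x.2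
  obtain ⟨c, hc⟩ := MulAction.exists_smul_eq G Q P
  intro y hy
  rw [← hc] at hy
  have := hQH (Fusion.mem_sylow_smul.1 hy)
  have h2 := hHn.conj_mem _ this c
  simpa [mul_assoc] using h2

theorem Hyp.cen_eq : cen P = (P : Subgroup G) := by
  classical
  haveI : Fintype G := Fintype.ofFinite _
  haveI := H86.Abelian.isMulCommutative_sylow P h.card_sylow
  refine (Subgroup.eq_of_le_of_card_ge (le_cen P h.card_sylow) ?_).symm
  by_contra hlt
  have hd : Nat.card (cen P) ∣ 2 * p := by
    rw [← h.card_norm]; exact Subgroup.card_dvd_of_le (cen_le_nor P)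
  obtain ⟨j, hj⟩ : p ∣ Nat.card (cen P) := by
    have := Subgroup.card_dvd_of_le (le_cen P h.card_sylow)
    rwa [h.card_sylow] at this
  rw [hj, mul_comm 2 p] at hd
  have hj2 := Nat.dvd_of_mul_dvd_mul_left hp.out.pos hd
  rw [h.card_sylow, not_le, hj] at hlt
  have hj' : j = 2 := by
    rcases (Nat.dvd_prime Nat.prime_two).1 hj2 with e | e
    · rw [e, mul_one] at hlt; omega
    · exact e
  have hle : Subgroup.normalizer ((P : Subgroup G) : Set G) ≤
      Subgroup.centralizer ((P : Subgroup G) : Set G) := by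
    refine (Subgroup.eq_of_le_of_card_ge (cen_le_nor P) ?_).ge
    rw [hj, hj']
    exact le_of_eq (h.card_norm.trans (mul_comm 2 p))
  have hcompl := MonoidHom.ker_transferSylow_isComplement' P hle
  set K := MonoidHom.ker (MonoidHom.transferSylow P hle)
  have hK : Nat.card K * p = Nat.card G := by
    rw [← h.card_sylow]; exact hcompl.card_mul
  have hKne : K ≠ ⊥ := fun e => by
    rw [e, Subgroup.card_bot, one_mul] at hK
    have := h.dvd_card
    rw [← hK] at this
    have := Nat.le_of_dvd hp.out.pos this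
    have := hp.out.pos
    omega
  obtain ⟨l, hl⟩ := (dvd_mul_left p 2).trans (h.dvd_card_normal K hKne)
  refine P.not_dvd_index ⟨l, ?_⟩
  have h1 := (P : Subgroup G).card_mul_index
  rw [h.card_sylow, ← hK, hl] at h1
  exact Nat.eq_of_mul_eq_mul_left hp.out.pos (h1.trans (by ring))

theorem Hyp.center_eq : Subgroup.center G = ⊥ := by
  haveI : Fintype G := Fintype.ofFinite _
  by_contra hne
  refine h.not_normal ?_
  have hle : Subgroup.center G ≤ (P : Subgroup G) := fun z hz => by
    rw [← h.cen_eq]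
    exact Subgroup.mem_centralizer_iff.2 fun y _ => Subgroup.mem_center_iff.1 hz y
  rw [← le_antisymm hle (h.le_normal (Subgroup.center G) hne)]
  infer_instance

theorem Hyp.th : PTwo.TH P := by
  classical
  refine ⟨h.card_sylow, h.five_le, fun g hg => ⟨g, h.cen_eq ▸ hg, 1, one_mem _, (mul_one g).symm⟩,
    ?_, fun y _ hy => by rwa [h.center_eq, Subgroup.mem_bot] at hy⟩
  have h1 := (cenN P).card_mul_index
  rw [card_cenN, h.cen_eq, h.card_sylow] at h1
  exact Nat.eq_of_mul_eq_mul_left hp.out.pos (h1.trans (h.card_norm.trans (mul_comm 2 p)))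

theorem Hyp.orderOf_eq {y : G} (hy : y ∈ (P : Subgroup G)) (hy1 : y ≠ 1) : orderOf y = p := by
  haveI : Fintype G := Fintype.ofFinite _
  rw [← Nat.card_zpowers, zpowers_eq P h.card_sylow hy hy1]; exact h.card_sylow

theorem Hyp.fixed_zero_or_p {y : G} (hy : y ∈ (P : Subgroup G)) (hy1 : y ≠ 1) :
    Nat.card (fixedBy α y) = 0 ∨ Nat.card (fixedBy α y) = p := by
  have hord : orderOf (y : Equiv.Perm α) = p := by rw [Subgroup.orderOf_coe, h.orderOf_eq hy hy1]
  obtain ⟨n, hn⟩ := Equiv.Perm.cycleType_prime_order (σ := (y : Equiv.Perm α)) (by rw [hord]; exact hp.out)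
  have hs := Equiv.Perm.sum_cycleType (y : Equiv.Perm α)
  rw [hn, hord, Multiset.sum_replicate, smul_eq_mul] at hs
  have hf : Nat.card (fixedBy α y) = 2 * p - (y : Equiv.Perm α).support.card := by
    rw [← h.card_pts, ← Finset.card_compl, ← Nat.card_eq_finsetCard]
    refine Nat.card_congr (Equiv.subtypeEquivRight fun a => ?_)
    rw [Finset.mem_compl, Equiv.Perm.notMem_support]
    exact Iff.rfl
  have hle : (y : Equiv.Perm α).support.card ≤ 2 * p := h.card_pts ▸ Finset.card_le_univ _
  rw [← hs] at hle hf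
  have hn2 : n + 1 ≤ 2 := Nat.le_of_mul_le_mul_right hle hp.out.pos
  rcases n with _ | n
  · right; rw [hf]; omega
  · left; rw [hf, show n = 0 by omega]; omega

theorem Hyp.fixed_const {y y' : G} (hy : y ∈ (P : Subgroup G)) (hy1 : y ≠ 1)
    (hy' : y' ∈ (P : Subgroup G)) (hy1' : y' ≠ 1) :
    Nat.card (fixedBy α y) = Nat.card (fixedBy α y') := by
  have key : ∀ {u v : G}, u ∈ (P : Subgroup G) → u ≠ 1 → v ∈ (P : Subgroup G) →
      fixedBy α u ⊆ fixedBy α v := by
    intro u v hu hu1 hv a ha
    haveI : Fintype G := Fintype.ofFinite _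
    obtain ⟨k, rfl⟩ := Subgroup.mem_zpowers_iff.1
      (show v ∈ Subgroup.zpowers u by rw [zpowers_eq P h.card_sylow hu hu1]; exact hv)
    exact (Subgroup.zpow_mem (MulAction.stabilizer G a) (show u ∈ stabilizer G a from ha) k)
  rw [Set.Subset.antisymm (key hy hy1 hy') (key hy' hy1' hy)]

theorem Hyp.stabilizer_card (x : α) : Nat.card (stabilizer G x) * (2 * p) = Nat.card G := by
  haveI := h.prim
  have h1 := MulAction.index_stabilizer_of_transitive G x
  rw [Nat.card_eq_fintype_card, h.card_pts] at h1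
  rw [← h1, Subgroup.card_mul_index]

/-- The multiplicity of a nontrivial linear character is zero. -/
theorem Hyp.linear_mult_zero [Fintype G] (L : IrrCharacter G) (hL : L ≠ trivialIrr)
    (hL1 : (L : G → ℂ) 1 = 1) :
    classInner (fun g : G => (Nat.card (fixedBy α g) : ℂ)) (L : G → ℂ) = 0 := by
  classical
  obtain ⟨l, hl⟩ := CharInduce.IsChar.exists_hom_of_degree_one (IsIrr.isCharacter L.2) hL1
  have hnot : ∀ x : α, ¬ stabilizer G x ≤ l.ker := by
    intro x hle
    by_cases hk : l.ker = ⊥
    · rw [hk, le_bot_iff] at hle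
      have h1 := h.stabilizer_card x
      rw [hle, Subgroup.card_bot, one_mul] at h1
      refine h.not_normal ?_
      refine Subgroup.normalizer_eq_top_iff.1 (Subgroup.eq_top_of_card_eq _ ?_)
      rw [h.card_norm, ← h1]
    · haveI := h.transitive_of_normal l.ker hk
      refine hL (Subtype.ext (funext fun g => ?_))
      obtain ⟨k, hkx⟩ := MulAction.exists_smul_eq l.ker x (g • x)
      have hmem : (k : G)⁻¹ * g ∈ stabilizer G x := by
        rw [mem_stabilizer_iff, mul_smul, ← hkx]
        exact inv_smul_smul _ _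
      have := MonoidHom.mem_ker.1 (hle hmem)
      rw [map_mul, map_inv, MonoidHom.mem_ker.1 k.2, inv_one, one_mul] at this
      rw [hl, this, Units.val_one]
      rfl
  have hzero : ∀ x : α, ∑ g ∈ Finset.univ.filter (fun g : G => g • x = x), conj ((L : G → ℂ) g) = 0 := by
    intro x
    obtain ⟨g₀, hg₀, hne⟩ := SetLike.not_le_iff_exists.1 (hnot x)
    have hs : conj ((L : G → ℂ) g₀) *
        ∑ g ∈ Finset.univ.filter (fun g : G => g • x = x), conj ((L : G → ℂ) g) =
        ∑ g ∈ Finset.univ.filter (fun g : G => g • x = x), conj ((L : G → ℂ) g) := by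
      rw [Finset.mul_sum]
      refine Finset.sum_equiv (Equiv.mulLeft g₀) (fun g => ?_) (fun g _ => ?_)
      · simp only [Finset.mem_filter, Finset.mem_univ, true_and, Equiv.coe_mulLeft, mul_smul]
        have hg₀' : g₀ • x = x := hg₀
        constructor
        · intro e; rw [e, hg₀']
        · intro e; rwa [smul_eq_iff_eq_inv_smul, ← (eq_inv_smul_iff.2 hg₀')] at e
      · simp only [Equiv.coe_mulLeft, hl, map_mul, Units.val_mul]
    have hne1 : conj ((L : G → ℂ) g₀) - 1 ≠ 0 := by
      intro e
      rw [sub_eq_zero] at e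
      have := congrArg (starRingEnd ℂ) e
      rw [Complex.conj_conj, map_one, hl] at this
      exact hne (MonoidHom.mem_ker.2 (Units.ext this))
    refine (mul_eq_zero.1 ?_).resolve_left hne1
    rw [sub_mul, one_mul, hs, sub_self]
  rw [classInner_def]
  refine mul_eq_zero_of_right _ ?_
  calc ∑ g : G, (Nat.card (fixedBy α g) : ℂ) * conj ((L : G → ℂ) g)
      = ∑ g : G, ∑ x : α, if g • x = x then conj ((L : G → ℂ) g) else 0 := by
        refine Finset.sum_congr rfl fun g _ => ?_
        rw [← Finset.sum_filter, Finset.sum_const, nsmul_eq_mul, Nat.card_eq_fintype_card]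
        congr 2
        rw [Fintype.card_subtype]
        rfl
    _ = ∑ x : α, ∑ g : G, if g • x = x then conj ((L : G → ℂ) g) else 0 := Finset.sum_comm
    _ = 0 := Finset.sum_eq_zero fun x _ => by rw [← Finset.sum_filter, hzero x]

end Cfsg.Agent.H84.PTwoPerm
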