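import Cfsg.Agent.H84.PTwoCore
import Cfsg.Agent.H66.OrderSixty
import Cfsg.Agent.Linear.Order
import Cfsg.Agent.S0996

/-!
# Recognition of the group with a faithful character of degree `p - 2` and trivial centre
-/

set_option linter.unusedSectionVars false
set_option linter.style.haveILetI false

namespace Cfsg.Agent.H84.PTwo

open CharBasic BlockBasic CycOne

universe u

variable {G : Type u} [Group G] [Fintype G] {p : ℕ} [hp : Fact p.Prime] {P : Sylow p G}

theorem TH.iso_altFive (h : TH P) (hZ : Subgroup.center G = ⊥) (h5 : p = 5) {u₀ : IrrCharacter G}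
    (hu₀ : charDegree (u₀ : G → ℂ) = p - 2)
    (hfaith : ∀ g : G, (u₀ : G → ℂ) g = (u₀ : G → ℂ) 1 → g = 1) :
    Nonempty (G ≃* alternatingGroup (Fin 5)) := by
  obtain ⟨-, hn, hcard, -⟩ := h.core hZ hu₀ hfaith
  subst h5
  exact H66.iso_altFive (by rw [hcard]) (by omega)

theorem TH.iso_special (h : TH P) (hZ : Subgroup.center G = ⊥) (h5 : 5 < p) {u₀ : IrrCharacter G}
    (hu₀ : charDegree (u₀ : G → ℂ) = p - 2)
    (hfaith : ∀ g : G, (u₀ : G → ℂ) g = (u₀ : G → ℂ) 1 → g = 1) :
    ∃ (a : ℕ) (F : Type) (_ : Field F) (_ : Fintype F), p = 2 ^ a + 1 ∧ Fintype.card F = 2 ^ a ∧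
      Nonempty (G ≃* Matrix.SpecialLinearGroup (Fin 2) F) := by
  obtain ⟨hperf, hn, hcard, -⟩ := h.core hZ hu₀ hfaith
  haveI : Nontrivial (P : Subgroup G) :=
    Finite.one_lt_card_iff_nontrivial.1 (h.card_P.symm ▸ hp.out.one_lt)
  obtain ⟨y, hy⟩ := exists_ne (1 : (P : Subgroup G))
  have hy1 : (y : G) ≠ 1 := fun e => hy (Subtype.ext e)
  have hz := zpowers_eq P h.card_P y.2 hy1
  have hlt : (p - 1) * (p - 2) < (p + 1) * (p + 2) := by
    have := Nat.mul_le_mul (Nat.sub_le p 1) (Nat.sub_le p 2)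
    nlinarith
  rcases Cfsg.Agent.S0996.result hperf p (y : G)
    (by rw [← Nat.card_zpowers, hz]; exact h.card_P)
    ((h.centralizer_singleton hZ y.2 hy1).trans hz.symm) (by rw [hn]; exact hlt) with
    ⟨F, _, _, hF, -, ⟨e⟩⟩ | ⟨m, F, _, _, hF, hpm, -, ⟨e⟩⟩
  · exfalso
    have h1 := Linear.card_PSL_two_mul (F := F)
    rw [← Nat.card_congr e.toEquiv, hcard, hF] at h1
    have hodd : Nat.gcd 2 (p - 1) = 2 := by
      refine Nat.gcd_eq_left ?_
      have := hp.out.odd_of_ne_two (by omega)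
      obtain ⟨r, hr⟩ := this
      omega
    rw [hodd] at h1
    obtain ⟨r, rfl⟩ : ∃ r, p = r + 7 := by
      have : p ≠ 6 := fun e => by rw [e] at hp; exact absurd hp.out (by norm_num)
      exact ⟨p - 7, by omega⟩
    rw [show r + 7 - 1 = r + 6 from rfl, show r + 7 - 2 = r + 5 from rfl,
      show (r + 7) ^ 2 - 1 = (r + 6) * (r + 8) by
        rw [show (r + 7) ^ 2 = (r + 6) * (r + 8) + 1 by ring, Nat.add_sub_cancel]] at h1
    have h2 : 2 * (r + 5) = r + 8 := by
      refine Nat.eq_of_mul_eq_mul_left (show 0 < (r + 7) * (r + 6) by positivity) ?_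
      linarith
    omega
  · refine ⟨m, F, inferInstance, inferInstance, hpm, hF, ?_⟩
    have hc : Subgroup.center (Matrix.SpecialLinearGroup (Fin 2) F) = ⊥ := by
      refine Subgroup.eq_bot_of_card_eq _ ?_
      rw [Linear.card_center_SL, Fintype.card_fin, hF]
      refine (Nat.prime_two.coprime_iff_not_dvd.2 ?_)
      rcases m with _ | m
      · omega
      · rw [pow_succ]
        have : 0 < 2 ^ m := by positivity
        omega
    exact ⟨e.trans ((QuotientGroup.quotientMulEquivOfEq hc).trans QuotientGroup.quotientBot)⟩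

end Cfsg.Agent.H84.PTwo
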