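import Cfsg.Agent.H84.PTwoRecognition
import Cfsg.Agent.H84.ClassProd

/-!
# A faithful character of degree `p - 2` with centre

The class of an element of `N(P) ∖ C(P)` compares the block of the character with the principal
block and produces a linear character with the same central character.
-/

set_option linter.unusedSectionVars false
set_option linter.style.haveILetI false
set_option maxHeartbeats 1000000

open scoped ComplexConjugate

namespace Cfsg.Agent.H84.PTwo

open CharBasic BlockBasic CycOne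

universe u

variable {G : Type u} [Group G] [Fintype G] {p : ℕ} [hp : Fact p.Prime] {P : Sylow p G}

theorem norm_centralChar (χ : IrrCharacter G) {z : G} (hz : z ∈ Subgroup.center G) :
    ‖centralChar (χ : G → ℂ) z‖ = 1 := by
  refine Complex.norm_eq_one_of_pow_eq_one ?_ (orderOf_pos z).ne'
  rw [← H54.CB.centralChar_pow χ hz, pow_orderOf_eq_one, H54.CB.centralChar_one]

theorem centralChar_mul_conj (χ : IrrCharacter G) {z : G} (hz : z ∈ Subgroup.center G) :
    centralChar (χ : G → ℂ) z * conj (centralChar (χ : G → ℂ) z) = 1 := by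
  rw [Complex.mul_conj', norm_centralChar χ hz]; norm_num

theorem eq_one_of_centralChar {χ : IrrCharacter G}
    (hfaith : ∀ g : G, (χ : G → ℂ) g = (χ : G → ℂ) 1 → g = 1) {z : G}
    (hz : z ∈ Subgroup.center G) (h1 : centralChar (χ : G → ℂ) z = 1) : z = 1 := by
  refine hfaith z ?_
  rw [H54.CB.centralChar_of_mem_center _ hz, div_eq_one_iff_eq (H54.CB.apply_one_ne_zero χ)] at h1
  exact h1

variable (h : TH P) {n : G} (hn : n ∈ nor P) (hnC : n ∉ cen P)

include h hn hnC

theorem TH.sq_mem_center : n * n ∈ Subgroup.center G := by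
  obtain ⟨y, hy, z, hz, e⟩ := h.cen_eq (n * n)
    (Subgroup.mul_self_mem_of_index_two h.index_two (⟨n, hn⟩ : nor P))
  have h1 : n * (y * z) * n⁻¹ = y * z := by rw [← e]; group
  have h2 : n * (y * z) * n⁻¹ = y⁻¹ * z := by
    calc n * (y * z) * n⁻¹ = n * y * (z * n⁻¹) := by group
      _ = n * y * (n⁻¹ * z) := by rw [Subgroup.mem_center_iff.1 hz n⁻¹]
      _ = (n * y * n⁻¹) * z := by group
      _ = _ := by rw [h.eq_inv_of_not_mem hn hnC hy]
  have h3 : y * y = 1 := by
    have := h1.symm.trans h2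
    exact mul_eq_one_iff_eq_inv.2 (mul_right_cancel this)
  have hy1 : y = 1 := by
    by_contra hy1
    have hord : orderOf y = p := by rw [← Nat.card_zpowers, zpowers_eq P h.card_P hy hy1]; exact h.card_P
    have := orderOf_dvd_of_pow_eq_one (show y ^ 2 = 1 by rw [pow_two, h3])
    rw [hord] at this
    have := Nat.le_of_dvd two_pos this
    have := h.five_le
    omega
  rw [e, hy1, one_mul]; exact hz

theorem TH.regular_of_not_mem : ¬ p ∣ orderOf n := by
  intro hd
  have h2 : orderOf n ∣ 2 * orderOf (n * n) := by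
    refine orderOf_dvd_of_pow_eq_one ?_
    rw [pow_mul, pow_two, pow_orderOf_eq_one]
  have := h.five_le
  refine h.center_regular (h.sq_mem_center hn hnC) ?_
  exact ((Nat.coprime_primes hp.out Nat.prime_two).2 (by omega)).dvd_of_dvd_mul_left (hd.trans h2)

theorem TH.isConj_shift {c z : G} (hc : c ∈ (P : Subgroup G)) (hz : z ∈ Subgroup.center G) :
    IsConj (n * c * z) (n * z) := by
  have h5 := h.five_le
  obtain ⟨v, hv⟩ := ((Nat.Coprime.pow_left_bijective (n := 2) (G := (P : Subgroup G))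
    (by rw [show Nat.card (P : Subgroup G) = p from h.card_P, Nat.coprime_primes hp.out Nat.prime_two]
        omega)).surjective ⟨c, hc⟩)
  have hv' : c = (v : G) * v := by
    rw [show c = ((⟨c, hc⟩ : (P : Subgroup G)) : G) from rfl, ← hv]; simp [pow_two]
  refine isConj_iff.2 ⟨v, ?_⟩
  have h1 := h.eq_inv_of_not_mem hn hnC v.2
  rw [mul_inv_eq_iff_eq_mul] at h1
  calc (v : G) * (n * c * z) * (v : G)⁻¹ = (v : G) * (n * c) * (z * (v : G)⁻¹) := by group
    _ = (v : G) * (n * c) * ((v : G)⁻¹ * z) := by rw [Subgroup.mem_center_iff.1 hz (v : G)⁻¹]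
    _ = (v : G) * (n * (v : G)) * z := by rw [hv']; group
    _ = (v : G) * ((v : G)⁻¹ * n) * z := by rw [h1]
    _ = n * z := by group

variable {ζ : IrrCharacter G} (hfaith : ∀ g : G, (ζ : G → ℂ) g = (ζ : G → ℂ) 1 → g = 1)
  (hnorm : ‖(ζ : G → ℂ) n‖ = 1)

include hfaith hnorm

theorem TH.eq_one_of_isConj {z : G} (hz : z ∈ Subgroup.center G) (hc : IsConj n (n * z)) :
    z = 1 := by
  refine eq_one_of_centralChar hfaith hz ?_
  obtain ⟨c, hc⟩ := isConj_iff.1 hc
  have h1 := H54.CB.apply_mul_center ζ hz n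
  rw [← hc, IsIrr.isClassFunction ζ.2 n c] at h1
  have h0 : (ζ : G → ℂ) n ≠ 0 := fun e => by rw [e, norm_zero] at hnorm; exact zero_ne_one hnorm
  exact (mul_eq_right₀ h0).1 h1.symm

theorem TH.no_product {y z : G} (hy : y ∈ (P : Subgroup G)) (hy1 : y ≠ 1)
    (hz : z ∈ Subgroup.center G) (hz1 : z ≠ 1) :
    (classSum n * classSum n⁻¹).coeff (y * z) = 0 := by
  by_contra hne
  obtain ⟨g, hg, hg'⟩ := exists_of_coeff_ne_zero hne
  have hord : orderOf y = p := by rw [← Nat.card_zpowers, zpowers_eq P h.card_P hy hy1]; exact h.card_P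
  have hw := h.sq_mem_center hn hnC
  set w := n * n with hw'
  have hcent : ∀ x, z * x = x * z := fun x => (Subgroup.mem_center_iff.1 hz x).symm
  have hgg : g * g = w := by
    obtain ⟨c, rfl⟩ := isConj_iff.1 hg
    calc c * n * c⁻¹ * (c * n * c⁻¹) = c * w * c⁻¹ := by rw [hw']; group
      _ = w := by rw [Subgroup.mem_center_iff.1 hw c, mul_inv_cancel_right]
  have hgh : g⁻¹ * (y * z) * (g⁻¹ * (y * z)) = w⁻¹ := by
    obtain ⟨c, e⟩ := isConj_iff.1 hg'
    rw [← e]
    calc c * n⁻¹ * c⁻¹ * (c * n⁻¹ * c⁻¹) = c * w⁻¹ * c⁻¹ := by rw [hw']; group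
      _ = w⁻¹ := by rw [Subgroup.mem_center_iff.1 (inv_mem hw) c, mul_inv_cancel_right]
  have hwc : ∀ x, x * w⁻¹ = w⁻¹ * x := Subgroup.mem_center_iff.1 (inv_mem hw)
  have h1 : g * y * g⁻¹ * y * (z * z) = 1 := by
    have hgi : g⁻¹ = w⁻¹ * g := by rw [← hgg]; group
    have : w⁻¹ * (g * y * g⁻¹ * y * (z * z)) = w⁻¹ * 1 := by
      rw [mul_one]
      calc w⁻¹ * (g * y * g⁻¹ * y * (z * z)) = (w⁻¹ * g) * y * g⁻¹ * (y * z) * z := by group
        _ = g⁻¹ * y * (g⁻¹ * (y * z)) * z := by rw [← hgi]; group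
        _ = g⁻¹ * y * (z * (g⁻¹ * (y * z))) := by rw [hcent (g⁻¹ * (y * z))]; group
        _ = g⁻¹ * (y * z) * (g⁻¹ * (y * z)) := by group
        _ = _ := hgh
    exact mul_left_cancel this
  have h2 : g * y * g⁻¹ = y⁻¹ * (z * z)⁻¹ := by
    rw [mul_assoc (g * y * g⁻¹)] at h1
    rw [eq_inv_of_mul_eq_one_left h1, mul_inv_rev]
    exact (Subgroup.mem_center_iff.1 (inv_mem (mul_mem hz hz)) y⁻¹).symm
  have hzz : z * z = 1 := by
    have h3 : (z * z) ^ p = 1 := by
      have e := congrArg (fun x => x ^ p) h2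
      simp only [conj_pow] at e
      rw [show y ^ p = 1 by rw [← hord, pow_orderOf_eq_one], mul_one, mul_inv_cancel,
        (show Commute y⁻¹ (z * z)⁻¹ from Subgroup.mem_center_iff.1 (inv_mem (mul_mem hz hz)) y⁻¹).mul_pow,
        inv_pow y, show y ^ p = 1 by rw [← hord, pow_orderOf_eq_one], inv_one, one_mul, inv_pow] at e
      exact inv_eq_one.1 e.symm
    rcases (Nat.dvd_prime hp.out).1 (orderOf_dvd_of_pow_eq_one h3) with e | e
    · exact orderOf_eq_one_iff.1 e
    · exact absurd (by rw [e]) (h.center_regular (mul_mem hz hz))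
  rw [hzz, inv_one, mul_one] at h2
  have hgN : g ∈ nor P := by
    refine Subgroup.mem_normalizer_iff.2 fun x => ?_
    have hmap : (P : Subgroup G).map (MulAut.conj g).toMonoidHom = (P : Subgroup G) := by
      have hzp := zpowers_eq P h.card_P hy hy1
      conv_lhs => rw [← hzp]
      rw [MonoidHom.map_zpowers, MulEquiv.coe_toMonoidHom, MulAut.conj_apply, h2,
        Subgroup.zpowers_inv, hzp]
    conv_rhs => rw [← hmap]
    exact ⟨fun hx => ⟨x, hx, rfl⟩, fun ⟨x', hx', e⟩ => by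
      rwa [← (MulAut.conj g).injective e]⟩
  have hgC : g ∉ cen P := by
    intro hgC
    have e := Subgroup.mem_centralizer_iff.1 hgC y hy
    rw [← e, mul_inv_cancel_right] at h2
    have h3 := orderOf_dvd_of_pow_eq_one (show y ^ 2 = 1 by
      rw [pow_two]; exact mul_eq_one_iff_eq_inv.2 h2)
    rw [hord] at h3
    have := Nat.le_of_dvd two_pos h3
    have := h.five_le
    omega
  obtain ⟨c, hc, z', hz', hcz⟩ := h.cen_eq (n⁻¹ * g) (by
    have := (Subgroup.mul_mem_iff_of_index_two h.index_two (a := (⟨n, hn⟩ : nor P)⁻¹)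
      (b := ⟨g, hgN⟩)).2 ⟨fun hh => absurd ((Subgroup.inv_mem_iff _).1 hh) hnC,
        fun hh => absurd hh hgC⟩
    exact this)
  have hge : g = n * c * z' := by
    rw [show g = n * (n⁻¹ * g) by group, hcz]; group
  have hz'1 := h.eq_one_of_isConj hn hnC hfaith hnorm hz'
    (hg.trans (hge ▸ h.isConj_shift hn hnC hc hz'))
  rw [hz'1, mul_one] at hge
  have hzi : z⁻¹ = 1 := by
    refine h.eq_one_of_isConj hn hnC hfaith hnorm (inv_mem hz) ?_
    have hh : IsConj n (g⁻¹ * (y * z))⁻¹ := by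
      obtain ⟨d, e⟩ := isConj_iff.1 hg'
      exact isConj_iff.2 ⟨d, by rw [← e]; group⟩
    refine hh.trans ?_
    have e : (g⁻¹ * (y * z))⁻¹ = n * (y * c) * z⁻¹ := by
      have hinv : y⁻¹ * n = n * y := by
        rw [← h.eq_inv_of_not_mem hn hnC hy]; group
      calc (g⁻¹ * (y * z))⁻¹ = z⁻¹ * (y⁻¹ * n * c) := by rw [hge]; group
        _ = (y⁻¹ * n * c) * z⁻¹ := (Subgroup.mem_center_iff.1 (inv_mem hz) _).symm
        _ = _ := by rw [hinv]; group
    rw [e]
    exact h.isConj_shift hn hnC (mul_mem hy hc) (inv_mem hz)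
  exact hz1 (inv_eq_one.1 hzi)

/-- The term of a character in the class multiplication coefficient. -/
noncomputable def term (n y : G) (χ : IrrCharacter G) : ℂ :=
  (χ : G → ℂ) n * (χ : G → ℂ) n⁻¹ * conj ((χ : G → ℂ) y) / (χ : G → ℂ) 1

open scoped Classical in
theorem TH.balanced {y : G} (hy : y ∈ (P : Subgroup G)) (hy1 : y ≠ 1) (χ₀ χ₁ : IrrCharacter G) :
    ∑ χ ∈ Finset.univ.filter (fun χ => Same χ χ₀), term n y χ =
      ∑ χ ∈ Finset.univ.filter (fun χ => Same χ χ₁), term n y χ := by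
  have hG0 : (Nat.card G : ℂ) ≠ 0 := Nat.cast_ne_zero.2 Nat.card_pos.ne'
  have hvan : ∀ z : Subgroup.center G, z ≠ 1 →
      ∑ χ : IrrCharacter G, conj (centralChar (χ : G → ℂ) z) * term n y χ = 0 := by
    intro z hz
    have h0 := h.no_product hn hnC hfaith hnorm hy hy1 z.2 fun e => hz (Subtype.ext e)
    rw [coeff_classSum_mul_eq, mul_eq_zero] at h0
    have h1 := h0.resolve_left (inv_ne_zero hG0)
    set i := ((Subgroup.centralizer ({n} : Set G)).index : ℂ) with hi
    set j := ((Subgroup.centralizer ({n⁻¹} : Set G)).index : ℂ) with hj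
    have hij : i * j ≠ 0 := mul_ne_zero (Nat.cast_ne_zero.2 Subgroup.FiniteIndex.index_ne_zero)
      (Nat.cast_ne_zero.2 Subgroup.FiniteIndex.index_ne_zero)
    rw [Finset.sum_congr rfl (g := fun χ : IrrCharacter G =>
      i * j * (conj (centralChar (χ : G → ℂ) z) * term n y χ)) fun χ _ => by
        have hc : ∀ g : G, centralChar (χ : G → ℂ) g =
            ((Subgroup.centralizer ({g} : Set G)).index : ℂ) * (χ : G → ℂ) g / (χ : G → ℂ) 1 :=
          fun g => rfl
        rw [H54.CB.apply_mul_center χ z.2, map_mul, hc n, hc n⁻¹, ← hi, ← hj, term]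
        have := H54.CB.apply_one_ne_zero χ
        field_simp, ← Finset.mul_sum] at h1
    exact (mul_eq_zero.1 h1).resolve_left hij
  have key : ∀ χ₂ : IrrCharacter G, (Nat.card (Subgroup.center G) : ℂ) *
      ∑ χ ∈ Finset.univ.filter (fun χ => Same χ χ₂), term n y χ =
        ∑ χ : IrrCharacter G, term n y χ := by
    intro χ₂
    calc (Nat.card (Subgroup.center G) : ℂ) * ∑ χ ∈ Finset.univ.filter (fun χ => Same χ χ₂), term n y χ
        = ∑ χ : IrrCharacter G, (∑ z : Subgroup.center G,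
            centralChar (χ₂ : G → ℂ) z * conj (centralChar (χ : G → ℂ) z)) * term n y χ := by
          rw [Finset.mul_sum, Finset.sum_filter]
          refine Finset.sum_congr rfl fun χ _ => ?_
          split_ifs with hs
          · rw [Finset.sum_congr rfl fun z (_ : z ∈ Finset.univ) => show _ = (1 : ℂ) by
              rw [← hs z z.2]; exact centralChar_mul_conj χ z.2,
              Finset.sum_const, Finset.card_univ, ← Nat.card_eq_fintype_card, nsmul_one]
          · simp only [Same, not_forall] at hs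
            obtain ⟨z₀, hz₀, hne⟩ := hs
            set f : Subgroup.center G → ℂ :=
              fun z => centralChar (χ₂ : G → ℂ) z * conj (centralChar (χ : G → ℂ) z)
            have hf0 : f ⟨z₀, hz₀⟩ ≠ 1 := fun e => hne (by
              calc centralChar (χ : G → ℂ) z₀
                  = (centralChar (χ₂ : G → ℂ) z₀ * conj (centralChar (χ : G → ℂ) z₀)) *
                    centralChar (χ : G → ℂ) z₀ := by rw [show _ * _ = (1 : ℂ) from e, one_mul]
                _ = centralChar (χ₂ : G → ℂ) z₀ *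
                    (centralChar (χ : G → ℂ) z₀ * conj (centralChar (χ : G → ℂ) z₀)) := by ring
                _ = _ := by rw [centralChar_mul_conj χ hz₀, mul_one])
            have hs' : f ⟨z₀, hz₀⟩ * ∑ z, f z = ∑ z, f z := by
              rw [Finset.mul_sum]
              refine Fintype.sum_equiv (Equiv.mulLeft ⟨z₀, hz₀⟩) _ _ fun z => ?_
              simp only [f, Equiv.coe_mulLeft, Subgroup.coe_mul]
              rw [H54.CB.centralChar_center_mul χ₂ hz₀ z.2, H54.CB.centralChar_center_mul χ hz₀ z.2,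
                map_mul]
              ring
            have : (f ⟨z₀, hz₀⟩ - 1) * ∑ z, f z = 0 := by rw [sub_mul, one_mul, hs', sub_self]
            rw [show (∑ z, f z) = 0 from (mul_eq_zero.1 this).resolve_left (sub_ne_zero.2 hf0),
              zero_mul]
      _ = ∑ z : Subgroup.center G, centralChar (χ₂ : G → ℂ) z *
            ∑ χ : IrrCharacter G, conj (centralChar (χ : G → ℂ) z) * term n y χ := by
          simp only [Finset.sum_mul, Finset.mul_sum, mul_assoc]
          exact Finset.sum_comm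
      _ = _ := by
          rw [Finset.sum_eq_single (1 : Subgroup.center G) (fun z _ hz => by rw [hvan z hz, mul_zero])
            (fun h => absurd (Finset.mem_univ _) h)]
          simp [H54.CB.centralChar_one]
  exact mul_left_cancel₀ (Nat.cast_ne_zero.2 Nat.card_pos.ne') ((key χ₀).trans (key χ₁).symm)

omit h hn hnC hfaith hnorm

theorem bound_lhs {X X' q D : ℝ} {k : ℕ} (hk : 1 ≤ k) (hp7 : (7 : ℝ) ≤ p) (hq : q = (p : ℝ) - 2)
    (hD : D = (p : ℝ) * k + 1) (hX : 0 ≤ X) (hXk : X ≤ k + 1) (hX' : 0 ≤ X') (hXX : X - 1 ≤ X') :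
    X ^ 2 / D - X' ^ 2 / (D + q) + 1 / q < ((p : ℝ) - 1) ^ 2 / (p : ℝ) ^ 2 := by
  subst hq
  have hk' : (1 : ℝ) ≤ k := by exact_mod_cast hk
  have hq0 : (0 : ℝ) < (p : ℝ) - 2 := by linarith
  have hD1 : (p : ℝ) + 1 ≤ D := by
    rw [hD]; nlinarith
  have hD0 : 0 < D := by linarith
  have hDq : 0 < D + ((p : ℝ) - 2) := by linarith
  rcases le_or_gt 1 X with h1 | h1
  · have h2 : X ^ 2 / D - X' ^ 2 / (D + ((p : ℝ) - 2)) + 1 / ((p : ℝ) - 2) ≤
        (((p : ℝ) - 2) * X + D) ^ 2 / (D * (D + ((p : ℝ) - 2)) * ((p : ℝ) - 2)) := by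
      have e : (((p : ℝ) - 2) * X + D) ^ 2 / (D * (D + ((p : ℝ) - 2)) * ((p : ℝ) - 2)) =
          X ^ 2 / D - (X - 1) ^ 2 / (D + ((p : ℝ) - 2)) + 1 / ((p : ℝ) - 2) := by
        field_simp
        ring
      rw [e]
      have : (X - 1) ^ 2 ≤ X' ^ 2 := pow_le_pow_left₀ (by linarith) hXX 2
      have := div_le_div_of_nonneg_right this hDq.le
      linarith
    refine h2.trans_lt ?_
    rw [div_lt_div_iff₀ (by positivity) (by positivity)]
    have h3 : ((p : ℝ) - 2) * X + D ≤ ((p : ℝ) - 1) * (2 * k + 1) := by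
      have := mul_le_mul_of_nonneg_left hXk hq0.le
      rw [hD]; linarith
    have h4 : (((p : ℝ) - 2) * X + D) ^ 2 ≤ (((p : ℝ) - 1) * (2 * k + 1)) ^ 2 :=
      pow_le_pow_left₀ (by nlinarith) h3 2
    have h5 : (2 * (k : ℝ) + 1) ^ 2 * (p : ℝ) ^ 2 < D * (D + ((p : ℝ) - 2)) * ((p : ℝ) - 2) := by
      have e : D * (D + ((p : ℝ) - 2)) = (p : ℝ) ^ 2 * ((k : ℝ) * (k + 1)) + ((p : ℝ) - 1) := by
        rw [hD]; ring
      rw [e]
      have hkk : (2 : ℝ) ≤ (k : ℝ) * (k + 1) := by nlinarith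
      have h6 : (2 * (k : ℝ) + 1) ^ 2 ≤ ((p : ℝ) - 2) * ((k : ℝ) * (k + 1)) := by
        have := mul_le_mul_of_nonneg_right (show (5 : ℝ) ≤ (p : ℝ) - 2 by linarith)
          (show (0 : ℝ) ≤ (k : ℝ) * (k + 1) by linarith)
        nlinarith
      have h7 := mul_le_mul_of_nonneg_right h6 (sq_nonneg (p : ℝ))
      have h8 : 0 < ((p : ℝ) - 1) * ((p : ℝ) - 2) := mul_pos (by linarith) hq0
      linarith
    calc (((p : ℝ) - 2) * X + D) ^ 2 * (p : ℝ) ^ 2
        ≤ (((p : ℝ) - 1) * (2 * k + 1)) ^ 2 * (p : ℝ) ^ 2 := mul_le_mul_of_nonneg_right h4 (sq_nonneg _)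
      _ = ((p : ℝ) - 1) ^ 2 * ((2 * (k : ℝ) + 1) ^ 2 * (p : ℝ) ^ 2) := by ring
      _ < _ := mul_lt_mul_of_pos_left h5 (by nlinarith)
  · have h2 : X ^ 2 / D - X' ^ 2 / (D + ((p : ℝ) - 2)) + 1 / ((p : ℝ) - 2) ≤ 2 / ((p : ℝ) - 2) := by
      have e1 : X ^ 2 / D ≤ 1 / ((p : ℝ) - 2) := by
        refine (div_le_div_of_nonneg_right (show X ^ 2 ≤ 1 by nlinarith) hD0.le).trans ?_
        exact one_div_le_one_div_of_le hq0 (by linarith)
      have e2 : 0 ≤ X' ^ 2 / (D + ((p : ℝ) - 2)) := by positivity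
      have e3 : 2 / ((p : ℝ) - 2) = 1 / ((p : ℝ) - 2) + 1 / ((p : ℝ) - 2) := by ring
      linarith
    refine h2.trans_lt ?_
    rw [div_lt_div_iff₀ hq0 (by positivity)]
    nlinarith [mul_le_mul_of_nonneg_right hp7 (sq_nonneg (p : ℝ))]

theorem bound_rhs_pos {x d : ℝ} {k : ℕ} (hp2 : (2 : ℝ) ≤ p) (hd : d = (p : ℝ) * k + 1)
    (hx : x ≤ (k : ℝ) - 1) :
    ((p : ℝ) - 1) ^ 2 / (p : ℝ) ^ 2 ≤ (d - x) ^ 2 / (d * (d + 1)) := by
  have hd0 : 0 < d := by rw [hd]; positivity
  rw [div_le_div_iff₀ (by positivity) (by positivity)]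
  have h1 : ((p : ℝ) - 1) * (d + 1) ≤ (p : ℝ) * (d - x) := by
    have := mul_le_mul_of_nonneg_left hx (show (0 : ℝ) ≤ p by linarith)
    rw [hd]; linarith
  have h2 : (((p : ℝ) - 1) * (d + 1)) ^ 2 ≤ ((p : ℝ) * (d - x)) ^ 2 :=
    pow_le_pow_left₀ (mul_nonneg (by linarith) (by linarith)) h1 2
  have h3 := mul_le_mul_of_nonneg_left (show d * (d + 1) ≤ (d + 1) * (d + 1) by nlinarith)
    (sq_nonneg ((p : ℝ) - 1))
  linarith

theorem bound_rhs_neg {x d : ℝ} {k : ℕ} (hp2 : (2 : ℝ) ≤ p) (hd : d = (p : ℝ) * k - 1)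
    (hd1 : 1 < d) (hx : x ≤ (k : ℝ) - 1) :
    ((p : ℝ) - 1) ^ 2 / (p : ℝ) ^ 2 ≤ (d - x) ^ 2 / (d * (d - 1)) := by
  rw [div_le_div_iff₀ (by positivity) (mul_pos (by linarith) (by linarith))]
  have h1 : ((p : ℝ) - 1) * d ≤ (p : ℝ) * (d - x) := by
    have := mul_le_mul_of_nonneg_left hx (show (0 : ℝ) ≤ p by linarith)
    rw [hd]; linarith
  have h2 : (((p : ℝ) - 1) * d) ^ 2 ≤ ((p : ℝ) * (d - x)) ^ 2 :=
    pow_le_pow_left₀ (mul_nonneg (by linarith) (by linarith)) h1 2
  have h3 := mul_le_mul_of_nonneg_left (show d * (d - 1) ≤ d * d by nlinarith)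
    (sq_nonneg ((p : ℝ) - 1))
  linarith

end Cfsg.Agent.H84.PTwo
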