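import Cfsg.Agent.S0730
import Cfsg.Agent.S0731
import Cfsg.Agent.Linear.Order
import Cfsg.Agent.H27.PermFamily

/-!
# Transitive groups of degree `p + 1` and small order, with `p + 1` not a prime power
-/

set_option linter.style.haveILetI false
set_option linter.unusedSectionVars false

namespace Cfsg.Agent.H84.SmallDegree

open MulAction

variable {α : Type*} [Fintype α] [DecidableEq α] {p d : ℕ}

/-- The hypotheses on the permutation group. -/
structure Hyp (p d : ℕ) (G : Subgroup (Equiv.Perm α)) : Prop where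
  prime : p.Prime
  card_pts : Fintype.card α = p + 1
  trans : IsPretransitive G α
  order : Nat.card G = (p + 1) * p * d
  small : d < p

variable {G : Subgroup (Equiv.Perm α)} (h : Hyp p d G)

include h

theorem Hyp.pos : 0 < d := by
  have := Nat.card_pos (α := G)
  rw [h.order] at this
  exact Nat.pos_of_mul_pos_left this

theorem Hyp.card_stabilizer (x : α) : Nat.card (stabilizer G x) = p * d := by
  haveI := h.trans
  have h1 := (stabilizer G x).card_mul_index
  rw [index_stabilizer_of_transitive, Nat.card_eq_fintype_card (α := α), h.card_pts, h.order,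
    mul_assoc, mul_comm (p + 1)] at h1
  exact Nat.eq_of_mul_eq_mul_right (by omega) h1

theorem Hyp.exists_gen (x : α) : ∃ u : G, u • x = x ∧ orderOf u = p := by
  haveI := Fact.mk h.prime
  obtain ⟨u, hu⟩ := exists_prime_orderOf_dvd_card' (G := stabilizer G x) p
    (by rw [h.card_stabilizer]; exact dvd_mul_right p d)
  exact ⟨u, u.2, by rw [Subgroup.orderOf_coe, hu]⟩

theorem Hyp.orbit_gen {x : α} {u : G} (hux : u • x = x) (hu : orderOf u = p) {y z : α}
    (hy : y ≠ x) (hz : z ≠ x) : ∃ k : ℕ, u ^ k • y = z := by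
  have ho : orderOf (u : Equiv.Perm α) = p := by rw [Subgroup.orderOf_coe, hu]
  have hcyc : (u : Equiv.Perm α).IsCycle := Equiv.Perm.isCycle_of_prime_order
    (by rw [ho]; exact h.prime) (by
      rw [ho]
      calc (u : Equiv.Perm α).support.card ≤ Fintype.card α := Finset.card_le_univ _
        _ < 2 * p := by have := h.prime.two_le; rw [h.card_pts]; omega)
  have hsupp : (u : Equiv.Perm α).support = Finset.univ.erase x := by
    refine Finset.eq_of_subset_of_card_le (fun w hw => Finset.mem_erase.2 ⟨?_, Finset.mem_univ w⟩) ?_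
    · rintro rfl
      exact Equiv.Perm.mem_support.1 hw hux
    · rw [Finset.card_erase_of_mem (Finset.mem_univ x), Finset.card_univ, h.card_pts, ← hcyc.orderOf,
        ho]
      omega
  have hys : (u : Equiv.Perm α) y ≠ y := Equiv.Perm.mem_support.1
    (by rw [hsupp]; exact Finset.mem_erase.2 ⟨hy, Finset.mem_univ y⟩)
  have hzs : (u : Equiv.Perm α) z ≠ z := Equiv.Perm.mem_support.1
    (by rw [hsupp]; exact Finset.mem_erase.2 ⟨hz, Finset.mem_univ z⟩)
  obtain ⟨k, hk⟩ := hcyc.exists_pow_eq hys hzs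
  exact ⟨k, hk⟩

theorem Hyp.two_trans {a b c e : α} (hab : a ≠ b) (hce : c ≠ e) :
    ∃ g : G, g • a = c ∧ g • b = e := by
  haveI := h.trans
  obtain ⟨g, hg⟩ := exists_smul_eq G a c
  obtain ⟨u, hux, hu⟩ := h.exists_gen c
  obtain ⟨k, hk⟩ := h.orbit_gen hux hu (y := g • b) (z := e)
    (fun e' => hab (smul_left_cancel g (hg.trans e'.symm))) hce.symm
  refine ⟨u ^ k * g, ?_, by rw [mul_smul, hk]⟩
  rw [mul_smul, hg]
  exact (stabilizer G c).pow_mem hux k

theorem Hyp.free_gen {x : α} {u : G} (hux : u • x = x) (hu : orderOf u = p) {y : α} (hy : y ≠ x)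
    {k : ℕ} (hk : u ^ k • y = y) : u ^ k = 1 := by
  have hcomm : ∀ w : α, u ^ k • w = w := by
    intro w
    by_cases hw : w = x
    · rw [hw]; exact (stabilizer G x).pow_mem hux k
    · obtain ⟨j, rfl⟩ := h.orbit_gen hux hu hy hw
      rw [← mul_smul, ← pow_add, add_comm, pow_add, mul_smul, hk]
  exact Subtype.ext (Equiv.ext fun w => hcomm w)

theorem Hyp.normal_zpowers {x : α} {u : G} (hux : u • x = x) (hu : orderOf u = p) {g : G}
    (hg : g • x = x) : g * u * g⁻¹ ∈ Subgroup.zpowers u := by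
  classical
  haveI := Fact.mk h.prime
  let u' : stabilizer G x := ⟨u, hux⟩
  let g' : stabilizer G x := ⟨g, hg⟩
  have hu' : orderOf u' = p := by rw [← hu, ← Subgroup.orderOf_coe u']
  let P := Subgroup.zpowers u'
  have hP : Nat.card P = p := by rw [Nat.card_zpowers, hu']
  have hf : (Nat.card (stabilizer G x)).factorization p = 1 := by
    rw [h.card_stabilizer, Nat.factorization_mul h.prime.ne_zero h.pos.ne', Finsupp.add_apply,
      h.prime.factorization_self, Nat.factorization_eq_zero_of_not_dvd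
        (Nat.not_dvd_of_pos_of_lt h.pos h.small)]
  let S : Sylow p (stabilizer G x) := Sylow.ofCard P (by rw [hP, hf, pow_one])
  have hidx : (S : Subgroup (stabilizer G x)).index = d := by
    have := (S : Subgroup (stabilizer G x)).card_mul_index
    rw [show Nat.card (S : Subgroup (stabilizer G x)) = p from hP, h.card_stabilizer] at this
    exact Nat.eq_of_mul_eq_mul_left h.prime.pos this
  have hn : Nat.card (Sylow p (stabilizer G x)) = 1 := by
    have h1 : Nat.card (Sylow p (stabilizer G x)) ≡ 1 [MOD p] := card_sylow_modEq_one p _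
    have h2 : Nat.card (Sylow p (stabilizer G x)) ≤ d :=
      Nat.le_of_dvd h.pos (hidx ▸ S.card_dvd_index)
    have h3 : Nat.card (Sylow p (stabilizer G x)) % p = 1 := by
      rw [h1, Nat.one_mod_eq_one]; exact h.prime.ne_one
    rwa [Nat.mod_eq_of_lt (by have := h.small; omega)] at h3
  haveI : Subsingleton (Sylow p (stabilizer G x)) := (Nat.card_eq_one_iff_unique.1 hn).1
  have hnorm : (S : Subgroup (stabilizer G x)).Normal := S.normal_of_subsingleton
  obtain ⟨k, hk⟩ := Subgroup.mem_zpowers_iff.1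
    (hnorm.conj_mem u' (Subgroup.mem_zpowers u') g')
  exact Subgroup.mem_zpowers_iff.2 ⟨k, congrArg Subtype.val hk⟩

theorem Hyp.fix_three (g : G) (a b c : α) (hab : a ≠ b) (hbc : b ≠ c) (hac : a ≠ c) (ha : g • a = a)
    (hb : g • b = b) (hc : g • c = c) : g = 1 := by
  obtain ⟨u, hux, hu⟩ := h.exists_gen a
  obtain ⟨k, hk⟩ := Subgroup.mem_zpowers_iff.1 (h.normal_zpowers hux hu ha)
  obtain ⟨i, hi⟩ := h.orbit_gen hux hu hab.symm hac.symm
  have hconj : ∀ j : ℕ, g • (u ^ j • b) = (u ^ k) ^ j • b := fun j => by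
    rw [← mul_smul, show g * u ^ j = (g * u * g⁻¹) ^ j * g by rw [conj_pow]; group, mul_smul, hb, hk]
  -- the exponent fixes `c`, so the conjugation is trivial
  have hki : (u ^ k) ^ i = u ^ i := by
    have h1 : (u ^ k) ^ i • b = u ^ i • b := by rw [← hconj, hi, hc]
    obtain ⟨m, hm⟩ : (u ^ k) ^ i * (u ^ i)⁻¹ ∈ Submonoid.powers u := by
      rw [(isOfFinOrder_of_finite u).mem_powers_iff_mem_zpowers]
      exact (Subgroup.zpowers u).mul_mem ((Subgroup.zpowers u).pow_mem
        (Subgroup.zpow_mem _ (Subgroup.mem_zpowers u) k) i)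
        ((Subgroup.zpowers u).inv_mem ((Subgroup.zpowers u).pow_mem (Subgroup.mem_zpowers u) i))
    simp only at hm
    have h2 : u ^ m • (u ^ i • b) = u ^ i • b := by
      rw [hm, ← mul_smul, inv_mul_cancel_right, h1]
    have hne : u ^ i • b ≠ a := by rw [hi]; exact hac.symm
    have := h.free_gen hux hu hne h2
    rw [hm, mul_inv_eq_one] at this
    exact this
  have hui : u ^ i ≠ 1 := fun e => hbc (by rw [← hi, e, one_smul])
  have hku : u ^ k = u := by
    have h1 : orderOf (u ^ i) = p := by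
      rw [← hu]
      refine (Nat.dvd_antisymm (orderOf_pow_dvd i) ?_)
      rw [hu]
      rcases h.prime.eq_one_or_self_of_dvd _ (hu ▸ orderOf_pow_dvd i) with e | e
      · exact absurd (orderOf_eq_one_iff.1 e) hui
      · rw [e]
    have h2 : (u ^ i) ^ (k - 1) = 1 := by
      rw [zpow_sub, zpow_one, ← zpow_natCast u i, ← zpow_mul, mul_comm, zpow_mul, zpow_natCast, hki,
        zpow_natCast, mul_inv_cancel]
    have h3 : ((orderOf u : ℕ) : ℤ) ∣ k - 1 := by
      rw [hu, ← h1]; exact orderOf_dvd_iff_zpow_eq_one.2 h2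
    have h4 := orderOf_dvd_iff_zpow_eq_one.1 h3
    rw [zpow_sub, zpow_one, mul_inv_eq_one] at h4
    exact h4
  refine Subtype.ext (Equiv.ext fun w => ?_)
  show g • w = w
  by_cases hw : w = a
  · rw [hw, ha]
  · obtain ⟨j, rfl⟩ := h.orbit_gen hux hu hab.symm hw
    rw [hconj, hku]

/-- There is no regular normal subgroup if two different primes divide `p + 1`. -/
theorem Hyp.no_regular {q r : ℕ} (hq : q.Prime) (hr : r.Prime) (hqr : q ≠ r) (hqd : q ∣ p + 1)
    (hrd : r ∣ p + 1) (N : Subgroup G) (hN : N.Normal) (hcard : Nat.card N = p + 1)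
    (hfree : ∀ n ∈ N, ∀ a : α, n • a = a → n = 1) : False := by
  classical
  haveI := Fact.mk hq
  haveI := Fact.mk hr
  obtain ⟨x⟩ : Nonempty α := Fintype.card_pos_iff.1 (by rw [h.card_pts]; omega)
  obtain ⟨u, hux, hu⟩ := h.exists_gen x
  have key : ∀ n : N, n ≠ 1 → Function.Injective fun i : Fin p =>
      (⟨u ^ (i : ℕ) * n * (u ^ (i : ℕ))⁻¹, hN.conj_mem _ n.2 _⟩ : N) := by
    intro n hn i j hij
    have hij' : u ^ (i : ℕ) * n * (u ^ (i : ℕ))⁻¹ = u ^ (j : ℕ) * n * (u ^ (j : ℕ))⁻¹ :=
      congrArg Subtype.val hij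
    by_contra hne
    have hv : u ^ ((i : ℕ) - (j : ℤ)) * n = n * u ^ ((i : ℕ) - (j : ℤ)) := by
      rw [sub_eq_neg_add, zpow_add, zpow_neg, zpow_natCast, zpow_natCast]
      calc (u ^ (j : ℕ))⁻¹ * u ^ (i : ℕ) * n
          = (u ^ (j : ℕ))⁻¹ * (u ^ (i : ℕ) * n * (u ^ (i : ℕ))⁻¹) * u ^ (i : ℕ) := by group
        _ = n * ((u ^ (j : ℕ))⁻¹ * u ^ (i : ℕ)) := by rw [hij']; group
    set v := u ^ ((i : ℕ) - (j : ℤ)) with hvdef
    have hv1 : v ≠ 1 := by
      intro e
      rw [hvdef, ← orderOf_dvd_iff_zpow_eq_one, hu] at e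
      have := Int.eq_zero_of_abs_lt_dvd e (by
        have := i.isLt
        have := j.isLt
        rw [abs_lt]
        constructor <;> omega)
      exact hne (Fin.ext (by omega))
    have hvx : v • ((n : G) • x) = (n : G) • x := by
      rw [← mul_smul, hv, mul_smul]
      congr 1
      exact (stabilizer G x).zpow_mem hux _
    have hnx : (n : G) • x ≠ x := fun e => hn (Subtype.ext (hfree _ n.2 x e))
    obtain ⟨m, hm⟩ : v ∈ Submonoid.powers u := by
      rw [(isOfFinOrder_of_finite u).mem_powers_iff_mem_zpowers]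
      exact Subgroup.zpow_mem _ (Subgroup.mem_zpowers u) _
    simp only at hm
    exact hv1 (hm ▸ h.free_gen hux hu hnx (hm ▸ hvx))
  obtain ⟨a, ha⟩ := exists_prime_orderOf_dvd_card' (G := N) q (hcard ▸ hqd)
  obtain ⟨b, hb⟩ := exists_prime_orderOf_dvd_card' (G := N) r (hcard ▸ hrd)
  have ha1 : a ≠ 1 := fun e => hq.ne_one (by rw [← ha, e, orderOf_one])
  have hb1 : b ≠ 1 := fun e => hr.ne_one (by rw [← hb, e, orderOf_one])
  let f : Fin p ⊕ Fin p → N := Sum.elim
    (fun i => ⟨u ^ (i : ℕ) * a * (u ^ (i : ℕ))⁻¹, hN.conj_mem _ a.2 _⟩)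
    (fun i => ⟨u ^ (i : ℕ) * b * (u ^ (i : ℕ))⁻¹, hN.conj_mem _ b.2 _⟩)
  have hord : ∀ (g : G) (n : N), orderOf (⟨g * n * g⁻¹, hN.conj_mem _ n.2 _⟩ : N) = orderOf n := by
    intro g n
    rw [← Subgroup.orderOf_coe, ← Subgroup.orderOf_coe n]
    exact MulEquiv.orderOf_eq (MulAut.conj g) (n : G)
  have hf : Function.Injective f := by
    rintro (i | i) (j | j) e
    · exact congrArg _ (key a ha1 e)
    · have h1 := congrArg orderOf e
      simp only [f, Sum.elim_inl, Sum.elim_inr] at h1
      rw [hord, hord, ha, hb] at h1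
      exact absurd h1 hqr
    · have h1 := congrArg orderOf e
      simp only [f, Sum.elim_inl, Sum.elim_inr] at h1
      rw [hord, hord, ha, hb] at h1
      exact absurd h1.symm hqr
    · exact congrArg _ (key b hb1 e)
  have := Nat.card_le_card_of_injective f hf
  rw [Nat.card_sum, Nat.card_fin, hcard] at this
  have := h.prime.two_le
  omega

theorem Hyp.free_card {N : Subgroup G} (hNt : IsPretransitive N α)
    (hfree : ∀ a : α, stabilizer N a = ⊥) : Nat.card N = p + 1 := by
  obtain ⟨x⟩ : Nonempty α := Fintype.card_pos_iff.1 (by rw [h.card_pts]; omega)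
  haveI := hNt
  have := index_stabilizer_of_transitive N x
  rwa [hfree x, Subgroup.index_bot, Nat.card_eq_fintype_card (α := α), h.card_pts] at this

theorem Hyp.one_lt {q r : ℕ} (hq : q.Prime) (hr : r.Prime) (hqr : q ≠ r) (hqd : q ∣ p + 1)
    (hrd : r ∣ p + 1) : 1 < d := by
  classical
  by_contra hd
  have hd1 : d = 1 := by have := h.pos; omega
  haveI := h.trans
  obtain ⟨x⟩ : Nonempty α := Fintype.card_pos_iff.1 (by rw [h.card_pts]; omega)
  have hfix : ∀ g : G, g ≠ 1 → ∀ a b : α, g • a = a → g • b = b → a = b := by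
    intro g hg a b hga hgb
    by_contra hab
    obtain ⟨u, hux, hu⟩ := h.exists_gen a
    have hz : stabilizer G a = Subgroup.zpowers u := (Subgroup.eq_of_le_of_card_ge
      (Subgroup.zpowers_le.2 hux) (by rw [h.card_stabilizer, hd1, Nat.card_zpowers, hu, mul_one])).symm
    have hgu : g ∈ Subgroup.zpowers u := by rw [← hz]; exact hga
    rw [← (isOfFinOrder_of_finite u).mem_powers_iff_mem_zpowers] at hgu
    obtain ⟨m, hm⟩ := hgu
    simp only at hm
    exact hg (hm ▸ h.free_gen hux hu (Ne.symm hab) (hm ▸ hgb))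
  have hbot : stabilizer G x ≠ ⊥ := fun e => by
    have := h.card_stabilizer x
    rw [e, Subgroup.card_bot, hd1, mul_one] at this
    exact h.prime.ne_one this.symm
  have htop : stabilizer G x ≠ ⊤ := fun e => by
    have := h.card_stabilizer x
    rw [e, Subgroup.card_top, h.order, hd1, mul_one, mul_one] at this
    have := h.prime.pos
    nlinarith
  have hF := Frobenius.stabilizer_isFrobeniusComplement hfix x hbot htop
  have hmem : ∀ n : G, n ∈ Frobenius.kernel hF ↔ n = 1 ∨ ∀ w : α, n • w ≠ w := fun n => by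
    rw [← SetLike.mem_coe, Frobenius.coe_kernel hF,
      Frobenius.kernel_stabilizer_eq (fun a b => exists_smul_eq G a b)]
    rfl
  refine h.no_regular hq hr hqr hqd hrd _ (Frobenius.kernel_normal hF) ?_
    fun n hn a ha => ((hmem n).1 hn).resolve_right fun hh => hh a ha
  have h1 := (Frobenius.kernel_isComplement hF).card_mul
  rw [h.card_stabilizer, hd1, mul_one, h.order, hd1, mul_one] at h1
  exact Nat.eq_of_mul_eq_mul_right h.prime.pos h1

theorem Hyp.zassenhaus {q r : ℕ} (hq : q.Prime) (hr : r.Prime) (hqr : q ≠ r) (hqd : q ∣ p + 1)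
    (hrd : r ∣ p + 1) : Cfsg.IsZassenhausGroup G α := by
  classical
  refine ⟨inferInstance, MulAction.is_two_pretransitive_iff.2 fun hab hcd => h.two_trans hab hcd,
    h.fix_three, ?_, fun N hN hNt => ?_⟩
  · obtain ⟨x⟩ : Nonempty α := Fintype.card_pos_iff.1 (by rw [h.card_pts]; omega)
    by_contra hcon
    push Not at hcon
    -- the stabiliser would act semiregularly on the other points
    obtain ⟨y, hy⟩ := Fintype.exists_ne_of_one_lt_card (by rw [h.card_pts]; have := h.prime.two_le; omega) x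
    have hinj : Function.Injective fun g : stabilizer G x =>
        (⟨(g : G) • y, fun e => hy (smul_left_cancel (g : G) (e.trans g.2.symm))⟩ : {w : α // w ≠ x}) := by
      intro g g' e
      by_contra hne
      have e' : (g : G) • y = (g' : G) • y := congrArg Subtype.val e
      exact hcon ((g : G)⁻¹ * g') (fun e1 => hne (Subtype.ext (inv_mul_eq_one.1 e1))) x y hy.symm
        ((stabilizer G x).mul_mem ((stabilizer G x).inv_mem g.2) g'.2)
        (by rw [mul_smul, ← e', inv_smul_smul])
    have := Nat.card_le_card_of_injective _ hinj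
    rw [h.card_stabilizer, Nat.card_eq_fintype_card, Fintype.card_subtype_compl,
      Fintype.card_subtype_eq, h.card_pts] at this
    have h2 : p * 2 ≤ p * d := Nat.mul_le_mul_left p (h.one_lt hq hr hqr hqd hrd)
    have := h.prime.pos
    omega
  · by_contra hcon
    push Not at hcon
    refine h.no_regular hq hr hqr hqd hrd N hN (h.free_card hNt hcon) fun n hn a ha => ?_
    have hm : (⟨n, hn⟩ : N) ∈ stabilizer N a := ha
    rw [hcon a, Subgroup.mem_bot] at hm
    exact congrArg Subtype.val hm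

omit h

/-- Transitive groups on 18 points of order `18 · 17 · d`, `d < 17`. -/
theorem degree_eighteen (hα : Fintype.card α = 18) (G : Subgroup (Equiv.Perm α))
    (ht : IsPretransitive G α) (hG : Nat.card G = 18 * 17 * d) (hd : d < 17) :
    Nonempty (G ≃* Matrix.ProjGenLinGroup (Fin 2) (ZMod 17)) ∨
      Nonempty (G ≃* Matrix.ProjectiveSpecialLinearGroup (Fin 2) (ZMod 17)) := by
  classical
  haveI : Fact (Nat.Prime 17) := ⟨by norm_num⟩
  haveI := ht
  have h : Hyp 17 d G := ⟨by norm_num, hα, ht, hG, hd⟩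
  have hZ := h.zassenhaus Nat.prime_two Nat.prime_three (by norm_num) (by norm_num) (by norm_num)
  obtain ⟨x⟩ : Nonempty α := Fintype.card_pos_iff.1 (by omega)
  obtain ⟨u, hux, hu⟩ := h.exists_gen x
  have hfin : Finite G := inferInstance
  obtain ⟨h3, hsharp⟩ | ⟨K, fK, tK, hchar, ⟨e⟩⟩ := S0731.result hZ x (Subgroup.zpowers u)
    (Subgroup.zpowers_le.2 hux)
    ⟨fun v hv g => by
      rw [Subgroup.mem_subgroupOf] at hv ⊢
      obtain ⟨k, hk⟩ := Subgroup.mem_zpowers_iff.1 hv
      rw [Subgroup.coe_mul, Subgroup.coe_mul, Subgroup.coe_inv, ← hk, ← conj_zpow]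
      exact Subgroup.zpow_mem _ (h.normal_zpowers hux hu g.2) k⟩
    inferInstance (fun y z hy hz => by
      obtain ⟨k, hk⟩ := h.orbit_gen hux hu hy hz
      refine ⟨⟨u ^ k, Subgroup.pow_mem _ (Subgroup.mem_zpowers u) k⟩, hk, fun v hv => ?_⟩
      obtain ⟨m, hm⟩ : (v : G)⁻¹ * u ^ k ∈ Submonoid.powers u := by
        rw [(isOfFinOrder_of_finite u).mem_powers_iff_mem_zpowers]
        exact (Subgroup.zpowers u).mul_mem ((Subgroup.zpowers u).inv_mem v.2)
          (Subgroup.pow_mem _ (Subgroup.mem_zpowers u) k)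
      simp only at hm
      have h1 : u ^ m • y = y := by
        rw [hm, mul_smul, hk, ← hv, inv_smul_smul]
      have := h.free_gen hux hu hy h1
      rw [hm, inv_mul_eq_one] at this
      exact Subtype.ext this)
  · left
    obtain ⟨F, fF, tF, hF, ⟨e⟩⟩ := S0730.result (p := 17) (f := 1) (by norm_num) (by norm_num)
      odd_one (by rw [hα]; norm_num) G h3 hsharp
    let σ : F ≃+* ZMod 17 := FiniteField.ringEquivOfCardEq (by rw [hF, ZMod.card, pow_one])
    let M : GL (Fin 2) F ≃* GL (Fin 2) (ZMod 17) := Units.mapEquiv σ.mapMatrix.toMulEquiv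
    have hM : (Subgroup.center (GL (Fin 2) F)).map (M : GL (Fin 2) F →* GL (Fin 2) (ZMod 17)) =
        Subgroup.center (GL (Fin 2) (ZMod 17)) := by
      ext g
      constructor
      · rintro ⟨z, hz, rfl⟩
        refine Subgroup.mem_center_iff.2 fun y => ?_
        obtain ⟨y, rfl⟩ := M.surjective y
        change M y * M z = M z * M y
        rw [← map_mul, ← map_mul, Subgroup.mem_center_iff.1 hz y]
      · intro hx
        refine ⟨M.symm g, Subgroup.mem_center_iff.2 fun y => M.injective ?_, M.apply_symm_apply g⟩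
        rw [map_mul, map_mul, MulEquiv.apply_symm_apply]
        exact Subgroup.mem_center_iff.1 hx _
    exact ⟨e.trans (QuotientGroup.congr _ _ M hM :)⟩
  · right
    have h1 := Linear.card_PSL_two_mul (F := K)
    have hodd : Odd (Fintype.card K) := by
      rw [← Nat.not_even_iff_odd, Nat.even_iff]
      exact fun he => hchar (FiniteField.even_card_iff_char_two.2 he)
    have hgcd : Nat.gcd 2 (Fintype.card K - 1) = 2 :=
      Nat.gcd_eq_left (by obtain ⟨m, hm⟩ := hodd; exact ⟨m, by omega⟩)
    rw [hgcd, ← Nat.card_congr e.toEquiv, hG] at h1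
    set q := Fintype.card K
    have hle : q ≤ 22 := by
      by_contra hlt
      push Not at hlt
      have h2 : 23 ^ 2 ≤ q ^ 2 := Nat.pow_le_pow_left hlt 2
      have h3 : 23 * (23 ^ 2 - 1) ≤ q * (q ^ 2 - 1) := Nat.mul_le_mul hlt (by omega)
      norm_num at h3
      omega
    have hq17 : q = 17 := by
      have h2 : 1 < q := Fintype.one_lt_card
      obtain ⟨m, hm⟩ := hodd
      interval_cases q <;> omega
    let σ : K ≃+* ZMod 17 := FiniteField.ringEquivOfCardEq (by rw [ZMod.card]; exact hq17)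
    exact ⟨e.trans (H27.PermFamily.pslCongr σ)⟩

end Cfsg.Agent.H84.SmallDegree
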