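import Cfsg.Agent.H84.CaminaPair
import Cfsg.Agent.CharInduce.Induce
import Cfsg.Agent.Frobenius.Basic
import Mathlib.GroupTheory.SchurZassenhaus
import Mathlib.GroupTheory.FiniteAbelian.Duality
import Mathlib.GroupTheory.Abelianization.Defs
import Mathlib.GroupTheory.SpecificGroups.Cyclic
import Mathlib.Analysis.Complex.Polynomial.Basic

/-!
# Characters of prime codegree
-/

open scoped ComplexConjugate

set_option linter.style.haveILetI false

namespace Cfsg.Agent.H84

open Cfsg.Agent

variable {G : Type*} [Group G] [Finite G]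

/-- Two powers of an element of the same group commute as conjugations. -/
theorem conj_comm_of_prime {P : Subgroup G} [P.Normal] {p : ℕ} [Fact p.Prime]
    (hP : Nat.card P = p) (a b : G) :
    a * b * a⁻¹ * b⁻¹ ∈ Subgroup.centralizer (P : Set G) := by
  refine Subgroup.mem_centralizer_iff.2 fun u hu => ?_
  haveI : IsCyclic P := isCyclic_of_prime_card hP
  obtain ⟨⟨v, hv⟩, hgen⟩ := IsCyclic.exists_generator (α := P)
  have hpow : ∀ c : G, ∀ w ∈ P, ∃ i : ℤ, c * w * c⁻¹ = w ^ i := fun c w hw => by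
    obtain ⟨i, hi⟩ := hgen ⟨c * v * c⁻¹, (inferInstance : P.Normal).conj_mem v hv c⟩
    obtain ⟨j, hj⟩ := hgen ⟨w, hw⟩
    have hi' : v ^ i = c * v * c⁻¹ := congrArg Subtype.val hi
    have hj' : v ^ j = w := congrArg Subtype.val hj
    exact ⟨i, by rw [← hj', ← conj_zpow, ← hi', ← zpow_mul, ← zpow_mul, mul_comm]⟩
  obtain ⟨j, hj⟩ : ∃ j : ℤ, v ^ j = u := by
    obtain ⟨j, hj⟩ := hgen ⟨u, hu⟩
    exact ⟨j, congrArg Subtype.val hj⟩
  obtain ⟨i, hi⟩ := hpow a v hv
  obtain ⟨k, hk⟩ := hpow b v hv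
  have hab : a * b * v * (a * b)⁻¹ = b * a * v * (b * a)⁻¹ := by
    calc a * b * v * (a * b)⁻¹ = a * (b * v * b⁻¹) * a⁻¹ := by group
      _ = v ^ (i * k) := by rw [hk, ← conj_zpow, hi, ← zpow_mul]
      _ = b * (a * v * a⁻¹) * b⁻¹ := by rw [hi, ← conj_zpow, hk, ← zpow_mul, mul_comm]
      _ = _ := by group
  have hv' : (a * b * a⁻¹ * b⁻¹) * v * (a * b * a⁻¹ * b⁻¹)⁻¹ = v := by
    calc (a * b * a⁻¹ * b⁻¹) * v * (a * b * a⁻¹ * b⁻¹)⁻¹
        = (a * b) * ((b * a)⁻¹ * v * (b * a)) * (a * b)⁻¹ := by group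
      _ = v := by
        obtain ⟨l, hl⟩ := hpow (b * a)⁻¹ v hv
        rw [inv_inv] at hl
        rw [hl, ← conj_zpow, hab, conj_zpow, ← hl]
        group
  rw [← hj]
  exact ((show Commute (a * b * a⁻¹ * b⁻¹) v from mul_inv_eq_iff_eq_mul.1 hv').zpow_right j).eq.symm

/-- A faithful irreducible character of prime codegree `p` and degree `> 1`: a normal
self-centralising subgroup of order `p`. -/
theorem exists_normal_prime (χ : Cfsg.IrrCharacter G)
    (hfaith : ∀ g : G, (χ : G → ℂ) g = (χ : G → ℂ) 1 → g = 1) (p : ℕ) [hp : Fact p.Prime]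
    (hcod : Nat.card G = p * Cfsg.charDegree (χ : G → ℂ))
    (hn : 1 < Cfsg.charDegree (χ : G → ℂ)) :
    ∃ P : Subgroup G, P.Normal ∧ Nat.card P = p ∧
      Subgroup.centralizer (P : Set G) ≤ P ∧ Nat.Coprime p P.index := by
  classical
  cases nonempty_fintype G
  set n := Cfsg.charDegree (χ : G → ℂ) with hndef
  have hχ1 := BlockBasic.apply_one_eq_charDegree χ
  have hnp : n < p := by
    have h := CharBasic.sum_sq_degree (G := G)
    simp only [BlockBasic.apply_one_eq_charDegree] at h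
    have h2 : ∑ ψ : Cfsg.IrrCharacter G, Cfsg.charDegree (ψ : G → ℂ) ^ 2 = Nat.card G := by
      exact_mod_cast h
    have hne : (⟨fun _ => 1, CharBasic.isIrrCharacter_one⟩ : Cfsg.IrrCharacter G) ≠ χ := fun h' => by
      rw [hndef, ← h'] at hn
      simp [Cfsg.charDegree] at hn
    rw [← Finset.add_sum_erase _ _ (Finset.mem_univ χ), hcod, ← hndef] at h2
    have h3 := Finset.single_le_sum (f := fun ψ : Cfsg.IrrCharacter G =>
      Cfsg.charDegree (ψ : G → ℂ) ^ 2) (fun _ _ => Nat.zero_le _)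
      (Finset.mem_erase.2 ⟨hne, Finset.mem_univ _⟩)
    simp only [Cfsg.charDegree, Complex.one_re, Nat.floor_one, one_pow] at h3
    simp only [Cfsg.charDegree] at h2
    have h4 : n * n < p * n := by
      rw [← sq]; simp only [hndef, Cfsg.charDegree] at *; omega
    exact Nat.lt_of_mul_lt_mul_right h4
  obtain ⟨S⟩ : Nonempty (Sylow p G) := inferInstance
  set P : Subgroup G := (S : Subgroup G) with hPdef
  have hcop : ¬ p ∣ n := fun h => by have := Nat.le_of_dvd (by omega) h; omega
  have hPc : Nat.card P = p := by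
    rw [hPdef, S.card_eq_multiplicity, hcod, Nat.factorization_mul hp.out.ne_zero (by omega),
      Finsupp.add_apply, hp.out.factorization_self, Nat.factorization_eq_zero_of_not_dvd hcop,
      pow_one]
  have hidx : P.index = n := by
    have := P.card_mul_index
    rw [hPc, hcod] at this
    exact Nat.eq_of_mul_eq_mul_left hp.out.pos this
  haveI hPn : P.Normal := by
    have h1 : Nat.card (Sylow p G) ≡ 1 [MOD p] := card_sylow_modEq_one p G
    have h2 : Nat.card (Sylow p G) ∣ P.index := S.card_dvd_index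
    rw [hidx] at h2
    have h3 := Nat.le_of_dvd (by omega) h2
    have h4 : Nat.card (Sylow p G) = 1 :=
      Nat.ModEq.eq_of_lt_of_lt h1 (by omega) hp.out.one_lt
    haveI : Subsingleton (Sylow p G) := (Nat.card_eq_one_iff_unique.1 h4).1
    exact Sylow.normal_of_subsingleton S
  refine ⟨P, hPn, hPc, ?_, hidx ▸ hp.out.coprime_iff_not_dvd.2 hcop⟩
  -- `χ` is induced from a linear character of `P`
  haveI : Fintype P := Fintype.ofFinite P
  have hres := CharInduce.IsChar.res (CharBasic.IsIrr.isCharacter χ.2) P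
  obtain ⟨ψ, hψ⟩ := CharInduce.exists_constituent hres (fun h => by
    have := congrFun h 1
    simp only [OneMemClass.coe_one, Pi.zero_apply, hχ1, Nat.cast_eq_zero, ← hndef] at this
    omega)
  have hψ1 : (ψ : P → ℂ) 1 = 1 := by
    haveI : IsCyclic P := isCyclic_of_prime_card hPc
    have hd := BlockBasic.charDegree_dvd ψ
    rw [hPc] at hd
    rcases hp.out.eq_one_or_self_of_dvd _ hd with h | h
    · rw [BlockBasic.apply_one_eq_charDegree, h, Nat.cast_one]
    · exfalso
      have := CharInduce.IsChar.degree_le_of_constituent hres ψ.2 hψ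
        (BlockBasic.apply_one_eq_charDegree ψ) (b := n) (by simpa [← hndef] using hχ1)
      omega
  have hne : Cfsg.classInner (Cfsg.indFun P (ψ : P → ℂ)) (χ : G → ℂ) ≠ 0 := by
    rw [CharInduce.classInner_indFun_left _ _ _ (CharBasic.IsIrr.isClassFunction χ.2),
      ← CharBasic.classInner_conj_symm, map_ne_zero]
    exact hψ
  obtain ⟨r, hr, hrχ⟩ := CharInduce.IsChar.exists_eq_add
    (CharInduce.IsChar.ind _ (CharBasic.IsIrr.isCharacter ψ.2)) χ.2 hne
  have hr0 : r = 0 := by
    refine CharInduce.IsChar.eq_zero_of_one_eq_zero hr ?_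
    have h1 := congrFun hrχ 1
    rw [Pi.add_apply, CharInduce.indFun_one, hψ1, hχ1, hidx, mul_one] at h1
    linear_combination -h1
  rw [hr0, add_zero] at hrχ
  have hvan : ∀ g, g ∉ P → (χ : G → ℂ) g = 0 := fun g hg => by
    rw [← hrχ, CharInduce.indFun_apply, Finset.sum_eq_zero fun x _ => ?_, mul_zero]
    exact Function.extend_apply' _ _ _ (by
      rintro ⟨y, hy⟩
      exact hg (by
        have := hPn.conj_mem _ y.2 x
        simpa [hy, mul_assoc] using this))
  -- the `p'`-part of the centralizer is a normal subgroup on which `χ` is regular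
  set C := Subgroup.centralizer (P : Set G) with hC
  have hPC : P ≤ C := fun x hx => Subgroup.mem_centralizer_iff.2 fun y hy => by
    haveI : IsCyclic P := isCyclic_of_prime_card hPc
    exact congrArg Subtype.val ((IsCyclic.isMulCommutative (α := P)).is_comm.comm ⟨y, hy⟩ ⟨x, hx⟩)
  obtain ⟨K, hK⟩ := Subgroup.exists_right_complement'_of_coprime (N := P)
    (by rw [hPc, hidx]; exact hp.out.coprime_iff_not_dvd.2 hcop)
  set Q := C ⊓ K with hQ
  haveI : Q.Normal := by
    refine ⟨fun q hq g => ?_⟩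
    have hcent : g * q * g⁻¹ ∈ C := (inferInstance : C.Normal).conj_mem q hq.1 g
    refine ⟨hcent, ?_⟩
    obtain ⟨⟨u, w⟩, huw⟩ := hK.2 (g * q * g⁻¹)
    simp only at huw
    have hu : ((u : G)) = 1 := by
      have hwC : (w : G) ∈ C := by
        rw [show (w : G) = (u : G)⁻¹ * (g * q * g⁻¹) by rw [← huw]; group]
        exact mul_mem (inv_mem (hPC u.2)) hcent
      have hcomm : Commute (u : G) w := Subgroup.mem_centralizer_iff.1 hwC u u.2
      have hpow : (g * q * g⁻¹) ^ Nat.card K = 1 := by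
        have : q ^ Nat.card K = 1 := congrArg Subtype.val (pow_card_eq_one' (x := (⟨q, hq.2⟩ : K)))
        rw [conj_pow, this]; group
      rw [← huw, hcomm.mul_pow, show (w : G) ^ Nat.card K = 1 from
        congrArg Subtype.val (pow_card_eq_one' (x := w)), mul_one] at hpow
      have hcardK : Nat.card K = n := by rw [← hidx, hK.symm.index_eq_card]
      have : orderOf u = 1 := Nat.eq_one_of_dvd_coprimes (hp.out.coprime_iff_not_dvd.2 hcop)
        (hPc ▸ orderOf_dvd_natCard u) (hcardK ▸ orderOf_dvd_of_pow_eq_one (Subtype.ext (by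
          simpa using hpow)))
      rw [orderOf_eq_one_iff] at this
      rw [this]; rfl
    rw [← huw, hu, one_mul]
    exact w.2
  have hQP : ∀ q ∈ Q, q ∈ P → q = 1 := fun q hq hqP => by
    have := hK.disjoint.le_bot (Subgroup.mem_inf.2 ⟨hqP, hq.2⟩)
    exact Subgroup.mem_bot.1 this
  have hQ1 : ∀ q ∈ Q, q = 1 := fun q hq => by
    refine hfaith q ?_
    by_contra h
    haveI : Fintype Q := Fintype.ofFinite Q
    have h0 := sum_normal_eq_zero χ Q ⟨q, hq, h⟩
    rw [Finset.sum_eq_single (1 : Q) (fun b _ hb => hvan _ fun hbP => hb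
      (Subtype.ext (hQP _ b.2 hbP))) (fun h => absurd (Finset.mem_univ _) h)] at h0
    exact BlockBasic.irr_one_ne_zero χ.2 h0
  intro c hc
  obtain ⟨⟨u, w⟩, huw⟩ := hK.2 c
  simp only at huw
  have hwQ : (w : G) ∈ Q := Subgroup.mem_inf.2 ⟨by
    rw [show (w : G) = (u : G)⁻¹ * c by rw [← huw]; group]
    exact mul_mem (inv_mem (hPC u.2)) hc, w.2⟩
  rw [← huw, hQ1 _ hwQ, mul_one]
  exact u.2

theorem cyclic_or_frobenius (χ : Cfsg.IrrCharacter G)
    (hfaith : ∀ g : G, (χ : G → ℂ) g = (χ : G → ℂ) 1 → g = 1) (p : ℕ) (hp : p.Prime)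
    (hcod : Nat.card G = p * Cfsg.charDegree (χ : G → ℂ)) :
    (IsCyclic G ∧ Nat.card G = p) ∨
      ∃ H : Subgroup G, Cfsg.IsFrobeniusComplement H ∧ Nat.card ↥(Cfsg.frobeniusKernel H) = p := by
  haveI := Fact.mk hp
  rcases Nat.lt_or_ge 1 (Cfsg.charDegree (χ : G → ℂ)) with hn | hn
  swap
  · have hpos := BlockBasic.charDegree_pos χ
    have h1 : Cfsg.charDegree (χ : G → ℂ) = 1 := by omega
    rw [h1, mul_one] at hcod
    exact Or.inl ⟨isCyclic_of_prime_card hcod, hcod⟩
  right
  obtain ⟨P, hPn, hPc, hcent, hcop⟩ := exists_normal_prime χ hfaith p hcod hn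
  obtain ⟨H, hH⟩ := Subgroup.exists_right_complement'_of_coprime (N := P) (by rwa [hPc])
  have hP : P ≠ ⊥ := fun h => hp.ne_one (by rw [← hPc, h, Subgroup.card_bot])
  have hH1 : H ≠ ⊥ := fun h => by
    have := hH.card_mul
    rw [h, Subgroup.card_bot, mul_one, hPc, hcod] at this
    exact absurd (Nat.eq_of_mul_eq_mul_left hp.pos (this.symm.trans (mul_one p).symm)) (by omega)
  have hfpf : ∀ h ∈ H, h ≠ 1 → ∀ k ∈ P, h * k = k * h → k = 1 := by
    intro h hh hh1 k hk hcom
    by_contra hk1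
    apply hh1
    have hmem : h ∈ P := hcent (Subgroup.mem_centralizer_iff.2 fun u hu => by
      have hgen : Subgroup.zpowers (⟨k, hk⟩ : P) = ⊤ := zpowers_eq_top_of_prime_card hPc
        (fun h' => hk1 (congrArg Subtype.val h'))
      obtain ⟨i, hi⟩ : (⟨u, hu⟩ : P) ∈ Subgroup.zpowers (⟨k, hk⟩ : P) := by rw [hgen]; trivial
      have hi' : k ^ i = u := congrArg Subtype.val hi
      rw [← hi']
      exact ((show Commute h k from hcom).zpow_right i).eq.symm)
    exact Subgroup.mem_bot.1 (hH.disjoint.le_bot (Subgroup.mem_inf.2 ⟨hmem, hh⟩))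
  have hF := Frobenius.of_fixedPointFree hH hP hH1 hfpf
  refine ⟨H, hF, ?_⟩
  rw [← Frobenius.coe_eq_kernel hF hH]
  exact hPc

theorem perfect_iff_no_prime_codegree [Nontrivial G] : commutator G = ⊤ ↔
    ∀ χ : Cfsg.IrrCharacter G, ¬ ((Nat.card G / (Nat.card {g : G // (χ : G → ℂ) g = (χ : G → ℂ) 1} *
      Cfsg.charDegree (χ : G → ℂ)))).Prime := by
  classical
  constructor
  · intro hperf χ hprime
    obtain ⟨K, hKn, hK, η, hη, hηd, hd⟩ := exists_kernel χ
    rw [codegree_eq χ K hK] at hprime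
    set p := K.index / Cfsg.charDegree (χ : G → ℂ) with hp
    haveI := Fact.mk hprime
    have hcod : Nat.card (G ⧸ K) = p * Cfsg.charDegree (η : G ⧸ K → ℂ) := by
      rw [hηd, hp, Nat.div_mul_cancel hd, Subgroup.index_eq_card]
    have hfaith : ∀ q : G ⧸ K, (η : G ⧸ K → ℂ) q = (η : G ⧸ K → ℂ) 1 → q = 1 := fun q =>
      QuotientGroup.induction_on q fun g h => (QuotientGroup.eq_one_iff g).2 ((hK g).2 (by
        rw [← hη, ← hη, h]; rfl))
    have hperf' : commutator (G ⧸ K) = ⊤ := by
      rw [commutator_def, ← Subgroup.map_top_of_surjective (QuotientGroup.mk' K)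
        (QuotientGroup.mk'_surjective K), ← Subgroup.map_commutator, ← commutator_def, hperf]
    have habel : ∀ N : Subgroup (G ⧸ K), (∀ a b : G ⧸ K, a * b * a⁻¹ * b⁻¹ ∈ N) → N = ⊤ := by
      intro N hN
      refine eq_top_iff.2 (hperf' ▸ ?_)
      rw [commutator_def, Subgroup.commutator_le]
      exact fun a _ b _ => by rw [commutatorElement_def]; exact hN a b
    rcases Nat.lt_or_ge 1 (Cfsg.charDegree (η : G ⧸ K → ℂ)) with hn | hn
    · obtain ⟨P, hPn, hPc, hcent, -⟩ := exists_normal_prime η hfaith p hcod hn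
      have htop := habel P fun a b => hcent (conj_comm_of_prime hPc a b)
      rw [htop, Subgroup.card_top, hcod] at hPc
      exact absurd (Nat.eq_of_mul_eq_mul_left hprime.pos (hPc.trans (mul_one p).symm)) (by omega)
    · have hpos := BlockBasic.charDegree_pos η
      rw [show Cfsg.charDegree (η : G ⧸ K → ℂ) = 1 by omega, mul_one] at hcod
      haveI : IsCyclic (G ⧸ K) := isCyclic_of_prime_card hcod
      have htop := habel ⊥ fun a b => Subgroup.mem_bot.2 (by
        rw [(IsCyclic.isMulCommutative (α := G ⧸ K)).is_comm.comm a b, mul_inv_cancel_right, mul_inv_cancel])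
      have h1 := congrArg (fun N : Subgroup (G ⧸ K) => Nat.card N) htop
      simp only [Subgroup.card_bot, Subgroup.card_top, hcod] at h1
      exact hprime.ne_one h1.symm
  · intro h
    by_contra hne
    cases nonempty_fintype G
    obtain ⟨a, ha⟩ : ∃ a : Abelianization G, a ≠ 1 := by
      by_contra hall
      push Not at hall
      apply hne
      refine eq_top_iff.2 fun g _ => ?_
      rw [← Abelianization.ker_of G]
      exact hall _
    obtain ⟨φ, hφ⟩ := CommGroup.exists_apply_ne_one_of_hasEnoughRootsOfUnity (Abelianization G) ℂ ha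
    have hord : orderOf φ ≠ 1 := fun h1 => hφ (by rw [orderOf_eq_one_iff.1 h1]; rfl)
    obtain ⟨p, hp, hpd⟩ := Nat.exists_prime_and_dvd hord
    haveI := Fact.mk hp
    haveI : Finite (Abelianization G →* ℂˣ) :=
      Finite.of_equiv _ (CommGroup.monoidHom_mulEquiv_of_hasEnoughRootsOfUnity (Abelianization G) ℂ).some.symm.toEquiv
    set l : G →* ℂˣ := (φ ^ (orderOf φ / p)).comp Abelianization.of with hl
    have hlp : ∀ g, l g ^ p = 1 := fun g => by
      show ((φ ^ (orderOf φ / p)) (Abelianization.of g)) ^ p = 1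
      rw [← MonoidHom.pow_apply, ← pow_mul, Nat.div_mul_cancel hpd, pow_orderOf_eq_one]
      rfl
    have hl1 : l.ker ≠ ⊤ := fun htop => by
      have h1 : φ ^ (orderOf φ / p) = 1 := MonoidHom.ext fun b => by
        obtain ⟨g, rfl⟩ := QuotientGroup.mk_surjective b
        exact MonoidHom.mem_ker.1 (show g ∈ l.ker by rw [htop]; trivial)
      have := orderOf_pow_orderOf_div (orderOf_pos φ).ne' hpd
      rw [h1, orderOf_one] at this
      exact hp.ne_one this.symm
    let χ : Cfsg.IrrCharacter G := ⟨fun g => (l g : ℂ), CharInduce.isIrrCharacter_hom l⟩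
    have hK : ∀ g : G, g ∈ l.ker ↔ (χ : G → ℂ) g = (χ : G → ℂ) 1 := fun g => by
      simp [χ, MonoidHom.mem_ker, Units.val_eq_one]
    have hd : Cfsg.charDegree (χ : G → ℂ) = 1 := by simp [χ, Cfsg.charDegree]
    refine h χ ?_
    rw [codegree_eq χ l.ker hK, hd, Nat.div_one, Subgroup.index_ker]
    haveI : Finite l.range := Set.finite_range l
    obtain ⟨z, hz⟩ := IsCyclic.exists_ofOrder_eq_natCard (α := l.range)
    have hdvd : Nat.card l.range ∣ p := by
      rw [← hz]
      refine orderOf_dvd_of_pow_eq_one (Subtype.ext ?_)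
      obtain ⟨g, hg⟩ := z.2
      rw [SubmonoidClass.coe_pow, ← hg, hlp]
      rfl
    rcases hp.eq_one_or_self_of_dvd _ hdvd with h1 | h1
    · exact absurd (Subgroup.index_eq_one.1 (by rw [Subgroup.index_ker, h1])) hl1
    · rw [h1]; exact hp

end Cfsg.Agent.H84
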