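import Cfsg.Agent.H32.PrimeNormalizer

/-!
# Groups of prime degree containing half of the affine group

For an insoluble group of prime degree and an invariant weight `a` of total zero under a subgroup,
the sums `∑ a x * coord (g • x)` determine `a` up to a constant; the translations and square
scalings then bound the number of orbits of stabilisers.
-/

set_option autoImplicit false
set_option linter.unusedSectionVars false

namespace Cfsg.Agent.H84.PrimeDeg

open MulAction

variable {G Ω : Type*} [Group G] [MulAction G Ω] {p : ℕ} [hp : Fact p.Prime]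

/-- Coordinates in which `G` contains the translations and the square scalings. -/
structure Half (G Ω : Type*) [Group G] [MulAction G Ω] (p : ℕ) where
  coord : ZMod p ≃ Ω
  gen : G
  gen_smul : ∀ j, gen • coord j = coord (j + 1)
  scale : ∀ u : ZMod p, u ≠ 0 → IsSquare u → ∃ e : G, ∀ j, e • coord j = coord (u * j)
  insoluble : ¬ Group.IsSolvable G
  faithful : FaithfulSMul G Ω

namespace Half

variable (C : Half G Ω p)

theorem pow_smul (n : ℕ) (j : ZMod p) : C.gen ^ n • C.coord j = C.coord (j + n) := by
  induction n with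
  | zero => simp
  | succ n ih => rw [pow_succ', mul_smul, ih, C.gen_smul, Nat.cast_succ, add_assoc]

theorem exists_shift (b : ZMod p) : ∃ t : G, ∀ j, t • C.coord j = C.coord (j + b) :=
  ⟨C.gen ^ b.val, fun j => by rw [C.pow_smul, ZMod.natCast_zmod_val]⟩

/-- The value of the weight `a` moved by `g`. -/
noncomputable def moved [Fintype Ω] (a : Ω → ZMod p) (g : G) : ZMod p :=
  ∑ x, a x * C.coord.symm (g • x)

theorem moved_shift [Fintype Ω] {a : Ω → ZMod p} (ha : ∑ x, a x = 0) {t : G} {b : ZMod p}
    (ht : ∀ j, t • C.coord j = C.coord (j + b)) (g : G) : C.moved a (t * g) = C.moved a g := by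
  have : ∀ x, a x * C.coord.symm ((t * g) • x) = a x * C.coord.symm (g • x) + a x * b := fun x => by
    rw [mul_smul]
    conv_lhs => rw [← C.coord.apply_symm_apply (g • x), ht, Equiv.symm_apply_apply]
    ring
  rw [moved, Finset.sum_congr rfl fun x _ => this x, Finset.sum_add_distrib, ← Finset.sum_mul, ha,
    zero_mul, add_zero, moved]

theorem moved_scale [Fintype Ω] {a : Ω → ZMod p} {e : G} {u : ZMod p}
    (he : ∀ j, e • C.coord j = C.coord (u * j)) (g : G) : C.moved a (e * g) = u * C.moved a g := by
  rw [moved, moved, Finset.mul_sum]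
  refine Finset.sum_congr rfl fun x _ => ?_
  rw [mul_smul]
  conv_lhs => rw [← C.coord.apply_symm_apply (g • x), he, Equiv.symm_apply_apply]
  ring

theorem moved_fix [Fintype Ω] {a : Ω → ZMod p} {h : G} (hh : ∀ x, a (h • x) = a x) (g : G) :
    C.moved a (g * h) = C.moved a g := by
  rw [moved, moved, ← Fintype.sum_equiv (toPerm h)
    (fun x => a x * C.coord.symm ((g * h) • x)) (fun y => a y * C.coord.symm (g • y)) fun x => ?_]
  rw [toPerm_apply, hh, mul_smul]

/-- A weight of total zero all of whose moved values vanish is constant. -/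
theorem const_of_moved_eq_zero [Fintype Ω] (hp2 : p ≠ 2) {a : Ω → ZMod p} (ha : ∑ x, a x = 0)
    (h : ∀ g : G, C.moved a g = 0) : ∀ x y, a x = a y := by
  classical
  haveI := C.faithful
  let φ := MulAction.toPermHom G Ω
  let G' := φ.range
  have hinj : Function.Injective φ := MulAction.toPerm_injective
  have hins : ¬ Group.IsSolvable G' := fun hs => C.insoluble
    (Group.isSolvable_of_isSolvable_injective (f := φ.rangeRestrict)
      fun a b e => hinj (congrArg Subtype.val e))
  let C' : H32.CycleCoords G' p := ⟨⟨φ C.gen, C.gen, rfl⟩, C.coord, C.gen_smul⟩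
  let W : Submodule (ZMod p) (Ω → ZMod p) :=
    { carrier := {v | ∑ x, v x = 0 ∧ ∀ g : G, ∑ x, a x * v (g • x) = 0}
      add_mem' := fun {u v} hu hv => ⟨by simp [Finset.sum_add_distrib, hu.1, hv.1], fun g => by
        simp [mul_add, Finset.sum_add_distrib, hu.2 g, hv.2 g]⟩
      zero_mem' := by simp
      smul_mem' := fun c u hu => ⟨by simp [← Finset.mul_sum, hu.1], fun g => by
        simp [mul_left_comm _ c, ← Finset.mul_sum, hu.2 g]⟩ }
  have hWinv : ∀ g : G', ∀ v ∈ W, Cfsg.permRep (ZMod p) G' Ω g v ∈ W := by
    rintro ⟨_, g, rfl⟩ v ⟨hv1, hv2⟩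
    refine ⟨(Fintype.sum_equiv (toPerm g⁻¹) _ _ fun x => ?_).trans hv1, fun k => ?_⟩
    · rfl
    · refine Eq.trans (Finset.sum_congr rfl fun x _ => ?_) (hv2 (g⁻¹ * k))
      show a x * v (g⁻¹ • k • x) = _
      rw [mul_smul]
  have hcard : Fintype.card Ω = p := by rw [← Fintype.card_congr C.coord, ZMod.card]
  have hc : (Cfsg.permConstants (ZMod p) G' Ω).toSubmodule ≤ W := by
    intro v hv
    obtain ⟨c, hc⟩ := H32.mem_permConstants.mp hv
    exact ⟨by simp [hc, hcard], fun g => by simp [hc, ← Finset.sum_mul, ha]⟩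
  have hz : W ≤ (Cfsg.permSumZero (ZMod p) G' Ω).toSubmodule := fun v hv =>
    H32.mem_permSumZero.mpr hv.1
  have hmem : (fun x => C.coord.symm x) ∈ W := by
    refine ⟨?_, h⟩
    rw [← Fintype.sum_equiv C.coord (fun j => j) (fun x => C.coord.symm x) fun j => by simp]
    have h3 : 1 < Fintype.card (ZMod p) - 1 := by
      have := hp.out.two_le
      rw [ZMod.card]; omega
    simpa using FiniteField.sum_pow_lt_card_sub_one (K := ZMod p) 1 h3
  rcases C'.heart (fun hA => hins (C'.isSolvable hA)) W hWinv hc hz with hW | hW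
  · exfalso
    rw [hW, H32.mem_permConstants] at hmem
    obtain ⟨c, hc⟩ := hmem
    have h0 := hc (C.coord 0)
    have h1 := hc (C.coord 1)
    simp only [Equiv.symm_apply_apply] at h0 h1
    exact zero_ne_one (h0.trans h1.symm)
  · intro x y
    have : Pi.single x (1 : ZMod p) - Pi.single y 1 ∈ W := by
      rw [hW, H32.mem_permSumZero]
      simp [Finset.sum_sub_distrib, Finset.sum_pi_single']
    have h1 := this.2 1
    simpa [mul_sub, Finset.sum_sub_distrib, Pi.single_apply, sub_eq_zero] using h1

end Half

end Cfsg.Agent.H84.PrimeDeg
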