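import Cfsg.Agent.H84.PrimeDegThird
import Cfsg.Agent.S0676

/-!
# The point stabiliser is primitive on the remaining points
-/

set_option autoImplicit false
set_option linter.unusedSectionVars false

namespace Cfsg.Agent.H84.PrimeDeg

open MulAction
open scoped Pointwise

variable {G Ω : Type*} [Group G] [MulAction G Ω] {p : ℕ} [hp : Fact p.Prime]

namespace Half

variable (C : Half G Ω p)
include C

theorem three_transitive_of_square [Finite G] (h : IsSquare (-1 : ZMod p)) :
    IsMultiplyPretransitive G Ω 3 := by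
  classical
  haveI : Fintype Ω := Fintype.ofEquiv _ C.coord
  haveI := C.faithful
  haveI := C.isPretransitive
  let φ := MulAction.toPermHom G Ω
  have hinj : Function.Injective φ := MulAction.toPerm_injective
  haveI : IsPretransitive φ.range Ω := ⟨fun x y => by
    obtain ⟨g, hg⟩ := exists_smul_eq G x y
    exact ⟨⟨φ g, g, rfl⟩, hg⟩⟩
  have hα : Fintype.card Ω = p := by rw [← Fintype.card_congr C.coord, ZMod.card]
  have hins : ¬ Group.IsSolvable φ.range := fun hs => C.insoluble
    (Group.isSolvable_of_isSolvable_injective (f := φ.rangeRestrict)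
      fun a b e => hinj (congrArg Subtype.val e))
  have hp2 := C.two_ne
  obtain ⟨e, he⟩ := C.scale (-1) (neg_ne_zero.mpr one_ne_zero) h
  have heq : ∀ g k : G, (∀ j, g • C.coord j = k • C.coord j) → φ g = φ k := fun g k hgk =>
    Equiv.ext fun x => by
      obtain ⟨j, rfl⟩ := C.coord.surjective x
      exact hgk j
  set x : φ.range := φ.rangeRestrict C.gen with hx
  set ε : φ.range := φ.rangeRestrict e with hε
  have hxne : x ≠ 1 := fun h1 => by
    have := congrArg (fun y : φ.range => (y : Equiv.Perm Ω) (C.coord 0)) h1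
    change C.gen • C.coord 0 = C.coord 0 at this
    rw [C.gen_smul] at this
    simpa using C.coord.injective this
  have hxp : x ^ p = 1 := Subtype.ext <| by
    refine Eq.trans ?_ (map_one φ)
    rw [hx, ← map_pow]
    exact heq _ _ fun j => by rw [C.pow_smul]; simp
  have hxo : orderOf x = p := orderOf_eq_prime hxp hxne
  have hεx : ε * x = x⁻¹ * ε := by
    rw [eq_inv_mul_iff_mul_eq, hx, hε, ← map_mul, ← map_mul]
    refine Subtype.ext (heq _ _ fun j => ?_)
    rw [mul_smul, mul_smul, C.gen_smul, he, C.gen_smul, he]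
    congr 1
    ring
  have hεε : ε * ε = 1 := Subtype.ext <| by
    refine Eq.trans ?_ (map_one φ)
    rw [hε, ← map_mul]
    exact heq _ _ fun j => by rw [mul_smul, he, he]; simp
  have hεne : ε ≠ 1 := fun h1 => by
    have := congrArg (fun y : φ.range => (y : Equiv.Perm Ω) (C.coord 1)) h1
    change e • C.coord 1 = C.coord 1 at this
    rw [he] at this
    have h2 := C.coord.injective this
    have : ((2 : ℕ) : ZMod p) = 0 := by push_cast; linear_combination -h2
    rw [ZMod.natCast_eq_zero_iff] at this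
    exact hp2 ((Nat.prime_dvd_prime_iff_eq hp.out Nat.prime_two).mp this)
  have hpg : IsPGroup p (Subgroup.zpowers x) :=
    IsPGroup.of_card (n := 1) (by rw [Nat.card_zpowers, hxo, pow_one])
  obtain ⟨Q, hQ⟩ := hpg.exists_le_sylow
  have hQeq : (Q : Subgroup φ.range) = Subgroup.zpowers x :=
    (Subgroup.eq_of_le_of_card_ge hQ
      (by rw [H32.card_sylow_prime_degree hα φ.range Q, Nat.card_zpowers, hxo])).symm
  have hmem : ε ∈ Subgroup.normalizer ((Q : Subgroup φ.range) : Set φ.range) := by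
    have hinv : ε⁻¹ = ε := inv_eq_of_mul_eq_one_right hεε
    have hfwd : ∀ y ∈ Subgroup.zpowers x, ε * y * ε⁻¹ ∈ Subgroup.zpowers x := by
      rintro y ⟨n, rfl⟩
      rw [← conj_zpow]
      refine Subgroup.zpow_mem _ ?_ n
      rw [hεx, mul_inv_cancel_right]
      exact inv_mem (Subgroup.mem_zpowers x)
    rw [hQeq, Subgroup.mem_normalizer_iff]
    refine fun y => ⟨hfwd y, fun hy => ?_⟩
    have := hfwd _ hy
    rwa [hinv, show ε * (ε * y * ε) * ε = (ε * ε) * y * (ε * ε) by group, hεε, one_mul, mul_one]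
      at this
  have heven : Even (Nat.card (Subgroup.normalizer ((Q : Subgroup φ.range) : Set φ.range))) := by
    have h2 : orderOf ε = 2 := orderOf_eq_prime (by rw [pow_two, hεε]) hεne
    rw [even_iff_two_dvd, ← h2]
    exact Subgroup.orderOf_dvd_natCard _ hmem
  have h3 := Cfsg.Agent.S0676.result hα φ.range hins Q heven
  constructor
  intro u v
  obtain ⟨⟨_, g, rfl⟩, hg⟩ := h3.exists_smul_eq u v
  exact ⟨g, hg⟩

/-- Blocks of a point stabiliser have at most two elements. -/
theorem card_le_two_of_block {α : Ω} {B : Finset Ω} (hα : α ∉ B) {z : Ω} (hzα : z ≠ α)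
    (hz : z ∉ B)
    (hblock : ∀ h : G, h • α = α → ∀ x ∈ B, h • x ∈ B → ∀ y ∈ B, h • y ∈ B) : B.card ≤ 2 := by
  classical
  haveI : Fintype Ω := Fintype.ofEquiv _ C.coord
  by_contra hb
  rw [not_le] at hb
  obtain ⟨x₁, h1, x₂, h2, x₃, h3, h12, h13, h23⟩ := Finset.two_lt_card.mp hb
  let a : Ω → ZMod p := fun x => (if x = α then (B.card : ZMod p) else 0) - if x ∈ B then 1 else 0
  have hsum : ∑ x, a x = 0 := by simp [a, Finset.sum_sub_distrib]
  have hmoved : ∀ g : G, C.moved a g = 0 := by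
    intro g
    obtain ⟨i, hi⟩ := C.coord.surjective (g • α)
    obtain ⟨t, ht⟩ := C.exists_shift (-i)
    rw [← C.moved_shift hsum ht g]
    obtain ⟨r, hr⟩ : ∃ r, r = t * g := ⟨_, rfl⟩
    rw [← hr]
    have hrα : r • α = C.coord 0 := by rw [hr, mul_smul, ← hi, ht, add_neg_cancel]
    let s : Ω → ZMod p := fun x => C.coord.symm (r • x)
    have hs : ∀ x, r • x = C.coord (s x) := fun x => by simp [s]
    have hsi : Function.Injective s := fun x y e =>
      smul_left_cancel r (C.coord.symm.injective e)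
    have hs0 : ∀ x ∈ B, s x ≠ 0 := fun x hx e => hα (by
      have h0 : r • x = r • α := by rw [hs, e, hrα]
      rwa [smul_left_cancel r h0] at hx)
    have key : ∀ x ∈ B, ∀ y ∈ B, x ≠ y → IsSquare (s y / s x) → C.moved a r = 0 := by
      intro x hx y hy hxy hsq
      have hu0 : s y / s x ≠ 0 := div_ne_zero (hs0 y hy) (hs0 x hx)
      obtain ⟨e, he⟩ := C.scale _ hu0 hsq
      have hh : (r⁻¹ * e * r) • α = α := by
        rw [mul_smul, mul_smul, hrα, he, mul_zero, ← hrα, inv_smul_smul]
      have hhx : (r⁻¹ * e * r) • x = y := by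
        rw [mul_smul, mul_smul, hs, he, div_mul_cancel₀ _ (hs0 x hx), ← hs, inv_smul_smul]
      have hB : ∀ w ∈ B, (r⁻¹ * e * r) • w ∈ B :=
        hblock _ hh x hx (by rw [hhx]; exact hy)
      have hiff : ∀ w, (r⁻¹ * e * r) • w ∈ B ↔ w ∈ B := by
        intro w
        refine ⟨fun hw => ?_, hB w⟩
        obtain ⟨v, hv, hvw⟩ := Finset.surj_on_of_inj_on_of_card_le
          (fun v _ => (r⁻¹ * e * r) • v) hB (fun _ _ _ _ h => smul_left_cancel _ h) le_rfl _ hw
        rwa [smul_left_cancel _ hvw]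
      have hinv : ∀ w, a ((r⁻¹ * e * r) • w) = a w := fun w => by
        have hwα : (r⁻¹ * e * r) • w = α ↔ w = α :=
          ⟨fun h => smul_left_cancel _ (h.trans hh.symm), fun h => by rw [h, hh]⟩
        simp only [a, hiff, hwα]
      have h := C.moved_fix hinv r
      rw [show r * (r⁻¹ * e * r) = e * r by group, C.moved_scale he] at h
      by_contra hne
      exact hxy (hsi ((div_eq_one_iff_eq (hs0 x hx)).mp (mul_left_eq_self₀.mp h |>.resolve_right
        hne)).symm)
    by_cases hA : IsSquare (s x₂ / s x₁)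
    · exact key x₁ h1 x₂ h2 h12 hA
    rcases isSquare_or_isSquare_div hA (div_ne_zero (hs0 _ h3) (hs0 _ h1)) with h | h
    · exact key x₁ h1 x₃ h3 h13 h
    · rw [div_div_div_cancel_right₀ (hs0 _ h1)] at h
      exact key x₂ h2 x₃ h3 h23 h
  have hconst := C.const_of_moved_eq_zero C.two_ne hsum hmoved α z
  simp only [a, if_pos, if_neg hα, if_neg hzα, if_neg hz, sub_zero] at hconst
  have hlt : B.card < p := by
    rw [← C.card_eq, Nat.card_eq_fintype_card]
    exact Finset.card_lt_univ_of_notMem hα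
  rw [ZMod.natCast_eq_zero_iff] at hconst
  exact absurd (Nat.le_of_dvd (by omega) hconst) (by omega)

theorem isPreprimitive_stabilizer [Finite G] (hp7 : 7 < p) (α : Ω) :
    IsPreprimitive ↥(stabilizer G α) ↥(SubMulAction.ofStabilizer G α) := by
  classical
  haveI : Fintype Ω := Fintype.ofEquiv _ C.coord
  haveI := C.isPretransitive
  by_cases hsq : IsSquare (-1 : ZMod p)
  · exact isPreprimitive_of_is_two_pretransitive
      (SubMulAction.ofStabilizer.isMultiplyPretransitive.mp (C.three_transitive_of_square hsq))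
  haveI : IsPretransitive ↥(stabilizer G α) ↥(SubMulAction.ofStabilizer G α) := ⟨fun x y => by
    obtain ⟨g, hgα, hgx⟩ := C.two_transitive (Ne.symm x.2) (Ne.symm y.2)
    exact ⟨⟨g, hgα⟩, Subtype.ext hgx⟩⟩
  refine ⟨fun {B} hB => ?_⟩
  by_contra htriv
  rw [IsTrivialBlock, not_or, Set.not_subsingleton_iff] at htriv
  obtain ⟨⟨β, hβ, γ, hγ, hβγ⟩, huniv⟩ := htriv
  obtain ⟨z, hz⟩ := (Set.ne_univ_iff_exists_notMem B).mp huniv
  have hblock : ∀ h : G, ∀ hh : h • α = α, ∀ x ∈ B, (⟨h, hh⟩ : stabilizer G α) • x ∈ B →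
      ∀ y ∈ B, (⟨h, hh⟩ : stabilizer G α) • y ∈ B := by
    intro h hh x hx hhx y hy
    have := (isBlock_iff_smul_eq_of_nonempty).mp hB (g := (⟨h, hh⟩ : stabilizer G α))
      ⟨_, Set.smul_mem_smul_set hx, hhx⟩
    exact this ▸ Set.smul_mem_smul_set hy
  let B' : Finset Ω := Finset.univ.filter fun x => ∃ hx : x ≠ α, (⟨x, hx⟩ : _root_.Subtype _) ∈ B
  have hmem : ∀ x : ↥(SubMulAction.ofStabilizer G α), (x : Ω) ∈ B' ↔ x ∈ B := fun x => by
    simp only [B', Finset.mem_filter, Finset.mem_univ, true_and]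
    exact ⟨fun ⟨_, h⟩ => h, fun h => ⟨x.2, h⟩⟩
  have hαB : α ∉ B' := fun h => by
    simp only [B', Finset.mem_filter] at h
    exact h.2.1 rfl
  have hclosed : ∀ h : G, h • α = α → ∀ x ∈ B', h • x ∈ B' → ∀ y ∈ B', h • y ∈ B' := by
    intro h hh x hx hhx y hy
    have hxα : x ≠ α := fun e => hαB (e ▸ hx)
    have hyα : y ≠ α := fun e => hαB (e ▸ hy)
    exact (hmem _).mpr (hblock h hh ⟨x, hxα⟩ ((hmem ⟨x, hxα⟩).mp hx)
      ((hmem ((⟨h, hh⟩ : stabilizer G α) • ⟨x, hxα⟩)).mp hhx) ⟨y, hyα⟩ ((hmem ⟨y, hyα⟩).mp hy))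
  have hle := C.card_le_two_of_block hαB z.2 (fun h => hz ((hmem z).mp h)) hclosed
  have hne : (β : Ω) ≠ γ := fun e => hβγ (Subtype.ext e)
  have hpair : B' = {(β : Ω), (γ : Ω)} :=
    (Finset.eq_of_subset_of_card_le
      (by simp [Finset.insert_subset_iff, hmem, hβ, hγ]) (by rw [Finset.card_pair hne]; exact hle)).symm
  have hb : (β : Ω) ∈ B' := by simp [hpair]
  have hc : (γ : Ω) ∈ B' := by simp [hpair]
  refine C.false_of_third hp7 hsq (Ne.symm β.2) γ.2 hne.symm (fun g hgα hgβ => ?_)
    (fun g hgα hgβ => ?_)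
  · have h := hclosed g hgα β hb (by rw [hgβ]; exact hb) γ hc
    rw [hpair, Finset.mem_insert, Finset.mem_singleton] at h
    exact h.resolve_left fun e => hne (smul_left_cancel g (e.trans hgβ.symm)).symm
  · have h := hclosed g hgα β hb (by rw [hgβ]; exact hc) γ hc
    rw [hpair, Finset.mem_insert, Finset.mem_singleton] at h
    exact h.resolve_right fun e => hne (smul_left_cancel g (hgβ.trans e.symm))

end Half

end Cfsg.Agent.H84.PrimeDeg
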