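import Mathlib

/-!
# No primitive rank three group has coprime subdegrees
-/

set_option autoImplicit false

namespace Cfsg.Agent.H84.PrimeDeg

open MulAction Finset
open scoped Pointwise

theorem eq_of_fiber {H Z T : Type*} [Group H] [MulAction H Z] [IsPreprimitive H Z] [MulAction H T]
    (f : Z → T) (hf : ∀ (h : H) x, f (h • x) = h • f x) {x y : Z} (hxy : x ≠ y) (he : f x = f y)
    (u : Z) : f u = f x := by
  have hB : IsBlock H {v | f v = f x} := by
    refine isBlock_iff_smul_eq_of_nonempty.mpr fun h ⟨w, hw, hw'⟩ => ?_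
    obtain ⟨v, hv, rfl⟩ := hw
    have hv' : f v = f x := hv
    have hhv : h • f x = f x := by rw [← hv', ← hf]; exact hw'.trans hv'.symm
    ext t
    constructor
    · rintro ⟨s, hs, rfl⟩
      show f (h • s) = f x
      rw [hf, show f s = f x from hs, hhv]
    · intro ht
      refine ⟨h⁻¹ • t, ?_, smul_inv_smul h t⟩
      show f (h⁻¹ • t) = f x
      rw [hf, show f t = f x from ht, inv_smul_eq_iff, hhv]
  rcases IsPreprimitive.isTrivialBlock_of_isBlock hB with h | h
  · exact absurd (h (show f x = f x from rfl) (show f y = f x from he.symm)) hxy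
  · exact (Set.eq_univ_iff_forall.mp h u : f u = f x)

theorem false_of_coprime {H Z : Type*} [Group H] [MulAction H Z] [Fintype Z] [DecidableEq Z]
    [IsPreprimitive H Z] (R : Z → Z → Prop) [DecidableRel R] (z : Z)
    (hR : ∀ (h : H) x y, R (h • x) (h • y) ↔ R x y) (hirr : ∀ x, ¬ R x x)
    (htr₁ : ∀ y y', R z y → R z y' → ∃ h : H, h • z = z ∧ h • y = y')
    (htr₂ : ∀ y y', y ≠ z → ¬ R z y → y' ≠ z → ¬ R z y' → ∃ h : H, h • z = z ∧ h • y = y')
    (hpos : ∃ y, R z y) (hneg : ∃ y, y ≠ z ∧ ¬ R z y)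
    (hprime : Nat.Prime (Fintype.card Z - 1)) (hodd : Odd (Fintype.card Z - 1)) : False := by
  let N : Z → Finset Z := fun x => univ.filter fun y => R x y
  have hN : ∀ x y, y ∈ N x ↔ R x y := fun x y => by simp [N]
  have hNsmul : ∀ (h : H) x, N (h • x) = h • N x := fun h x => by
    ext y
    rw [hN, Finset.mem_smul_finset]
    exact ⟨fun hy => ⟨h⁻¹ • y, (hN _ _).mpr ((hR h _ _).mp (by rwa [smul_inv_smul])),
      smul_inv_smul h y⟩, fun ⟨w, hw, e⟩ => e ▸ (hR h x w).mpr ((hN _ _).mp hw)⟩
  set k := (N z).card with hk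
  set Δ : Finset Z := univ.filter fun y => y ≠ z ∧ ¬ R z y with hΔ
  have hmΔ : ∀ y, y ∈ Δ ↔ y ≠ z ∧ ¬ R z y := fun y => by simp [Δ]
  have hkl : k + Δ.card = Fintype.card Z - 1 := by
    rw [hk, ← card_union_of_disjoint, ← card_univ, ← card_erase_of_mem (mem_univ z)]
    · congr 1
      ext y
      simp only [mem_union, hN, hmΔ, mem_erase, mem_univ, and_true]
      refine ⟨?_, fun hy => or_iff_not_imp_left.mpr fun h => ⟨hy, h⟩⟩
      rintro (h | h)
      · exact fun e => hirr z (by rw [e] at h; exact h)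
      · exact h.1
    · exact disjoint_left.mpr fun y hy hy' => ((hmΔ y).mp hy').2 ((hN _ _).mp hy)
  obtain ⟨y₀, hy₀⟩ := hpos
  obtain ⟨w₀, hw₀, hw₀'⟩ := hneg
  have hkpos : 0 < k := card_pos.mpr ⟨y₀, (hN _ _).mpr hy₀⟩
  have hlpos : 0 < Δ.card := card_pos.mpr ⟨w₀, (hmΔ _).mpr ⟨hw₀, hw₀'⟩⟩
  -- `R` is symmetric
  have hconst : ∀ x, (N x).card = k := fun x => by
    obtain ⟨h, rfl⟩ := exists_smul_eq H z x
    rw [hNsmul, card_smul_finset]
  have hin : (univ.filter fun y => R y z).card = k := by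
    have hc : ∀ x, (univ.filter fun y => R y x).card = (univ.filter fun y => R y z).card := by
      intro x
      obtain ⟨h, rfl⟩ := exists_smul_eq H z x
      refine (card_equiv (MulAction.toPerm h) fun y => ?_).symm
      simp [hR]
    have h1 := sum_card_bipartiteAbove_eq_sum_card_bipartiteBelow (s := (univ : Finset Z))
      (t := (univ : Finset Z)) R
    simp only [bipartiteAbove, bipartiteBelow] at h1
    rw [sum_congr rfl fun x _ => hconst x, sum_congr rfl fun x _ => hc x, sum_const, sum_const,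
      smul_eq_mul, smul_eq_mul] at h1
    exact (Nat.eq_of_mul_eq_mul_left (card_pos.mpr ⟨z, mem_univ z⟩) h1).symm
  have hsymz : ∀ y, R y z → R z y := by
    have hmov : ∀ y y' (h : H), h • z = z → h • y = y' → R y z → R y' z := by
      intro y y' h hz hy hr
      rw [← hy, ← hz, hR]; exact hr
    intro y hy
    by_contra hn
    have hyz : y ≠ z := fun e => hirr z (by rw [e] at hy; exact hy)
    have hsub : Δ ⊆ univ.filter fun y => R y z := fun w hw => by
      obtain ⟨h, hz, hw'⟩ := htr₂ y w hyz hn ((hmΔ _).mp hw).1 ((hmΔ _).mp hw).2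
      simpa using hmov _ _ h hz hw' hy
    by_cases hex : ∃ y', R z y' ∧ R y' z
    · obtain ⟨y', h1, h2⟩ := hex
      have hsub' : N z ∪ Δ ⊆ univ.filter fun y => R y z := fun w hw => by
        rcases mem_union.mp hw with hw | hw
        · obtain ⟨h, hz, hw'⟩ := htr₁ y' w h1 ((hN _ _).mp hw)
          simpa using hmov _ _ h hz hw' h2
        · exact hsub hw
      have := card_le_card hsub'
      rw [card_union_of_disjoint (disjoint_left.mpr fun v hv hv' =>
        ((hmΔ v).mp hv').2 ((hN _ _).mp hv)), hin] at this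
      omega
    · push Not at hex
      have heq : (univ.filter fun y => R y z) = Δ :=
        Subset.antisymm (fun w hw => by
          simp only [mem_filter, mem_univ, true_and] at hw
          exact (hmΔ w).mpr ⟨fun e => hirr z (by rw [e] at hw; exact hw), fun h => hex w h hw⟩) hsub
      rw [heq] at hin
      rw [hin] at hkl
      obtain ⟨t, ht⟩ := hodd
      omega
  have hsym : ∀ x y, R x y → R y x := by
    intro x y hxy
    obtain ⟨h, rfl⟩ := exists_smul_eq H z y
    rw [show x = h • h⁻¹ • x from (smul_inv_smul h x).symm, hR] at hxy ⊢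
    exact hsymz _ hxy
  -- double counting
  obtain ⟨A, hA⟩ : ∃ A, ∀ y ∈ N z, (Δ.filter fun w => R y w).card = A := by
    refine ⟨(Δ.filter fun w => R y₀ w).card, fun y hy => ?_⟩
    obtain ⟨h, hz, hy'⟩ := htr₁ y₀ y hy₀ ((hN _ _).mp hy)
    refine (card_equiv (MulAction.toPerm h) fun w => ?_).symm
    simp only [mem_filter, hmΔ, MulAction.toPerm_apply, ← hy', hR]
    have e1 : h • w = z ↔ w = z := ⟨fun e => smul_left_cancel h (e.trans hz.symm), fun e => e ▸ hz⟩
    have e2 : R z (h • w) ↔ R z w := by conv_lhs => rw [← hz, hR]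
    simp only [ne_eq, e1, e2]
  obtain ⟨μ, hμ⟩ : ∃ μ, ∀ w ∈ Δ, ((N z).filter fun y => R y w).card = μ := by
    refine ⟨((N z).filter fun y => R y w₀).card, fun w hw => ?_⟩
    obtain ⟨h, hz, hw'⟩ := htr₂ w₀ w hw₀ hw₀' ((hmΔ _).mp hw).1 ((hmΔ _).mp hw).2
    refine (card_equiv (MulAction.toPerm h) fun y => ?_).symm
    simp only [mem_filter, hN, MulAction.toPerm_apply, ← hw', hR]
    have e2 : R z (h • y) ↔ R z y := by conv_lhs => rw [← hz, hR]
    simp only [e2]
  have hcount : k * A = Δ.card * μ := by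
    have h1 := sum_card_bipartiteAbove_eq_sum_card_bipartiteBelow (s := N z) (t := Δ) R
    simp only [bipartiteAbove, bipartiteBelow] at h1
    rwa [sum_congr rfl hA, sum_congr rfl hμ, sum_const, sum_const, smul_eq_mul, smul_eq_mul] at h1
  have hμle : μ ≤ k := (hμ w₀ ((hmΔ _).mpr ⟨hw₀, hw₀'⟩)).symm.le.trans (card_filter_le _ _)
  have hdvd : k ∣ μ := by
    have hcop : Nat.Coprime k Δ.card := by
      refine Nat.coprime_self_add_right.mp ?_
      rw [hkl]
      exact (hprime.coprime_iff_not_dvd.mpr fun h => by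
        have := Nat.le_of_dvd hkpos h
        omega).symm
    exact hcop.dvd_of_dvd_mul_left ⟨A, hcount.symm⟩
  rcases Nat.eq_zero_or_pos μ with h0 | h0
  · have hA0 : A = 0 := by
      rw [h0, mul_zero] at hcount
      exact (Nat.mul_eq_zero.mp hcount).resolve_left hkpos.ne'
    let f : Z → Finset Z := fun x => insert x (N x)
    have hf : ∀ (h : H) x, f (h • x) = h • f x := fun h x => by
      simp [f, hNsmul, smul_finset_insert]
    have hfe : f y₀ = f z := by
      refine eq_of_subset_of_card_le (fun w hw => ?_) ?_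
      · rcases mem_insert.mp hw with rfl | hw
        · exact mem_insert_of_mem ((hN _ _).mpr hy₀)
        · by_contra hn
          rw [mem_insert, not_or, hN] at hn
          have hwe := hA y₀ ((hN _ _).mpr hy₀)
          rw [hA0, card_eq_zero] at hwe
          exact notMem_empty w (hwe ▸ mem_filter.mpr ⟨(hmΔ w).mpr hn, (hN _ _).mp hw⟩)
      · simp [f, card_insert_of_notMem, hN, hirr, hconst]
    have hne : z ≠ y₀ := fun e => hirr z (by rw [← e] at hy₀; exact hy₀)
    have h1 := eq_of_fiber f hf hne hfe.symm w₀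
    have h2 : w₀ ∈ f z := h1 ▸ mem_insert_self w₀ (N w₀)
    rcases mem_insert.mp h2 with h2 | h2
    · exact hw₀ h2
    · exact hw₀' ((hN _ _).mp h2)
  · have hμk : μ = k := le_antisymm hμle (Nat.le_of_dvd h0 hdvd)
    have he : N w₀ = N z := by
      refine (eq_of_subset_of_card_le (fun y hy => ?_) (by rw [hconst, hconst])).symm
      have h1 : ((N z).filter fun y => R y w₀) = N z :=
        eq_of_subset_of_card_le (filter_subset _ _)
          (by rw [hμ w₀ ((hmΔ _).mpr ⟨hw₀, hw₀'⟩), hμk])
      exact (hN _ _).mpr (hsym _ _ (filter_eq_self.mp h1 y hy))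
    have h1 := eq_of_fiber (H := H) N hNsmul (Ne.symm hw₀) he.symm y₀
    exact hirr y₀ ((hN _ _).mp (h1 ▸ (hN _ _).mpr hy₀))

end Cfsg.Agent.H84.PrimeDeg
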