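import Cfsg.Agent.H84.PrimeDegBase

/-!
# A group of prime degree with half normaliser consists of even permutations
-/

set_option autoImplicit false
set_option linter.unusedSectionVars false

namespace Cfsg.Agent.H84.PrimeDeg

open MulAction

variable {G Ω : Type*} [Group G] [Finite G] [MulAction G Ω] [Fintype Ω] [DecidableEq Ω]
  {p : ℕ} [hp : Fact p.Prime]

theorem card_sylow_eq (C : Half G Ω p) (P : Sylow p G) : Nat.card (P : Subgroup G) = p := by
  haveI := C.faithful
  let φ := MulAction.toPermHom G Ω
  have hinj : Function.Injective φ := MulAction.toPerm_injective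
  haveI : IsPretransitive φ.range Ω := ⟨fun x y => by
    obtain ⟨i, rfl⟩ := C.coord.surjective x
    obtain ⟨j, rfl⟩ := C.coord.surjective y
    obtain ⟨t, ht⟩ := C.exists_shift (j - i)
    exact ⟨⟨φ t, t, rfl⟩, (ht i).trans (by congr 1; ring)⟩⟩
  have hα : Fintype.card Ω = p := by rw [← Fintype.card_congr C.coord, ZMod.card]
  have hinj' : Function.Injective φ.rangeRestrict := fun a b e => hinj (congrArg Subtype.val e)
  exact (Nat.card_congr ((P : Subgroup G).equivMapOfInjective _ hinj').toEquiv).trans
    (H32.card_sylow_prime_degree hα φ.range (P.mapSurjective φ.rangeRestrict_surjective))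

theorem sign_eq_one (C : Half G Ω p) (P : Sylow p G)
    (hN : 2 * Nat.card ↥(Subgroup.normalizer ((P : Subgroup G) : Set G)) = p * (p - 1)) (g : G) :
    Equiv.Perm.sign (MulAction.toPerm g : Equiv.Perm Ω) = 1 := by
  classical
  haveI := C.faithful
  let χ : G →* ℤˣ := Equiv.Perm.sign.comp (MulAction.toPermHom G Ω)
  have hext : ∀ g k : G, (∀ j, g • C.coord j = k • C.coord j) → g = k := fun g k h =>
    eq_of_smul_eq_smul fun x : Ω => by
      obtain ⟨j, rfl⟩ := C.coord.surjective x
      exact h j
  have hp2 : p ≠ 2 := fun h => by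
    have h1 : p * (p - 1) = 2 := by rw [h]
    have : Nat.card ↥(Subgroup.normalizer ((P : Subgroup G) : Set G)) = 1 := by omega
    have h2 := Subgroup.card_dvd_of_le
      (Subgroup.le_normalizer (H := (P : Subgroup G)))
    rw [this, card_sylow_eq C P, Nat.dvd_one] at h2
    exact hp.out.ne_one h2
  have hxp : C.gen ^ p = 1 := hext _ _ fun j => by rw [C.pow_smul]; simp
  have hxne : C.gen ≠ 1 := fun h => by
    have := C.gen_smul 0
    rw [h, one_smul] at this
    simpa using C.coord.injective this
  have hxo : orderOf C.gen = p := orderOf_eq_prime hxp hxne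
  obtain ⟨Q, hQ⟩ := (IsPGroup.of_card (G := Subgroup.zpowers C.gen) (p := p) (n := 1)
    (by rw [Nat.card_zpowers, hxo, pow_one])).exists_le_sylow
  have hQeq : (Q : Subgroup G) = Subgroup.zpowers C.gen := (Subgroup.eq_of_le_of_card_ge hQ
    (by rw [card_sylow_eq C Q, Nat.card_zpowers, hxo])).symm
  set NQ := Subgroup.normalizer ((Q : Subgroup G) : Set G)
  have hNQ : 2 * Nat.card NQ = p * (p - 1) := by
    rw [← hN]
    congr 1
    have h1 := (Subgroup.normalizer ((P : Subgroup G) : Set G)).card_mul_index
    have h2 := NQ.card_mul_index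
    have e : NQ.index = (Subgroup.normalizer ((P : Subgroup G) : Set G)).index :=
      Q.card_eq_index_normalizer.symm.trans P.card_eq_index_normalizer
    rw [e] at h2
    exact Nat.eq_of_mul_eq_mul_right (Nat.pos_of_ne_zero Subgroup.index_ne_zero_of_finite)
      (h2.trans h1.symm)
  -- translations and square scalings
  choose t ht using C.exists_shift
  let Sq := (powMonoidHom 2 : (ZMod p)ˣ →* (ZMod p)ˣ).range
  have hsc : ∀ u : Sq, ∃ e : G, ∀ j, e • C.coord j = C.coord (((u : (ZMod p)ˣ) : ZMod p) * j) := by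
    rintro ⟨_, y, rfl⟩
    exact C.scale _ (Units.ne_zero _) ⟨(y : ZMod p), by simp [pow_two]⟩
  choose e he using hsc
  have hmem : ∀ (u : Sq) (b : ZMod p), t b * e u ∈ NQ := by
    intro u b
    have hconj : (t b * e u) * C.gen * (t b * e u)⁻¹ =
        C.gen ^ (((u : (ZMod p)ˣ) : ZMod p)).val := by
      rw [mul_inv_eq_iff_eq_mul]
      refine hext _ _ fun j => ?_
      simp only [mul_smul, C.gen_smul, he, ht, C.pow_smul, ZMod.natCast_zmod_val]
      congr 1
      ring
    have hle : (Subgroup.zpowers C.gen).map (MulAut.conj (t b * e u)).toMonoidHom ≤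
        Subgroup.zpowers C.gen := by
      rintro _ ⟨x, ⟨n, rfl⟩, rfl⟩
      show (t b * e u) * C.gen ^ n * (t b * e u)⁻¹ ∈ _
      rw [← conj_zpow, hconj]
      exact Subgroup.zpow_mem _ (Subgroup.pow_mem _ (Subgroup.mem_zpowers _) _) _
    have heq := Subgroup.eq_of_le_of_card_ge hle
      (by rw [Subgroup.card_map_of_injective (MulAut.conj (t b * e u)).injective])
    show t b * e u ∈ Subgroup.normalizer ((Q : Subgroup G) : Set G)
    rw [hQeq, Subgroup.mem_normalizer_iff]
    intro x
    constructor
    · intro hx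
      exact hle ⟨x, hx, rfl⟩
    · intro hx
      rw [← heq] at hx
      obtain ⟨y, hy, hye⟩ := hx
      have : y = x := (MulAut.conj (t b * e u)).injective hye
      exact this ▸ hy
  have hinjF : Function.Injective fun w : Sq × ZMod p => (⟨t w.2 * e w.1, hmem w.1 w.2⟩ : NQ) := by
    rintro ⟨u, b⟩ ⟨u', b'⟩ h
    have h' : t b * e u = t b' * e u' := congrArg Subtype.val h
    have h0 := congrArg (fun g : G => g • C.coord 0) h'
    have h1 := congrArg (fun g : G => g • C.coord 1) h'
    simp only [mul_smul, he, ht, mul_zero, zero_add, mul_one] at h0 h1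
    have hb := C.coord.injective h0
    have hu := C.coord.injective h1
    rw [hb, add_left_inj] at hu
    exact Prod.ext (Subtype.ext (Units.ext hu)) hb
  have hsurj := hinjF.bijective_of_nat_card_le (by
    rw [Nat.card_prod, IsCyclic.card_powMonoidHom_range, Nat.card_units, Nat.card_zmod]
    obtain ⟨k, hk⟩ := hp.out.odd_of_ne_two hp2
    rw [Nat.gcd_eq_right (show 2 ∣ p - 1 by omega)]
    refine Nat.le_of_mul_le_mul_left (le_of_eq ?_) two_pos
    rw [hNQ, ← mul_assoc, Nat.mul_div_cancel' (show 2 ∣ p - 1 by omega), mul_comm])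
  -- every element of the normaliser is even
  have hgen1 : χ C.gen = 1 := by
    rcases Int.units_eq_one_or (χ C.gen) with h | h
    · exact h
    · have := congrArg χ hxp
      rw [map_pow, map_one, h, (hp.out.odd_of_ne_two hp2).neg_one_pow] at this
      exact absurd this (by decide)
  have hNeven : NQ ≤ χ.ker := by
    intro n hn
    obtain ⟨⟨u, b⟩, hw⟩ := hsurj.2 ⟨n, hn⟩
    have hn' : n = t b * e u := (congrArg Subtype.val hw).symm
    rw [MonoidHom.mem_ker, hn', map_mul]
    have hb : t b = C.gen ^ b.val :=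
      hext _ _ fun j => by rw [ht, C.pow_smul, ZMod.natCast_zmod_val]
    rw [hb, map_pow, hgen1, one_pow, one_mul]
    obtain ⟨_, y, rfl⟩ := u
    set U := e ⟨powMonoidHom 2 y, y, rfl⟩ with hU
    have hperm : (MulAction.toPerm U : Equiv.Perm Ω) =
        C.coord.permCongr (MulAction.toPerm y) * C.coord.permCongr (MulAction.toPerm y) := by
      refine Equiv.ext fun x => ?_
      obtain ⟨j, rfl⟩ := C.coord.surjective x
      rw [Equiv.Perm.mul_apply, Equiv.permCongr_apply, Equiv.permCongr_apply,
        Equiv.symm_apply_apply, Equiv.symm_apply_apply, MulAction.toPerm_apply, hU, he]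
      simp [Units.smul_def, pow_two, mul_assoc]
    show Equiv.Perm.sign (MulAction.toPerm U : Equiv.Perm Ω) = 1
    rw [hperm, Equiv.Perm.sign_mul, Int.units_mul_self]
  have hQker : (Q : Subgroup G) ≤ χ.ker := by
    rw [hQeq, Subgroup.zpowers_le]
    exact hgen1
  have htop : χ.ker = ⊤ := by
    refine top_le_iff.mp ?_
    rw [← Sylow.normalizer_sup_eq_top' Q hQker]
    exact sup_le hNeven le_rfl
  have : g ∈ χ.ker := htop ▸ Subgroup.mem_top g
  exact this

end Cfsg.Agent.H84.PrimeDeg
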