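import Cfsg.Agent.H84.PrimeDegBase

/-!
# Galois: solvable transitive groups of prime degree are affine
-/

set_option autoImplicit false
set_option linter.unusedSectionVars false

namespace Cfsg.Agent.H84.PrimeDeg

open MulAction

variable {α : Type*} [Fintype α] [DecidableEq α] {p : ℕ} [hp : Fact p.Prime]

theorem allAffine_of_isSolvable (hα : Fintype.card α = p) {G : Subgroup (Equiv.Perm α)}
    [IsPretransitive G α] (C : H32.CycleCoords G p) (h : Group.IsSolvable G) : C.AllAffine := by
  classical
  have hex : ∃ n, derivedSeries G n = ⊥ := h.solvable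
  have hn1 : ¬ derivedSeries G 0 = ⊥ := fun h0 => by
    rw [derivedSeries_zero] at h0
    have hg : C.gen = 1 := (Subgroup.mem_bot).mp (h0 ▸ Subgroup.mem_top C.gen)
    have := C.gen_smul 0
    rw [hg, one_smul] at this
    simpa using C.coord.injective this
  obtain ⟨k, hk⟩ : ∃ k, Nat.find hex = k + 1 := ⟨Nat.find hex - 1, by
    have : Nat.find hex ≠ 0 := fun e => hn1 (e ▸ Nat.find_spec hex)
    omega⟩
  set N := derivedSeries G k with hNdef
  have hne : N ≠ ⊥ := Nat.find_min hex (by omega)
  haveI : N.Normal := derivedSeries_normal G k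
  have hcomm : ∀ a ∈ N, ∀ b ∈ N, a * b = b * a := by
    intro a ha b hb
    have h1 := Nat.find_spec hex
    rw [hk, derivedSeries_succ] at h1
    have := Subgroup.commutator_mem_commutator ha hb
    rw [h1, Subgroup.mem_bot] at this
    exact commutatorElement_eq_one_iff_mul_comm.mp this
  haveI := IsPreprimitive.of_prime_card (G := G) (X := α)
    (by rw [Nat.card_eq_fintype_card, hα]; exact hp.out)
  haveI : IsPretransitive N α := by
    refine IsQuasiPreprimitive.isPretransitive_of_normal (G := G) fun hfix => hne ?_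
    rw [Subgroup.eq_bot_iff_forall]
    intro x hx
    refine Subtype.ext (Equiv.ext fun z => ?_)
    have := (Set.eq_univ_iff_forall.mp hfix z) ⟨x, hx⟩
    exact this
  let a := C.coord 0
  have hbij : Function.Bijective fun x : N => x • a := by
    refine ⟨fun x y e => ?_, fun z => exists_smul_eq N a z⟩
    refine Subtype.ext (Subtype.ext (Equiv.ext fun z => ?_))
    obtain ⟨w, rfl⟩ := exists_smul_eq N a z
    show (x : G) • (w : G) • a = (y : G) • (w : G) • a
    rw [smul_smul, smul_smul, hcomm _ x.2 _ w.2, hcomm _ y.2 _ w.2, mul_smul, mul_smul]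
    exact congrArg ((w : G) • ·) e
  have hNc : Nat.card N = p := by
    rw [Nat.card_congr (Equiv.ofBijective _ hbij), Nat.card_eq_fintype_card, hα]
  have hxo : orderOf C.gen = p := by
    refine orderOf_eq_prime (Subtype.ext (Equiv.ext fun z => ?_)) fun h1 => ?_
    · obtain ⟨j, rfl⟩ := C.coord.surjective z
      have := C.pow_smul p j
      rw [ZMod.natCast_self, add_zero] at this
      exact this
    · have := C.gen_smul 0
      rw [h1, one_smul] at this
      simpa using C.coord.injective this
  have hNz : N = Subgroup.zpowers C.gen := by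
    have hpg : IsPGroup p (N ⊔ Subgroup.zpowers C.gen : Subgroup G) :=
      IsPGroup.to_sup_of_normal_left (IsPGroup.of_card (n := 1) (by rw [hNc, pow_one]))
        (IsPGroup.of_card (n := 1) (by rw [Nat.card_zpowers, hxo, pow_one]))
    obtain ⟨Q, hQ⟩ := hpg.exists_le_sylow
    have hQc := H32.card_sylow_prime_degree hα G Q
    have e1 : N = Q := Subgroup.eq_of_le_of_card_ge (le_sup_left.trans hQ) (by rw [hQc, hNc])
    have e2 : Subgroup.zpowers C.gen = Q :=
      Subgroup.eq_of_le_of_card_ge (le_sup_right.trans hQ) (by rw [hQc, Nat.card_zpowers, hxo])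
    rw [e1, e2]
  intro g
  obtain ⟨k, hk⟩ : ∃ k : ℕ, g * C.gen * g⁻¹ = C.gen ^ k := by
    have h1 : g * C.gen * g⁻¹ ∈ Subgroup.zpowers C.gen :=
      hNz ▸ Subgroup.Normal.conj_mem ‹N.Normal› _ (hNz ▸ Subgroup.mem_zpowers C.gen) g
    exact ((isOfFinOrder_of_finite C.gen).mem_powers_iff_mem_zpowers.mpr h1).imp fun _ h => h.symm
  obtain ⟨b, hb⟩ := C.coord.surjective (g • C.coord 0)
  refine ⟨k, b, fun j => ?_⟩
  have h1 : C.coord j = C.gen ^ j.val • C.coord 0 := by
    rw [C.pow_smul, zero_add, ZMod.natCast_zmod_val]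
  have h2 : g * C.gen ^ j.val = C.gen ^ (k * j.val) * g := by
    rw [pow_mul, ← hk, conj_pow, inv_mul_cancel_right]
  rw [h1, smul_smul, h2, mul_smul, ← hb, C.pow_smul, Nat.cast_mul, ZMod.natCast_zmod_val, add_comm]

end Cfsg.Agent.H84.PrimeDeg
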