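import Cfsg.Agent.H84.PrimeDegOrbits

/-!
# A Sylow normaliser of order `p (p - 1) / 2` gives half of the affine group
-/

set_option autoImplicit false
set_option linter.unusedSectionVars false

namespace Cfsg.Agent.H84.PrimeDeg

open MulAction

variable {G Ω : Type*} [Group G] [Finite G] [MulAction G Ω] [FaithfulSMul G Ω] [Finite Ω]
  {p : ℕ} [hp : Fact p.Prime]

theorem exists_half (hΩ : Nat.card Ω = p) (htrans : IsPretransitive G Ω)
    (hins : ¬ Group.IsSolvable G) (P : Sylow p G)
    (hN : 2 * Nat.card ↥(Subgroup.normalizer ((P : Subgroup G) : Set G)) = p * (p - 1)) :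
    Nonempty (Half G Ω p) := by
  classical
  haveI : Fintype Ω := Fintype.ofFinite _
  have hα : Fintype.card Ω = p := by rw [← Nat.card_eq_fintype_card]; exact hΩ
  let φ := MulAction.toPermHom G Ω
  have hinj : Function.Injective φ := MulAction.toPerm_injective
  haveI : IsPretransitive φ.range Ω := ⟨fun x y => by
    obtain ⟨g, hg⟩ := exists_smul_eq G x y
    exact ⟨⟨φ g, g, rfl⟩, hg⟩⟩
  have hinj' : Function.Injective φ.rangeRestrict := fun a b e => hinj (congrArg Subtype.val e)
  have hP : Nat.card (P : Subgroup G) = p := by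
    exact (Nat.card_congr ((P : Subgroup G).equivMapOfInjective _ hinj').toEquiv).trans
      (H32.card_sylow_prime_degree hα φ.range (P.mapSurjective φ.rangeRestrict_surjective))
  obtain ⟨x, hx⟩ := exists_prime_orderOf_dvd_card' (G := (P : Subgroup G)) p (by rw [hP])
  have hxo : orderOf (x : G) = p := by rw [Subgroup.orderOf_coe, hx]
  obtain ⟨C, hC⟩ := H32.exists_coords_of_order hα (φ.rangeRestrict (x : G))
    (by rw [orderOf_injective _ hinj', hxo])
  have hgen : ∀ j, (x : G) • C.coord j = C.coord (j + 1) := fun j => by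
    have h := C.gen_smul j
    rw [hC] at h
    exact h
  have hPz : (P : Subgroup G) = Subgroup.zpowers (x : G) :=
    (Subgroup.eq_of_le_of_card_ge (Subgroup.zpowers_le.mpr x.2)
      (by rw [hP, Nat.card_zpowers, hxo])).symm
  have hpow : ∀ (n : ℕ) (j : ZMod p), (x : G) ^ n • C.coord j = C.coord (j + n) := by
    intro n j
    induction n with
    | zero => simp
    | succ n ih => rw [pow_succ', mul_smul, ih, hgen, Nat.cast_succ, add_assoc]
  set N := Subgroup.normalizer ((P : Subgroup G) : Set G) with hNdef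
  have haff : ∀ g ∈ N, ∃ (u : (ZMod p)ˣ) (b : ZMod p),
      ∀ j, g • C.coord j = C.coord (u * j + b) := by
    intro g hg
    obtain ⟨k, hk⟩ : ∃ k : ℕ, g * (x : G) * g⁻¹ = (x : G) ^ k := by
      have h1 : g * (x : G) * g⁻¹ ∈ Subgroup.zpowers (x : G) :=
        hPz ▸ (Subgroup.mem_normalizer_iff.mp hg (x : G)).mp x.2
      exact (IsOfFinOrder.mem_powers_iff_mem_zpowers (isOfFinOrder_of_finite (x : G)) |>.mpr h1).imp
        fun _ h => h.symm
    obtain ⟨b, hb⟩ := C.coord.surjective (g • C.coord 0)
    have hj : ∀ j : ZMod p, g • C.coord j = C.coord ((k : ZMod p) * j + b) := fun j => by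
      have h1 : C.coord j = (x : G) ^ j.val • C.coord 0 := by
        rw [hpow, zero_add, ZMod.natCast_zmod_val]
      have h2 : g * (x : G) ^ j.val = (x : G) ^ (k * j.val) * g := by
        rw [pow_mul, ← hk, conj_pow, inv_mul_cancel_right]
      rw [h1, smul_smul, h2, mul_smul, ← hb, hpow, Nat.cast_mul, ZMod.natCast_zmod_val, add_comm]
    have hk0 : (k : ZMod p) ≠ 0 := by
      intro h0
      have h1 := hj 0
      have h2 := hj 1
      rw [h0, zero_mul] at h1 h2
      exact zero_ne_one (C.coord.injective (smul_left_cancel g (h1.trans h2.symm)))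
    exact ⟨Units.mk0 _ hk0, b, hj⟩
  let M : Subgroup (ZMod p)ˣ :=
    { carrier := {u | ∃ (g : G) (b : ZMod p), ∀ j, g • C.coord j = C.coord (u * j + b)}
      one_mem' := ⟨1, 0, fun j => by simp⟩
      mul_mem' := by
        rintro u v ⟨g, b, hg⟩ ⟨h, c, hh⟩
        refine ⟨g * h, u * c + b, fun j => ?_⟩
        rw [mul_smul, hh, hg, Units.val_mul]
        congr 1
        ring
      inv_mem' := by
        rintro u ⟨g, b, hg⟩
        refine ⟨g⁻¹, -((u⁻¹ : (ZMod p)ˣ) * b), fun j => ?_⟩
        rw [inv_smul_eq_iff, hg]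
        congr 1
        linear_combination (b - j) * u.mul_inv }
  choose uf bf huf using fun g : N => haff g g.2
  let F : N → M × ZMod p := fun g => (⟨uf g, g, bf g, huf g⟩, bf g)
  have hF : Function.Injective F := fun g g' e => by
    have e1 : uf g = uf g' := congrArg Subtype.val (congrArg Prod.fst e)
    have e2 : bf g = bf g' := congrArg Prod.snd e
    refine Subtype.ext (eq_of_smul_eq_smul fun z : Ω => ?_)
    obtain ⟨j, rfl⟩ := C.coord.surjective z
    rw [huf g j, huf g' j, e1, e2]
  have hle : p - 1 ≤ 2 * Nat.card M := by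
    have h1 := Nat.card_le_card_of_injective F hF
    rw [Nat.card_prod, Nat.card_zmod] at h1
    have h2 : p * (p - 1) ≤ p * (2 * Nat.card M) := by
      rw [← hN, ← mul_assoc, mul_comm p 2, mul_assoc]
      exact Nat.mul_le_mul_left 2 (h1.trans (le_of_eq (mul_comm _ _)))
    exact Nat.le_of_mul_le_mul_left h2 hp.out.pos
  have hindex : M.index = 1 ∨ M.index = 2 := by
    have h1 := M.card_mul_index
    rw [Nat.card_units, Nat.card_zmod] at h1
    have h2 : Nat.card M * M.index ≤ Nat.card M * 2 := by
      rw [h1, mul_comm]; exact hle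
    have h3 := Nat.le_of_mul_le_mul_left h2 Nat.card_pos
    have h4 := M.index_ne_zero_of_finite
    omega
  refine ⟨⟨C.coord, x, hgen, fun u hu0 hu => ?_, hins, inferInstance⟩⟩
  obtain ⟨y, rfl⟩ := hu
  have hy : y ≠ 0 := fun h => hu0 (by rw [h, mul_zero])
  have hmem : Units.mk0 y hy * Units.mk0 y hy ∈ M := by
    rcases hindex with h | h
    · rw [Subgroup.index_eq_one.mp h]; exact Subgroup.mem_top _
    · exact Subgroup.mul_self_mem_of_index_two h _
  obtain ⟨g, b, hg⟩ := hmem
  refine ⟨(x : G) ^ (-b).val * g, fun j => ?_⟩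
  rw [mul_smul, hg, hpow, ZMod.natCast_zmod_val]
  congr 1
  simp [mul_assoc]

end Cfsg.Agent.H84.PrimeDeg
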