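import Cfsg.Agent.S0713
import Cfsg.Agent.H77.Quasiprimitive

/-!
# Fivefold transitive groups with an element of prime order moving few cycles
-/

set_option autoImplicit false
set_option linter.unusedSectionVars false

namespace Cfsg.Agent.H84.PrimeDeg

open MulAction Equiv

variable {α : Type*} [Fintype α] [DecidableEq α] {r : ℕ} [hr : Fact r.Prime]

/-- The centraliser of a semiregular element permutes its orbits. -/
theorem exists_orbit_hom {y : Perm α} (hy : orderOf y = r) {c : ℕ} (hc : y.support.card = c * r) :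
    ∃ θ : Subgroup.centralizer ({y} : Set (Perm α)) →* Perm (Fin c),
      ∀ (h : Subgroup.centralizer ({y} : Set (Perm α))) (n : ℕ), θ h ^ n = 1 →
        ∀ x ∈ y.support, ((h : Perm α) ^ (n * r)) x = x := by
  classical
  have hyr : y ^ r = 1 := hy ▸ pow_orderOf_eq_one y
  let orb : α → Finset α := fun x => (Finset.range r).image fun i => (y ^ i) x
  have hmo : ∀ x w, w ∈ orb x ↔ ∃ i : ℕ, (y ^ i) x = w := fun x w => by
    simp only [orb, Finset.mem_image, Finset.mem_range]
    exact ⟨fun ⟨i, _, h⟩ => ⟨i, h⟩, fun ⟨i, h⟩ => ⟨i % r, Nat.mod_lt _ hr.out.pos, by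
      rw [← hy, pow_mod_orderOf]; exact h⟩⟩
  have hcard : ∀ x ∈ y.support, (orb x).card = r := by
    intro x hx
    suffices ∀ i j : ℕ, i ≤ j → j < r → (y ^ i) x = (y ^ j) x → i = j by
      rw [Finset.card_image_of_injOn, Finset.card_range]
      intro i hi j hj e
      simp only [Finset.coe_range, Set.mem_Iio] at hi hj
      rcases le_total i j with h | h
      · exact this i j h hj e
      · exact (this j i h hi e.symm).symm
    intro i j hij hj e
    by_contra hne
    have hd : (y ^ (j - i)) x = x := by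
      apply (y ^ i).injective
      rw [← Perm.mul_apply, ← pow_add, Nat.add_sub_cancel' hij]
      exact e.symm
    obtain ⟨e', he'⟩ := exists_pow_eq_self_of_coprime (x := y) (n := j - i)
      (by rw [hy]; exact ((Nat.Prime.coprime_iff_not_dvd hr.out).mpr fun h => by
        have := Nat.le_of_dvd (by omega) h
        omega).symm)
    refine Perm.mem_support.mp hx ?_
    conv_lhs => rw [← he']
    exact Perm.pow_apply_eq_self_of_apply_eq_self hd e'
  have heq : ∀ x w, w ∈ orb x → orb w = orb x := by
    intro x w hw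
    obtain ⟨i, rfl⟩ := (hmo x w).mp hw
    ext v
    rw [hmo, hmo]
    constructor
    · rintro ⟨k, rfl⟩
      exact ⟨k + i, by rw [pow_add]; rfl⟩
    · rintro ⟨k, rfl⟩
      refine ⟨k + (r - 1) * i, ?_⟩
      rw [← Perm.mul_apply, ← pow_add]
      have : k + (r - 1) * i + i = k + r * i := by
        obtain ⟨r', hr'⟩ := Nat.exists_eq_add_of_le hr.out.pos
        rw [hr', Nat.add_sub_cancel_left]; ring
      rw [this, pow_add, pow_mul, hyr, one_pow, mul_one]
  have hself : ∀ x, x ∈ orb x := fun x => (hmo x x).mpr ⟨0, by simp⟩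
  have hsub : ∀ x ∈ y.support, ∀ w ∈ orb x, w ∈ y.support := by
    intro x hx w hw
    obtain ⟨i, rfl⟩ := (hmo x w).mp hw
    rwa [Perm.pow_apply_mem_support]
  let O : Finset (Finset α) := y.support.image orb
  have hO : O.card = c := by
    have h1 := Finset.card_eq_sum_card_fiberwise (s := y.support) (t := O)
      (fun x hx => Finset.mem_image_of_mem orb hx)
    rw [Finset.sum_congr rfl (g := fun _ => r) fun o ho => ?_, Finset.sum_const, smul_eq_mul, hc]
      at h1
    · exact (Nat.eq_of_mul_eq_mul_right hr.out.pos h1).symm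
    · obtain ⟨x, hx, rfl⟩ := Finset.mem_image.mp ho
      conv_rhs => rw [← hcard x hx]
      congr 1
      ext w
      rw [Finset.mem_filter]
      exact ⟨fun ⟨_, h⟩ => h ▸ hself w, fun h => ⟨hsub x hx w h, heq x w h⟩⟩
  have hcomm : ∀ (h : Subgroup.centralizer ({y} : Set (Perm α))) (i : ℕ) x,
      (h : Perm α) ((y ^ i) x) = (y ^ i) ((h : Perm α) x) := fun h i x => by
    have : Commute (h : Perm α) y := (Subgroup.mem_centralizer_singleton_iff.mp h.2)
    rw [← Perm.mul_apply, (this.pow_right i).eq, Perm.mul_apply]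
  have himg : ∀ (h : Subgroup.centralizer ({y} : Set (Perm α))) x,
      (orb x).image (h : Perm α) = orb ((h : Perm α) x) := fun h x => by
    simp only [orb, Finset.image_image]
    exact Finset.image_congr fun i _ => hcomm h i x
  have hmem : ∀ (h : Subgroup.centralizer ({y} : Set (Perm α))) o, o ∈ O →
      o.image (h : Perm α) ∈ O := by
    intro h o ho
    obtain ⟨x, hx, rfl⟩ := Finset.mem_image.mp ho
    rw [himg]
    refine Finset.mem_image_of_mem orb (Perm.mem_support.mpr fun e => Perm.mem_support.mp hx ?_)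
    apply (h : Perm α).injective
    have := hcomm h 1 x
    rw [pow_one] at this
    rw [this, e]
  let act : Subgroup.centralizer ({y} : Set (Perm α)) → Perm ↥O := fun h =>
    { toFun := fun o => ⟨o.1.image (h : Perm α), hmem h o.1 o.2⟩
      invFun := fun o => ⟨o.1.image ((h⁻¹ : Subgroup.centralizer _) : Perm α), hmem h⁻¹ o.1 o.2⟩
      left_inv := fun o => Subtype.ext (by simp [Finset.image_image, Function.comp_def])
      right_inv := fun o => Subtype.ext (by simp [Finset.image_image, Function.comp_def]) }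
  let θ₀ : Subgroup.centralizer ({y} : Set (Perm α)) →* Perm ↥O := MonoidHom.mk' act fun g h =>
    Equiv.ext fun o => Subtype.ext (by
      show o.1.image ((g * h : Subgroup.centralizer _) : Perm α) = (o.1.image _).image _
      rw [Finset.image_image]; rfl)
  refine ⟨(O.equivFinOfCardEq hO).permCongrHom.toMonoidHom.comp θ₀, fun h n hn x hx => ?_⟩
  have h1 : θ₀ (h ^ n) = 1 := by
    rw [map_pow]
    apply (O.equivFinOfCardEq hO).permCongrHom.injective
    rw [map_pow, map_one]
    exact hn
  have h2 := congrArg (fun σ : Perm ↥O => (σ ⟨orb x, Finset.mem_image_of_mem orb hx⟩).1) h1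
  change (orb x).image ((h ^ n : Subgroup.centralizer _) : Perm α) = orb x at h2
  rw [himg] at h2
  obtain ⟨i, hi⟩ := (hmo x _).mp (h2 ▸ hself _)
  have h3 : ∀ k : ℕ, (((h ^ n : Subgroup.centralizer _) : Perm α) ^ k) x = (y ^ (i * k)) x := by
    intro k
    induction k with
    | zero => simp
    | succ k ih =>
      rw [pow_succ', Perm.mul_apply, ih, hcomm, ← hi, ← Perm.mul_apply, ← pow_add]
      congr 1
  have h4 := h3 r
  rw [mul_comm i r, pow_mul, hyr, one_pow, Perm.one_apply, SubmonoidClass.coe_pow, ← pow_mul] at h4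
  exact h4

/-- Witt: the normaliser of a Sylow subgroup of the stabiliser of a tuple is as transitive on its
fixed points. -/
theorem witt {G : Subgroup (Perm α)} {j : ℕ} [IsMultiplyPretransitive G α j] (T : Fin j ↪ α)
    (R : Sylow r ↥(stabilizer G T)) (z : Fin j ↪ α)
    (hz : ∀ ρ ∈ (R : Subgroup ↥(stabilizer G T)), (ρ : G) • z = z) :
    ∃ n : G, n • T = z ∧ n ∈ Subgroup.normalizer
      (((R : Subgroup ↥(stabilizer G T)).map (stabilizer G T).subtype : Subgroup G) : Set G) := by
  obtain ⟨g, hg⟩ := exists_smul_eq G T z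
  have hmm : ∀ (a b : G) (u : Fin j ↪ α), (a * b) • u = a • b • u := fun a b u =>
    Function.Embedding.ext fun i => mul_smul a b (u i)
  set R' : Subgroup G := (R : Subgroup (stabilizer G T)).map (stabilizer G T).subtype with hR'
  set R'' : Subgroup G := R'.map (MulAut.conj g⁻¹).toMonoidHom with hR''
  have hle : R'' ≤ stabilizer G T := by
    rintro _ ⟨_, ⟨ρ, hρ, rfl⟩, rfl⟩
    show (g⁻¹ * (ρ : G) * g⁻¹⁻¹) • T = T
    have e1 : (ρ : G) • z = z := hz ρ hρ
    have e2 : g⁻¹ • z = T := Function.Embedding.ext fun i => by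
      have := DFunLike.congr_fun hg i
      show g⁻¹ • z i = T i
      rw [← this]
      exact inv_smul_smul g (T i)
    rw [inv_inv, hmm, hmm, hg, e1, e2]
  have hR'p : IsPGroup r R' := R.isPGroup'.map _
  let R₂ : Sylow r (stabilizer G T) := Sylow.ofCard (R''.subgroupOf (stabilizer G T)) (by
    rw [Nat.card_congr (Subgroup.subgroupOfEquivOfLe hle).toEquiv, hR'',
      Subgroup.card_map_of_injective (MulAut.conj g⁻¹).injective, hR',
      Subgroup.card_map_of_injective (stabilizer G T).subtype_injective, R.card_eq_multiplicity])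
  obtain ⟨s, hs⟩ := exists_smul_eq (stabilizer G T) R R₂
  have hs' : R'.map (MulAut.conj (s : G)).toMonoidHom = R'' := by
    have h1 : ((R : Subgroup (stabilizer G T)).map (MulAut.conj s).toMonoidHom).map
        (stabilizer G T).subtype = (R₂ : Subgroup (stabilizer G T)).map (stabilizer G T).subtype :=
      congrArg (fun K : Sylow r (stabilizer G T) =>
        (K : Subgroup (stabilizer G T)).map (stabilizer G T).subtype) hs
    change _ = (R''.subgroupOf (stabilizer G T)).map (stabilizer G T).subtype at h1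
    rw [Subgroup.subgroupOf_map_subtype, inf_of_le_left hle, Subgroup.map_map] at h1
    rw [← h1, hR', Subgroup.map_map]
    rfl
  have hsT : (s : G) • T = T := s.2
  refine ⟨g * s, by rw [hmm, hsT, hg], ?_⟩
  have hfix : R'.map (MulAut.conj (g * (s : G))).toMonoidHom = R' := by
    have : (MulAut.conj (g * (s : G))).toMonoidHom =
        (MulAut.conj g).toMonoidHom.comp (MulAut.conj (s : G)).toMonoidHom := by
      ext x
      simp [mul_assoc]
    rw [this, ← Subgroup.map_map, hs', hR'', Subgroup.map_map]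
    have : (MulAut.conj g).toMonoidHom.comp (MulAut.conj g⁻¹).toMonoidHom = MonoidHom.id G := by
      ext x
      simp [mul_assoc]
    rw [this, Subgroup.map_id]
  rw [Subgroup.mem_normalizer_iff]
  intro x
  constructor
  · intro hx
    rw [← hfix]
    exact ⟨x, hx, rfl⟩
  · intro hx
    rw [← hfix] at hx
    obtain ⟨w, hw, he⟩ := hx
    have : w = x := (MulAut.conj (g * (s : G))).injective he
    exact this ▸ hw

theorem perm_two_sq : ∀ σ : Perm (Fin 2), σ ^ 2 = 1 := by decide

theorem perm_three_commutator :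
    ∀ σ τ : Perm (Fin 3), (σ⁻¹ * τ⁻¹ * σ * τ) ^ 3 = 1 := by decide +kernel

/-- Elements of the normaliser of a subgroup of prime order have commutators centralising it. -/
theorem commutator_mem_centralizer {G : Type*} [Group G] {y a b : G}
    (ha : ∃ i : ℕ, a * y * a⁻¹ = y ^ i) (hb : ∃ i : ℕ, b * y * b⁻¹ = y ^ i) :
    a⁻¹ * b⁻¹ * a * b ∈ Subgroup.centralizer ({y} : Set G) := by
  obtain ⟨i, hi⟩ := ha
  obtain ⟨j, hj⟩ := hb
  have h1 : (a * b) * y * (a * b)⁻¹ = (b * a) * y * (b * a)⁻¹ := by
    have e1 : (a * b) * y * (a * b)⁻¹ = a * (b * y * b⁻¹) * a⁻¹ := by group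
    have e2 : (b * a) * y * (b * a)⁻¹ = b * (a * y * a⁻¹) * b⁻¹ := by group
    rw [e1, e2, hi, hj, ← conj_pow, ← conj_pow, hi, hj, ← pow_mul, ← pow_mul, mul_comm]
  refine Subgroup.mem_centralizer_singleton_iff.2 ?_
  calc a⁻¹ * b⁻¹ * a * b * y = (b * a)⁻¹ * ((a * b) * y * (a * b)⁻¹) * (a * b) := by group
    _ = (b * a)⁻¹ * ((b * a) * y * (b * a)⁻¹) * (a * b) := by rw [h1]
    _ = y * (a⁻¹ * b⁻¹ * a * b) := by group

end Cfsg.Agent.H84.PrimeDeg
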