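import Cfsg.Agent.Perm.PrimeAddOne.Setup
import Cfsg.Agent.Linear.Order
import Cfsg.Agent.Linear.Simple
import Cfsg.Agent.H28.ZassInvol

/-!
# A doubly transitive `PSL(2, p)` on `p + 1` points: coordinates
-/

set_option autoImplicit false
set_option linter.unusedSectionVars false

namespace Cfsg.Agent.H84.PrimeDeg

open MulAction

variable {X Ω : Type*} [Group X] [Finite X] [MulAction X Ω] [FaithfulSMul X Ω] [Fintype Ω]
  [DecidableEq Ω] {p : ℕ} [hp : Fact p.Prime]

/-- The point `a` at infinity and the coordinates `ι` of the affine line for `L`. -/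
structure LineFrame (L : Subgroup X) (p : ℕ) (a : Ω) (ι : ZMod p → Ω) : Prop where
  inj : Function.Injective ι
  ne : ∀ j, ι j ≠ a
  surj : ∀ x, x ≠ a → ∃ j, ι j = x
  square : ∀ k c : ZMod p, k ≠ 0 → IsSquare k →
    ∃ l ∈ L, l • a = a ∧ ∀ j, l • ι j = ι (k * j + c)
  affine : ∀ l ∈ L, l • a = a → ∃ k c : ZMod p, k ≠ 0 ∧ ∀ j, l • ι j = ι (k * j + c)
  fix_three : ∀ l ∈ L, ∀ x y z : Ω, x ≠ y → y ≠ z → x ≠ z → l • x = x → l • y = y → l • z = z →
    l = 1
  card_two : Nat.card ↥(stabilizer L a ⊓ stabilizer L (ι 0)) = (p - 1) / 2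

theorem exists_lineFrame (hp2 : p ≠ 2) (hΩ : Fintype.card Ω = p + 1) (L : Subgroup X)
    (hL : Nonempty (↥L ≃* Matrix.ProjectiveSpecialLinearGroup (Fin 2) (ZMod p)))
    (hLt : IsMultiplyPretransitive ↥L Ω 2) :
    ∃ (a : Ω) (ι : ZMod p → Ω), LineFrame L p a ι := by
  classical
  let φ := (MulAction.toPermHom X Ω).comp L.subtype
  have hinj : Function.Injective φ := fun a b e => Subtype.ext (MulAction.toPerm_injective e)
  let G := φ.range
  haveI := hLt
  haveI : IsPretransitive ↥L Ω := isPretransitive_of_is_two_pretransitive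
  haveI : IsPretransitive G Ω := ⟨fun x y => by
    obtain ⟨g, hg⟩ := exists_smul_eq L x y
    exact ⟨⟨φ g, g, rfl⟩, hg⟩⟩
  obtain ⟨e⟩ := hL
  obtain ⟨k, hk⟩ : ∃ k, p = 2 * k + 1 := hp.out.odd_of_ne_two hp2
  have hcard : Nat.card G = (p + 1) * p * k := by
    have h1 := Cfsg.Agent.Linear.card_PSL_two_mul (F := ZMod p)
    rw [ZMod.card, ← Nat.card_congr e.toEquiv, Nat.card_congr (MonoidHom.ofInjective hinj).toEquiv,
      Nat.gcd_eq_left (show 2 ∣ p - 1 by omega)] at h1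
    have h2 : p ^ 2 - 1 = 2 * ((p + 1) * k) := by
      refine Nat.sub_eq_of_eq_add ?_
      rw [hk]; ring
    rw [h2] at h1
    show Nat.card φ.range = _
    refine Nat.eq_of_mul_eq_mul_left two_pos (h1.trans ?_)
    ring
  have hk0 : k < p := by omega
  obtain ⟨a, π, ι, hF⟩ := Perm.PrimeAddOne.exists_frame hp.out hΩ
    (by rw [hcard]; exact Dvd.intro ((p + 1) * k) (by ring))
  have haff : ∀ l ∈ L, l • a = a → ∃ u c : ZMod p, u ≠ 0 ∧ ∀ j, l • ι j = ι (u * j + c) :=
    fun l hl hla => hF.affine hΩ hcard hk0 (g := φ ⟨l, hl⟩) ⟨_, rfl⟩ hla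
  obtain ⟨x, hx⟩ := hF.mem
  have hxa : (x : X) • a = a := by
    show φ x a = a
    rw [hx]; exact hF.fix
  have hxj : ∀ j, (x : X) • ι j = ι (j + 1) := fun j => by
    show φ x (ι j) = _
    rw [hx]; exact hF.step j
  have hxpow : ∀ (n : ℕ) j, (x : X) ^ n • ι j = ι (j + n) ∧ (x : X) ^ n • a = a := by
    intro n
    induction n with
    | zero => simp
    | succ n ih =>
      intro j
      rw [pow_succ', mul_smul, mul_smul, (ih j).1, (ih j).2, hxj, hxa, Nat.cast_succ, add_assoc]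
      exact ⟨rfl, rfl⟩
  let t : Fin 2 ↪ Ω := ⟨![a, ι 0], by
    intro i j h
    fin_cases i <;> fin_cases j <;>
      first | rfl | exact absurd h.symm (hF.ne 0) | exact absurd h (hF.ne 0)⟩
  have htwo : Nat.card ↥(stabilizer L a ⊓ stabilizer L (ι 0)) = k := by
    rw [← hF.card_two hΩ hcard t]
    refine Nat.card_congr (Equiv.ofBijective (fun g => ⟨φ g.1, Perm.mem_tupleStab.mpr
      ⟨⟨g.1, rfl⟩, fun i => by
        fin_cases i
        · exact (Subgroup.mem_inf.mp g.2).1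
        · exact (Subgroup.mem_inf.mp g.2).2⟩⟩) ⟨fun g g' e => ?_, fun g => ?_⟩)
    · exact Subtype.ext (hinj (congrArg Subtype.val e))
    · obtain ⟨⟨l, hl⟩, h1⟩ := Perm.mem_tupleStab.mp g.2
      have h2 : ∀ i, l • t i = t i := fun i => by
        show φ l (t i) = t i
        rw [hl]; exact h1 i
      exact ⟨⟨l, h2 0, h2 1⟩, Subtype.ext hl⟩
  let M : Subgroup (ZMod p)ˣ :=
    { carrier := {u | ∃ l ∈ L, l • a = a ∧ ∀ j, l • ι j = ι ((u : ZMod p) * j)}
      one_mem' := ⟨1, one_mem L, one_smul _ _, fun j => by simp⟩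
      mul_mem' := by
        rintro u v ⟨g, hg, hga, hgj⟩ ⟨h, hh, hha, hhj⟩
        exact ⟨g * h, mul_mem hg hh, by rw [mul_smul, hha, hga], fun j => by
          rw [mul_smul, hhj, hgj, Units.val_mul, mul_assoc]⟩
      inv_mem' := by
        rintro u ⟨g, hg, hga, hgj⟩
        exact ⟨g⁻¹, inv_mem hg, by rw [inv_smul_eq_iff, hga], fun j => by
          rw [inv_smul_eq_iff, hgj, ← mul_assoc, Units.mul_inv, one_mul]⟩ }
  have hmul : ∀ g : ↥(stabilizer L a ⊓ stabilizer L (ι 0)), ∃ u : M,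
      ∀ j, (g : L) • ι j = ι ((u : (ZMod p)ˣ) * j) := by
    intro g
    obtain ⟨u, c, hu, huc⟩ := haff g.1 g.1.2 (Subgroup.mem_inf.mp g.2).1
    have hc : c = 0 := by
      have := huc 0
      rw [mul_zero, zero_add] at this
      exact hF.inj (this.symm.trans (Subgroup.mem_inf.mp g.2).2)
    have huc' : ∀ j, (g.1 : X) • ι j = ι (u * j) := fun j => by rw [huc, hc, add_zero]
    exact ⟨⟨Units.mk0 u hu, g.1, g.1.2, (Subgroup.mem_inf.mp g.2).1, huc'⟩, huc'⟩
  choose uf huf using hmul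
  have hMle : k ≤ Nat.card M := by
    rw [← htwo]
    refine Nat.card_le_card_of_injective uf fun g g' e => Subtype.ext (Subtype.ext ?_)
    refine eq_of_smul_eq_smul fun z : Ω => ?_
    by_cases hz : z = a
    · rw [hz]; exact ((Subgroup.mem_inf.mp g.2).1).trans (Subgroup.mem_inf.mp g'.2).1.symm
    · obtain ⟨j, rfl⟩ := hF.surj z hz
      exact (huf g j).trans ((huf g' j).trans (by rw [e])).symm |>.trans rfl
  have hindex : M.index = 1 ∨ M.index = 2 := by
    have h1 := M.card_mul_index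
    rw [Nat.card_units, Nat.card_zmod] at h1
    have h4 := M.index_ne_zero_of_finite
    have h5 : k * M.index ≤ k * 2 :=
      (Nat.mul_le_mul_right _ hMle).trans (le_of_eq (by rw [h1]; omega))
    have h6 := Nat.le_of_mul_le_mul_left h5 (by have := hp.out.two_le; omega)
    omega
  refine ⟨a, ι, ⟨hF.inj, hF.ne, hF.surj, fun u c hu0 hu => ?_, haff, ?_, by rw [htwo]; omega⟩⟩
  · obtain ⟨y, rfl⟩ := hu
    have hy : y ≠ 0 := fun h => hu0 (by rw [h, mul_zero])
    have hmem : Units.mk0 y hy * Units.mk0 y hy ∈ M := by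
      rcases hindex with h | h
      · rw [Subgroup.index_eq_one.mp h]; exact Subgroup.mem_top _
      · exact Subgroup.mul_self_mem_of_index_two h _
    obtain ⟨g, hg, hga, hgj⟩ := hmem
    refine ⟨(x : X) ^ c.val * g, mul_mem (pow_mem x.2 _) hg, ?_, fun j => ?_⟩
    · rw [mul_smul, hga, (hxpow _ 0).2]
    · rw [mul_smul, hgj, (hxpow _ _).1, ZMod.natCast_zmod_val]
      simp [mul_assoc]
  · intro l hl u v w huv hvw huw hu hv hw
    have := Perm.PrimeAddOne.eq_one_of_fix_three hΩ hcard hk0 hF (g := φ ⟨l, hl⟩) ⟨_, rfl⟩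
      huv huw hvw hu hv hw
    exact congrArg Subtype.val (hinj (this.trans (map_one φ).symm))

namespace LineFrame

variable {L : Subgroup X} {a : Ω} {ι : ZMod p → Ω}

/-- The elements of `L` interchanging `a` and the origin are involutions inverting their stabiliser,
which is cyclic of odd order. -/
theorem inverted (hF : LineFrame L p a ι) (hp7 : 7 < p) (hp4 : p % 4 = 3)
    (hL : Nonempty (↥L ≃* Matrix.ProjectiveSpecialLinearGroup (Fin 2) (ZMod p)))
    (hLt : IsMultiplyPretransitive ↥L Ω 2) :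
    IsCyclic ↥(stabilizer L a ⊓ stabilizer L (ι 0)) ∧ H28.Zass.Inverted ↥L a (ι 0) ∧
      Odd (Nat.card ↥(stabilizer L a ⊓ stabilizer L (ι 0))) := by
  obtain ⟨e⟩ := hL
  haveI : IsSimpleGroup (Matrix.ProjectiveSpecialLinearGroup (Fin 2) (ZMod p)) :=
    Cfsg.Agent.Linear.isSimpleGroup_PSL_fin le_rfl fun _ => by rw [Nat.card_zmod]; omega
  haveI : IsSimpleGroup ↥L := e.isSimpleGroup
  have hodd : Odd (Nat.card ↥(stabilizer L a ⊓ stabilizer L (ι 0))) := by
    rw [hF.card_two, Nat.odd_iff]; omega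
  have hnt : ∃ g : L, g ≠ 1 ∧ g • a = a ∧ g • ι 0 = ι 0 := by
    haveI : Nontrivial ↥(stabilizer L a ⊓ stabilizer L (ι 0)) :=
      Finite.one_lt_card_iff_nontrivial.mp (by rw [hF.card_two]; omega)
    obtain ⟨g, hg⟩ := exists_ne (1 : ↥(stabilizer L a ⊓ stabilizer L (ι 0)))
    exact ⟨g.1, fun h => hg (Subtype.ext h), (Subgroup.mem_inf.mp g.2).1,
      (Subgroup.mem_inf.mp g.2).2⟩
  obtain ⟨g, hg1, hga, hg0⟩ := hnt
  have hZ : Cfsg.IsZassenhausGroup ↥L Ω := by
    refine ⟨inferInstance, hLt, fun l u v w h1 h2 h3 hu hv hw =>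
      Subtype.ext (hF.fix_three l l.2 u v w h1 h2 h3 hu hv hw),
      ⟨g, hg1, a, ι 0, (hF.ne 0).symm, hga, hg0⟩, fun N hN htr => ⟨a, fun hbot => hg1 ?_⟩⟩
    rcases hN.eq_bot_or_eq_top with h | h
    · exfalso
      obtain ⟨n, hn⟩ := exists_smul_eq N a (ι 0)
      have hn1 : (n : L) = 1 := Subgroup.mem_bot.mp (h ▸ n.2)
      exact hF.ne 0 (by rw [← hn, Subgroup.smul_def, hn1, one_smul])
    · have : (⟨g, h ▸ Subgroup.mem_top g⟩ : N) ∈ stabilizer N a := hga
      rw [hbot, Subgroup.mem_bot] at this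
      exact congrArg Subtype.val this
  obtain ⟨h1, -, h2⟩ := H28.Zass.inverted_of_simple hZ (hF.ne 0).symm hodd
  exact ⟨h1, h2, hodd⟩

end LineFrame

end Cfsg.Agent.H84.PrimeDeg
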