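import Cfsg.Agent.H84.PrimeDegBase

/-!
# Orbits of two-point stabilisers in groups of prime degree containing half of the affine group
-/

set_option autoImplicit false
set_option linter.unusedSectionVars false

namespace Cfsg.Agent.H84.PrimeDeg

open MulAction

variable {G Ω : Type*} [Group G] [MulAction G Ω] {p : ℕ} [hp : Fact p.Prime]

theorem isSquare_or_isSquare_div {n d : ZMod p} (hn : ¬ IsSquare n) (hd : d ≠ 0) :
    IsSquare d ∨ IsSquare (d / n) := by
  have hn0 : n ≠ 0 := fun h => hn (h ▸ IsSquare.zero)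
  have hp2 : ringChar (ZMod p) ≠ 2 := fun h => hn (FiniteField.isSquare_of_char_two h n)
  rcases em (IsSquare d) with h | h
  · exact Or.inl h
  · right
    rw [← quadraticChar_one_iff_isSquare (div_ne_zero hd hn0)]
    have h1 := (quadraticChar_neg_one_iff_not_isSquare (F := ZMod p)).mpr h
    have h2 := (quadraticChar_neg_one_iff_not_isSquare (F := ZMod p)).mpr hn
    have h3 : d / n * n = d := div_mul_cancel₀ d hn0
    have h4 := map_mul (quadraticChar (ZMod p)) (d / n) n
    rw [h3, h1, h2] at h4
    linarith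

namespace Half

variable (C : Half G Ω p)
include C

theorem card_eq : Nat.card Ω = p := by rw [← Nat.card_congr C.coord, Nat.card_zmod]

theorem isPretransitive : IsPretransitive G Ω := by
  refine ⟨fun x y => ?_⟩
  obtain ⟨i, rfl⟩ := C.coord.surjective x
  obtain ⟨j, rfl⟩ := C.coord.surjective y
  obtain ⟨t, ht⟩ := C.exists_shift (j - i)
  exact ⟨t, by rw [ht]; congr 1; ring⟩

theorem five_le : 5 ≤ p := by
  classical
  haveI : Fintype Ω := Fintype.ofEquiv _ C.coord
  haveI := C.faithful
  by_contra h
  apply C.insoluble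
  let φ := MulAction.toPermHom G Ω
  have hinj : Function.Injective φ := MulAction.toPerm_injective
  let C' : H32.CycleCoords φ.range p := ⟨⟨φ C.gen, C.gen, rfl⟩, C.coord, C.gen_smul⟩
  have h3 : p ≤ 3 := by
    have := hp.out.two_le
    have : p ≠ 4 := fun h4 => by have := h4 ▸ hp.out; norm_num at this
    omega
  haveI := C'.isSolvable (C'.allAffine_of_le_three h3)
  exact Group.isSolvable_of_isSolvable_injective (f := φ.rangeRestrict)
    fun a b e => hinj (congrArg Subtype.val e)

theorem two_ne : p ≠ 2 := by have := C.five_le; omega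

theorem exists_not_square : ∃ n : ZMod p, ¬ IsSquare n :=
  FiniteField.exists_nonsquare (by rw [ZMod.ringChar_zmod_n]; exact C.two_ne)

theorem two_transitive {a b c d : Ω} (hab : a ≠ b) (hcd : c ≠ d) :
    ∃ g : G, g • a = c ∧ g • b = d := by
  classical
  haveI : Fintype Ω := Fintype.ofEquiv _ C.coord
  haveI := C.faithful
  haveI := C.isPretransitive
  let φ := MulAction.toPermHom G Ω
  have hinj : Function.Injective φ := MulAction.toPerm_injective
  let C' : H32.CycleCoords φ.range p := ⟨⟨φ C.gen, C.gen, rfl⟩, C.coord, C.gen_smul⟩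
  haveI : IsPretransitive φ.range Ω := ⟨fun x y => by
    obtain ⟨g, hg⟩ := exists_smul_eq G x y
    exact ⟨⟨φ g, g, rfl⟩, hg⟩⟩
  have hα : Fintype.card Ω = p := by rw [← Fintype.card_congr C.coord, ZMod.card]
  have h2 := (C'.allAffine_or_two_transitive hα).resolve_left fun h => C.insoluble (by
    haveI := C'.isSolvable h
    exact Group.isSolvable_of_isSolvable_injective (f := φ.rangeRestrict)
      fun a b e => hinj (congrArg Subtype.val e))
  obtain ⟨⟨_, g, rfl⟩, h1, h1'⟩ := is_two_pretransitive_iff.mp h2 hab hcd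
  exact ⟨g, h1, h1'⟩

theorem finite : Finite Ω := Finite.of_equiv _ C.coord

/-- At most four orbits of a two-point stabiliser. -/
theorem card_orbits_le {α β : Ω} (hab : α ≠ β) :
    Nat.card (orbitRel.Quotient ↥(stabilizer G α ⊓ stabilizer G β) Ω) ≤ 4 := by
  classical
  haveI : Fintype Ω := Fintype.ofEquiv _ C.coord
  set H := stabilizer G α ⊓ stabilizer G β with hH
  let Q := orbitRel.Quotient H Ω
  haveI : Finite Q := Finite.of_surjective (Quotient.mk'' : Ω → Q) Quotient.mk''_surjective
  haveI : Fintype Q := Fintype.ofFinite _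
  obtain ⟨n, hn⟩ := C.exists_not_square
  have hn0 : n ≠ 0 := fun h => hn (h ▸ IsSquare.zero)
  obtain ⟨g1, hg1α, hg1β⟩ := C.two_transitive hab
    (C.coord.injective.ne (zero_ne_one : (0 : ZMod p) ≠ 1))
  obtain ⟨gn, hgnα, hgnβ⟩ := C.two_transitive hab (C.coord.injective.ne (Ne.symm hn0))
  let lift : (Q → ZMod p) → Ω → ZMod p := fun c x => c (Quotient.mk'' x)
  let Φ : (Q → ZMod p) →ₗ[ZMod p] ZMod p × ZMod p × ZMod p :=
    { toFun := fun c => (∑ x, lift c x, C.moved (lift c) g1, C.moved (lift c) gn)
      map_add' := fun c c' => by simp [lift, moved, add_mul, Finset.sum_add_distrib]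
      map_smul' := fun k c => by simp [lift, moved, mul_assoc, Finset.mul_sum] }
  have hker : LinearMap.ker Φ ≤ Submodule.span (ZMod p) {fun _ : Q => (1 : ZMod p)} := by
    intro c hc
    rw [LinearMap.mem_ker] at hc
    change (_, _, _) = (0 : ZMod p × ZMod p × ZMod p) at hc
    simp only [Prod.mk_eq_zero] at hc
    obtain ⟨h0, h1, hn'⟩ := hc
    have hinv : ∀ h ∈ H, ∀ x, lift c (h • x) = lift c x := fun h hh x =>
      congrArg c (Quotient.sound ⟨⟨h, hh⟩, rfl⟩)
    have hconst := C.const_of_moved_eq_zero C.two_ne h0 fun g => by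
      obtain ⟨i, hi⟩ := C.coord.surjective (g • α)
      obtain ⟨t, ht⟩ := C.exists_shift (-i)
      rw [← C.moved_shift h0 ht g]
      obtain ⟨d, hd⟩ := C.coord.surjective ((t * g) • β)
      have hα' : (t * g) • α = C.coord 0 := by rw [mul_smul, ← hi, ht, add_neg_cancel]
      have hd0 : d ≠ 0 := fun h => hab (smul_left_cancel (t * g) (by rw [hα', ← hd, h]))
      have key : ∀ (r : G) (u : ZMod p) (w : ZMod p), r • α = C.coord 0 → r • β = C.coord w →
          u ≠ 0 → IsSquare u → u * w = d → C.moved (lift c) r = 0 →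
          C.moved (lift c) (t * g) = 0 := by
        intro r u w hr1 hr2 hu0 hu huw hr
        obtain ⟨e, he⟩ := C.scale u hu0 hu
        have e1 : (e * r) • α = (t * g) • α := by rw [hα', mul_smul, hr1, he, mul_zero]
        have e2 : (e * r) • β = (t * g) • β := by rw [← hd, mul_smul, hr2, he, huw]
        have hmem : (e * r)⁻¹ * (t * g) ∈ H := by
          refine ⟨?_, ?_⟩ <;> show ((e * r)⁻¹ * (t * g)) • _ = _ <;> rw [mul_smul, inv_smul_eq_iff]
          exacts [e1.symm, e2.symm]
        rw [show t * g = e * r * ((e * r)⁻¹ * (t * g)) by group, C.moved_fix (hinv _ hmem),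
          C.moved_scale he, hr, mul_zero]
      rcases isSquare_or_isSquare_div hn hd0 with hsq | hsq
      · exact key g1 d 1 hg1α hg1β hd0 hsq (mul_one d) h1
      · exact key gn (d / n) n hgnα hgnβ (div_ne_zero hd0 hn0) hsq (div_mul_cancel₀ d hn0) hn'
    rw [Submodule.mem_span_singleton]
    refine ⟨c (Quotient.mk'' α), funext fun z => ?_⟩
    induction z using Quotient.inductionOn' with
    | _ x => simpa [lift] using hconst α x
  have h1 := LinearMap.finrank_range_add_finrank_ker Φ
  have h2 := Submodule.finrank_mono hker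
  have h3 := finrank_span_le_card (R := ZMod p) ({fun _ : Q => (1 : ZMod p)} : Set (Q → ZMod p))
  have h4 : Module.finrank (ZMod p) (LinearMap.range Φ) ≤ 3 :=
    (Submodule.finrank_le _).trans (by simp [Module.finrank_prod])
  rw [Module.finrank_fintype_fun_eq_card] at h1
  simp only [Set.toFinset_singleton, Finset.card_singleton] at h3
  rw [Nat.card_eq_fintype_card]
  show Fintype.card Q ≤ 4
  omega

omit hp C in
/-- The singletons `α`, `β`, `γ` fixed by a group with at most `3` (resp. `4`) orbits leave one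
orbit. -/
theorem orbit_eq_of_card_le {H : Type*} [Group H] {X : Type*} [MulAction H X] [Finite X]
    {k : ℕ} (hcard : Nat.card (orbitRel.Quotient H X) ≤ k + 1) (s : Fin k → X)
    (hs : Function.Injective s) (hfix : ∀ (i : Fin k) (h : H), h • s i = s i) {z w : X}
    (hz : ∀ i, z ≠ s i) (hw : ∀ i, w ≠ s i) : ∃ h : H, h • z = w := by
  by_contra hno
  haveI : Finite (orbitRel.Quotient H X) :=
    Finite.of_surjective (Quotient.mk'' : X → _) Quotient.mk''_surjective
  let f : Option (Option (Fin k)) → orbitRel.Quotient H X := fun o =>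
    match o with
    | none => Quotient.mk'' z
    | some none => Quotient.mk'' w
    | some (some i) => Quotient.mk'' (s i)
  have hrel : ∀ {a b : X}, (Quotient.mk'' a : orbitRel.Quotient H X) = Quotient.mk'' b →
      ∃ h : H, h • b = a := fun e => Quotient.exact e
  have hf : Function.Injective f := by
    rintro (_ | _ | i) (_ | _ | j) e
    all_goals simp only [f] at e
    · rfl
    · obtain ⟨h, hh⟩ := hrel e.symm
      exact absurd ⟨h, hh⟩ hno
    · obtain ⟨h, hh⟩ := hrel e
      exact absurd ((hfix j h).symm.trans hh).symm (hz j)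
    · obtain ⟨h, hh⟩ := hrel e
      exact absurd ⟨h, hh⟩ hno
    · rfl
    · obtain ⟨h, hh⟩ := hrel e
      exact absurd ((hfix j h).symm.trans hh).symm (hw j)
    · obtain ⟨h, hh⟩ := hrel e.symm
      exact absurd ((hfix i h).symm.trans hh).symm (hz i)
    · obtain ⟨h, hh⟩ := hrel e.symm
      exact absurd ((hfix i h).symm.trans hh).symm (hw i)
    · obtain ⟨h, hh⟩ := hrel e.symm
      rw [hs ((hfix i h).symm.trans hh)]
  have := Nat.card_le_card_of_injective f hf
  simp only [Finite.card_option, Nat.card_fin] at this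
  omega

/-- Three orbits of the two-point stabilisers give triple transitivity. -/
theorem three_transitive_of_card_le {α β : Ω} (hab : α ≠ β)
    (h : Nat.card (orbitRel.Quotient ↥(stabilizer G α ⊓ stabilizer G β) Ω) ≤ 3) :
    IsMultiplyPretransitive G Ω 3 := by
  haveI := C.finite
  constructor
  intro x y
  have h01 : (0 : Fin 3) ≠ 1 := by decide
  obtain ⟨g, hg0, hg1⟩ := C.two_transitive (x.injective.ne h01) hab
  obtain ⟨g', hg0', hg1'⟩ := C.two_transitive (y.injective.ne h01) hab
  obtain ⟨k, hk⟩ := orbit_eq_of_card_le h ![α, β]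
    (fun i j e => by fin_cases i <;> fin_cases j <;> simp_all [eq_comm])
    (fun i k => by
      fin_cases i
      · exact k.2.1
      · exact k.2.2)
    (z := g • x 2) (w := g' • y 2)
    (fun i => by
      fin_cases i
      · simpa [← hg0] using x.injective.ne (by decide : (2 : Fin 3) ≠ 0)
      · simpa [← hg1] using x.injective.ne (by decide : (2 : Fin 3) ≠ 1))
    (fun i => by
      fin_cases i
      · simpa [← hg0'] using y.injective.ne (by decide : (2 : Fin 3) ≠ 0)
      · simpa [← hg1'] using y.injective.ne (by decide : (2 : Fin 3) ≠ 1))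
  refine ⟨g'⁻¹ * k * g, Function.Embedding.ext fun i => ?_⟩
  show (g'⁻¹ * (k : G) * g) • x i = y i
  rw [mul_smul, mul_smul, inv_smul_eq_iff]
  fin_cases i
  · show (k : G) • g • x 0 = g' • y 0
    rw [hg0, hg0']; exact k.2.1
  · show (k : G) • g • x 1 = g' • y 1
    rw [hg1, hg1']; exact k.2.2
  · exact hk

end Half

end Cfsg.Agent.H84.PrimeDeg
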