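import Mathlib

/-!
# The sign of a multiplication on `ZMod p`
-/

set_option autoImplicit false

namespace Cfsg.Agent.H84.PrimeDeg

variable {p : ℕ} [hp : Fact p.Prime]

theorem isSquare_of_sign_mul (hp2 : p ≠ 2) (u : (ZMod p)ˣ)
    (hu : Equiv.Perm.sign (MulAction.toPerm u : Equiv.Perm (ZMod p)) = 1) :
    IsSquare (u : ZMod p) := by
  obtain ⟨g, hg⟩ := IsCyclic.exists_generator (α := (ZMod p)ˣ)
  set σ : Equiv.Perm (ZMod p) := MulAction.toPerm g with hσ
  obtain ⟨k, hk⟩ := mem_powers_iff_mem_zpowers.mpr (hg u)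
  have hg1 : g ≠ 1 := by
    intro h
    have h1 := hg (-1 : (ZMod p)ˣ)
    rw [h, Subgroup.zpowers_one_eq_bot, Subgroup.mem_bot] at h1
    have h2 : ((2 : ℕ) : ZMod p) = 0 := by
      have := congrArg Units.val h1
      simp only [Units.val_neg, Units.val_one] at this
      push_cast
      linear_combination -this
    rw [ZMod.natCast_eq_zero_iff] at h2
    exact hp2 ((Nat.prime_dvd_prime_iff_eq hp.out Nat.prime_two).mp h2)
  have hsupp : σ.support = Finset.univ.erase 0 := by
    ext y
    simp only [Equiv.Perm.mem_support, Finset.mem_erase, Finset.mem_univ, and_true, hσ,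
      MulAction.toPerm_apply, Units.smul_def, smul_eq_mul]
    refine ⟨fun h h0 => h (by rw [h0, mul_zero]), fun h h0 => hg1 (Units.ext ?_)⟩
    exact mul_right_cancel₀ h (h0.trans (one_mul y).symm)
  have hcycle : σ.IsCycle := by
    refine ⟨1, ?_, fun y hy => ?_⟩
    · have : (1 : ZMod p) ∈ σ.support := by rw [hsupp]; simp
      exact Equiv.Perm.mem_support.mp this
    · have hy0 : y ≠ 0 := by
        have := Equiv.Perm.mem_support.mpr hy
        rw [hsupp] at this
        exact Finset.ne_of_mem_erase this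
      obtain ⟨i, hi⟩ := hg (Units.mk0 y hy0)
      refine ⟨i, ?_⟩
      rw [hσ, ← MulAction.toPermHom_apply, ← map_zpow, MulAction.toPermHom_apply,
        MulAction.toPerm_apply, Units.smul_def, smul_eq_mul, mul_one]
      exact congrArg Units.val hi
  have hs : Equiv.Perm.sign σ = -1 := by
    rw [hcycle.sign, hsupp, Finset.card_erase_of_mem (Finset.mem_univ _), Finset.card_univ,
      ZMod.card, Even.neg_one_pow (hp.out.even_sub_one hp2)]
  have hk' : g ^ k = u := hk
  rw [← hk', ← MulAction.toPermHom_apply, map_pow, MulAction.toPermHom_apply, map_pow, ← hσ, hs]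
    at hu
  have hke : Even k := by
    rcases Nat.even_or_odd k with h | h
    · exact h
    · rw [h.neg_one_pow] at hu
      exact absurd hu (by decide)
  obtain ⟨l, rfl⟩ := hke
  exact ⟨((g ^ l : (ZMod p)ˣ) : ZMod p), by rw [← hk', pow_add, Units.val_mul]⟩

/-- The extension of an affine permutation of `ZMod p` by a fixed point is odd unless the
multiplier is a square. -/
theorem isSquare_of_sign_option {Ω : Type*} [Fintype Ω] [DecidableEq Ω] (hp2 : p ≠ 2)
    (e : Option (ZMod p) ≃ Ω) (σ : Equiv.Perm Ω) {u : ZMod p} (hu : u ≠ 0)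
    (h1 : σ (e none) = e none) (h2 : ∀ j, σ (e (some j)) = e (some (u * j)))
    (hσ : Equiv.Perm.sign σ = 1) : IsSquare u := by
  have he : σ = e.permCongr (Equiv.optionCongr (MulAction.toPerm (Units.mk0 u hu))) := by
    refine Equiv.ext fun x => ?_
    obtain ⟨y, rfl⟩ := e.surjective x
    rw [Equiv.permCongr_apply, Equiv.symm_apply_apply]
    cases y with
    | none => simpa using h1
    | some j => simpa [Units.smul_def] using h2 j
  rw [he, Equiv.Perm.sign_permCongr, Equiv.optionCongr_sign] at hσ
  exact isSquare_of_sign_mul hp2 _ hσ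

end Cfsg.Agent.H84.PrimeDeg
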