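import Cfsg.Agent.H84.PrimeDegLine
import Cfsg.Agent.H84.PrimeDegSign
import Cfsg.Agent.H84.PrimeDegGalois
import Cfsg.Agent.H84.PrimeDegBlocks
import Cfsg.Agent.H78.Dihedral.OfAction
import Cfsg.Agent.H27.Dihedral

/-!
# Proper even overgroups of `PSL(2, p)` on `p + 1` points are 4-transitive
-/

set_option autoImplicit false
set_option linter.unusedSectionVars false

namespace Cfsg.Agent.H84.PrimeDeg

open MulAction

variable {X Ω : Type*} [Group X] [Finite X] [MulAction X Ω] [FaithfulSMul X Ω] [Fintype Ω]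
  [DecidableEq Ω] {p : ℕ} [hp : Fact p.Prime]

theorem three_transitive_of_fix {G T : Type*} [Group G] [MulAction G T] {α β : T} (hab : α ≠ β)
    (h2 : ∀ {a b c d : T}, a ≠ b → c ≠ d → ∃ g : G, g • a = c ∧ g • b = d)
    (h : ∀ u v : T, u ≠ α → u ≠ β → v ≠ α → v ≠ β →
      ∃ g : G, g • α = α ∧ g • β = β ∧ g • u = v) : IsMultiplyPretransitive G T 3 := by
  constructor
  intro x y
  have h01 : (0 : Fin 3) ≠ 1 := by decide
  have h20 : (2 : Fin 3) ≠ 0 := by decide
  have h21 : (2 : Fin 3) ≠ 1 := by decide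
  obtain ⟨g, hg0, hg1⟩ := h2 (x.injective.ne h01) hab
  obtain ⟨g', hg0', hg1'⟩ := h2 (y.injective.ne h01) hab
  obtain ⟨k, hka, hkb, hk⟩ := h (g • x 2) (g' • y 2)
    (fun e => x.injective.ne h20 (smul_left_cancel g (e.trans hg0.symm)))
    (fun e => x.injective.ne h21 (smul_left_cancel g (e.trans hg1.symm)))
    (fun e => y.injective.ne h20 (smul_left_cancel g' (e.trans hg0'.symm)))
    (fun e => y.injective.ne h21 (smul_left_cancel g' (e.trans hg1'.symm)))
  refine ⟨g'⁻¹ * k * g, Function.Embedding.ext fun i => ?_⟩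
  show (g'⁻¹ * k * g) • x i = y i
  rw [mul_smul, mul_smul, inv_smul_eq_iff]
  fin_cases i
  · show k • g • x 0 = g' • y 0
    rw [hg0, hg0', hka]
  · show k • g • x 1 = g' • y 1
    rw [hg1, hg1', hkb]
  · exact hk

/-- `g` fixes or interchanges `a` and `b`. -/
def pairStab (X : Type*) {Ω : Type*} [Group X] [MulAction X Ω] (a b : Ω) : Subgroup X where
  carrier := {g | g • a = a ∧ g • b = b ∨ g • a = b ∧ g • b = a}
  one_mem' := Or.inl ⟨one_smul _ _, one_smul _ _⟩
  mul_mem' := by
    rintro g h (⟨g1, g2⟩ | ⟨g1, g2⟩) (⟨h1, h2⟩ | ⟨h1, h2⟩)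
    · exact Or.inl ⟨by rw [mul_smul, h1, g1], by rw [mul_smul, h2, g2]⟩
    · exact Or.inr ⟨by rw [mul_smul, h1, g2], by rw [mul_smul, h2, g1]⟩
    · exact Or.inr ⟨by rw [mul_smul, h1, g1], by rw [mul_smul, h2, g2]⟩
    · exact Or.inl ⟨by rw [mul_smul, h1, g2], by rw [mul_smul, h2, g1]⟩
  inv_mem' := by
    rintro g (⟨g1, g2⟩ | ⟨g1, g2⟩)
    · exact Or.inl ⟨by rw [inv_smul_eq_iff, g1], by rw [inv_smul_eq_iff, g2]⟩
    · exact Or.inr ⟨by rw [inv_smul_eq_iff, g2], by rw [inv_smul_eq_iff, g1]⟩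

/-- The points other than `a` and `b`. -/
def offPair (X : Type*) {Ω : Type*} [Group X] [MulAction X Ω] (a b : Ω) :
    SubMulAction ↥(pairStab X a b) Ω where
  carrier := {x | x ≠ a ∧ x ≠ b}
  smul_mem' := by
    rintro ⟨g, hg⟩ x ⟨hxa, hxb⟩
    show g • x ≠ a ∧ g • x ≠ b
    rcases hg with ⟨g1, g2⟩ | ⟨g1, g2⟩
    · exact ⟨fun e => hxa (smul_left_cancel g (e.trans g1.symm)),
        fun e => hxb (smul_left_cancel g (e.trans g2.symm))⟩
    · exact ⟨fun e => hxb (smul_left_cancel g (e.trans g2.symm)),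
        fun e => hxa (smul_left_cancel g (e.trans g1.symm))⟩

theorem four_transitive_of_line (hp7 : 7 < p) (hΩ : Fintype.card Ω = p + 1)
    (heven : ∀ x : X, Equiv.Perm.sign (MulAction.toPerm x : Equiv.Perm Ω) = 1)
    (L : Subgroup X) (hL : Nonempty (↥L ≃* Matrix.ProjectiveSpecialLinearGroup (Fin 2) (ZMod p)))
    (hLt : IsMultiplyPretransitive ↥L Ω 2) (hLX : L ≠ ⊤) : IsMultiplyPretransitive X Ω 4 := by
  classical
  have hp2 : p ≠ 2 := by omega
  obtain ⟨a, ι, hF⟩ := exists_lineFrame hp2 hΩ L hL hLt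
  haveI := hLt
  haveI : IsPretransitive ↥L Ω := isPretransitive_of_is_two_pretransitive
  haveI : IsPretransitive X Ω := ⟨fun u v => by
    obtain ⟨l, hl⟩ := exists_smul_eq L u v
    exact ⟨l, hl⟩⟩
  let coord : ZMod p ≃ ↥(SubMulAction.ofStabilizer X a) :=
    Equiv.ofBijective (fun j => ⟨ι j, hF.ne j⟩)
      ⟨fun i j e => hF.inj (congrArg Subtype.val e), fun x => by
        obtain ⟨j, hj⟩ := hF.surj x.1 x.2
        exact ⟨j, Subtype.ext hj⟩⟩
  have hcoord : ∀ j, (coord j : Ω) = ι j := fun j => rfl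
  obtain ⟨x₁, hx₁L, hx₁a, hx₁⟩ := hF.square 1 1 one_ne_zero IsSquare.one
  let gen : stabilizer X a := ⟨x₁, hx₁a⟩
  have hgen : ∀ j, gen • coord j = coord (j + 1) := fun j => Subtype.ext (by
    show x₁ • ι j = ι (j + 1)
    rw [hx₁, one_mul])
  have hscale : ∀ u : ZMod p, u ≠ 0 → IsSquare u →
      ∃ e : stabilizer X a, ∀ j, e • coord j = coord (u * j) := fun u hu0 hu => by
    obtain ⟨l, -, hla, hlj⟩ := hF.square u 0 hu0 hu
    refine ⟨⟨l, hla⟩, fun j => Subtype.ext ?_⟩
    show l • ι j = ι (u * j)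
    rw [hlj, add_zero]
  haveI hfaith : FaithfulSMul ↥(stabilizer X a) ↥(SubMulAction.ofStabilizer X a) := ⟨fun {g k} h =>
    Subtype.ext (eq_of_smul_eq_smul fun z : Ω => by
      by_cases hz : z = a
      · rw [hz]; exact g.2.trans k.2.symm
      · exact congrArg Subtype.val (h ⟨z, hz⟩))⟩
  haveI : Fintype ↥(SubMulAction.ofStabilizer X a) := Fintype.ofEquiv _ coord
  let ψ := MulAction.toPermHom ↥(stabilizer X a) ↥(SubMulAction.ofStabilizer X a)
  let C' : H32.CycleCoords ψ.range p := ⟨⟨ψ gen, gen, rfl⟩, coord, hgen⟩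
  have hnaff : ¬ C'.AllAffine := by
    intro hA
    apply hLX
    rw [Subgroup.eq_top_iff']
    intro x
    obtain ⟨⟨l, hl⟩, hlx⟩ := exists_smul_eq L a (x • a)
    have hy : (l⁻¹ * x) • a = a := by rw [mul_smul, inv_smul_eq_iff]; exact hlx.symm
    obtain ⟨u, c, hu⟩ := hA ⟨ψ ⟨_, hy⟩, _, rfl⟩
    have hu' : ∀ j, (l⁻¹ * x) • ι j = ι (u * j + c) := fun j => congrArg Subtype.val (hu j)
    have hu0 : u ≠ 0 := by
      intro h0
      have h1 := hu' 0
      have h2 := hu' 1
      rw [h0, zero_mul] at h1 h2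
      exact zero_ne_one (hF.inj (smul_left_cancel _ (h1.trans h2.symm)))
    obtain ⟨t, htL, hta, htj⟩ := hF.square 1 (-c) one_ne_zero IsSquare.one
    let e : Option (ZMod p) ≃ Ω := Equiv.ofBijective (fun o => o.elim a ι) ⟨fun i j h => by
      rcases i with _ | i <;> rcases j with _ | j
      · rfl
      · exact absurd h.symm (hF.ne j)
      · exact absurd h (hF.ne i)
      · exact congrArg some (hF.inj h), fun z => by
      by_cases hz : z = a
      · exact ⟨none, hz.symm⟩
      · obtain ⟨j, hj⟩ := hF.surj z hz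
        exact ⟨some j, hj⟩⟩
    have hsq : IsSquare u := isSquare_of_sign_option hp2 e (toPerm (t * (l⁻¹ * x))) hu0
      (by show (t * (l⁻¹ * x)) • a = a; rw [mul_smul, hy, hta])
      (fun j => by
        show (t * (l⁻¹ * x)) • ι j = ι (u * j)
        rw [mul_smul, hu', htj, one_mul, add_neg_cancel_right]) (heven _)
    obtain ⟨w, hwL, hwa, hwj⟩ := hF.square u c hu0 hsq
    have hxw : l⁻¹ * x = w := eq_of_smul_eq_smul fun z : Ω => by
      by_cases hz : z = a
      · rw [hz, hy, hwa]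
      · obtain ⟨j, rfl⟩ := hF.surj z hz
        rw [hu', hwj]
    rw [show x = l * w by rw [← hxw, mul_inv_cancel_left]]
    exact mul_mem hl hwL
  have hinjψ : Function.Injective ψ := MulAction.toPerm_injective
  have hins : ¬ Group.IsSolvable ↥(stabilizer X a) := fun hs => hnaff (by
    have hcard : Fintype.card ↥(SubMulAction.ofStabilizer X a) = p := by
      rw [← Fintype.card_congr coord, ZMod.card]
    haveI : IsPretransitive ψ.range ↥(SubMulAction.ofStabilizer X a) := ⟨fun u v => by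
      obtain ⟨i, rfl⟩ := coord.surjective u
      obtain ⟨j, rfl⟩ := coord.surjective v
      obtain ⟨t, -, hta, htj⟩ := hF.square 1 (j - i) one_ne_zero IsSquare.one
      refine ⟨⟨ψ ⟨t, hta⟩, _, rfl⟩, Subtype.ext ?_⟩
      show t • ι i = ι j
      rw [htj]; congr 1; ring⟩
    exact allAffine_of_isSolvable hcard C'
      (Group.isSolvable_of_surjective ψ.rangeRestrict_surjective))
  let C : Half ↥(stabilizer X a) ↥(SubMulAction.ofStabilizer X a) p :=
    ⟨coord, gen, hgen, hscale, hins, hfaith⟩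
  refine (SubMulAction.ofStabilizer.isMultiplyPretransitive (a := a)).mpr ?_
  by_cases hsq : IsSquare (-1 : ZMod p)
  · exact C.three_transitive_of_square hsq
  have hp4 : p % 4 = 3 := by
    by_contra h
    exact hsq (ZMod.exists_sq_eq_neg_one_iff.mpr h)
  obtain ⟨hcyc, hinv, hodd⟩ := hF.inverted hp7 hp4 hL hLt
  set b := ι 0 with hbdef
  set c := ι 1 with hcdef
  have hab : a ≠ b := (hF.ne 0).symm
  have hca : c ≠ a := hF.ne 1
  have hcb : c ≠ b := fun h => one_ne_zero (hF.inj h)
  -- the regular dihedral subgroup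
  obtain ⟨s, hsa, hsb⟩ := is_two_pretransitive_iff.mp hLt hab hab.symm
  have hs2 : s * s = 1 := by
    rw [← pow_two, ← H28.Zass.swap_orderOf hab hodd hinv hsa hsb, pow_orderOf_eq_one]
  let E := stabilizer L a ⊓ stabilizer L b
  let incl : E →* ↥(pairStab X a b) :=
    { toFun := fun x => ⟨(x : L), Or.inl ⟨(Subgroup.mem_inf.mp x.2).1, (Subgroup.mem_inf.mp x.2).2⟩⟩
      map_one' := rfl
      map_mul' := fun _ _ => rfl }
  let T : Multiplicative (ZMod (Nat.card E)) →* ↥(pairStab X a b) :=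
    incl.comp (zmodCyclicMulEquiv hcyc).toMonoidHom
  let σ : ↥(pairStab X a b) := ⟨(s : X), Or.inr ⟨hsa, hsb⟩⟩
  have hσσ : σ * σ = 1 := Subtype.ext (congrArg Subtype.val hs2 : _)
  have hTσ : ∀ d, T d * σ = σ * T d⁻¹ := fun d => by
    refine Subtype.ext ?_
    show (((zmodCyclicMulEquiv hcyc d : E) : L) : X) * (s : X) =
      (s : X) * (((zmodCyclicMulEquiv hcyc d⁻¹ : E) : L) : X)
    rw [map_inv]
    have h := hinv s hsa hsb _ (inv_mem (zmodCyclicMulEquiv hcyc d).2)
    rw [inv_inv] at h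
    have h2 : ((zmodCyclicMulEquiv hcyc d : E) : L) * s =
        s * ((zmodCyclicMulEquiv hcyc d : E) : L)⁻¹ := (eq_mul_inv_iff_mul_eq.mp h.symm)
    exact congrArg Subtype.val h2
  haveI : NeZero (Nat.card E) := ⟨Nat.card_pos.ne'⟩
  let D := H27.Dihedral.ofInverting T σ hσσ hTσ
  let ω : ↥(offPair X a b) := ⟨c, hca, hcb⟩
  have hEc : ∀ g : E, ((g : L) : X) • c = c → g = 1 := fun g hg =>
    Subtype.ext (Subtype.ext (hF.fix_three _ g.1.2 a b c hab (Ne.symm hcb) hca.symm
      (Subgroup.mem_inf.mp g.2).1 (Subgroup.mem_inf.mp g.2).2 hg))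
  have hcardc : Odd (Nat.card ↥(stabilizer L c)) := by
    have h1 := (stabilizer L c).card_mul_index
    rw [index_stabilizer_of_transitive, Nat.card_eq_fintype_card (α := Ω), hΩ] at h1
    obtain ⟨e⟩ := hL
    have h2 := Cfsg.Agent.Linear.card_PSL_two_mul (F := ZMod p)
    rw [ZMod.card, ← Nat.card_congr e.toEquiv, Nat.gcd_eq_left (show 2 ∣ p - 1 by omega), ← h1] at h2
    obtain ⟨k, hk⟩ : ∃ k, p = 4 * k + 3 := ⟨p / 4, by omega⟩
    have h3 : p ^ 2 - 1 = (p + 1) * (2 * (2 * k + 1)) :=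
      Nat.sub_eq_of_eq_add (by rw [hk]; ring)
    rw [h3] at h2
    have h4 : Nat.card ↥(stabilizer L c) = p * (2 * k + 1) :=
      Nat.eq_of_mul_eq_mul_left (show 0 < 2 * (p + 1) by omega) (by linarith)
    rw [h4]
    exact (hp.out.odd_of_ne_two hp2).mul ⟨k, rfl⟩
  have hswap : ∀ l : L, l • a = b → l • b = a → l • c ≠ c := by
    intro l hla hlb hlc
    have h2 := H28.Zass.swap_orderOf hab hodd hinv hla hlb
    have h3 := Subgroup.orderOf_dvd_natCard (stabilizer L c) hlc
    rw [h2] at h3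
    exact (Nat.not_even_iff_odd.mpr hcardc) (even_iff_two_dvd.mpr h3)
  have hker : ∀ d, D d • ω = ω → d = 1 := by
    intro d hd
    have hd' : ((D d : ↥(pairStab X a b)) : X) • c = c := congrArg Subtype.val hd
    rcases d with i | i
    · have h1 : zmodCyclicMulEquiv hcyc (Multiplicative.ofAdd i) = 1 := hEc _ hd'
      rw [MulEquiv.map_eq_one_iff] at h1
      rw [DihedralGroup.one_def]
      congr 1
    · exfalso
      let x : E := zmodCyclicMulEquiv hcyc (Multiplicative.ofAdd i)
      refine hswap (s * (x : L)) ?_ ?_ hd'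
      · rw [mul_smul, (Subgroup.mem_inf.mp x.2).1, hsa]
      · rw [mul_smul, (Subgroup.mem_inf.mp x.2).2, hsb]
  have hinjD : Function.Injective fun d => D d • ω := fun d d' h => by
    have h' : D d • ω = D d' • ω := h
    have h1 : D (d'⁻¹ * d) • ω = ω := by
      rw [map_mul, map_inv, mul_smul, h', inv_smul_smul]
    exact (inv_mul_eq_one.mp (hker _ h1)).symm
  have hcardE : Nat.card E = (p - 1) / 2 := hF.card_two
  have hbij : Function.Bijective fun d => D d • ω := by
    refine hinjD.bijective_of_nat_card_le ?_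
    rw [DihedralGroup.nat_card, hcardE]
    have e : ↥(offPair X a b) ≃ {j : ZMod p // j ≠ 0} :=
      { toFun := fun z => ⟨coord.symm ⟨z.1, z.2.1⟩, fun h => z.2.2 (by
          have := congrArg (fun t => (coord t : Ω)) h
          simpa [hcoord] using this)⟩
        invFun := fun j => ⟨ι j, hF.ne j, fun h => j.2 (hF.inj h)⟩
        left_inv := fun z => Subtype.ext (by
          show (coord (coord.symm ⟨z.1, z.2.1⟩) : Ω) = z
          rw [Equiv.apply_symm_apply])
        right_inv := fun j => Subtype.ext (by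
          show coord.symm (coord j.1) = j.1
          rw [Equiv.symm_apply_apply]) }
    rw [Nat.card_congr e, Nat.card_eq_fintype_card, Fintype.card_subtype_compl,
      Fintype.card_subtype_eq, ZMod.card]
    omega
  -- the group on the remaining points is primitive
  haveI hprim : IsPreprimitive ↥(pairStab X a b) ↥(offPair X a b) := by
    haveI := C.isPreprimitive_stabilizer hp7 (coord 0)
    let φ : ↥(stabilizer ↥(stabilizer X a) (coord 0)) → ↥(pairStab X a b) := fun g =>
      ⟨((g : stabilizer X a) : X), Or.inl ⟨(g : stabilizer X a).2, congrArg Subtype.val g.2⟩⟩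
    let f : ↥(SubMulAction.ofStabilizer ↥(stabilizer X a) (coord 0)) →ₑ[φ] ↥(offPair X a b) :=
      { toFun := fun z => ⟨((z : ↥(SubMulAction.ofStabilizer X a)) : Ω),
          (z : ↥(SubMulAction.ofStabilizer X a)).2, fun h => z.2 (Subtype.ext h)⟩
        map_smul' := fun g z => rfl }
    refine IsPreprimitive.of_surjective (f := f) fun z => ?_
    exact ⟨⟨⟨z.1, z.2.1⟩, fun h => z.2.2 (congrArg Subtype.val h)⟩, rfl⟩
  have h2K := H78.Dihedral.two_transitive_of_dihedral D ω hbij hprim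
  -- two orbits at most
  have htwo : ∀ w₁ w₂ w₃ : Ω, w₁ ≠ a → w₁ ≠ b → w₁ ≠ c → w₂ ≠ a → w₂ ≠ b → w₂ ≠ c →
      w₃ ≠ a → w₃ ≠ b → w₃ ≠ c →
      (∃ x : X, x • a = a ∧ x • b = b ∧ x • c = c ∧ x • w₁ = w₂) ∨
      (∃ x : X, x • a = a ∧ x • b = b ∧ x • c = c ∧ x • w₁ = w₃) ∨
      (∃ x : X, x • a = a ∧ x • b = b ∧ x • c = c ∧ x • w₂ = w₃) := by
    intro w₁ w₂ w₃ a1 b1 c1 a2 b2 c2 a3 b3 c3
    by_contra hno
    push Not at hno
    obtain ⟨n12, n13, n23⟩ := hno
    have hle := C.card_orbits_le (α := coord 0) (β := coord 1) (coord.injective.ne zero_ne_one)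
    let v : Fin 5 → ↥(SubMulAction.ofStabilizer X a) :=
      ![coord 0, coord 1, ⟨w₁, a1⟩, ⟨w₂, a2⟩, ⟨w₃, a3⟩]
    have hinjv : Function.Injective fun i => (Quotient.mk'' (v i) : orbitRel.Quotient
        ↥(stabilizer ↥(stabilizer X a) (coord 0) ⊓ stabilizer ↥(stabilizer X a) (coord 1))
        ↥(SubMulAction.ofStabilizer X a)) := by
      intro i j e
      obtain ⟨g, hg⟩ := (Quotient.exact e.symm : v j ∈ orbit _ (v i))
      have ga : ((g : stabilizer X a) : X) • a = a := (g : stabilizer X a).2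
      have gb : ((g : stabilizer X a) : X) • b = b :=
        congrArg Subtype.val (Subgroup.mem_inf.mp g.2).1
      have gc : ((g : stabilizer X a) : X) • c = c :=
        congrArg Subtype.val (Subgroup.mem_inf.mp g.2).2
      have hgv : ((g : stabilizer X a) : X) • (v i : Ω) = v j := congrArg Subtype.val hg
      have hgv' : ((g : stabilizer X a) : X)⁻¹ • (v j : Ω) = v i := by
        rw [inv_smul_eq_iff, hgv]
      have ga' := inv_smul_eq_iff.mpr ga.symm
      have gb' := inv_smul_eq_iff.mpr gb.symm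
      have gc' := inv_smul_eq_iff.mpr gc.symm
      fin_cases i <;> fin_cases j
      all_goals first
        | rfl
        | exact absurd (gb.symm.trans hgv) (Ne.symm hcb)
        | exact absurd (gc.symm.trans hgv) hcb
        | exact absurd (gb.symm.trans hgv) (Ne.symm b1)
        | exact absurd (gb.symm.trans hgv) (Ne.symm b2)
        | exact absurd (gb.symm.trans hgv) (Ne.symm b3)
        | exact absurd (gc.symm.trans hgv) (Ne.symm c1)
        | exact absurd (gc.symm.trans hgv) (Ne.symm c2)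
        | exact absurd (gc.symm.trans hgv) (Ne.symm c3)
        | exact absurd (gb'.symm.trans hgv') (Ne.symm b1)
        | exact absurd (gb'.symm.trans hgv') (Ne.symm b2)
        | exact absurd (gb'.symm.trans hgv') (Ne.symm b3)
        | exact absurd (gc'.symm.trans hgv') (Ne.symm c1)
        | exact absurd (gc'.symm.trans hgv') (Ne.symm c2)
        | exact absurd (gc'.symm.trans hgv') (Ne.symm c3)
        | exact absurd hgv (n12 _ ga gb gc)
        | exact absurd hgv (n13 _ ga gb gc)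
        | exact absurd hgv (n23 _ ga gb gc)
        | exact absurd hgv' (n12 _ ga' gb' gc')
        | exact absurd hgv' (n13 _ ga' gb' gc')
        | exact absurd hgv' (n23 _ ga' gb' gc')
    have h5 := (Nat.card_fin 5).symm.trans_le ((Nat.card_le_card_of_injective _ hinjv).trans hle)
    omega
  -- one orbit
  have hone : ∀ u v : Ω, u ≠ a → u ≠ b → u ≠ c → v ≠ a → v ≠ b → v ≠ c →
      ∃ x : X, x • a = a ∧ x • b = b ∧ x • c = c ∧ x • u = v := by
    intro u v ua ub uc va vb vc
    by_contra hno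
    let u' : ↥(offPair X a b) := ⟨u, ua, ub⟩
    let v' : ↥(offPair X a b) := ⟨v, va, vb⟩
    have hu' : ω ≠ u' := fun h => uc (congrArg Subtype.val h).symm
    have hv' : ω ≠ v' := fun h => vc (congrArg Subtype.val h).symm
    obtain ⟨⟨k, hk⟩, hkc, hku⟩ := is_two_pretransitive_iff.mp h2K hu' hv'
    have hkc' : k • c = c := congrArg Subtype.val hkc
    have hku' : k • u = v := congrArg Subtype.val hku
    let R : Ω → Ω → Prop := fun w w' => ∃ x : X, x • a = a ∧ x • b = b ∧ x • c = c ∧ x • w = w'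
    have hsymm : ∀ w w', R w w' → R w' w := fun w w' ⟨x, h1, h2, h3, h4⟩ =>
      ⟨x⁻¹, inv_smul_eq_iff.mpr h1.symm, inv_smul_eq_iff.mpr h2.symm, inv_smul_eq_iff.mpr h3.symm,
        inv_smul_eq_iff.mpr h4.symm⟩
    have htrans : ∀ w₁ w₂ w₃, R w₁ w₂ → R w₂ w₃ → R w₁ w₃ :=
      fun w₁ w₂ w₃ ⟨x, h1, h2, h3, h4⟩ ⟨y, k1, k2, k3, k4⟩ => ⟨y * x, by rw [mul_smul, h1, k1],
        by rw [mul_smul, h2, k2], by rw [mul_smul, h3, k3], by rw [mul_smul, h4, k4]⟩
    have hmove : ∀ w w', R w w' → R (k • w) (k • w') := by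
      rintro w w' ⟨x, h1, h2, h3, h4⟩
      refine ⟨k * x * k⁻¹, ?_, ?_, ?_, ?_⟩
      · rcases (pairStab X a b).inv_mem hk with ⟨r1, r2⟩ | ⟨r1, r2⟩ <;>
          rw [mul_smul, mul_smul, r1] <;> simp only [h1, h2] <;>
          exact (inv_smul_eq_iff.mp r1).symm
      · rcases (pairStab X a b).inv_mem hk with ⟨r1, r2⟩ | ⟨r1, r2⟩ <;>
          rw [mul_smul, mul_smul, r2] <;> simp only [h1, h2] <;>
          exact (inv_smul_eq_iff.mp r2).symm
      · rw [mul_smul, mul_smul, inv_smul_eq_iff.mpr hkc'.symm, h3, hkc']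
      · rw [mul_smul, mul_smul, inv_smul_smul, h4]
    let W : Finset Ω := ((Finset.univ.erase a).erase b).erase c
    have hW : ∀ w, w ∈ W ↔ w ≠ a ∧ w ≠ b ∧ w ≠ c := fun w => by simp [W, and_assoc, and_comm]
    have hWk : ∀ w, k • w ∈ W ↔ w ∈ W := by
      intro w
      rw [hW, hW]
      rcases hk with ⟨r1, r2⟩ | ⟨r1, r2⟩
      · exact ⟨fun ⟨A, B, C⟩ => ⟨fun e => A (e ▸ r1), fun e => B (e ▸ r2), fun e => C (e ▸ hkc')⟩,
          fun ⟨A, B, C⟩ => ⟨fun e => A (smul_left_cancel k (e.trans r1.symm)),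
            fun e => B (smul_left_cancel k (e.trans r2.symm)),
            fun e => C (smul_left_cancel k (e.trans hkc'.symm))⟩⟩
      · exact ⟨fun ⟨A, B, C⟩ => ⟨fun e => B (e ▸ r1), fun e => A (e ▸ r2), fun e => C (e ▸ hkc')⟩,
          fun ⟨A, B, C⟩ => ⟨fun e => B (smul_left_cancel k (e.trans r2.symm)),
            fun e => A (smul_left_cancel k (e.trans r1.symm)),
            fun e => C (smul_left_cancel k (e.trans hkc'.symm))⟩⟩
    have huW : u ∈ W := (hW u).mpr ⟨ua, ub, uc⟩
    have hvW : v ∈ W := (hW v).mpr ⟨va, vb, vc⟩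
    have hor : ∀ w ∈ W, R u w ∨ R v w := fun w hw => by
      obtain ⟨wa, wb, wc⟩ := (hW w).mp hw
      rcases htwo u v w ua ub uc va vb vc wa wb wc with h | h | h
      · exact absurd h hno
      · exact Or.inl h
      · exact Or.inr h
    have huu : R u u := ⟨1, one_smul _ _, one_smul _ _, one_smul _ _, one_smul _ _⟩
    have hkv : R u (k • v) := by
      refine (hor _ ((hWk v).mpr hvW)).resolve_right fun hvk => hno ?_
      obtain ⟨z, hz⟩ := (MulAction.toPerm k).surjective u
      have hz' : k • z = u := hz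
      have hzW : z ∈ W := (hWk z).mp (hz'.symm ▸ huW)
      rcases hor z hzW with h | h
      · have := hmove _ _ h
        rw [hku', hz'] at this
        exact hsymm _ _ this
      · have := hmove _ _ h
        rw [hz'] at this
        exact hsymm _ _ (htrans _ _ _ hvk this)
    have hbal : (W.filter fun w => R u w).card = (W.filter fun w => ¬ R u w).card := by
      refine Finset.card_equiv (MulAction.toPerm k) fun w => ?_
      simp only [Finset.mem_filter, MulAction.toPerm_apply]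
      constructor
      · rintro ⟨hw, h⟩
        refine ⟨(hWk w).mpr hw, fun h' => hno ?_⟩
        have := hmove _ _ h
        rw [hku'] at this
        exact htrans _ _ _ h' (hsymm _ _ this)
      · rintro ⟨hw, h⟩
        have hw' := (hWk w).mp hw
        refine ⟨hw', (hor w hw').resolve_right fun hvw => h ?_⟩
        exact htrans _ _ _ hkv (hmove _ _ hvw)
    have hsum := Finset.card_filter_add_card_filter_not (s := W) (fun w => R u w)
    have hWc : W.card = p - 2 := by
      have h1 : (Finset.univ.erase a).card = p := by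
        rw [Finset.card_erase_of_mem (Finset.mem_univ _), Finset.card_univ, hΩ, Nat.add_sub_cancel]
      have h2 : ((Finset.univ.erase a).erase b).card = p - 1 := by
        rw [Finset.card_erase_of_mem (by simp [hab.symm]), h1]
      rw [Finset.card_erase_of_mem (by simp [hca, hcb]), h2]
      omega
    omega
  refine three_transitive_of_fix (α := coord 0) (β := coord 1) (coord.injective.ne zero_ne_one)
    (fun h h' => C.two_transitive h h') fun u v hu0 hu1 hv0 hv1 => ?_
  obtain ⟨x, xa, xb, xc, xu⟩ := hone u v u.2 (fun h => hu0 (Subtype.ext h))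
    (fun h => hu1 (Subtype.ext h)) v.2 (fun h => hv0 (Subtype.ext h)) (fun h => hv1 (Subtype.ext h))
  exact ⟨⟨x, xa⟩, Subtype.ext xb, Subtype.ext xc, Subtype.ext xu⟩

end Cfsg.Agent.H84.PrimeDeg
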