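import Cfsg.Agent.H84.PrimeDegOrbits

/-!
# No third fixed point of the two-point stabilisers

A system of triples invariant under a triangle-transitive group of degree `p > 7` containing half
of the affine group would be a Netto system; two triangles then behave differently.
-/

set_option autoImplicit false
set_option linter.unusedSectionVars false

namespace Cfsg.Agent.H84.PrimeDeg

open MulAction

variable {G Ω : Type*} [Group G] [MulAction G Ω] {p : ℕ} [hp : Fact p.Prime]

/-- In `ZMod p` with `-1` a non-square, every nonzero element is a square or the negative of one. -/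
theorem isSquare_or_neg (hneg : ¬ IsSquare (-1 : ZMod p)) {x : ZMod p} (hx : x ≠ 0) :
    IsSquare x ∨ IsSquare (-x) := by
  rcases isSquare_or_isSquare_div hneg hx with h | h
  · exact Or.inl h
  · exact Or.inr (by rwa [div_neg, div_one] at h)

namespace Half

variable (C : Half G Ω p)
include C

theorem false_of_third (hp7 : 7 < p) (hneg : ¬ IsSquare (-1 : ZMod p)) {a b z : Ω} (hab : a ≠ b)
    (hza : z ≠ a) (hzb : z ≠ b) (hfix : ∀ g : G, g • a = a → g • b = b → g • z = z)
    (hswap : ∀ g : G, g • a = a → g • b = z → g • z = b) : False := by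
  classical
  haveI := C.finite
  -- transitivity outside the three points
  have hout : ∀ {u v : Ω}, u ≠ a → u ≠ b → u ≠ z → v ≠ a → v ≠ b → v ≠ z →
      ∃ g : G, g • a = a ∧ g • b = b ∧ g • u = v := by
    intro u v hua hub huz hva hvb hvz
    obtain ⟨h, hh⟩ := orbit_eq_of_card_le (C.card_orbits_le hab) ![a, b, z]
      (fun i j e => by
        fin_cases i <;> fin_cases j <;> simp only [Matrix.cons_val_zero, Matrix.cons_val_one,
          Matrix.cons_val, Fin.isValue] at e <;>
        first | rfl | exact absurd e hab | exact absurd e hab.symm | exact absurd e hza |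
          exact absurd e hza.symm | exact absurd e hzb | exact absurd e hzb.symm)
      (fun i k => by
        fin_cases i
        · exact k.2.1
        · exact k.2.2
        · exact hfix _ k.2.1 k.2.2)
      (z := u) (w := v) (fun i => by fin_cases i <;> simp [hua, hub, huz])
      (fun i => by fin_cases i <;> simp [hva, hvb, hvz])
    exact ⟨h, h.2.1, h.2.2, hh⟩
  have hex : ∀ q : Fin 4 → Ω, ∃ w : Ω, ∀ i, w ≠ q i := by
    intro q
    by_contra h
    push Not at h
    have h1 := Nat.card_le_card_of_surjective q fun w => (h w).imp fun _ e => e.symm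
    rw [C.card_eq, Nat.card_fin] at h1
    omega
  have huniq : ∀ w, w ≠ a → w ≠ b → (∀ g : G, g • a = a → g • b = b → g • w = w) → w = z := by
    intro w hwa hwb hw
    by_contra hne
    obtain ⟨v, hv⟩ := hex ![a, b, z, w]
    obtain ⟨g, hga, hgb, hgw⟩ := hout hwa hwb hne (hv 0) (hv 1) (hv 2)
    exact hv 3 (hgw.symm.trans (hw g hga hgb))
  -- the third point of every pair
  have hexT : ∀ x y : Ω, ∃ w, x ≠ y → ∀ g : G, g • a = x → g • b = y → g • z = w := by
    intro x y
    by_cases hxy : x = y
    · exact ⟨x, fun h => absurd hxy h⟩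
    obtain ⟨g₀, hg₀a, hg₀b⟩ := C.two_transitive hab hxy
    refine ⟨g₀ • z, fun _ g hga hgb => ?_⟩
    have h1 : (g₀⁻¹ * g) • z = z := hfix _
      (by rw [mul_smul, hga, inv_smul_eq_iff, hg₀a]) (by rw [mul_smul, hgb, inv_smul_eq_iff, hg₀b])
    rwa [mul_smul, inv_smul_eq_iff] at h1
  choose T hT using hexT
  have hTequiv : ∀ (g : G) {x y : Ω}, x ≠ y → T (g • x) (g • y) = g • T x y := by
    intro g x y hxy
    obtain ⟨h, hha, hhb⟩ := C.two_transitive hab hxy
    rw [← hT x y hxy h hha hhb, ← mul_smul]
    exact (hT _ _ (fun e => hxy (smul_left_cancel g e)) (g * h)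
      (by rw [mul_smul, hha]) (by rw [mul_smul, hhb])).symm
  have hTab : T a b = z := by
    have := hT a b hab 1 (one_smul _ _) (one_smul _ _)
    rwa [one_smul, eq_comm] at this
  have hTne : ∀ {x y : Ω}, x ≠ y → T x y ≠ x ∧ T x y ≠ y := by
    intro x y hxy
    obtain ⟨g, rfl, rfl⟩ := C.two_transitive hab hxy
    rw [hTequiv g hab, hTab]
    exact ⟨fun e => hza (smul_left_cancel g e), fun e => hzb (smul_left_cancel g e)⟩
  have hTinv : ∀ {x y : Ω}, x ≠ y → T x (T x y) = y := by
    intro x y hxy
    obtain ⟨g, rfl, rfl⟩ := C.two_transitive hab hxy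
    rw [hTequiv g hab, hTab, hTequiv g (Ne.symm hza)]
    obtain ⟨h, hha, hhb⟩ := C.two_transitive hab (Ne.symm hza)
    rw [← hT a z (Ne.symm hza) h hha hhb, hswap h hha hhb]
  have hTfix : ∀ {x y : Ω}, x ≠ y → ∀ g : G, g • x = x → g • y = y → g • T x y = T x y := by
    intro x y hxy g hgx hgy
    rw [← hTequiv g hxy, hgx, hgy]
  have hTsymm : ∀ {x y : Ω}, x ≠ y → T y x = T x y := by
    intro x y hxy
    obtain ⟨g, rfl, rfl⟩ := C.two_transitive hab hxy
    rw [hTequiv g hab, hTequiv g hab.symm, hTab]
    congr 1
    refine huniq _ (hTne hab.symm).2 (hTne hab.symm).1 fun k hka hkb => ?_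
    exact hTfix hab.symm k hkb hka
  have htri : ∀ {x y u x' y' u' : Ω}, x ≠ y → u ≠ x → u ≠ y → u ≠ T x y →
      x' ≠ y' → u' ≠ x' → u' ≠ y' → u' ≠ T x' y' →
      ∃ g : G, g • x = x' ∧ g • y = y' ∧ g • u = u' := by
    intro x y u x' y' u' hxy hux huy huT hxy' hux' huy' huT'
    obtain ⟨g, rfl, rfl⟩ := C.two_transitive hab hxy
    obtain ⟨g', rfl, rfl⟩ := C.two_transitive hab hxy'
    rw [hTequiv g hab, hTab] at huT
    rw [hTequiv g' hab, hTab] at huT'
    obtain ⟨k, hka, hkb, hku⟩ := hout (u := g⁻¹ • u) (v := g'⁻¹ • u')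
      (fun e => hux (inv_smul_eq_iff.mp e)) (fun e => huy (inv_smul_eq_iff.mp e))
      (fun e => huT (inv_smul_eq_iff.mp e)) (fun e => hux' (inv_smul_eq_iff.mp e))
      (fun e => huy' (inv_smul_eq_iff.mp e)) (fun e => huT' (inv_smul_eq_iff.mp e))
    refine ⟨g' * k * g⁻¹, ?_, ?_, ?_⟩
    · rw [mul_smul, mul_smul, inv_smul_smul, hka]
    · rw [mul_smul, mul_smul, inv_smul_smul, hkb]
    · rw [mul_smul, mul_smul, hku, smul_inv_smul]
  -- the triple system in coordinates
  let t : ZMod p → ZMod p → ZMod p := fun x y => C.coord.symm (T (C.coord x) (C.coord y))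
  have hco : ∀ x y, T (C.coord x) (C.coord y) = C.coord (t x y) := fun x y => by simp [t]
  have hne : ∀ {x y : ZMod p}, x ≠ y → C.coord x ≠ C.coord y := fun h => C.coord.injective.ne h
  have hshift : ∀ {x y : ZMod p} (s : ZMod p), x ≠ y → t (x + s) (y + s) = t x y + s := by
    intro x y s hxy
    obtain ⟨g, hg⟩ := C.exists_shift s
    apply C.coord.injective
    rw [← hco, ← hg, ← hg, hTequiv g (hne hxy), hco, hg]
  have hscale : ∀ {x y u : ZMod p}, u ≠ 0 → IsSquare u → x ≠ y →
      t (u * x) (u * y) = u * t x y := by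
    intro x y u hu0 hu hxy
    obtain ⟨g, hg⟩ := C.scale u hu0 hu
    apply C.coord.injective
    rw [← hco, ← hg, ← hg, hTequiv g (hne hxy), hco, hg]
  obtain ⟨c, hcdef⟩ : ∃ c, t 0 1 = c := ⟨_, rfl⟩
  have h01 : (0 : ZMod p) ≠ 1 := zero_ne_one
  have hc0 : c ≠ 0 := fun e => (hTne (hne h01)).1 (by rw [hco, hcdef, e])
  have hc1 : c ≠ 1 := fun e => (hTne (hne h01)).2 (by rw [hco, hcdef, e])
  have ht0c : t 0 c = 1 := by
    apply C.coord.injective
    rw [← hco, ← hcdef, ← hco]
    exact hTinv (hne h01)
  have hnc : IsSquare (-c) := by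
    refine (isSquare_or_neg hneg hc0).resolve_left fun hsq => hneg ?_
    have h := hscale hc0 hsq h01
    rw [mul_zero, mul_one, hcdef, ht0c] at h
    rcases mul_self_eq_one_iff.mp h.symm with h' | h'
    · exact absurd h' hc1
    · rwa [h'] at hsq
  have hquad : c * c - c + 1 = 0 := by
    have h1 := hshift (-1) h01
    rw [zero_add, add_neg_cancel, hcdef] at h1
    have h2 : t 0 (-1) = c + -1 := by
      rw [← h1]
      apply C.coord.injective
      rw [← hco, ← hco]
      exact (hTsymm (hne (by simp : (0 : ZMod p) ≠ -1))).symm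
    have hsq : IsSquare (-c⁻¹) := by
      rw [← inv_neg]
      exact hnc.inv
    have h3 := hscale (neg_ne_zero.mpr (inv_ne_zero hc0)) hsq (Ne.symm hc0)
    rw [mul_zero, ht0c, neg_mul, inv_mul_cancel₀ hc0, h2, mul_one] at h3
    have h4 : c * c⁻¹ = 1 := mul_inv_cancel₀ hc0
    linear_combination c * h3 - h4
  have tp : ∀ x y : ZMod p, y - x ≠ 0 → IsSquare (y - x) → t x y = x + c * (y - x) := by
    intro x y hd hsq
    have h := hshift x (show (0 : ZMod p) ≠ y - x from Ne.symm hd)
    rw [zero_add, sub_add_cancel] at h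
    have h2 := hscale hd hsq h01
    rw [mul_zero, mul_one, hcdef] at h2
    rw [h, h2]
    ring
  have tn : ∀ x y : ZMod p, y - x ≠ 0 → IsSquare (x - y) →
      t x y = x + (1 - c) * (y - x) := by
    intro x y hd hsq
    have hd' : x - y ≠ 0 := fun e => hd (by linear_combination -e)
    have h : t y x = y + c * (x - y) := tp y x hd' hsq
    have : t x y = t y x := by
      apply C.coord.injective
      rw [← hco, ← hco]
      exact (hTsymm (hne fun e => hd (sub_eq_zero.mpr e.symm))).symm
    rw [this, h]
    ring
  -- a primitive cube root of unity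
  obtain ⟨w, rfl⟩ : ∃ w, c = 1 + w := ⟨c - 1, by ring⟩
  have hw : w * w + w + 1 = 0 := by linear_combination hquad
  have hw3 : w * w * w = 1 := by linear_combination (w - 1) * hw
  have hw0 : w ≠ 0 := fun e => by rw [e] at hw; simp at hw
  have hsw : IsSquare w := ⟨w * w, by linear_combination (-w) * hw3⟩
  have hsw2 : IsSquare (w * w) := ⟨w, rfl⟩
  have hdig : ∀ n : ℕ, 0 < n → n < p → (n : ZMod p) ≠ 0 := fun n h0 hn e => by
    rw [ZMod.natCast_eq_zero_iff] at e
    exact absurd (Nat.le_of_dvd h0 e) (by omega)
  have h2 : (2 : ZMod p) ≠ 0 := hdig 2 (by norm_num) (by omega)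
  have h3 : (3 : ZMod p) ≠ 0 := hdig 3 (by norm_num) (by omega)
  have h7 : (7 : ZMod p) ≠ 0 := hdig 7 (by norm_num) hp7
  have hr0 : 1 + 2 * w ≠ 0 := fun e => h3 (by linear_combination (-(1 + 2 * w)) * e + 4 * hw)
  have hw1 : w - 1 ≠ 0 := fun e => h3 (by linear_combination hw - (w + 2) * e)
  -- values of the triple system
  have e01 : t 0 1 = 1 + w := hcdef
  have e10 : t 1 0 = 1 + w := by
    rw [tn 1 0 (by simp) (by rw [sub_zero]; exact IsSquare.one)]; ring
  have e0w : t 0 w = -1 := by
    rw [tp 0 w (by simpa using hw0) (by simpa using hsw)]; linear_combination hw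
  have ewc : t w (1 + w) = 1 + 2 * w := by
    rw [tp w (1 + w) (by simp) (by simp)]; ring
  have hwne : w ≠ 1 := sub_ne_zero.mp hw1
  have hwT : w ≠ 1 + w := by simp
  -- statements invariant under the group
  rcases isSquare_or_neg hneg h2 with hs2 | hs2
  · -- the lines through a triangle meet
    have hmain : t w (t 0 1) = t 1 (t 0 w) := by
      rw [e01, ewc, e0w,
        tn 1 (-1) (fun e => h2 (by linear_combination -e))
          (by rwa [show (1 : ZMod p) - -1 = 2 by ring])]
      ring
    obtain ⟨g, g1, g2, g3⟩ := htri (x := C.coord 0) (y := C.coord 1) (u := C.coord w)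
      (x' := C.coord 1) (y' := C.coord 0) (u' := C.coord w) (hne h01) (hne hw0) (hne hwne)
      (by rw [hco, e01]; exact hne hwT) (hne h01.symm) (hne hwne) (hne hw0)
      (by rw [hco, e10]; exact hne hwT)
    have hbad : t w (t 1 0) = t 0 (t 1 w) := by
      apply C.coord.injective
      have h := congrArg (fun x => g • C.coord x) hmain
      simp only [← hco] at h ⊢
      have n1 : C.coord w ≠ T (C.coord 0) (C.coord 1) := by rw [hco, e01]; exact hne hwT
      have n2 : C.coord 1 ≠ T (C.coord 0) (C.coord w) := by
        rw [hco, e0w]; exact hne fun e => h2 (by linear_combination e)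
      rw [← hTequiv g n1, ← hTequiv g n2, ← hTequiv g (hne h01), ← hTequiv g (hne hw0.symm),
        g1, g2, g3] at h
      exact h
    rw [e10, ewc] at hbad
    rcases isSquare_or_neg hneg hr0 with hr | hr
    · have hsq : IsSquare (1 - w) := by
        rw [show (1 : ZMod p) - w = w * w * (1 + 2 * w) by linear_combination (-1 - 2 * w) * hw + 2 * hw]
        exact hsw2.mul hr
      rw [tn 1 w hw1 hsq,
        show 1 + (1 - (1 + w)) * (w - 1) = 2 + 2 * w by linear_combination -hw] at hbad
      rw [tn 0 (2 + 2 * w) (by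
          intro e; exact h2 (by linear_combination 2 * hw - w * e))
        (by rw [show (0 : ZMod p) - (2 + 2 * w) = 2 * (w * w) by linear_combination -2 * hw]
            exact hs2.mul hsw2)] at hbad
      have h5 : 2 * w - 1 = 0 := by linear_combination hbad - 2 * hw
      exact h7 (by linear_combination 4 * hw - (2 * w + 3) * h5)
    · have hsq : IsSquare (w - 1) := by
        rw [show w - 1 = w * w * -(1 + 2 * w) by linear_combination (1 + 2 * w) * hw - 2 * hw]
        exact hsw2.mul hr
      rw [tp 1 w hw1 hsq,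
        show 1 + (1 + w) * (w - 1) = -1 - w by linear_combination hw] at hbad
      rw [tp 0 (-1 - w) (by intro e; exact one_ne_zero (by linear_combination hw + w * e))
        (by rw [show (-1 - w - 0 : ZMod p) = w * w by linear_combination -hw]; exact hsw2)] at hbad
      have h5 : 3 * w + 1 = 0 := by linear_combination hbad - hw
      exact h7 (by linear_combination 9 * hw - (3 * w + 2) * h5)
  · -- a longer word returns to the triangle
    have h4 : (4 : ZMod p) ≠ 0 := hdig 4 (by norm_num) (by omega)
    have hmain : t (t (t 0 1) (t 0 w)) (t (t 0 1) (t 1 w)) = w ∧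
        t 0 1 ≠ t 0 w ∧ t 0 1 ≠ t 1 w ∧ t (t 0 1) (t 0 w) ≠ t (t 0 1) (t 1 w) := by
      rw [e01, e0w]
      have hn : (1 + w : ZMod p) ≠ -1 := fun e => h3 (by linear_combination hw - (w - 1) * e)
      rcases isSquare_or_neg hneg hr0 with hr | hr
      · have hsq : IsSquare (1 - w) := by
          rw [show (1 : ZMod p) - w = w * w * (1 + 2 * w) by linear_combination (-1 - 2 * w) * hw + 2 * hw]
          exact hsw2.mul hr
        have e1w : t 1 w = 2 + 2 * w := by
          rw [tn 1 w hw1 hsq]; linear_combination -hw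
        have eP : t (1 + w) (-1) = -w := by
          rw [tp (1 + w) (-1) (sub_ne_zero.mpr hn.symm)
            (by rw [show -1 - (1 + w) = w * (1 + 2 * w) by linear_combination -2 * hw]
                exact hsw.mul hr)]
          linear_combination -hw
        have hn2 : (1 + w : ZMod p) ≠ 2 + 2 * w := fun e => hc0 (by linear_combination -e)
        have eQ : t (1 + w) (2 + 2 * w) = 2 + w := by
          rw [tn (1 + w) (2 + 2 * w) (sub_ne_zero.mpr hn2.symm)
            (by rw [show (1 + w - (2 + 2 * w) : ZMod p) = w * w by linear_combination -hw]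
                exact hsw2)]
          linear_combination -hw
        have hn3 : -w ≠ 2 + w := fun e => hc0 ((mul_eq_zero.mp
          (by linear_combination -e : (2 : ZMod p) * (1 + w) = 0)).resolve_left h2)
        rw [e1w, eP, eQ]
        refine ⟨?_, hn, hn2, hn3⟩
        rw [tp (-w) (2 + w) (sub_ne_zero.mpr hn3.symm)
          (by rw [show (2 + w - -w : ZMod p) = -2 * (w * w) by linear_combination 2 * hw]
              exact hs2.mul hsw2)]
        linear_combination 2 * hw
      · have hsq : IsSquare (w - 1) := by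
          rw [show w - 1 = w * w * -(1 + 2 * w) by linear_combination (1 + 2 * w) * hw - 2 * hw]
          exact hsw2.mul hr
        have e1w : t 1 w = -1 - w := by
          rw [tp 1 w hw1 hsq]; linear_combination hw
        have eP : t (1 + w) (-1) = 2 * w := by
          rw [tn (1 + w) (-1) (sub_ne_zero.mpr hn.symm)
            (by rw [show (1 + w - -1 : ZMod p) = w * -(1 + 2 * w) by linear_combination 2 * hw]
                exact hsw.mul hr)]
          linear_combination hw
        have hn2 : (1 + w : ZMod p) ≠ -1 - w := fun e => by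
          refine hc0 ?_
          have : 2 * (1 + w) = 0 := by linear_combination e
          exact (mul_eq_zero.mp this).resolve_left h2
        have eQ : t (1 + w) (-1 - w) = w - 1 := by
          rw [tn (1 + w) (-1 - w) (sub_ne_zero.mpr hn2.symm)
            (by rw [show (1 + w - (-1 - w) : ZMod p) = -2 * (w * w) by linear_combination 2 * hw]
                exact hs2.mul hsw2)]
          linear_combination 2 * hw
        have hn3 : 2 * w ≠ w - 1 := fun e => hc0 (by linear_combination e)
        rw [e1w, eP, eQ]
        refine ⟨?_, hn, hn2, hn3⟩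
        rw [tp (2 * w) (w - 1) (sub_ne_zero.mpr hn3.symm)
          (by rw [show (w - 1 - 2 * w : ZMod p) = w * w by linear_combination -hw]; exact hsw2)]
        linear_combination -hw
    obtain ⟨hword, n1, n2, n3⟩ := hmain
    have hnw0 : (-w : ZMod p) ≠ 0 := neg_ne_zero.mpr hw0
    have hnw1 : (-w : ZMod p) ≠ 1 := fun e => hc0 (by linear_combination -e)
    obtain ⟨g, g1, g2, g3⟩ := htri (x := C.coord 0) (y := C.coord 1) (u := C.coord w)
      (x' := C.coord 0) (y' := C.coord 1) (u' := C.coord (-w)) (hne h01) (hne hw0) (hne hwne)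
      (by rw [hco, e01]; exact hne hwT) (hne h01) (hne hnw0) (hne hnw1)
      (by rw [hco, e01]; exact hne fun e => hr0 (by linear_combination -e))
    have hbad : t (t (t 0 1) (t 0 (-w))) (t (t 0 1) (t 1 (-w))) = -w := by
      apply C.coord.injective
      have h := congrArg (fun x => g • C.coord x) hword
      simp only [← hco] at h ⊢
      have m1 := hne n1
      have m2 := hne n2
      have m3 := hne n3
      simp only [← hco] at m1 m2 m3
      rw [← hTequiv g m3, ← hTequiv g m1, ← hTequiv g m2, ← hTequiv g (hne h01),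
        ← hTequiv g (hne hw0.symm), ← hTequiv g (hne hwne.symm), g1, g2, g3] at h
      exact h
    have f0 : t 0 (-w) = -1 - w := by
      rw [tn 0 (-w) (by simpa using hw0) (by simpa using hsw)]
      linear_combination hw
    have f1 : t 1 (-w) = 1 - w := by
      rw [tp 1 (-w) (sub_ne_zero.mpr hnw1)
        (by rw [show (-w - 1 : ZMod p) = w * w by linear_combination -hw]; exact hsw2)]
      linear_combination -hw
    have hq : 2 * (1 + w) ≠ 0 := mul_ne_zero h2 hc0
    have fP : t (1 + w) (-1 - w) = w - 1 := by
      rw [tn (1 + w) (-1 - w) (fun e => hq (by linear_combination -e))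
        (by rw [show (1 + w - (-1 - w) : ZMod p) = -2 * (w * w) by linear_combination 2 * hw]
            exact hs2.mul hsw2)]
      linear_combination 2 * hw
    have fQ : t (1 + w) (1 - w) = 3 + w := by
      rw [tp (1 + w) (1 - w) (fun e => mul_ne_zero h2 hw0 (by linear_combination -e))
        (by rw [show (1 - w - (1 + w) : ZMod p) = -2 * w by ring]; exact hs2.mul hsw)]
      linear_combination -2 * hw
    rw [e01, f0, f1, fP, fQ, tp (w - 1) (3 + w)
      (by intro e; exact h4 (by linear_combination e))
      (by rw [show (3 + w - (w - 1) : ZMod p) = 2 * 2 by ring]; exact ⟨2, rfl⟩)] at hbad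
    exact mul_ne_zero h3 hr0 (by linear_combination hbad)

end Half

end Cfsg.Agent.H84.PrimeDeg
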