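import Cfsg.Agent.H84.PrimeDegOvergroup
import Cfsg.Agent.H84.PrimeDegCoprime
import Cfsg.Agent.H84.PrimeDegEven

/-!
# Degree `p = q + 2`: fivefold transitivity
-/

set_option autoImplicit false
set_option linter.unusedSectionVars false

namespace Cfsg.Agent.H84.PrimeDeg

open MulAction

variable {G Ω : Type*} [Group G] [MulAction G Ω] {p : ℕ} [hp : Fact p.Prime]

/-- Some element fixing `α` and `β` maps `u` to `v`. -/
def Linked (G : Type*) {Ω : Type*} [Group G] [MulAction G Ω] (α β u v : Ω) : Prop :=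
  ∃ g : G, g • α = α ∧ g • β = β ∧ g • u = v

theorem Linked.symm {α β u v : Ω} (h : Linked G α β u v) : Linked G α β v u := by
  obtain ⟨g, h1, h2, h3⟩ := h
  exact ⟨g⁻¹, inv_smul_eq_iff.mpr h1.symm, inv_smul_eq_iff.mpr h2.symm, inv_smul_eq_iff.mpr h3.symm⟩

theorem Linked.trans {α β u v w : Ω} (h : Linked G α β u v) (h' : Linked G α β v w) :
    Linked G α β u w := by
  obtain ⟨g, h1, h2, h3⟩ := h
  obtain ⟨k, k1, k2, k3⟩ := h'
  exact ⟨k * g, by rw [mul_smul, h1, k1], by rw [mul_smul, h2, k2], by rw [mul_smul, h3, k3]⟩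

theorem Half.two_classes (C : Half G Ω p) {α β w₁ w₂ w₃ : Ω} (hab : α ≠ β) (a1 : w₁ ≠ α)
    (b1 : w₁ ≠ β) (a2 : w₂ ≠ α) (b2 : w₂ ≠ β) (a3 : w₃ ≠ α) (b3 : w₃ ≠ β) :
    Linked G α β w₁ w₂ ∨ Linked G α β w₁ w₃ ∨ Linked G α β w₂ w₃ := by
  by_contra hno
  push Not at hno
  obtain ⟨n12, n13, n23⟩ := hno
  haveI := C.finite
  have hle := C.card_orbits_le hab
  let v : Fin 5 → Ω := ![α, β, w₁, w₂, w₃]
  have hinj : Function.Injective fun i => (Quotient.mk'' (v i) :
      orbitRel.Quotient ↥(stabilizer G α ⊓ stabilizer G β) Ω) := by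
    intro i j e
    obtain ⟨g, hg⟩ := (Quotient.exact e.symm : v j ∈ orbit _ (v i))
    have ga : (g : G) • α = α := (Subgroup.mem_inf.mp g.2).1
    have gb : (g : G) • β = β := (Subgroup.mem_inf.mp g.2).2
    have hgv : (g : G) • v i = v j := hg
    have hgv' : (g : G)⁻¹ • v j = v i := by rw [inv_smul_eq_iff, hgv]
    have ga' := inv_smul_eq_iff.mpr ga.symm
    have gb' := inv_smul_eq_iff.mpr gb.symm
    have hl : Linked G α β (v i) (v j) := ⟨g, ga, gb, hgv⟩
    fin_cases i <;> fin_cases j
    all_goals first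
      | rfl
      | exact absurd (ga.symm.trans hgv) hab
      | exact absurd (gb.symm.trans hgv) hab.symm
      | exact absurd (ga.symm.trans hgv) (Ne.symm a1)
      | exact absurd (ga.symm.trans hgv) (Ne.symm a2)
      | exact absurd (ga.symm.trans hgv) (Ne.symm a3)
      | exact absurd (gb.symm.trans hgv) (Ne.symm b1)
      | exact absurd (gb.symm.trans hgv) (Ne.symm b2)
      | exact absurd (gb.symm.trans hgv) (Ne.symm b3)
      | exact absurd (ga'.symm.trans hgv') (Ne.symm a1)
      | exact absurd (ga'.symm.trans hgv') (Ne.symm a2)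
      | exact absurd (ga'.symm.trans hgv') (Ne.symm a3)
      | exact absurd (gb'.symm.trans hgv') (Ne.symm b1)
      | exact absurd (gb'.symm.trans hgv') (Ne.symm b2)
      | exact absurd (gb'.symm.trans hgv') (Ne.symm b3)
      | exact absurd hl n12
      | exact absurd hl n13
      | exact absurd hl n23
      | exact absurd hl.symm n12
      | exact absurd hl.symm n13
      | exact absurd hl.symm n23
  have h5 := (Nat.card_fin 5).symm.trans_le ((Nat.card_le_card_of_injective _ hinj).trans hle)
  omega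

theorem Half.three_transitive_of_twin [Finite G] (C : Half G Ω p) {q : ℕ} (hq : q.Prime)
    (hp7 : 7 < p) (hpq : p = q + 2) : IsMultiplyPretransitive G Ω 3 := by
  classical
  haveI : Fintype Ω := Fintype.ofEquiv _ C.coord
  by_cases hsq : IsSquare (-1 : ZMod p)
  · exact C.three_transitive_of_square hsq
  by_contra h3
  set α := C.coord 0 with hαdef
  set β := C.coord 1 with hβdef
  have hab : α ≠ β := C.coord.injective.ne zero_ne_one
  have hex : ∃ u v, u ≠ α ∧ u ≠ β ∧ v ≠ α ∧ v ≠ β ∧ ¬ Linked G α β u v := by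
    by_contra hc
    push Not at hc
    exact h3 (three_transitive_of_fix hab (fun h h' => C.two_transitive h h')
      fun u v a b c d => hc u v a b c d)
  obtain ⟨u, v, ua, ub, va, vb, huv⟩ := hex
  haveI := C.isPreprimitive_stabilizer hp7 α
  let z : ↥(SubMulAction.ofStabilizer G α) := ⟨β, hab.symm⟩
  let y₀ : ↥(SubMulAction.ofStabilizer G α) := ⟨u, ua⟩
  let R : ↥(SubMulAction.ofStabilizer G α) → ↥(SubMulAction.ofStabilizer G α) → Prop :=
    fun x y => ∃ h : stabilizer G α, h • z = x ∧ h • y₀ = y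
  have hlink : ∀ y : ↥(SubMulAction.ofStabilizer G α), R z y ↔ Linked G α β u y := by
    intro y
    constructor
    · rintro ⟨h, h1, h2⟩
      exact ⟨h, h.2, congrArg Subtype.val h1, congrArg Subtype.val h2⟩
    · rintro ⟨g, g1, g2, g3⟩
      exact ⟨⟨g, g1⟩, Subtype.ext g2, Subtype.ext g3⟩
  have hne : ∀ y : ↥(SubMulAction.ofStabilizer G α), y ≠ z → (y : Ω) ≠ β :=
    fun y hy e => hy (Subtype.ext e)
  have hcard : Fintype.card ↥(SubMulAction.ofStabilizer G α) - 1 = q := by
    rw [← Nat.card_eq_fintype_card, SubMulAction.nat_card_ofStabilizer_eq, C.card_eq]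
    omega
  refine false_of_coprime (H := stabilizer G α) R z (fun h x y => ?_) (fun x => ?_)
    (fun y y' hy hy' => ?_) (fun y y' hy hn hy' hn' => ?_)
    ⟨y₀, 1, one_smul _ _, one_smul _ _⟩
    ⟨⟨v, va⟩, fun e => vb (congrArg Subtype.val e), fun h => huv ((hlink _).mp h)⟩
    (by rw [hcard]; exact hq) (by rw [hcard]; exact hq.odd_of_ne_two (by omega))
  · constructor
    · rintro ⟨k, k1, k2⟩
      exact ⟨h⁻¹ * k, by rw [mul_smul, k1, inv_smul_smul], by rw [mul_smul, k2, inv_smul_smul]⟩
    · rintro ⟨k, k1, k2⟩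
      exact ⟨h * k, by rw [mul_smul, k1], by rw [mul_smul, k2]⟩
  · rintro ⟨k, k1, k2⟩
    exact ub (congrArg Subtype.val (smul_left_cancel k (k2.trans k1.symm)))
  · obtain ⟨g, g1, g2, g3⟩ := ((hlink y).mp hy).symm.trans ((hlink y').mp hy')
    exact ⟨⟨g, g1⟩, Subtype.ext g2, Subtype.ext g3⟩
  · rcases C.two_classes hab ua ub y.2 (hne y hy) y'.2 (hne y' hy') with h | h | h
    · exact absurd ((hlink y).mpr h) hn
    · exact absurd ((hlink y').mpr h) hn'
    · obtain ⟨g, g1, g2, g3⟩ := h
      exact ⟨⟨g, g1⟩, Subtype.ext g2, Subtype.ext g3⟩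

/-- A two-point stabiliser that is triply transitive on the rest gives quintuple transitivity. -/
theorem five_transitive_of_pair {α β : Ω}
    (h2 : ∀ {a b c d : Ω}, a ≠ b → c ≠ d → ∃ g : G, g • a = c ∧ g • b = d) (hab : α ≠ β)
    (h : ∀ x y : Fin 3 → Ω, Function.Injective x → Function.Injective y →
      (∀ i, x i ≠ α ∧ x i ≠ β) → (∀ i, y i ≠ α ∧ y i ≠ β) →
      ∃ g : G, g • α = α ∧ g • β = β ∧ ∀ i, g • x i = y i) :
    IsMultiplyPretransitive G Ω 5 := by
  constructor
  intro x y
  obtain ⟨g, hg0, hg1⟩ := h2 (x.injective.ne (by decide : (0 : Fin 5) ≠ 1)) hab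
  obtain ⟨g', hg0', hg1'⟩ := h2 (y.injective.ne (by decide : (0 : Fin 5) ≠ 1)) hab
  have key : ∀ (x : Fin 5 ↪ Ω) (g : G), g • x 0 = α → g • x 1 = β →
      Function.Injective (fun i : Fin 3 => g • x (Fin.natAdd 2 i)) ∧
        ∀ i : Fin 3, g • x (Fin.natAdd 2 i) ≠ α ∧ g • x (Fin.natAdd 2 i) ≠ β := by
    intro x g h0 h1
    refine ⟨fun i j e => Fin.ext (by
      have := congrArg Fin.val (x.injective (smul_left_cancel g e))
      simpa [Fin.natAdd] using this), fun i => ⟨?_, ?_⟩⟩
    · intro e
      have := congrArg Fin.val (x.injective (smul_left_cancel g (e.trans h0.symm)))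
      simp [Fin.natAdd] at this
    · intro e
      have := congrArg Fin.val (x.injective (smul_left_cancel g (e.trans h1.symm)))
      simp [Fin.natAdd] at this
      omega
  obtain ⟨k, hka, hkb, hk⟩ := h (fun i => g • x (Fin.natAdd 2 i)) (fun i => g' • y (Fin.natAdd 2 i))
    (key x g hg0 hg1).1 (key y g' hg0' hg1').1 (key x g hg0 hg1).2 (key y g' hg0' hg1').2
  refine ⟨g'⁻¹ * k * g, Function.Embedding.ext fun i => ?_⟩
  show (g'⁻¹ * k * g) • x i = y i
  rw [mul_smul, mul_smul, inv_smul_eq_iff]
  fin_cases i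
  · show k • g • x 0 = g' • y 0
    rw [hg0, hg0', hka]
  · show k • g • x 1 = g' • y 1
    rw [hg1, hg1', hkb]
  · exact hk 0
  · exact hk 1
  · exact hk 2

theorem Half.five_transitive_of_twin [Finite G] (C : Half G Ω p) (P : Sylow p G)
    (hN : 2 * Nat.card ↥(Subgroup.normalizer ((P : Subgroup G) : Set G)) = p * (p - 1))
    {q : ℕ} (hq : q.Prime) (hq5 : 5 < q) (hpq : p = q + 2) :
    IsMultiplyPretransitive G Ω 5 := by
  classical
  haveI : Fintype Ω := Fintype.ofEquiv _ C.coord
  haveI := C.faithful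
  haveI : Fact q.Prime := ⟨hq⟩
  haveI : Fact (Nat.Prime 2) := ⟨Nat.prime_two⟩
  have heven := sign_eq_one C P hN
  have h3 := C.three_transitive_of_twin hq (by omega) hpq
  haveI := C.isPretransitive
  set α := C.coord 0 with hαdef
  set β := C.coord 1 with hβdef
  have hab : α ≠ β := C.coord.injective.ne zero_ne_one
  have hα : Fintype.card ↥(offPair G α β) = q := by
    let f : ↥(offPair G α β) ≃ ↥((Finset.univ.erase α).erase β) :=
      { toFun := fun z => ⟨z.1, by simp [z.2.1, z.2.2]⟩
        invFun := fun z => ⟨z.1, by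
          have h := z.2
          simp only [Finset.mem_erase, Finset.mem_univ, and_true] at h
          exact ⟨h.2, h.1⟩⟩
        left_inv := fun _ => rfl
        right_inv := fun _ => rfl }
    rw [Fintype.card_congr f, Fintype.card_coe,
      Finset.card_erase_of_mem (Finset.mem_erase.mpr ⟨hab.symm, Finset.mem_univ _⟩),
      Finset.card_erase_of_mem (Finset.mem_univ _), Finset.card_univ, ← Fintype.card_congr C.coord,
      ZMod.card]
    omega
  let H : Subgroup ↥(pairStab G α β) :=
    (stabilizer G α ⊓ stabilizer G β).subgroupOf (pairStab G α β)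
  let ψ := MulAction.toPermHom ↥(pairStab G α β) ↥(offPair G α β)
  have hψinj : Function.Injective ψ := by
    rw [injective_iff_map_eq_one]
    rintro ⟨g, hg⟩ hψ
    have hfix : ∀ x, x ≠ α → x ≠ β → g • x = x := fun x hxa hxb =>
      congrArg Subtype.val (Equiv.congr_fun hψ (⟨x, hxa, hxb⟩ : ↥(offPair G α β)))
    rcases hg with ⟨g1, g2⟩ | ⟨g1, g2⟩
    · refine Subtype.ext (eq_of_smul_eq_smul fun x : Ω => ?_)
      show g • x = (1 : G) • x
      rw [one_smul]
      by_cases hxa : x = α
      · rw [hxa, g1]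
      · by_cases hxb : x = β
        · rw [hxb, g2]
        · exact hfix x hxa hxb
    · exfalso
      have hsw : (MulAction.toPerm g : Equiv.Perm Ω) = Equiv.swap α β := by
        refine Equiv.ext fun x => ?_
        rw [MulAction.toPerm_apply]
        by_cases hxa : x = α
        · rw [hxa, g1, Equiv.swap_apply_left]
        · by_cases hxb : x = β
          · rw [hxb, g2, Equiv.swap_apply_right]
          · rw [hfix x hxa hxb, Equiv.swap_apply_of_ne_of_ne hxa hxb]
      have := heven g
      rw [hsw, Equiv.Perm.sign_swap hab] at this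
      exact absurd this (by decide)
  have hHtr : ∀ u v : ↥(offPair G α β), ∃ h ∈ H, h • u = v := by
    intro u v
    let x : Fin 3 ↪ Ω := ⟨![α, β, u], by
      intro i j e
      fin_cases i <;> fin_cases j <;> first
        | rfl
        | exact absurd e hab
        | exact absurd e.symm hab
        | exact absurd e u.2.1
        | exact absurd e.symm u.2.1
        | exact absurd e u.2.2
        | exact absurd e.symm u.2.2⟩
    let y : Fin 3 ↪ Ω := ⟨![α, β, v], by
      intro i j e
      fin_cases i <;> fin_cases j <;> first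
        | rfl
        | exact absurd e hab
        | exact absurd e.symm hab
        | exact absurd e v.2.1
        | exact absurd e.symm v.2.1
        | exact absurd e v.2.2
        | exact absurd e.symm v.2.2⟩
    obtain ⟨g, hg⟩ := h3.exists_smul_eq x y
    have e0 : g • α = α := DFunLike.congr_fun hg 0
    have e1 : g • β = β := DFunLike.congr_fun hg 1
    have e2 : g • (u : Ω) = v := DFunLike.congr_fun hg 2
    exact ⟨⟨g, Or.inl ⟨e0, e1⟩⟩, ⟨e0, e1⟩, Subtype.ext e2⟩
  haveI hHtrans : IsPretransitive ↥(H.map ψ) ↥(offPair G α β) := ⟨fun u v => by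
    obtain ⟨h, hh, huv⟩ := hHtr u v
    exact ⟨⟨ψ h, h, hh, rfl⟩, huv⟩⟩
  haveI hKtrans : IsPretransitive ψ.range ↥(offPair G α β) := ⟨fun u v => by
    obtain ⟨h, hh, huv⟩ := hHtr u v
    exact ⟨⟨ψ h, h, rfl⟩, huv⟩⟩
  obtain ⟨D, -⟩ := H32.exists_coords hα (H.map ψ)
  -- the two-point stabiliser is not affine
  have hnaff : ¬ D.AllAffine := by
    intro hA
    set c := D.coord 0 with hcdef
    set d := Nat.card ↥(stabilizer H c) with hd
    have hdvd : d ∣ q - 1 := by
      have hk : ∀ g : stabilizer H c, ∃ a : (ZMod q)ˣ,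
          ∀ j, ψ (g : H) (D.coord j) = D.coord ((a : ZMod q) * j) := by
        intro g
        obtain ⟨a, b, hab'⟩ := hA ⟨ψ (g : H), (g : H), (g : H).2, rfl⟩
        have h0 : ((g : H) : pairStab G α β) • c = c := g.2
        have hb : b = 0 := by
          have h1 := hab' 0
          rw [mul_zero, zero_add] at h1
          exact D.coord.injective (h1.symm.trans h0)
        have ha : a ≠ 0 := fun h => by
          have h1 := hab' 1
          have h2 := hab' 0
          rw [h, zero_mul] at h1 h2
          exact one_ne_zero (D.coord.injective (smul_left_cancel _ (h1.trans h2.symm)))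
        refine ⟨Units.mk0 a ha, fun j => ?_⟩
        have h1 := hab' j
        rw [hb, add_zero] at h1
        exact h1
      choose af haf using hk
      have hext : ∀ g g' : stabilizer H c, (∀ j, ψ (g : H) (D.coord j) = ψ (g' : H) (D.coord j)) →
          g = g' := fun g g' h => Subtype.ext (Subtype.ext (hψinj (Equiv.ext fun z => by
            obtain ⟨j, rfl⟩ := D.coord.surjective z
            exact h j)))
      let f : stabilizer H c →* (ZMod q)ˣ := MonoidHom.mk' af fun g g' => by
        refine Units.ext ?_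
        have h1 := haf (g * g') 1
        rw [Subgroup.coe_mul, Subgroup.coe_mul, map_mul, Equiv.Perm.mul_apply, haf g', haf g,
          mul_one, mul_one] at h1
        exact (D.coord.injective h1).symm
      have hf : Function.Injective f := fun g g' e => hext g g' fun j => by
        have e' : af g = af g' := e
        rw [haf, haf, e']
      have := Subgroup.card_dvd_of_injective f hf
      rwa [Nat.card_units, Nat.card_zmod] at this
    have hG : Nat.card G = p * ((p - 1) * (q * d)) := by
      haveI : IsPretransitive ↥(stabilizer G α) ↥(SubMulAction.ofStabilizer G α) := ⟨fun x y => by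
        obtain ⟨g, hgα, hgx⟩ := C.two_transitive (Ne.symm x.2) (Ne.symm y.2)
        exact ⟨⟨g, hgα⟩, Subtype.ext hgx⟩⟩
      let β' : ↥(SubMulAction.ofStabilizer G α) := ⟨β, hab.symm⟩
      have h1 := (stabilizer G α).card_mul_index
      rw [index_stabilizer_of_transitive, C.card_eq] at h1
      have h2 := (stabilizer (stabilizer G α) β').card_mul_index
      rw [index_stabilizer_of_transitive, SubMulAction.nat_card_ofStabilizer_eq, C.card_eq] at h2
      have h4 : Nat.card ↥(stabilizer (stabilizer G α) β') = Nat.card H :=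
        Nat.card_congr
          { toFun := fun g => ⟨⟨g.1.1, Or.inl ⟨g.1.2, congrArg Subtype.val g.2⟩⟩,
              ⟨g.1.2, congrArg Subtype.val g.2⟩⟩
            invFun := fun h => ⟨⟨h.1.1, h.2.1⟩, Subtype.ext h.2.2⟩
            left_inv := fun _ => rfl
            right_inv := fun _ => rfl }
      haveI : IsPretransitive H ↥(offPair G α β) := ⟨fun u v => by
        obtain ⟨h, hh, huv⟩ := hHtr u v
        exact ⟨⟨h, hh⟩, huv⟩⟩
      have h5 := (stabilizer H c).card_mul_index
      rw [index_stabilizer_of_transitive, Nat.card_eq_fintype_card (α := ↥(offPair G α β)), hα] at h5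
      rw [← h1, ← h2, h4, ← h5, ← hd]
      ring
    have h6 : Nat.card (Sylow p G) = 2 * (q * d) := by
      have h1 := (Subgroup.normalizer ((P : Subgroup G) : Set G)).card_mul_index
      have e : Nat.card (Sylow p G) = (Subgroup.normalizer ((P : Subgroup G) : Set G)).index :=
        P.card_eq_index_normalizer
      rw [← e, hG] at h1
      refine Nat.eq_of_mul_eq_mul_left (show 0 < p * (p - 1) from
        Nat.mul_pos hp.out.pos (by omega)) ?_
      rw [← hN, mul_assoc, h1, hN]
      ring
    have h7 := card_sylow_modEq_one p G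
    rw [h6, ← ZMod.natCast_eq_natCast_iff] at h7
    obtain ⟨e, he⟩ := hdvd
    have hq2 : (q : ZMod p) = -2 := by
      have : ((q + 2 : ℕ) : ZMod p) = 0 := by rw [← hpq]; exact ZMod.natCast_self p
      push_cast at this
      linear_combination this
    have he' : ((q : ℕ) : ZMod p) - 1 = d * e := by
      rw [← Nat.cast_mul, ← he, Nat.cast_sub hq.one_lt.le, Nat.cast_one]
    push_cast at h7
    rw [hq2] at h7 he'
    have h12 : (e : ZMod p) = ((12 : ℕ) : ZMod p) := by
      push_cast
      linear_combination (-(e : ZMod p)) * h7 + 4 * he'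
    have hp13 : 13 ≤ p := by
      by_contra h
      have hp' := hp.out
      rcases (show q = 6 ∨ q = 7 ∨ q = 8 ∨ q = 9 ∨ q = 10 by omega) with h1 | h1 | h1 | h1 | h1
      · exact absurd (h1 ▸ hq) (by norm_num)
      · exact absurd ((show p = 9 by omega) ▸ hp') (by norm_num)
      · exact absurd (h1 ▸ hq) (by norm_num)
      · exact absurd (h1 ▸ hq) (by norm_num)
      · exact absurd (h1 ▸ hq) (by norm_num)
    have he12 : e = 12 := by
      rw [ZMod.natCast_eq_natCast_iff] at h12
      have hele : e ≤ q - 1 := Nat.le_of_dvd (by omega) ⟨d, by rw [he, mul_comm]⟩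
      exact Nat.ModEq.eq_of_lt_of_lt h12 (by omega) (by omega)
    have h3' : 3 ∣ p := by
      rw [he12] at he
      omega
    have := (Nat.prime_dvd_prime_iff_eq Nat.prime_three hp.out).mp h3'
    omega
  have hHins : ¬ Group.IsSolvable ↥(H.map ψ) := fun hs =>
    hnaff (allAffine_of_isSolvable hα D hs)
  have hKins : ¬ Group.IsSolvable ψ.range := fun hs => hHins
    (Group.isSolvable_of_isSolvable_injective
      (Subgroup.inclusion_injective (Subgroup.map_le_range ψ H)))
  have h2H : IsMultiplyPretransitive ↥(H.map ψ) ↥(offPair G α β) 2 :=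
    (D.allAffine_or_two_transitive hα).resolve_left hnaff
  -- an element interchanging the pair normalises a Sylow subgroup
  haveI hHn : H.Normal := ⟨fun h hh g => by
    obtain ⟨h1, h2⟩ := hh
    change (h : G) • α = α at h1
    change (h : G) • β = β at h2
    show ((g : G) * h * (g : G)⁻¹) • α = α ∧ ((g : G) * h * (g : G)⁻¹) • β = β
    rcases (pairStab G α β).inv_mem g.2 with ⟨r1, r2⟩ | ⟨r1, r2⟩
    · simp only [mul_smul, r1, r2, h1, h2]
      exact ⟨(inv_smul_eq_iff.mp r1).symm, (inv_smul_eq_iff.mp r2).symm⟩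
    · simp only [mul_smul, r1, r2, h1, h2]
      exact ⟨(inv_smul_eq_iff.mp r1).symm, (inv_smul_eq_iff.mp r2).symm⟩⟩
  let Q : Sylow q H := default
  set N := Subgroup.normalizer (((Q : Subgroup H).map H.subtype : Subgroup ↥(pairStab G α β)) :
    Set ↥(pairStab G α β)) with hNdef
  have hsup : N ⊔ H = ⊤ := Sylow.normalizer_sup_eq_top Q
  obtain ⟨n, hnN, hnα⟩ : ∃ n ∈ N, (n : G) • α = β := by
    by_contra hno
    push Not at hno
    obtain ⟨g, hgα, hgβ⟩ := C.two_transitive hab hab.symm
    have hle : N ≤ H := fun n hn => by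
      rcases n.2 with hh | ⟨h1, -⟩
      · exact hh
      · exact absurd h1 (hno n hn)
    have hgH : (⟨g, Or.inr ⟨hgα, hgβ⟩⟩ : pairStab G α β) ∈ H :=
      (sup_le hle le_rfl) (hsup ▸ Subgroup.mem_top _)
    have : g • α = α := hgH.1
    exact hab (this.symm.trans hgα)
  have hne2 : Even (orderOf n) := by
    by_contra hodd
    rw [Nat.not_even_iff_odd] at hodd
    obtain ⟨k, hk⟩ := hodd
    have hnβ : (n : G) • β = α := by
      rcases n.2 with ⟨h1, -⟩ | ⟨-, h2⟩
      · exact absurd (h1.symm.trans hnα) hab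
      · exact h2
    have hpow : ((n : G) ^ (2 * k)) • α = α := by
      clear hk
      induction k with
      | zero => simp
      | succ k ih =>
        rw [show 2 * (k + 1) = 2 + 2 * k by ring, pow_add, mul_smul, ih, pow_two, mul_smul, hnα, hnβ]
    have h1 : (n : G) ^ (2 * k + 1) = 1 := by
      rw [← SubmonoidClass.coe_pow, ← hk, pow_orderOf_eq_one]; rfl
    rw [pow_succ', ] at h1
    have := congrArg (fun g : G => g • α) h1
    simp only [mul_smul, hpow, hnα, one_smul] at this
    exact hab this.symm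
  set Qi : Subgroup ↥(pairStab G α β) := (Q : Subgroup H).map H.subtype with hQi
  let φ : ↥(pairStab G α β) →* ψ.range := ψ.rangeRestrict
  have hφinj : Function.Injective φ := fun a b e => hψinj (congrArg Subtype.val e)
  have hQq : q ≤ Nat.card (Qi.map φ) := by
    rw [Subgroup.card_map_of_injective hφinj, hQi,
      Subgroup.card_map_of_injective H.subtype_injective]
    have hdvd : q ∣ Nat.card H := by
      haveI : IsPretransitive H ↥(offPair G α β) := ⟨fun u v => by
        obtain ⟨h, hh, huv⟩ := hHtr u v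
        exact ⟨⟨h, hh⟩, huv⟩⟩
      have := (stabilizer H (D.coord 0)).index_dvd_card
      rwa [index_stabilizer_of_transitive, Nat.card_eq_fintype_card, hα] at this
    exact Nat.le_of_dvd Nat.card_pos (Q.dvd_card_of_dvd_card hdvd)
  obtain ⟨R, hR⟩ := ((IsPGroup.map (Q.isPGroup'.map H.subtype) φ : IsPGroup q (Qi.map φ))).exists_le_sylow
  have hReq : Qi.map φ = R := Subgroup.eq_of_le_of_card_ge hR
    (by rw [H32.card_sylow_prime_degree hα ψ.range R]; exact hQq)
  have hφn : φ n ∈ Subgroup.normalizer ((R : Subgroup ψ.range) : Set ψ.range) := by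
    rw [← hReq]
    exact Subgroup.le_normalizer_map φ ⟨n, hnN, rfl⟩
  have hnorm : Even (Nat.card (Subgroup.normalizer ((R : Subgroup ψ.range) : Set ψ.range))) := by
    rw [even_iff_two_dvd] at hne2 ⊢
    have h1 := Subgroup.orderOf_dvd_natCard _ hφn
    rw [orderOf_injective φ hφinj] at h1
    exact hne2.trans h1
  have h3K := Cfsg.Agent.S0676.result hα ψ.range hKins R hnorm
  -- triple transitivity of the two-point stabiliser
  have hfix : ∀ c d u v : ↥(offPair G α β), c ≠ d → u ≠ c → u ≠ d → v ≠ c → v ≠ d →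
      ∃ h ∈ H, h • c = c ∧ h • d = d ∧ h • u = v := by
    intro c d u v hcd uc ud vc vd
    by_contra hno
    let Rel : ↥(offPair G α β) → ↥(offPair G α β) → Prop := fun w w' =>
      ∃ h ∈ H, h • c = c ∧ h • d = d ∧ h • w = w'
    have hK : ∀ w w', w ≠ c → w ≠ d → w' ≠ c → w' ≠ d →
        ∃ k : pairStab G α β, k • c = c ∧ k • d = d ∧ k • w = w' := by
      intro w w' a b a' b'
      let x : Fin 3 ↪ ↥(offPair G α β) := ⟨![c, d, w], by
        intro i j e
        fin_cases i <;> fin_cases j <;> first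
          | rfl
          | exact absurd e hcd
          | exact absurd e.symm hcd
          | exact absurd e a
          | exact absurd e.symm a
          | exact absurd e b
          | exact absurd e.symm b⟩
      let y : Fin 3 ↪ ↥(offPair G α β) := ⟨![c, d, w'], by
        intro i j e
        fin_cases i <;> fin_cases j <;> first
          | rfl
          | exact absurd e hcd
          | exact absurd e.symm hcd
          | exact absurd e a'
          | exact absurd e.symm a'
          | exact absurd e b'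
          | exact absurd e.symm b'⟩
      obtain ⟨⟨_, k, rfl⟩, hk⟩ := h3K.exists_smul_eq x y
      exact ⟨k, DFunLike.congr_fun hk 0, DFunLike.congr_fun hk 1, DFunLike.congr_fun hk 2⟩
    have hoff : ∀ k : pairStab G α β, k ∉ H → (k : G) • α = β ∧ (k : G) • β = α := fun k hk => by
      rcases k.2 with h | h
      · exact absurd h hk
      · exact h
    obtain ⟨k₀, k0c, k0d, k0u⟩ := hK u v uc ud vc vd
    have hk0 : k₀ ∉ H := fun h => hno ⟨k₀, h, k0c, k0d, k0u⟩
    have hmul : ∀ k, k ∉ H → k * k₀⁻¹ ∈ H := fun k hk => by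
      obtain ⟨a1, a2⟩ := hoff k hk
      obtain ⟨b1, b2⟩ := hoff k₀ hk0
      show ((k : G) * (k₀ : G)⁻¹) • α = α ∧ ((k : G) * (k₀ : G)⁻¹) • β = β
      rw [mul_smul, mul_smul, inv_smul_eq_iff.mpr b2.symm, inv_smul_eq_iff.mpr b1.symm]
      exact ⟨a2, a1⟩
    have i0c := inv_smul_eq_iff.mpr k0c.symm
    have i0d := inv_smul_eq_iff.mpr k0d.symm
    let W : Finset ↥(offPair G α β) := (Finset.univ.erase c).erase d
    have hW : ∀ w, w ∈ W ↔ w ≠ d ∧ w ≠ c := fun w => by simp [W]
    have hor : ∀ w ∈ W, Rel u w ∨ Rel v w := fun w hw => by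
      obtain ⟨wd, wc⟩ := (hW w).mp hw
      obtain ⟨k, kc, kd, ku⟩ := hK u w uc ud wc wd
      by_cases hk : k ∈ H
      · exact Or.inl ⟨k, hk, kc, kd, ku⟩
      · exact Or.inr ⟨k * k₀⁻¹, hmul k hk, by rw [mul_smul, i0c, kc], by rw [mul_smul, i0d, kd],
          by rw [mul_smul, inv_smul_eq_iff.mpr k0u.symm, ku]⟩
    have hconj : ∀ (k : pairStab G α β), k • c = c → k • d = d → ∀ w w', Rel w w' →
        Rel (k • w) (k • w') := by
      rintro k kc kd w w' ⟨h, hh, hc, hd, hw⟩
      exact ⟨k * h * k⁻¹, hHn.conj_mem h hh k,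
        by rw [mul_smul, mul_smul, inv_smul_eq_iff.mpr kc.symm, hc, kc],
        by rw [mul_smul, mul_smul, inv_smul_eq_iff.mpr kd.symm, hd, kd],
        by rw [mul_smul, mul_smul, inv_smul_smul, hw]⟩
    have htr : ∀ w w' w'', Rel w w' → Rel w' w'' → Rel w w'' :=
      fun w w' w'' ⟨h, hh, a, b, e⟩ ⟨h', hh', a', b', e'⟩ => ⟨h' * h, mul_mem hh' hh,
        by rw [mul_smul, a, a'], by rw [mul_smul, b, b'], by rw [mul_smul, e, e']⟩
    have hsy : ∀ w w', Rel w w' → Rel w' w := fun w w' ⟨h, hh, a, b, e⟩ =>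
      ⟨h⁻¹, inv_mem hh, inv_smul_eq_iff.mpr a.symm, inv_smul_eq_iff.mpr b.symm,
        inv_smul_eq_iff.mpr e.symm⟩
    have hWk : ∀ w, k₀ • w ∈ W ↔ w ∈ W := fun w => by
      rw [hW, hW]
      exact and_congr ⟨fun h e => h (e ▸ k0d), fun h e => h (smul_left_cancel k₀ (e.trans k0d.symm))⟩
        ⟨fun h e => h (e ▸ k0c), fun h e => h (smul_left_cancel k₀ (e.trans k0c.symm))⟩
    have hbal : (W.filter fun w => Rel u w).card = (W.filter fun w => ¬ Rel u w).card := by
      refine Finset.card_equiv (MulAction.toPerm k₀) fun w => ?_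
      simp only [Finset.mem_filter, MulAction.toPerm_apply]
      constructor
      · rintro ⟨hw, h⟩
        refine ⟨(hWk w).mpr hw, fun h' => hno ?_⟩
        have := hconj k₀ k0c k0d _ _ h
        rw [k0u] at this
        exact htr _ _ _ h' (hsy _ _ this)
      · rintro ⟨hw, h⟩
        have hw' := (hWk w).mp hw
        refine ⟨hw', ?_⟩
        have hv : Rel v (k₀ • w) := (hor _ hw).resolve_left h
        have := hconj k₀⁻¹ i0c i0d _ _ hv
        rwa [inv_smul_eq_iff.mpr k0u.symm, inv_smul_smul] at this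
    have hsum := Finset.card_filter_add_card_filter_not (s := W) (fun w => Rel u w)
    have hWc : W.card = q - 2 := by
      rw [Finset.card_erase_of_mem (Finset.mem_erase.mpr ⟨hcd.symm, Finset.mem_univ _⟩),
        Finset.card_erase_of_mem (Finset.mem_univ _), Finset.card_univ, hα]
      omega
    have := hq.odd_of_ne_two (by omega)
    obtain ⟨t, ht⟩ := this
    omega
  refine five_transitive_of_pair (fun h h' => C.two_transitive h h') hab fun x y hx hy hxo hyo => ?_
  let X : Fin 3 → ↥(offPair G α β) := fun i => ⟨x i, hxo i⟩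
  let Y : Fin 3 → ↥(offPair G α β) := fun i => ⟨y i, hyo i⟩
  have hX : Function.Injective X := fun i j e => hx (congrArg Subtype.val e)
  have hY : Function.Injective Y := fun i j e => hy (congrArg Subtype.val e)
  obtain ⟨⟨_, h, hh, rfl⟩, e0, e1⟩ :=
    is_two_pretransitive_iff.mp h2H (hX.ne (by decide : (0 : Fin 3) ≠ 1)) (hY.ne (by decide : (0 : Fin 3) ≠ 1))
  have e0' : h • X 0 = Y 0 := e0
  have e1' : h • X 1 = Y 1 := e1
  obtain ⟨h', hh', k0, k1, k2⟩ := hfix (Y 0) (Y 1) (h • X 2) (Y 2)
    (hY.ne (by decide))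
    (fun e => hX.ne (by decide : (2 : Fin 3) ≠ 0) (smul_left_cancel h (e.trans e0'.symm)))
    (fun e => hX.ne (by decide : (2 : Fin 3) ≠ 1) (smul_left_cancel h (e.trans e1'.symm)))
    (hY.ne (by decide)) (hY.ne (by decide))
  have hm : h' * h ∈ H := mul_mem hh' hh
  refine ⟨((h' * h : pairStab G α β) : G), hm.1, hm.2, fun i => ?_⟩
  have : (h' * h) • X i = Y i := by
    rw [mul_smul]
    fin_cases i
    · exact (congrArg (h' • ·) e0').trans k0
    · exact (congrArg (h' • ·) e1').trans k1
    · exact k2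
  exact congrArg Subtype.val this

end Cfsg.Agent.H84.PrimeDeg
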