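import Cfsg.Agent.H84.PrimeDegJordan

/-!
# Fivefold transitive groups of degree `2r + 3` and `3r + 4`
-/

set_option autoImplicit false
set_option linter.unusedSectionVars false

namespace Cfsg.Agent.H84.PrimeDeg

open MulAction Equiv

variable {α : Type*} [Fintype α] [DecidableEq α] {r : ℕ} [hr : Fact r.Prime]

/-- A three-cycle on three points. -/
theorem three_pow {e : ℕ} (he : e % 3 ≠ 0) :
    (((swap (0 : Fin 3) 1)⁻¹ * (swap 1 2)⁻¹ * swap 0 1 * swap 1 2 : Perm (Fin 3)) ^ e) 0 ≠ 0 := by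
  have h3 : ((swap (0 : Fin 3) 1)⁻¹ * (swap 1 2)⁻¹ * swap 0 1 * swap 1 2 : Perm (Fin 3)) ^ 3 = 1 ∧
      ∀ a : Fin 2, (((swap (0 : Fin 3) 1)⁻¹ * (swap 1 2)⁻¹ * swap 0 1 * swap 1 2 : Perm (Fin 3)) ^
        (a.val + 1)) 0 ≠ 0 := by decide +kernel
  rw [← Nat.div_add_mod e 3, pow_add, pow_mul, h3.1, one_pow, one_mul]
  rcases (show e % 3 = 1 ∨ e % 3 = 2 by omega) with e' | e' <;> rw [e']
  · exact h3.2 0
  · exact h3.2 1

/-- A three-cycle on five points. -/
theorem three_pow' {e : ℕ} (he : e % 3 ≠ 0) :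
    (((swap (0 : Fin 5) 1)⁻¹ * (swap 1 2)⁻¹ * swap 0 1 * swap 1 2 : Perm (Fin 5)) ^ e) 0 ≠ 0 := by
  have h3 : ((swap (0 : Fin 5) 1)⁻¹ * (swap 1 2)⁻¹ * swap 0 1 * swap 1 2 : Perm (Fin 5)) ^ 3 = 1 ∧
      ∀ a : Fin 2, (((swap (0 : Fin 5) 1)⁻¹ * (swap 1 2)⁻¹ * swap 0 1 * swap 1 2 : Perm (Fin 5)) ^
        (a.val + 1)) 0 ≠ 0 := by decide +kernel
  rw [← Nat.div_add_mod e 3, pow_add, pow_mul, h3.1, one_pow, one_mul]
  rcases (show e % 3 = 1 ∨ e % 3 = 2 by omega) with e' | e' <;> rw [e']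
  · exact h3.2 0
  · exact h3.2 1

/-- The commutator of two three-cycles on four points. -/
theorem double_pow {γ₁ γ₂ : Perm (Fin 4)}
    (h₁ : γ₁ = (swap (0 : Fin 4) 1)⁻¹ * (swap 1 2)⁻¹ * swap 0 1 * swap 1 2)
    (h₂ : γ₂ = (swap (1 : Fin 4) 2)⁻¹ * (swap 2 3)⁻¹ * swap 1 2 * swap 2 3) {e : ℕ} (he : e % 2 = 1) :
    ((γ₁⁻¹ * γ₂⁻¹ * γ₁ * γ₂) ^ e) 0 ≠ 0 := by
  subst h₁ h₂
  have h : ∀ δ : Perm (Fin 4), δ ^ 2 = 1 → (δ ^ e) = δ := fun δ hδ => by
    rw [← Nat.div_add_mod e 2, pow_add, pow_mul, hδ, one_pow, one_mul, he, pow_one]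
  rw [h _ (by decide +kernel)]
  decide +kernel

theorem exists_kernel_element {G : Subgroup (Perm α)} {y : Perm α} (hyG : y ∈ G)
    (hy : orderOf y = r) (hr5 : 5 ≤ r) {c j : ℕ} (hyc : y.support.card = c * r)
    (hcj : (c = 2 ∧ (j = 3 ∨ j = 5)) ∨ (c = 3 ∧ j = 4))
    (T : Fin j ↪ α) (hT : ∀ i, T i ∉ y.support)
    (hN : ∀ z : Fin j ↪ α, (∀ i, z i ∉ y.support) → ∃ n ∈ G, (∀ i, n (T i) = z i) ∧
      ∃ e : ℕ, n * y * n⁻¹ = y ^ e) :
    ∃ h ∈ G, (∀ x ∈ y.support, h x = x) ∧ ∃ i₀ i₁ : Fin j, i₀ ≠ i₁ ∧ h (T i₀) = T i₁ := by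
  classical
  have hj3 : 3 ≤ j := by omega
  obtain ⟨θ, hθ⟩ := exists_orbit_hom hy hyc
  have hperm : ∀ σ : Perm (Fin j), ∃ n ∈ G, (∀ i, n (T i) = T (σ i)) ∧
      ∃ e : ℕ, n * y * n⁻¹ = y ^ e := fun σ =>
    hN (σ.toEmbedding.trans T) fun i => hT (σ i)
  have hinvT : ∀ (n : Perm α) (σ : Perm (Fin j)), (∀ i, n (T i) = T (σ i)) →
      ∀ i, n⁻¹ (T i) = T (σ⁻¹ i) := fun n σ h i => by
    rw [Perm.inv_eq_iff_eq, h, ← Perm.mul_apply, mul_inv_cancel, Perm.one_apply]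
  have hcomm : ∀ σ τ : Perm (Fin j), ∃ g ∈ G, g ∈ Subgroup.centralizer ({y} : Set (Perm α)) ∧
      ∀ i, g (T i) = T ((σ⁻¹ * τ⁻¹ * σ * τ) i) := by
    intro σ τ
    obtain ⟨a, haG, haT, hae⟩ := hperm σ
    obtain ⟨b, hbG, hbT, hbe⟩ := hperm τ
    exact ⟨a⁻¹ * b⁻¹ * a * b, mul_mem (mul_mem (mul_mem (inv_mem haG) (inv_mem hbG)) haG) hbG,
      commutator_mem_centralizer hae hbe, fun i => by
        simp only [Perm.mul_apply, hbT, haT, hinvT a σ haT, hinvT b τ hbT]⟩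
  have hpowT : ∀ (n : Perm α) (σ : Perm (Fin j)), (∀ i, n (T i) = T (σ i)) →
      ∀ (e : ℕ) i, (n ^ e) (T i) = T ((σ ^ e) i) := fun n σ h e => by
    induction e with
    | zero => simp
    | succ e ih => intro i; rw [pow_succ', Perm.mul_apply, ih, h, pow_succ', Perm.mul_apply]
  let i0 : Fin j := ⟨0, by omega⟩
  let i1 : Fin j := ⟨1, by omega⟩
  let i2 : Fin j := ⟨2, by omega⟩
  have hr3 : r % 3 = 1 ∨ r % 3 = 2 := by
    have : r % 3 ≠ 0 := fun h => by
      have := (Nat.prime_dvd_prime_iff_eq Nat.prime_three hr.out).mp (Nat.dvd_of_mod_eq_zero h)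
      omega
    omega
  have hr2 : r % 2 = 1 := (hr.out.eq_two_or_odd).resolve_left (by omega)
  rcases hcj with ⟨rfl, hj⟩ | ⟨rfl, rfl⟩
  · obtain ⟨g, hgG, hgC, hgT⟩ := hcomm (swap i0 i1) (swap i1 i2)
    refine ⟨g ^ (2 * r), pow_mem hgG _, fun x hx => hθ ⟨g, hgC⟩ 2 (perm_two_sq _) x hx, i0,
      _, ?_, hpowT g _ hgT (2 * r) i0⟩
    rcases hj with rfl | rfl
    · exact (three_pow (e := 2 * r) (by omega)).symm
    · exact (three_pow' (e := 2 * r) (by omega)).symm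
  · let i3 : Fin 4 := ⟨3, by omega⟩
    obtain ⟨g₁, hg₁G, hg₁C, hg₁T⟩ := hcomm (swap i0 i1) (swap i1 i2)
    obtain ⟨g₂, hg₂G, hg₂C, hg₂T⟩ := hcomm (swap i1 i2) (swap i2 i3)
    set γ₁ : Perm (Fin 4) := (swap i0 i1)⁻¹ * (swap i1 i2)⁻¹ * swap i0 i1 * swap i1 i2 with hγ₁
    set γ₂ : Perm (Fin 4) := (swap i1 i2)⁻¹ * (swap i2 i3)⁻¹ * swap i1 i2 * swap i2 i3 with hγ₂
    let u : Subgroup.centralizer ({y} : Set (Perm α)) := ⟨g₁, hg₁C⟩
    let v : Subgroup.centralizer ({y} : Set (Perm α)) := ⟨g₂, hg₂C⟩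
    have hT' : ∀ i, (g₁⁻¹ * g₂⁻¹ * g₁ * g₂) (T i) = T ((γ₁⁻¹ * γ₂⁻¹ * γ₁ * γ₂) i) := fun i => by
      simp only [Perm.mul_apply, hg₂T, hg₁T, hinvT g₁ γ₁ hg₁T, hinvT g₂ γ₂ hg₂T]
    refine ⟨(g₁⁻¹ * g₂⁻¹ * g₁ * g₂) ^ (3 * r),
      pow_mem (mul_mem (mul_mem (mul_mem (inv_mem hg₁G) (inv_mem hg₂G)) hg₁G) hg₂G) _,
      fun x hx => hθ (u⁻¹ * v⁻¹ * u * v) 3 ?_ x hx, i0, _, ?_, hpowT _ _ hT' (3 * r) i0⟩
    · rw [map_mul, map_mul, map_mul, map_inv, map_inv]
      exact perm_three_commutator _ _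
    · exact (double_pow hγ₁ hγ₂ (e := 3 * r) (by omega)).symm

theorem alternating_le_of_five {G : Subgroup (Perm α)}
    (h5 : IsMultiplyPretransitive G α 5) (hr5 : 5 ≤ r) {m k : ℕ}
    (hcard : Fintype.card α = m * r + k) (hcase : (m = 2 ∧ k = 3) ∨ (m = 3 ∧ k = 4)) :
    alternatingGroup α ≤ G := by
  classical
  have hn5 : 5 ≤ Nat.card α := by
    rw [Nat.card_eq_fintype_card, hcard]
    rcases hcase with ⟨rfl, rfl⟩ | ⟨rfl, rfl⟩ <;> omega
  haveI := h5
  haveI h2 : IsMultiplyPretransitive G α 2 :=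
    isMultiplyPretransitive_of_le (n := 5) (by norm_num) hn5
  haveI hprim : IsPreprimitive G α := isPreprimitive_of_is_two_pretransitive h2
  have hrdvd : r ∣ Nat.card G := by
    haveI : Nonempty (Fin 5 ↪ α) := Function.Embedding.nonempty_of_card_le (by
      rw [Fintype.card_fin, ← Nat.card_eq_fintype_card]; exact hn5)
    obtain ⟨e⟩ := ‹Nonempty (Fin 5 ↪ α)›
    have h1 := (stabilizer G e).index_dvd_card
    have horb : orbit G e = Set.univ := Set.eq_univ_iff_forall.mpr fun f => by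
      obtain ⟨g, hg⟩ := h5.exists_smul_eq e f
      exact ⟨g, hg⟩
    replace h1 : Nat.card (Fin 5 ↪ α) ∣ Nat.card G := by
      rw [index_stabilizer] at h1
      rw [← Set.ncard_univ, ← horb]
      exact h1
    rw [Nat.card_eq_fintype_card, Fintype.card_embedding_eq,
      Fintype.card_fin, hcard] at h1
    refine Dvd.dvd.trans ?_ h1
    simp only [Nat.descFactorial_succ, Nat.descFactorial_zero, Nat.sub_zero, mul_one]
    rcases hcase with ⟨rfl, rfl⟩ | ⟨rfl, rfl⟩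
    · rw [show 2 * r + 3 - 3 = 2 * r by omega]
      exact Dvd.dvd.mul_left (Dvd.dvd.mul_right (Dvd.intro_left 2 rfl) _) _
    · rw [show 3 * r + 4 - 4 = 3 * r by omega]
      exact Dvd.dvd.mul_right (Dvd.intro_left 3 rfl) _
  have hsupp : ∀ σ : Perm α, orderOf σ = r → ∃ c, 1 ≤ c ∧ σ.support.card = c * r := by
    intro σ hσ
    obtain ⟨n, hn⟩ := Perm.cycleType_prime_order (hσ ▸ hr.out)
    refine ⟨n + 1, by omega, ?_⟩
    rw [← Perm.sum_cycleType, hn, Multiset.sum_replicate, hσ, smul_eq_mul]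
  have hex : ∃ c, ∃ y ∈ G, orderOf y = r ∧ y.support.card = c * r := by
    obtain ⟨g, hg⟩ := exists_prime_orderOf_dvd_card' (G := G) r hrdvd
    obtain ⟨c, -, hc⟩ := hsupp g (by rw [Subgroup.orderOf_coe, hg])
    exact ⟨c, g, g.2, by rw [Subgroup.orderOf_coe, hg], hc⟩
  obtain ⟨y, hyG, hy, hyc⟩ := Nat.find_spec hex
  set c := Nat.find hex with hcdef
  have hmin : ∀ σ ∈ G, orderOf σ = r → c * r ≤ σ.support.card := by
    intro σ hσ ho
    obtain ⟨d, -, hd⟩ := hsupp σ ho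
    rw [hd]
    exact Nat.mul_le_mul_right r (Nat.find_min' hex ⟨σ, hσ, ho, hd⟩)
  have hc1 : 1 ≤ c := by
    obtain ⟨d, hd1, hd⟩ := hsupp y hy
    rw [hd] at hyc
    exact Nat.eq_of_mul_eq_mul_right hr.out.pos hyc ▸ hd1
  have hcm : c ≤ m := by
    by_contra h
    have h1 := Nat.mul_le_mul_right r (show m + 1 ≤ c by omega)
    have h2 := y.support.card_le_univ
    rw [hyc, hcard] at h2
    rw [Nat.succ_mul] at h1
    omega
  by_cases hc : c = 1
  · have hcyc : y.IsCycle := Perm.isCycle_of_prime_order (hy ▸ hr.out)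
      (by rw [hy, hyc, hc]; omega)
    refine Cfsg.Agent.S0713.result G hprim hr.out ?_ ?_ hcyc (by rw [hyc, hc, one_mul]) hyG
    · rw [← Nat.card_eq_fintype_card]; exact hn5
    · rw [hcard]; rcases hcase with ⟨rfl, rfl⟩ | ⟨rfl, rfl⟩ <;> omega
  set j := if c = m then k else 5 with hjdef
  have hnum : ((c = 2 ∧ (j = 3 ∨ j = 5)) ∨ (c = 3 ∧ j = 4)) ∧ c * r + j ≤ Fintype.card α ∧
      Fintype.card α < (c + 1) * r + j ∧ 2 * (Fintype.card α - c * r) < Fintype.card α ∧ j ≤ 5 := by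
    rw [hjdef, hcard]
    rcases hcase with ⟨rfl, rfl⟩ | ⟨rfl, rfl⟩
    · have hc2 : c = 2 := by omega
      rw [hc2]; simp; omega
    · obtain hc2 | hc3 : c = 2 ∨ c = 3 := by omega
      · rw [hc2]; simp; omega
      · rw [hc3]; simp; omega
  obtain ⟨hcj, hfit, hlt, hsmall, hj5⟩ := hnum
  haveI hjt : IsMultiplyPretransitive G α j := isMultiplyPretransitive_of_le (n := 5) hj5 hn5
  have hcompl : j ≤ Fintype.card ↥(y.supportᶜ) := by
    rw [Fintype.card_coe, Finset.card_compl, hyc]; omega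
  obtain ⟨e₀⟩ : Nonempty (Fin j ↪ ↥(y.supportᶜ)) :=
    Function.Embedding.nonempty_of_card_le (by rw [Fintype.card_fin]; exact hcompl)
  let T : Fin j ↪ α := e₀.trans (Function.Embedding.subtype _)
  have hT : ∀ i, T i ∉ y.support := fun i => Finset.mem_compl.mp (e₀ i).2
  have hyfix : (⟨y, hyG⟩ : G) ∈ stabilizer G T :=
    Function.Embedding.ext fun i => Perm.notMem_support.mp (hT i)
  obtain ⟨R, hR⟩ := (IsPGroup.of_card (p := r) (n := 1)
    (G := Subgroup.zpowers (⟨⟨y, hyG⟩, hyfix⟩ : stabilizer G T))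
    (by rw [Nat.card_zpowers, pow_one, ← Subgroup.orderOf_coe, ← Subgroup.orderOf_coe, hy])).exists_le_sylow
  have hyR : (⟨⟨y, hyG⟩, hyfix⟩ : stabilizer G T) ∈ (R : Subgroup (stabilizer G T)) :=
    hR (Subgroup.mem_zpowers _)
  -- `R` moves exactly the support of `y`
  let M : Finset α := Finset.univ.filter fun x =>
    ∃ ρ ∈ (R : Subgroup (stabilizer G T)), ((ρ : G) : Perm α) x ≠ x
  have hMsub : y.support ⊆ M := fun x hx =>
    Finset.mem_filter.mpr ⟨Finset.mem_univ _, _, hyR, Perm.mem_support.mp hx⟩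
  have hMT : M ⊆ (Finset.univ.map T)ᶜ := fun x hx => by
    obtain ⟨ρ, hρ, hne⟩ := (Finset.mem_filter.mp hx).2
    refine Finset.mem_compl.mpr fun hxT => ?_
    obtain ⟨i, -, rfl⟩ := Finset.mem_map.mp hxT
    exact hne (DFunLike.congr_fun ρ.2 i)
  have hMle : M.card + j ≤ Fintype.card α := by
    have := Finset.card_le_card hMT
    rw [Finset.card_compl, Finset.card_map, Finset.card_univ, Fintype.card_fin] at this
    omega
  have hMeq : y.support = M := by
    have hmod : Fintype.card α ≡ Fintype.card α - M.card [MOD r] := by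
      have h1 := R.isPGroup'.card_modEq_card_fixedPoints (α := α)
      rw [Nat.card_eq_fintype_card (α := α)] at h1
      refine h1.trans (congrArg (· % r) ?_)
      rw [← Finset.card_compl, ← Fintype.card_coe, ← Nat.card_eq_fintype_card]
      refine Nat.card_congr (Equiv.subtypeEquivRight fun x => ?_)
      simp only [M, Finset.mem_compl, Finset.mem_filter, Finset.mem_univ, true_and, not_exists,
        not_and, not_not, MulAction.mem_fixedPoints]
      exact ⟨fun h ρ hρ => h ⟨ρ, hρ⟩, fun h ρ => h ρ.1 ρ.2⟩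
    have hd : r ∣ M.card := by
      replace hmod := hmod.symm
      rw [Nat.modEq_iff_dvd' (Nat.sub_le _ _)] at hmod
      rwa [Nat.sub_sub_self (Finset.card_le_univ M)] at hmod
    refine Finset.eq_of_subset_of_card_le hMsub ?_
    have hge := Finset.card_le_card hMsub
    obtain ⟨d, hd⟩ := hd
    rw [hd] at hMle hge ⊢
    rw [hyc] at hge ⊢
    have h1 : d < c + 1 := by
      by_contra hcon
      have h2 := Nat.mul_le_mul_left r (not_lt.mp hcon)
      rw [mul_comm r (c + 1)] at h2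
      omega
    rw [mul_comm r d]
    exact Nat.mul_le_mul_right r (by omega)
  have hsemi : ∀ ρ ∈ (R : Subgroup (stabilizer G T)), ρ ≠ 1 →
      ∀ x ∈ y.support, ((ρ : G) : Perm α) x ≠ x := by
    intro ρ hρ hne x hx hfix
    set σ : Perm α := ((ρ : G) : Perm α) with hσ
    obtain ⟨n, hn⟩ := R.isPGroup' ⟨ρ, hρ⟩
    have hn' : σ ^ r ^ n = 1 := by
      have := congrArg (fun t : ↥(R : Subgroup (stabilizer G T)) => (((t : stabilizer G T) : G) : Perm α)) hn
      simpa using this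
    have hσ1 : σ ≠ 1 := fun h => hne (Subtype.ext (Subtype.ext h))
    obtain ⟨i, hi, hio⟩ := (Nat.dvd_prime_pow hr.out).mp (orderOf_dvd_of_pow_eq_one hn')
    have hi0 : i ≠ 0 := fun h => hσ1 (orderOf_eq_one_iff.mp (by rw [hio, h, pow_zero]))
    have ho : orderOf (σ ^ r ^ (i - 1)) = r := by
      rw [orderOf_pow' σ (pow_ne_zero _ hr.out.ne_zero), hio,
        Nat.gcd_eq_right (pow_dvd_pow r (by omega)), Nat.pow_div (by omega) hr.out.pos,
        show i - (i - 1) = 1 by omega, pow_one]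
    have h1 : c * r ≤ (σ ^ r ^ (i - 1)).support.card := hmin _ (pow_mem (ρ : G).2 _) ho
    have hsub : (σ ^ r ^ (i - 1)).support ⊆ y.support.erase x := by
      intro w hw
      refine Finset.mem_erase.mpr ⟨fun e => ?_, ?_⟩
      · rw [e, Perm.mem_support] at hw
        exact hw (Perm.pow_apply_eq_self_of_apply_eq_self hfix _)
      · rw [hMeq]
        exact Finset.mem_filter.mpr
          ⟨Finset.mem_univ _, ρ, hρ, Perm.mem_support.mp (Perm.support_pow_le σ _ hw)⟩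
    have h2 := Finset.card_le_card hsub
    rw [Finset.card_erase_of_mem hx, hyc] at h2
    have : 0 < c * r := Nat.mul_pos hc1 hr.out.pos
    omega
  have hRcard : Nat.card (R : Subgroup (stabilizer G T)) = r := by
    obtain ⟨n, hn⟩ := IsPGroup.iff_card.mp R.isPGroup'
    obtain ⟨x, hx⟩ : y.support.Nonempty :=
      Finset.card_pos.mp (by rw [hyc]; exact Nat.mul_pos hc1 hr.out.pos)
    have hle : Nat.card (R : Subgroup (stabilizer G T)) ≤ c * r := by
      rw [← hyc, ← Fintype.card_coe, ← Nat.card_eq_fintype_card]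
      refine Nat.card_le_card_of_injective
        (fun ρ => (⟨(((ρ : stabilizer G T) : G) : Perm α) x, ?_⟩ : ↥y.support)) fun ρ ρ' e => ?_
      · by_cases h1 : (ρ : stabilizer G T) = 1
        · rw [h1]; simpa using hx
        · have hne := hsemi _ ρ.2 h1 x hx
          rw [hMeq]
          refine Finset.mem_filter.mpr ⟨Finset.mem_univ _, ρ.1, ρ.2, fun e => hne ?_⟩
          exact (((ρ : stabilizer G T) : G) : Perm α).injective e
      · have e' : (((ρ : stabilizer G T) : G) : Perm α) x = (((ρ' : stabilizer G T) : G) : Perm α) x :=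
          congrArg Subtype.val e
        by_contra hne
        refine hsemi _ (mul_mem (inv_mem ρ'.2) ρ.2)
          (fun h => hne (Subtype.ext (inv_mul_eq_one.mp h).symm)) x hx ?_
        simp [e']
    have hn1 : r ^ 1 ≤ r ^ n := by
      rw [← hn, pow_one]
      have h1 : Subgroup.zpowers (⟨⟨y, hyG⟩, hyfix⟩ : stabilizer G T) ≤ R := hR
      have h2 := Subgroup.card_le_card_group (Subgroup.zpowers (⟨⟨y, hyG⟩, hyfix⟩ : stabilizer G T))
      have h3 := Nat.card_le_card_of_injective _ (Subgroup.inclusion_injective h1)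
      rwa [Nat.card_zpowers, ← Subgroup.orderOf_coe, ← Subgroup.orderOf_coe, hy] at h3
    have hn2 : r ^ n < r ^ 2 := by
      rw [← hn, pow_two]
      exact lt_of_le_of_lt hle (Nat.mul_lt_mul_of_pos_right (by omega) hr.out.pos)
    have h1 := (Nat.pow_le_pow_iff_right hr.out.one_lt).mp hn1
    have h2 := (Nat.pow_lt_pow_iff_right hr.out.one_lt).mp hn2
    rw [hn, show n = 1 by omega, pow_one]
  have hRz : (R : Subgroup (stabilizer G T)) =
      Subgroup.zpowers (⟨⟨y, hyG⟩, hyfix⟩ : stabilizer G T) :=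
    (Subgroup.eq_of_le_of_card_ge hR (by
      rw [hRcard, Nat.card_zpowers, ← Subgroup.orderOf_coe, ← Subgroup.orderOf_coe, hy])).symm
  have hN : ∀ z : Fin j ↪ α, (∀ i, z i ∉ y.support) → ∃ n ∈ G, (∀ i, n (T i) = z i) ∧
      ∃ e : ℕ, n * y * n⁻¹ = y ^ e := by
    intro z hz
    obtain ⟨n, hnT, hn⟩ := witt T R z fun ρ hρ => Function.Embedding.ext fun i => by
      by_contra hne
      exact hz i (hMeq ▸ Finset.mem_filter.mpr ⟨Finset.mem_univ _, ρ, hρ, hne⟩)
    refine ⟨(n : Perm α), n.2, fun i => DFunLike.congr_fun hnT i, ?_⟩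
    rw [hRz, MonoidHom.map_zpowers] at hn
    have h1 := (Subgroup.mem_normalizer_iff.mp hn _).mp (Subgroup.mem_zpowers _)
    obtain ⟨e, he⟩ := Subgroup.mem_zpowers_iff.mp h1
    have h2 : (y : Perm α) ^ e = (n : Perm α) * y * (n : Perm α)⁻¹ := by
      have := congrArg (fun t : G => (t : Perm α)) he
      simpa using this
    obtain ⟨e', he'⟩ : ∃ e' : ℕ, y ^ e' = y ^ e :=
      mem_powers_iff_mem_zpowers.mpr (Subgroup.mem_zpowers_iff.mpr ⟨e, rfl⟩)
    exact ⟨e', by rw [he', h2]⟩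
  obtain ⟨h, hhG, hhfix, i₀, i₁, hi, hmap⟩ := exists_kernel_element hyG hy hr5 hyc hcj T hT hN
  -- the complement of the support is a Jordan set
  let Γ : Set α := ↑(y.supportᶜ)
  have hΓc : Γ.ncard = Fintype.card α - c * r := by
    rw [Set.ncard_coe_finset, Finset.card_compl, hyc]
  have hmove : ∀ a ∈ Γ, ∀ b ∈ Γ, ∃ g : G, (∀ x, x ∉ Γ → g • x = x) ∧ g • a = b := by
    intro a ha b hb
    by_cases hab : a = b
    · exact ⟨1, fun x _ => one_smul _ _, by rw [one_smul, hab]⟩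
    let a' : ↥(y.supportᶜ) := ⟨a, ha⟩
    let b' : ↥(y.supportᶜ) := ⟨b, hb⟩
    let e₁ : Fin j ↪ ↥(y.supportᶜ) := e₀.trans (swap (e₀ i₀) a').toEmbedding
    let e₂ : Fin j ↪ ↥(y.supportᶜ) := e₁.trans (swap (e₁ i₁) b').toEmbedding
    have h1 : e₁ i₀ = a' := by simp [e₁]
    have h2 : e₂ i₀ = a' := by
      show swap (e₁ i₁) b' (e₁ i₀) = a'
      rw [h1]
      refine Equiv.swap_apply_of_ne_of_ne ?_ fun e => hab (congrArg Subtype.val e)
      rw [← h1]
      exact fun e => hi (e₁.injective e)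
    have h3 : e₂ i₁ = b' := by simp [e₂]
    obtain ⟨n, hnG, hnT, e, hne⟩ := hN (e₂.trans (Function.Embedding.subtype _))
      fun i => Finset.mem_compl.mp (e₂ i).2
    have hn0 : n (T i₀) = a := (hnT i₀).trans (congrArg Subtype.val h2)
    have hn1 : n (T i₁) = b := (hnT i₁).trans (congrArg Subtype.val h3)
    refine ⟨⟨n * h * n⁻¹, mul_mem (mul_mem hnG hhG) (inv_mem hnG)⟩, fun x hx => ?_, ?_⟩
    · show (n * h * n⁻¹) x = x
      have hxs : x ∈ y.support := by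
        by_contra hxs
        exact hx (Finset.mem_compl.mpr hxs)
      have hin : n⁻¹ x ∈ y.support := by
        have hsub : (n * y * n⁻¹).support ⊆ y.support := by
          rw [hne]; exact Perm.support_pow_le y e
        have heq : (n * y * n⁻¹).support = y.support :=
          Finset.eq_of_subset_of_card_le hsub (by rw [Perm.card_support_conj])
        rw [← heq, Perm.mem_support] at hxs
        refine Perm.mem_support.mpr fun e' => hxs ?_
        show n (y (n⁻¹ x)) = x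
        rw [e', ← Perm.mul_apply, mul_inv_cancel, Perm.one_apply]
      show n (h (n⁻¹ x)) = x
      rw [hhfix _ hin, ← Perm.mul_apply, mul_inv_cancel, Perm.one_apply]
    · show (n * h * n⁻¹) a = b
      rw [← hn0]
      simp [Perm.mul_apply, hmap, hn1]
  have haux := Cfsg.Agent.H77.Quasiprimitive.aux (G := G) (Fintype.card α) rfl
    (fun N hN hne => by
      refine IsQuasiPreprimitive.isPretransitive_of_normal (G := G) fun hfix => hne ?_
      rw [Subgroup.eq_bot_iff_forall]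
      intro x hx
      refine Subtype.ext (Equiv.ext fun z => ?_)
      exact (Set.eq_univ_iff_forall.mp hfix z) ⟨x, hx⟩)
    Γ (by rw [hΓc]; omega) (by rw [hΓc]; exact hsmall) hmove
  intro σ hσ
  obtain ⟨g, hg⟩ := haux hσ
  rw [← hg]
  exact g.2

end Cfsg.Agent.H84.PrimeDeg
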