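import Cfsg.Agent.H84.PrimeDegTwin
import Cfsg.Agent.H84.PrimeDegTwinAlt

/-!
# Degree `p = q + 2 = 2r + 3` or `3r + 4`: the alternating group
-/

set_option autoImplicit false

namespace Cfsg.Agent.H84.PrimeDeg

open MulAction

theorem Half.nonempty_iso_alternating {G Ω : Type*} [Group G] [Finite G] [MulAction G Ω] {p : ℕ}
    [Fact p.Prime] (C : Half G Ω p) (P : Sylow p G)
    (hN : 2 * Nat.card ↥(Subgroup.normalizer ((P : Subgroup G) : Set G)) = p * (p - 1))
    {q r : ℕ} (hq : q.Prime) (hr : r.Prime)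
    (hcases : (p = q + 2 ∧ p = 2 * r + 3 ∧ 9 < p) ∨ (p = q + 2 ∧ p = 3 * r + 4 ∧ 13 < p)) :
    Nonempty (G ≃* alternatingGroup (Fin p)) := by
  classical
  haveI : Fintype Ω := Fintype.ofEquiv _ C.coord
  haveI := C.faithful
  haveI := Fact.mk hr
  have h5 : IsMultiplyPretransitive G Ω 5 := C.five_transitive_of_twin P hN hq (by omega) (by omega)
  let φ := MulAction.toPermHom G Ω
  have hinj : Function.Injective φ := MulAction.toPerm_injective
  have h5' : IsMultiplyPretransitive φ.range Ω 5 := ⟨fun x y => by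
    obtain ⟨g, hg⟩ := h5.exists_smul_eq x y
    exact ⟨⟨φ g, g, rfl⟩, hg⟩⟩
  have hcard : Fintype.card Ω = p := by rw [← Fintype.card_congr C.coord, ZMod.card]
  have hge : alternatingGroup Ω ≤ φ.range := by
    rcases hcases with ⟨-, h1, h2⟩ | ⟨-, h1, h2⟩
    · exact alternating_le_of_five (r := r) h5' (by have := hr.two_le; by_contra h; interval_cases r <;> first | omega | exact absurd hr (by norm_num))
        (hcard.trans h1) (Or.inl ⟨rfl, rfl⟩)
    · exact alternating_le_of_five (r := r) h5' (by have := hr.two_le; by_contra h; interval_cases r <;> first | omega | exact absurd hr (by norm_num))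
        (hcard.trans h1) (Or.inr ⟨rfl, rfl⟩)
  have hle : φ.range ≤ alternatingGroup Ω := by
    rintro _ ⟨g, rfl⟩
    exact Equiv.Perm.mem_alternatingGroup.mpr (sign_eq_one C P hN g)
  exact ⟨(MonoidHom.ofInjective hinj).trans ((MulEquiv.subgroupCongr (le_antisymm hle hge)).trans
    (Fintype.equivFinOfCardEq hcard).altCongrHom)⟩

end Cfsg.Agent.H84.PrimeDeg
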