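import Cfsg.Agent.H84.PrimeDegreeSetup

/-!
# The principal block of a group of prime degree `p` with Sylow normalizer of order `2 p`

If the Sylow subgroup is not normal, the permutation character is `1 + θ` with `θ` irreducible,
the `(p - 1) / 2` exceptional characters are `f - 2` on the regular elements and all other
nontrivial characters vanish on the singular ones.
-/

set_option linter.style.haveILetI false
set_option linter.unusedSectionVars false

open scoped ComplexConjugate

namespace Cfsg.Agent.H84.TwoP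

open MulAction CharBasic BlockBasic

variable {α : Type*} [Fintype α] [DecidableEq α] {p : ℕ}

/-- The number of fixed points, as a complex number. -/
noncomputable def fixF {G : Subgroup (Equiv.Perm α)} (g : G) : ℂ :=
  (Nat.card (fixedBy α g) : ℂ)

variable [hp : Fact p.Prime] {G : Subgroup (Equiv.Perm α)} {P : Sylow p G} (h : Hyp p G P)

include h

theorem Hyp.fixed_one : Nat.card (fixedBy α (1 : G)) = p := by
  rw [fixedBy_one_eq_univ, Nat.card_univ, Nat.card_eq_fintype_card, h.card_pts]

theorem Hyp.fixF_one : fixF (1 : G) = p := by rw [fixF, h.fixed_one]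

theorem Hyp.fixed_singular {g : G} (hg : p ∣ orderOf g) : Nat.card (fixedBy α g) = 0 := by
  obtain ⟨Q, hQ, hg1⟩ := h.singular_iff.1 hg
  obtain ⟨c, hc⟩ := MulAction.exists_smul_eq G P Q
  rw [← hc] at hQ
  haveI : IsEmpty (fixedBy α g) := ⟨fun ⟨a, ha⟩ => by
    refine h.smul_ne (Fusion.mem_sylow_smul.1 hQ) ?_ (c⁻¹ • a) ?_
    · intro e
      refine hg1 ?_
      have := congrArg (fun z => c * z * c⁻¹) e
      simpa [mul_assoc] using this
    · rw [← mul_smul, mul_assoc (c⁻¹ * g), mul_inv_cancel, mul_one, mul_smul,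
        show g • a = a from ha]⟩
  exact Nat.card_of_isEmpty

theorem Hyp.fixF_singular {g : G} (hg : p ∣ orderOf g) : fixF g = 0 := by
  rw [fixF, h.fixed_singular hg, Nat.cast_zero]

theorem Hyp.singular_of_mem {y : (P : Subgroup G)} (hy : y ≠ 1) : p ∣ orderOf (y : G) :=
  h.singular_iff.2 ⟨P, y.2, fun e => hy (Subtype.ext e)⟩

theorem Hyp.card_erase_one [Fintype (P : Subgroup G)] [DecidableEq (P : Subgroup G)] :
    ((Finset.univ.erase (1 : (P : Subgroup G))).card : ℂ) = (p : ℂ) - 1 := by
  rw [Finset.card_erase_of_mem (Finset.mem_univ _), Finset.card_univ, ← Nat.card_eq_fintype_card,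
    h.card_sylow, Nat.cast_sub hp.out.one_le, Nat.cast_one]

/-- Sums of class functions given by the number of fixed points on the regular elements. -/
theorem Hyp.sum_split [Fintype G] [Fintype (P : Subgroup G)] [DecidableEq (P : Subgroup G)]
    {F : G → ℂ} (Φ : ℂ → ℂ) (hF : ∀ c g, F (c * g * c⁻¹) = F g)
    (hreg : ∀ g : G, ¬ p ∣ orderOf g → F g = Φ (fixF g)) :
    ∑ g : G, F g = ∑ g : G, Φ (fixF g) +
      (Nat.card (Sylow p G) : ℂ) * ∑ y ∈ Finset.univ.erase (1 : (P : Subgroup G)), (F y - Φ 0) := by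
  classical
  have h1 : ∑ g, (F g - Φ (fixF g)) =
      ∑ g ∈ Finset.univ.filter (fun g : G => p ∣ orderOf g), (F g - Φ 0) := by
    rw [Finset.sum_filter]
    refine Finset.sum_congr rfl fun g _ => ?_
    split_ifs with hg
    · rw [h.fixF_singular hg]
    · rw [hreg g hg, sub_self]
  have h2 := h.sum_singular (F := fun g => F g - Φ 0) (fun c g => by simp only [hF])
  rw [Finset.sum_sub_distrib, h2] at h1
  rw [sub_eq_iff_eq_add'] at h1
  convert h1

theorem Hyp.sum_fixF [Fintype G] : ∑ g : G, fixF g = (Nat.card G : ℂ) := by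
  haveI := h.transitive
  have h1 : Nat.card (Quotient (orbitRel G α)) = 1 := by
    obtain ⟨a⟩ : Nonempty α := Fintype.card_pos_iff.1 (by rw [h.card_pts]; exact hp.out.pos)
    refine Nat.card_eq_one_iff_unique.2 ⟨⟨fun x y => ?_⟩, ⟨Quotient.mk _ a⟩⟩
    induction x using Quotient.inductionOn with
    | h x =>
      induction y using Quotient.inductionOn with
      | h y =>
        obtain ⟨g, rfl⟩ := MulAction.exists_smul_eq G y x
        exact Quotient.sound ⟨g, rfl⟩
  simp only [fixF, ← Nat.cast_sum, S0157.orbit_count α, h1, one_mul]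

variable [Fintype (P : Subgroup G)] [Fintype (Subgroup.normalizer (P : Set G))]

/-- An orbit of the normalizer on the characters of `P` is `{b, b⁻¹}`. -/
theorem Hyp.sum_orb [Fintype G] {b : IrrCharacter (P : Subgroup G)}
    (hb : b ≠ H86.Abelian.triv P) (y : (P : Subgroup G)) :
    ∑ b' ∈ H86.Abelian.orb P b, (b' : ↥(P : Subgroup G) → ℂ) y =
      (b : ↥(P : Subgroup G) → ℂ) y + (b : ↥(P : Subgroup G) → ℂ) y⁻¹ := by
  classical
  haveI := H86.Abelian.isMulCommutative_sylow P h.card_sylow
  have hfix := H86.Abelian.freeFusion P h.card_sylow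
  obtain ⟨n, hnN, hnP⟩ := h.exists_inverting
  set b' := H86.Abelian.actIrr P ⟨n, hnN⟩ b with hb'
  have hne : b ≠ b' := fun e => hnP (by
    have := H86.Abelian.mem_centralizer_of_fix P hfix hb (n := ⟨n, hnN⟩) e.symm
    rwa [h.centralizer_sylow] at this)
  have hsub : ({b, b'} : Finset (IrrCharacter (P : Subgroup G))) ⊆ H86.Abelian.orb P b := by
    intro c hc
    rcases Finset.mem_insert.1 hc with rfl | hc
    · exact H86.Abelian.self_mem_orb P c
    · rw [Finset.mem_singleton.1 hc]
      exact (H86.Abelian.mem_orb P).2 ⟨_, rfl⟩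
  have heq := Finset.eq_of_subset_of_card_le hsub (by
    rw [H86.Abelian.card_orb P hfix hb, Finset.card_pair hne]
    exact h.relIndex_eq.le)
  rw [← heq, Finset.sum_pair hne, hb', H86.Abelian.actIrr_apply]
  refine congrArg _ (congrArg _ (Subtype.ext ?_))
  rw [H86.Abelian.act_coe, InvMemClass.coe_inv]
  exact h.inverts hnN hnP y.2

omit [Fintype (P : Subgroup G)] [Fintype (Subgroup.normalizer (P : Set G))] in
theorem Hyp.normal_of_card_sylow (h1 : Nat.card (Sylow p G) = 1) : (P : Subgroup G).Normal := by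
  haveI : Subsingleton (Sylow p G) := (Nat.card_eq_one_iff_unique.1 h1).1
  exact P.normal_of_subsingleton

open scoped Classical in
/-- What the principal block says. -/
theorem Hyp.exists_chars [Fintype G] (hp7 : 7 ≤ p) (hnn : ¬ (P : Subgroup G).Normal) :
    ∃ (θ : IrrCharacter G) (Y : Finset (IrrCharacter G))
      (ζ : IrrCharacter (P : Subgroup G) → IrrCharacter G),
      θ ≠ trivialIrr ∧ trivialIrr ∉ Y ∧ θ ∉ Y ∧ 2 * Y.card + 1 = p ∧
      (∀ g, (θ : G → ℂ) g = fixF g - 1) ∧
      (∀ b, b ≠ H86.Abelian.triv P → ζ b ∈ Y) ∧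
      (∀ b b', b ≠ H86.Abelian.triv P → b' ≠ H86.Abelian.triv P →
        (ζ b' = ζ b ↔ b' ∈ H86.Abelian.orb P b)) ∧
      (∀ u ∈ Y, ∀ g : G, ¬ p ∣ orderOf g → (u : G → ℂ) g = fixF g - 2) ∧
      (∀ b, b ≠ H86.Abelian.triv P → ∀ y : (P : Subgroup G), y ≠ 1 →
        (ζ b : G → ℂ) y =
          -((b : ↥(P : Subgroup G) → ℂ) y + (b : ↥(P : Subgroup G) → ℂ) y⁻¹)) ∧
      (∀ y : (P : Subgroup G), y ≠ 1 → ∑ u ∈ Y, (u : G → ℂ) y = 1) ∧
      ∀ χ : IrrCharacter G, χ ≠ trivialIrr → χ ≠ θ → χ ∉ Y →
        ∀ y : (P : Subgroup G), y ≠ 1 → (χ : G → ℂ) y = 0 := by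
  haveI := H86.Abelian.isMulCommutative_sylow P h.card_sylow
  have hfix := H86.Abelian.freeFusion P h.card_sylow
  obtain ⟨M, hM⟩ := BlockBasic.exists_isPModular hp.out
  have hm : (Subgroup.centralizer ((P : Subgroup G) : Set G)).relIndex
      (Subgroup.normalizer (P : Set G)) = 2 := h.relIndex_eq
  obtain ⟨Y, ζ, δ, d, a, hδ, hYB, htY, hat, hζY, hYsurj, hζiff, hYc, hexc, hout, hnorm, hagree,
    hrel⟩ := H86.Abelian.exists_exceptional P hM hfix (by rw [hm, h.card_sylow]; omega)
  rw [hm, h.card_sylow] at hYc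
  rw [hm] at hnorm
  set t := Y.card with ht
  have ht3 : 3 ≤ t := by omega
  set X := Finset.univ.filter fun χ : IrrCharacter G => χ ∈ principalBlock M G ∧ χ ∉ Y with hX
  rw [← Finset.sum_filter, ← hX] at hnorm
  push_cast at hnorm
  have hXc : 2 ≤ X.card := by
    have hge := H86.Abelian.card_principal_ge P h.card_sylow hM
    rw [hm, Nat.card_eq_fintype_card, Fintype.card_subtype] at hge
    have hsub : (Finset.univ.filter fun χ : IrrCharacter G => χ ∈ principalBlock M G) ⊆ X ∪ Y := by
      intro χ hχ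
      rw [Finset.mem_filter] at hχ
      by_cases hY : χ ∈ Y
      · exact Finset.mem_union_right _ hY
      · exact Finset.mem_union_left _ (by simp [hX, hχ.2, hY])
    have := (Finset.card_le_card hsub).trans (Finset.card_union_le X Y)
    have h2 : (p - 1) / 2 = t := by omega
    omega
  have hone : ∀ χ ∈ X, 1 ≤ a χ ^ 2 := fun χ hχ => by
    rw [hX, Finset.mem_filter] at hχ
    have h1 := (hout χ hχ.2.1 hχ.2.2).1
    nlinarith [Int.one_le_abs h1, sq_abs (a χ)]
  have hXs : (X.card : ℤ) ≤ ∑ χ ∈ X, a χ ^ 2 := by simpa using Finset.sum_le_sum hone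
  have hXc' : (2 : ℤ) ≤ X.card := by exact_mod_cast hXc
  have ht3' : (3 : ℤ) ≤ t := by exact_mod_cast ht3
  have hd : d = 0 := by
    by_contra hd
    have hd1 : 1 ≤ d ^ 2 := by nlinarith [Int.one_le_abs hd, sq_abs d]
    nlinarith [sq_nonneg (d - δ)]
  subst hd
  have hd2 : δ ^ 2 = 1 := by rcases hδ with e | e <;> simp [e]
  have hXs2 : ∑ χ ∈ X, a χ ^ 2 = 2 := by linear_combination hnorm - hd2
  have hXc2 : X.card = 2 := by omega
  have htX : trivialIrr ∈ X := by
    simp only [hX, Finset.mem_filter, Finset.mem_univ, true_and]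
    exact ⟨sameBlock_refl hM _, htY⟩
  obtain ⟨θ, hθ⟩ : ∃ θ, X.erase trivialIrr = {θ} := Finset.card_eq_one.1
    (by rw [Finset.card_erase_of_mem htX, hXc2])
  have hθm : θ ∈ X.erase trivialIrr := by rw [hθ]; exact Finset.mem_singleton_self _
  have hθne : θ ≠ trivialIrr := Finset.ne_of_mem_erase hθm
  have hθX := Finset.mem_of_mem_erase hθm
  have hθX' : θ ∈ principalBlock M G ∧ θ ∉ Y := by simpa [hX] using hθX
  have hXeq : X = {trivialIrr, θ} := by rw [← Finset.insert_erase htX, hθ]
  rw [hXeq, Finset.sum_pair hθne.symm, hat] at hXs2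
  have ha : a θ = 1 ∨ a θ = -1 := sq_eq_one_iff.1 (by linarith)
  set A : ℤ := a θ with hA
  -- regular elements
  have hreg : ∀ u ∈ Y, ∀ g : G, ¬ p ∣ orderOf g →
      (δ : ℂ) * (u : G → ℂ) g = 1 + (A : ℂ) * (θ : G → ℂ) g := by
    intro u hu g hg
    have h1 := hrel u hu g hg
    rw [← Finset.sum_filter, ← hX, hXeq, Finset.sum_pair hθne.symm, hat] at h1
    simp only [trivialIrr, Int.cast_one, mul_one, Int.cast_natCast, Int.cast_zero, mul_zero,
      zero_sub] at h1
    linear_combination -h1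
  -- singular elements
  have hζval : ∀ b, b ≠ H86.Abelian.triv P → ∀ y : (P : Subgroup G), y ≠ 1 →
      (ζ b : G → ℂ) y =
        (δ : ℂ) * ((b : ↥(P : Subgroup G) → ℂ) y + (b : ↥(P : Subgroup G) → ℂ) y⁻¹) := by
    intro b hb y hy
    rw [hexc b hb y hy, h.sum_orb hb y]
    simp
  have hθval : ∀ y : (P : Subgroup G), y ≠ 1 → (θ : G → ℂ) y = A := (hout θ hθX'.1 hθX'.2).2
  have hYsum : ∀ y : (P : Subgroup G), y ≠ 1 → ∑ u ∈ Y, (u : G → ℂ) y = -(δ : ℂ) := by
    intro y hy
    set T := Finset.univ.erase (H86.Abelian.triv P) with hT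
    have hfib : ∀ u ∈ Y, (T.filter fun b => ζ b = u).card = 2 := by
      intro u hu
      obtain ⟨b, hb, rfl⟩ := hYsurj u hu
      rw [show T.filter (fun b' => ζ b' = ζ b) = H86.Abelian.orb P b from Finset.ext fun b' => ?_,
        H86.Abelian.card_orb P hfix hb, hm]
      simp only [Finset.mem_filter, hT, Finset.mem_erase, Finset.mem_univ, and_true]
      refine ⟨fun hh => (hζiff b b' hb hh.1).1 hh.2, fun hh => ?_⟩
      obtain ⟨n, rfl⟩ := (H86.Abelian.mem_orb P).1 hh
      exact ⟨H86.Abelian.actIrr_ne_triv P hb n,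
        (hζiff b _ hb (H86.Abelian.actIrr_ne_triv P hb n)).2 hh⟩
    have h1 := Finset.sum_fiberwise_of_maps_to (s := T) (t := Y) (g := ζ)
      (fun b hb => hζY b (Finset.ne_of_mem_erase hb)) (fun b => (ζ b : G → ℂ) y)
    rw [Finset.sum_congr rfl (g := fun u : IrrCharacter G => (2 : ℂ) * (u : G → ℂ) y) fun u hu => by
        rw [Finset.sum_congr rfl (g := fun _ => (u : G → ℂ) y) fun b hb => by
          rw [(Finset.mem_filter.1 hb).2], Finset.sum_const, hfib u hu, nsmul_eq_mul]
        norm_num, ← Finset.mul_sum,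
      Finset.sum_congr rfl fun b hb => hζval b (Finset.ne_of_mem_erase hb) y hy,
      ← Finset.mul_sum, Finset.sum_add_distrib, Finset.sum_erase_eq_sub (Finset.mem_univ _),
      Finset.sum_erase_eq_sub (Finset.mem_univ _), H86.Abelian.sum_irr_apply P hy,
      H86.Abelian.sum_irr_apply P (inv_ne_one.2 hy), H86.Abelian.triv_apply,
      H86.Abelian.triv_apply] at h1
    linear_combination h1 / 2
  -- characters outside the block
  have hvan : ∀ χ : IrrCharacter G, χ ≠ trivialIrr → χ ≠ θ → χ ∉ Y →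
      ∀ y : (P : Subgroup G), y ≠ 1 → (χ : G → ℂ) y = 0 := by
    intro χ h1 h2 h3 y hy
    have hy' : (y : G) ≠ 1 := fun e => hy (Subtype.ext e)
    have hχB : χ ∉ principalBlock M G := fun hB => by
      have : χ ∈ X := by simp [hX, hB, h3]
      rw [hXeq] at this
      simp [h1, h2] at this
    have hk := H86.sum_sq_principal hM (H86.Abelian.exists_orderOf P y)
      (H86.Abelian.pNilAt_of_mem P hfix y.2 hy')
    have hcent : Nat.card (Subgroup.centralizer ({(y : G)} : Set G)) = p := by
      rw [h.centralizer_eq y.2 hy', h.card_sylow]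
    rw [hcent, hp.out.factorization_self, pow_one, blockKernel, finsum_mem_eq_sum_ite] at hk
    have hall := second_orthogonality_self (y : G)
    rw [hcent, ← hk, ← sub_eq_zero, ← Finset.sum_sub_distrib] at hall
    have hre := congrArg Complex.re hall
    rw [Complex.re_sum, Complex.zero_re] at hre
    have hterm : ∀ ψ : IrrCharacter G, ((ψ : G → ℂ) y * conj ((ψ : G → ℂ) y) -
        if ψ ∈ principalBlock M G then (ψ : G → ℂ) y * conj ((ψ : G → ℂ) y) else 0).re =
        if ψ ∈ principalBlock M G then 0 else Complex.normSq ((ψ : G → ℂ) y) := by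
      intro ψ
      split_ifs <;> simp [Complex.mul_conj]
    simp only [hterm] at hre
    have := (Finset.sum_eq_zero_iff_of_nonneg (fun ψ _ => by
      split_ifs
      · exact le_rfl
      · exact Complex.normSq_nonneg _)).1 hre χ (Finset.mem_univ _)
    rwa [if_neg hχB, Complex.normSq_eq_zero] at this
  -- the permutation character
  let π : G → ℂ := fun g => fixF g
  have hπ : IsCharacter G π := S0157.isCharacter_perm α
  have hc : ∀ χ : IrrCharacter G, ∃ c : ℕ, classInner π (χ : G → ℂ) = c := fun χ =>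
    classInner_isChar_nat hπ (IsIrr.isCharacter χ.2)
  choose c hc using hc
  have hexp : ∀ g, π g = ∑ χ : IrrCharacter G, (c χ : ℂ) * (χ : G → ℂ) g := fun g => by
    have := congrFun (classFunction_expansion (IsChar.isClassFunction hπ)) g
    simpa only [Finset.sum_apply, Pi.smul_apply, smul_eq_mul, hc] using this
  have hc1 : c trivialIrr = 1 := by
    have h1 := hc trivialIrr
    rw [classInner_def] at h1
    simp only [trivialIrr, map_one, mul_one] at h1
    rw [show ∑ g, π g = _ from h.sum_fixF,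
      inv_mul_cancel₀ (Nat.cast_ne_zero.2 Nat.card_pos.ne')] at h1
    exact_mod_cast h1.symm
  obtain ⟨u₀, hu₀⟩ := Finset.card_pos.1 (show 0 < Y.card by omega)
  set w := c u₀ with hw
  have hwc : ∀ u ∈ Y, c u = w := by
    intro u hu
    have h1 : classInner π (u : G → ℂ) = classInner π (u₀ : G → ℂ) := by
      rw [classInner_def, classInner_def]
      refine congrArg _ (Finset.sum_congr rfl fun g _ => ?_)
      by_cases hg : p ∣ orderOf g
      · simp [π, h.fixF_singular hg]
      · rw [hagree u hu u₀ hu₀ g hg]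
    rw [hc, hc] at h1
    exact_mod_cast h1
  set S := insert trivialIrr (insert θ Y) with hS
  have hS1 : trivialIrr ∉ insert θ Y := by simp [hθne.symm, htY]
  have hsplit : ∀ F : IrrCharacter G → ℂ, ∑ χ ∈ S, F χ = F trivialIrr + (F θ + ∑ u ∈ Y, F u) :=
    fun F => by rw [hS, Finset.sum_insert hS1, Finset.sum_insert hθX'.2]
  obtain ⟨y₁, hy₁⟩ : ∃ y : (P : Subgroup G), y ≠ 1 := by
    obtain ⟨y, hy, hy1⟩ := h.exists_mem
    exact ⟨⟨y, hy⟩, fun e => hy1 (congrArg Subtype.val e)⟩
  have hat_y : (1 : ℤ) + (c θ : ℤ) * A - (w : ℤ) * δ = 0 := by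
    have h1 := hexp (y₁ : G)
    rw [← Finset.sum_subset (Finset.subset_univ S) (fun χ _ hχ => by
      simp only [hS, Finset.mem_insert, not_or] at hχ
      rw [hvan χ hχ.1 hχ.2.1 hχ.2.2 y₁ hy₁, mul_zero]), hsplit, hc1, hθval y₁ hy₁,
      Finset.sum_congr rfl (g := fun u : IrrCharacter G => (w : ℂ) * (u : G → ℂ) y₁)
        fun u hu => by rw [hwc u hu], ← Finset.mul_sum, hYsum y₁ hy₁,
      show π (y₁ : G) = 0 from h.fixF_singular (h.singular_of_mem hy₁)] at h1
    simp only [trivialIrr, Nat.cast_one, mul_one] at h1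
    have : ((1 + (c θ : ℤ) * A - (w : ℤ) * δ : ℤ) : ℂ) = 0 := by
      push_cast; linear_combination -h1
    exact_mod_cast this
  -- degrees
  set dθ := charDegree (θ : G → ℂ) with hdθ
  set dζ := charDegree (u₀ : G → ℂ) with hdζ
  have hone' : ¬ p ∣ orderOf (1 : G) := by
    rw [orderOf_one, Nat.dvd_one]; exact hp.out.ne_one
  have hdY : ∀ u ∈ Y, charDegree (u : G → ℂ) = dζ := fun u hu => by
    have h1 := hagree u hu u₀ hu₀ 1 hone'
    rw [apply_one_eq_charDegree, apply_one_eq_charDegree] at h1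
    exact_mod_cast h1
  have hdeg1 : (δ : ℤ) * dζ = 1 + A * dθ := by
    have h1 := hreg u₀ hu₀ 1 hone'
    rw [apply_one_eq_charDegree, apply_one_eq_charDegree] at h1
    exact_mod_cast h1
  have hθmod : (dθ : ℤ) ≡ A [ZMOD p] := by
    refine (H86.Abelian.charDegree_modEq P h.card_sylow θ (s := ((p - 1 : ℕ) : ℤ) * A) ?_).trans ?_
    · rw [Finset.sum_congr rfl fun y hy => hθval y (Finset.ne_of_mem_erase hy), Finset.sum_const,
        Finset.card_erase_of_mem (Finset.mem_univ _), Finset.card_univ, ← Nat.card_eq_fintype_card,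
        h.card_sylow, nsmul_eq_mul]
      push_cast; ring
    · rw [Int.modEq_iff_dvd]
      exact ⟨A, by rw [Nat.cast_sub hp.out.one_le]; push_cast; ring⟩
  have htot : ∑ χ : IrrCharacter G, c χ * charDegree (χ : G → ℂ) = p := by
    have h1 := hexp 1
    simp only [apply_one_eq_charDegree, π, h.fixF_one] at h1
    exact_mod_cast h1.symm
  have hSle : 1 + (c θ * dθ + t * (w * dζ)) + ∑ χ ∈ Sᶜ, c χ * charDegree (χ : G → ℂ) = p := by
    rw [← htot, ← Finset.sum_add_sum_compl S]
    congr 1
    rw [hS, Finset.sum_insert hS1, Finset.sum_insert hθX'.2, hc1, one_mul,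
      Finset.sum_congr rfl fun u hu => by rw [hwc u hu, hdY u hu], Finset.sum_const, smul_eq_mul]
    have : charDegree ((trivialIrr : IrrCharacter G) : G → ℂ) = 1 := by
      have h1 := apply_one_eq_charDegree (trivialIrr : IrrCharacter G)
      simp only [trivialIrr] at h1 ⊢
      exact_mod_cast h1.symm
    rw [this]
  have hrest : (∑ χ ∈ Sᶜ, c χ * charDegree (χ : G → ℂ) = 0) → ∀ g, fixF g =
      1 + ((c θ : ℂ) * (θ : G → ℂ) g + (w : ℂ) * ∑ u ∈ Y, (u : G → ℂ) g) := by
    intro h0 g
    show π g = _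
    rw [hexp g, ← Finset.sum_subset (Finset.subset_univ S) (fun χ _ hχ => by
      have h1 := Finset.sum_eq_zero_iff.1 h0 χ (Finset.mem_compl.2 hχ)
      rw [(mul_eq_zero.1 h1).resolve_right (charDegree_pos χ).ne', Nat.cast_zero, zero_mul]),
      hsplit, hc1, Finset.mul_sum]
    simp only [trivialIrr, Nat.cast_one, mul_one]
    exact congrArg _ (congrArg _ (Finset.sum_congr rfl fun u hu => by rw [hwc u hu]))
  have hdζ0 : 0 < dζ := charDegree_pos _
  have hdθ0 : 0 < dθ := charDegree_pos _
  rcases Nat.eq_zero_or_pos w with hw0 | hw0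
  · -- the case `π = 1 + θ`
    have hcA : (c θ : ℤ) * A = -1 := by
      rw [hw0] at hat_y; push_cast at hat_y; linarith
    have hA1 : A = -1 := by
      rcases ha with e | e
      · rw [e, mul_one] at hcA; omega
      · exact e
    have hcθ : c θ = 1 := by rw [hA1] at hcA; omega
    rw [hw0, hcθ] at hSle
    simp only [one_mul, zero_mul, mul_zero, add_zero] at hSle
    have hdθp : p ∣ dθ + 1 := by
      rw [hA1, Int.modEq_iff_dvd] at hθmod
      have h1 : (p : ℤ) ∣ ((dθ + 1 : ℕ) : ℤ) := by
        have := dvd_neg.2 hθmod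
        rw [show -(-1 - (dθ : ℤ)) = ((dθ + 1 : ℕ) : ℤ) by push_cast; ring] at this
        exact this
      exact_mod_cast h1
    have hdp := Nat.le_of_dvd (Nat.succ_pos dθ) hdθp
    have h0 : ∑ χ ∈ Sᶜ, c χ * charDegree (χ : G → ℂ) = 0 := by omega
    have hθg : ∀ g, (θ : G → ℂ) g = fixF g - 1 := fun g => by
      have := hrest h0 g
      rw [hw0, hcθ] at this
      push_cast at this
      linear_combination -this
    have hδ1 : δ = -1 := by
      rcases hδ with e | e
      · rw [e, hA1] at hdeg1; omega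
      · exact e
    subst hδ1
    refine ⟨θ, Y, ζ, hθne, htY, hθX'.2, by omega, hθg, hζY, hζiff, fun u hu g hg => ?_,
      fun b hb y hy => ?_, fun y hy => ?_, hvan⟩
    · have h1 := hreg u hu g hg
      rw [hθg, hA1] at h1
      push_cast at h1
      linear_combination -h1
    · rw [hζval b hb y hy]; push_cast; ring
    · rw [hYsum y hy]; push_cast; ring
  · -- the exceptional characters occur: the Sylow subgroup is normal
    exfalso
    have hwd : w * dζ ≤ 2 := by
      by_contra hlt
      have : t * 3 ≤ t * (w * dζ) := Nat.mul_le_mul_left t (by omega)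
      omega
    have hd2' : dζ ≤ 2 := (Nat.le_mul_of_pos_left dζ hw0).trans hwd
    have hζmod : (p : ℤ) ∣ δ * dζ - 2 := by
      rw [Int.modEq_iff_dvd] at hθmod
      obtain ⟨k, hk⟩ := hθmod
      have hA2 : A * A = 1 := by rcases ha with e | e <;> simp [e]
      exact ⟨-A * k, by rw [hdeg1]; linear_combination hA2 - A * hk⟩
    have hp7' : (7 : ℤ) ≤ p := by exact_mod_cast hp7
    have hδd : δ * dζ = 2 := by
      have hle : |δ * (dζ : ℤ) - 2| < p := by
        have : (dζ : ℤ) ≤ 2 := by exact_mod_cast hd2'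
        rcases hδ with e | e <;> subst e <;> rw [abs_lt] <;> constructor <;> linarith
      have := Int.eq_zero_of_abs_lt_dvd hζmod hle
      linarith
    have hδ1 : δ = 1 := by
      rcases hδ with e | e
      · exact e
      · rw [e] at hδd; omega
    subst hδ1
    have hw1 : w = 1 := by
      have hdζ2 : dζ = 2 := by omega
      rw [hdζ2] at hwd
      omega
    have hdζ2 : dζ = 2 := by omega
    have hAθ : A = 1 ∧ dθ = 1 := by
      rw [hdζ2] at hdeg1
      rcases ha with e | e <;> rw [e] at hdeg1 <;> omega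
    rw [hw1, hdζ2, hAθ.2] at hSle
    have hcθ : c θ = 0 := by omega
    have h0 : ∑ χ ∈ Sᶜ, c χ * charDegree (χ : G → ℂ) = 0 := by omega
    have hlin : ∀ g, (θ : G → ℂ) g * conj ((θ : G → ℂ) g) = 1 := fun g => by
      have h1 : (θ : G → ℂ) 1 = 1 := by rw [apply_one_eq_charDegree, ← hdθ, hAθ.2, Nat.cast_one]
      rw [conj_apply_eq_inv, ← H86.apply_mul_of_one θ.2 h1, mul_inv_cancel, h1]
    have hfix1 : ∀ g : G, g ≠ 1 → ¬ p ∣ orderOf g → Nat.card (fixedBy α g) = 1 := by
      intro g hg1 hg
      have h1 := hrest h0 g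
      have hY : ∑ u ∈ Y, (u : G → ℂ) g = ∑ _u ∈ Y, (1 + (θ : G → ℂ) g) :=
        Finset.sum_congr rfl fun u hu => by
          have := hreg u hu g hg; rw [hAθ.1] at this; push_cast at this; linear_combination this
      rw [hcθ, hw1, hY, Finset.sum_const, nsmul_eq_mul, ← ht] at h1
      push_cast at h1
      have hθg : (θ : G → ℂ) g * (t : ℂ) = fixF g - 1 - t := by linear_combination -h1
      have h2 : (θ : G → ℂ) g * (t : ℂ) * conj ((θ : G → ℂ) g * (t : ℂ)) = (t : ℂ) * t := by
        rw [map_mul, Complex.conj_natCast]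
        linear_combination ((t : ℂ) * t) * hlin g
      rw [hθg] at h2
      simp only [fixF, map_sub, Complex.conj_natCast, map_one] at h2
      have h3 : ((Nat.card (fixedBy α g) : ℤ) - 1 - t) * ((Nat.card (fixedBy α g) : ℤ) - 1 - t) =
          (t : ℤ) * t := by exact_mod_cast h2
      rcases mul_self_eq_mul_self_iff.1 h3 with e | e
      · -- all points fixed
        exfalso
        refine hg1 (Subtype.ext (Equiv.ext fun x => ?_))
        have hall : fixedBy α g = Set.univ :=
          Set.eq_of_subset_of_ncard_le (Set.subset_univ _) (by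
            rw [Set.ncard_univ, ← Nat.card_coe_set_eq (fixedBy α g), Nat.card_eq_fintype_card,
              h.card_pts]
            omega)
        exact (Set.eq_univ_iff_forall.1 hall x : g • x = x)
      · omega
    have hpt : ∀ g : G, fixF g = 1 - (if p ∣ orderOf g then (1 : ℂ) else 0) +
        ((p : ℂ) - 1) * (if g = 1 then (1 : ℂ) else 0) := by
      intro g
      rcases eq_or_ne g 1 with rfl | hg1
      · rw [h.fixF_one, if_neg hone', if_pos rfl]; ring
      by_cases hg : p ∣ orderOf g
      · rw [h.fixF_singular hg, if_pos hg, if_neg hg1]; ring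
      · rw [fixF, hfix1 g hg1 hg, if_neg hg, if_neg hg1]; simp
    have hcount := h.sum_fixF
    rw [Finset.sum_congr rfl fun g _ => hpt g, Finset.sum_add_distrib, Finset.sum_sub_distrib,
      ← Finset.mul_sum, ← Finset.sum_filter, h.sum_singular (F := fun _ => (1 : ℂ)) (fun _ _ => rfl),
      Finset.sum_ite_eq', if_pos (Finset.mem_univ _), Finset.sum_const, Finset.sum_const,
      Finset.card_univ, ← Nat.card_eq_fintype_card, nsmul_eq_mul, nsmul_eq_mul, mul_one, mul_one,
      h.card_erase_one] at hcount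
    have h5 : ((Nat.card (Sylow p G) : ℂ) - 1) * ((p : ℂ) - 1) = 0 := by linear_combination -hcount
    rcases mul_eq_zero.1 h5 with e | e
    · exact hnn (h.normal_of_card_sylow (by exact_mod_cast sub_eq_zero.1 e))
    · exact hp.out.ne_one (by exact_mod_cast sub_eq_zero.1 e)

end Cfsg.Agent.H84.TwoP
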