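import Cfsg.Agent.H84.PrimeDegreeChars
import Cfsg.Agent.H84.ClassProd

/-!
# Moments of the number of fixed points

A product of two exceptional characters shows that the group is triply transitive with at least
`(p - 1) / 2` orbits on quadruples; the class product of an involution with itself shows that an
involution fixes at most one point.
-/

set_option linter.style.haveILetI false
set_option linter.unusedSectionVars false

open scoped ComplexConjugate

namespace Cfsg.Agent.H84.TwoP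

open MulAction CharBasic BlockBasic

/-- Burnside's lemma on `k`-tuples of distinct points. -/
theorem sum_descFactorial_fixed {H : Type*} [Group H] [Fintype H] {X : Type*} [Finite X]
    [MulAction H X] (k : ℕ) :
    ∑ g : H, (Nat.card (fixedBy X g)).descFactorial k =
      Nat.card (Quotient (orbitRel H (Fin k ↪ X))) * Nat.card H := by
  classical
  rw [← S0157.orbit_count (Fin k ↪ X)]
  refine Finset.sum_congr rfl fun g _ => ?_
  letI : Fintype (fixedBy X g) := Fintype.ofFinite _
  rw [Nat.card_eq_fintype_card,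
    show (Fintype.card (fixedBy X g)).descFactorial k = Fintype.card (Fin k ↪ fixedBy X g) by
      rw [Fintype.card_embedding_eq, Fintype.card_fin], ← Nat.card_eq_fintype_card]
  exact Nat.card_congr
    { toFun := fun e => ⟨e.trans (Function.Embedding.subtype _),
        Function.Embedding.ext fun i => (e i).2⟩
      invFun := fun e => ⟨fun i => ⟨e.1 i, congrArg (fun x : Fin k ↪ X => x i) e.2⟩,
        fun i j hij => e.1.injective (congrArg Subtype.val hij)⟩
      left_inv := fun e => Function.Embedding.ext fun i => rfl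
      right_inv := fun e => Subtype.ext (Function.Embedding.ext fun i => rfl) }

theorem cast_descFactorial3 (m : ℕ) :
    ((m.descFactorial 3 : ℕ) : ℂ) = (m : ℂ) * ((m : ℂ) - 1) * ((m : ℂ) - 2) := by
  rcases m with _ | _ | m <;> simp [Nat.descFactorial] <;> ring

theorem cast_descFactorial4 (m : ℕ) :
    ((m.descFactorial 4 : ℕ) : ℂ) = (m : ℂ) * ((m : ℂ) - 1) * ((m : ℂ) - 2) * ((m : ℂ) - 3) := by
  rcases m with _ | _ | _ | m <;> simp [Nat.descFactorial] <;> ring

/-- Conjugate elements fix equally many points. -/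
theorem card_fixedBy_of_isConj {H : Type*} [Group H] {X : Type*} [MulAction H X] {u g : H}
    (hug : IsConj u g) : Nat.card (fixedBy X g) = Nat.card (fixedBy X u) := by
  obtain ⟨c, rfl⟩ := isConj_iff.1 hug
  refine Nat.card_congr ((MulAction.toPerm c⁻¹).subtypeEquiv fun a => ?_)
  show (c * u * c⁻¹) • a = a ↔ u • c⁻¹ • a = c⁻¹ • a
  rw [mul_smul, mul_smul, eq_inv_smul_iff]

variable {α : Type*} [Fintype α] [DecidableEq α] {p : ℕ}
variable [hp : Fact p.Prime] {G : Subgroup (Equiv.Perm α)} {P : Sylow p G} (h : Hyp p G P)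

include h

open scoped Classical in
/-- The consequences of the character table. -/
theorem Hyp.exists_moments [Fintype G] (hp7 : 7 ≤ p) (hnn : ¬ (P : Subgroup G).Normal) :
    IsMultiplyPretransitive G α 3 ∧
      p ≤ 2 * Nat.card (Quotient (orbitRel G (Fin 4 ↪ α))) + 1 ∧
      ∀ u : G, orderOf u = 2 → Nat.card (fixedBy α u) ≤ 1 := by
  haveI := H86.Abelian.isMulCommutative_sylow P h.card_sylow
  letI : Fintype (P : Subgroup G) := Fintype.ofFinite _
  letI : Fintype (Subgroup.normalizer (P : Set G)) := Fintype.ofFinite _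
  obtain ⟨θ, Y, ζ, hθne, htY, hθY, htp, hθ, hζY, -, hYreg, hζval, hYsum, hvan⟩ :=
    h.exists_chars hp7 hnn
  set t := Y.card with ht
  set n := Nat.card (Sylow p G) with hn
  have htC : (p : ℂ) = 2 * (t : ℂ) + 1 := by exact_mod_cast htp.symm
  have hG : (Nat.card G : ℂ) = (n : ℂ) * (2 * (p : ℂ)) := by exact_mod_cast h.card_eq
  have hG0 : (Nat.card G : ℂ) ≠ 0 := Nat.cast_ne_zero.2 Nat.card_pos.ne'
  have hconjθ : ∀ g, conj ((θ : G → ℂ) g) = (θ : G → ℂ) g := fun g => by
    rw [hθ, map_sub, map_one, fixF, Complex.conj_natCast]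
  -- power sums
  have S1 : ∑ g : G, fixF g = (Nat.card G : ℂ) := h.sum_fixF
  have S2 : ∑ g : G, fixF g ^ 2 = 2 * (Nat.card G : ℂ) := by
    have h1 := classInner_irr_self θ.2
    rw [classInner_def, inv_mul_eq_iff_eq_mul₀ hG0, mul_one] at h1
    rw [Finset.sum_congr rfl (g := fun g : G => fixF g ^ 2 - 2 * fixF g + 1)
        fun g _ => by rw [hconjθ, hθ]; ring,
      Finset.sum_add_distrib, Finset.sum_sub_distrib, ← Finset.mul_sum, S1, Finset.sum_const,
      Finset.card_univ, ← Nat.card_eq_fintype_card, nsmul_one] at h1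
    linear_combination h1
  set S3 := ∑ g : G, fixF g ^ 3 with hS3
  set S4 := ∑ g : G, fixF g ^ 4 with hS4
  -- a nontrivial linear character of `P`
  obtain ⟨b, hb⟩ : ∃ b : IrrCharacter (P : Subgroup G), b ≠ H86.Abelian.triv P := by
    by_contra hno
    push Not at hno
    obtain ⟨y, hy, hy1⟩ := h.exists_mem
    have h1 := H86.Abelian.sum_irr_apply P
      (y := ⟨y, hy⟩) (fun e => hy1 (congrArg Subtype.val e))
    rw [Finset.sum_congr rfl (g := fun _ => (1 : ℂ)) fun a _ => by rw [hno a, H86.Abelian.triv_apply],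
      Finset.sum_const,
      nsmul_one, Nat.cast_eq_zero, Finset.card_eq_zero] at h1
    exact Finset.notMem_empty _ (h1 ▸ Finset.mem_univ (H86.Abelian.triv P))
  have hco : ∀ k, k ≠ 0 → k < p → Nat.Coprime (Nat.card (P : Subgroup G)) k := by
    intro k hk0 hk
    rw [h.card_sylow, hp.out.coprime_iff_not_dvd]
    exact Nat.not_dvd_of_pos_of_lt (Nat.pos_of_ne_zero hk0) hk
  let sqE : (P : Subgroup G) ≃* (P : Subgroup G) :=
    MulEquiv.mk' (powCoprime (hco 2 two_ne_zero (by omega))) fun x y =>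
      (show Commute x y from mul_comm' x y).mul_pow 2
  have hsq : ∀ y, sqE y = y ^ 2 := fun y => rfl
  set b2 := H83.irrComp sqE b with hb2def
  have hb2 : b2 ≠ H86.Abelian.triv P := fun e => hb (Subtype.ext (funext fun w => by
    obtain ⟨v, rfl⟩ := sqE.surjective w
    exact congrFun (congrArg Subtype.val e) v))
  let φ : G → ℂ := fun g => (ζ b : G → ℂ) g * (ζ b2 : G → ℂ) g
  have hφ : IsCharacter G φ :=
    CharInduce.IsChar.mul (IsIrr.isCharacter (ζ b).2) (IsIrr.isCharacter (ζ b2).2)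
  have hφcl : ∀ c g, φ (c * g * c⁻¹) = φ g := fun c g => by
    simp only [φ]; rw [IsIrr.isClassFunction (ζ b).2 g c, IsIrr.isClassFunction (ζ b2).2 g c]
  have hφreg : ∀ g : G, ¬ p ∣ orderOf g → φ g = (fixF g - 2) ^ 2 := fun g hg => by
    simp only [φ]
    rw [hYreg _ (hζY b hb) g hg, hYreg _ (hζY b2 hb2) g hg, sq]
  let z : ↥(P : Subgroup G) → ℂ := fun y => (b : ↥(P : Subgroup G) → ℂ) y
  have hzpow : ∀ (y : (P : Subgroup G)) (k : ℕ), z (y ^ k) = z y ^ k := by
    intro y k
    induction k with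
    | zero => simp [z, H86.Abelian.lin]
    | succ k ih => rw [pow_succ, pow_succ, ← ih]; exact H86.Abelian.lin_mul P b _ _
  have hzinv : ∀ y : (P : Subgroup G), z y * z y⁻¹ = 1 := fun y => by
    simp only [z]; rw [← H86.Abelian.lin_mul, mul_inv_cancel, H86.Abelian.lin]
  have hzconj : ∀ y : (P : Subgroup G), conj (z y) = z y⁻¹ := fun y => conj_apply_eq_inv b y
  have hφy : ∀ y : (P : Subgroup G), y ≠ 1 → φ y =
      z y ^ 3 + z y⁻¹ ^ 3 + z y + z y⁻¹ := by
    intro y hy
    simp only [φ]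
    rw [hζval b hb y hy, hζval b2 hb2 y hy, hb2def, H83.irrComp_apply, H83.irrComp_apply, hsq, hsq]
    show -(z y + z y⁻¹) * -(z (y ^ 2) + z (y⁻¹ ^ 2)) = _
    rw [hzpow, hzpow]
    linear_combination (z y + z y⁻¹) * hzinv y
  have hzsum : ∀ k, k ≠ 0 → k < p →
      ∑ y ∈ Finset.univ.erase (1 : (P : Subgroup G)), z y ^ k = -1 := by
    intro k hk0 hk
    have h0 : ∑ y : (P : Subgroup G), z y = 0 :=
      H85.sum_apply_eq_zero b fun e => hb (Subtype.ext e)
    have h1 : ∑ y : (P : Subgroup G), z (y ^ k) = 0 :=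
      (Equiv.sum_comp (powCoprime (hco k hk0 hk)) z).trans h0
    rw [Finset.sum_congr rfl fun y _ => (hzpow y k).symm,
      Finset.sum_erase_eq_sub (Finset.mem_univ _), h1, one_pow]
    simp [z, H86.Abelian.lin]
  have hzsum' : ∀ k, k ≠ 0 → k < p →
      ∑ y ∈ Finset.univ.erase (1 : (P : Subgroup G)), z y⁻¹ ^ k = -1 := by
    intro k hk0 hk
    rw [← hzsum k hk0 hk]
    exact Finset.sum_equiv (Equiv.inv _) (fun y => by simp) (fun y _ => by simp)
  have hPsum : ∑ y ∈ Finset.univ.erase (1 : (P : Subgroup G)), φ y = -4 := by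
    rw [Finset.sum_congr rfl fun y hy => hφy y (Finset.ne_of_mem_erase hy), Finset.sum_add_distrib,
      Finset.sum_add_distrib, Finset.sum_add_distrib, hzsum 3 (by omega) (by omega),
      hzsum' 3 (by omega) (by omega)]
    have e1 := hzsum 1 one_ne_zero (by omega)
    have e2 := hzsum' 1 one_ne_zero (by omega)
    simp only [pow_one] at e1 e2
    rw [e1, e2]; norm_num
  have hφconj : ∀ y : (P : Subgroup G), y ≠ 1 → conj (φ y) = φ y := fun y hy => by
    simp only [hφy y hy, map_add, map_pow, hzconj, inv_inv]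
    ring
  have hPsq : ∑ y ∈ Finset.univ.erase (1 : (P : Subgroup G)), φ y * conj (φ y) =
      4 * (p : ℂ) - 16 := by
    rw [Finset.sum_congr rfl (g := fun y => z y ^ 6 + z y⁻¹ ^ 6 + 3 * z y ^ 2 + 3 * z y⁻¹ ^ 2 +
      2 * z y ^ 4 + 2 * z y⁻¹ ^ 4 + 4) fun y hy => by
        rw [hφconj y (Finset.ne_of_mem_erase hy), hφy y (Finset.ne_of_mem_erase hy)]
        linear_combination (2 * (z y ^ 2 * z y⁻¹ ^ 2 + z y * z y⁻¹ + 1) + 2 * z y ^ 2 +
          2 * z y⁻¹ ^ 2 + 2) * hzinv y]
    rw [Finset.sum_add_distrib, Finset.sum_add_distrib, Finset.sum_add_distrib,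
      Finset.sum_add_distrib, Finset.sum_add_distrib, Finset.sum_add_distrib, ← Finset.mul_sum,
      ← Finset.mul_sum, ← Finset.mul_sum, ← Finset.mul_sum, hzsum 6 (by omega) (by omega),
      hzsum' 6 (by omega) (by omega), hzsum 2 (by omega) (by omega),
      hzsum' 2 (by omega) (by omega), hzsum 4 (by omega) (by omega),
      hzsum' 4 (by omega) (by omega), Finset.sum_const, nsmul_eq_mul, h.card_erase_one]
    ring
  -- the multiplicities
  have hc : ∀ χ : IrrCharacter G, ∃ c : ℕ, classInner φ (χ : G → ℂ) = c := fun χ =>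
    classInner_isChar_nat hφ (IsIrr.isCharacter χ.2)
  choose c hc using hc
  obtain ⟨Q, hQ⟩ := classInner_isChar_nat hφ hφ
  have hcl2 : ∀ F : G → ℂ, (∀ a g, F (a * g * a⁻¹) = F g) → ∀ a g,
      φ (a * g * a⁻¹) * conj (F (a * g * a⁻¹)) = φ g * conj (F g) := fun F hF a g => by
    rw [hφcl, hF]
  have hL : (c θ : ℂ) * (Nat.card G : ℂ) = S3 - 4 * (Nat.card G : ℂ) := by
    have h1 := hc θ
    rw [classInner_def, inv_mul_eq_iff_eq_mul₀ hG0] at h1
    have h2 := h.sum_split (F := fun g => φ g * conj ((θ : G → ℂ) g))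
      (fun x => (x - 2) ^ 2 * (x - 1))
      (hcl2 _ fun a g => IsIrr.isClassFunction θ.2 g a)
      (fun g hg => by rw [hconjθ, hφreg g hg, hθ])
    rw [h1] at h2
    rw [Finset.sum_congr rfl (g := fun g : G => fixF g ^ 3 - 5 * fixF g ^ 2 + 8 * fixF g - 4)
      fun g _ => by ring] at h2
    rw [Finset.sum_congr rfl (g := fun y : (P : Subgroup G) => -φ y + 4) fun y hy => by
      rw [hconjθ, hθ, h.fixF_singular (h.singular_of_mem (Finset.ne_of_mem_erase hy))]; ring] at h2
    rw [Finset.sum_sub_distrib, Finset.sum_add_distrib, Finset.sum_sub_distrib, ← Finset.mul_sum,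
      ← Finset.mul_sum, S1, S2, ← hS3, Finset.sum_const, Finset.card_univ,
      ← Nat.card_eq_fintype_card, nsmul_eq_mul, Finset.sum_add_distrib, Finset.sum_neg_distrib,
      hPsum, Finset.sum_const, nsmul_eq_mul, h.card_erase_one, ← hn] at h2
    linear_combination h2 - 2 * hG
  have hM : ((∑ u ∈ Y, c u : ℕ) : ℂ) * (Nat.card G : ℂ) =
      (t : ℂ) * S3 - 4 * (t : ℂ) * (Nat.card G : ℂ) - 2 * (Nat.card G : ℂ) := by
    have h1 : (Nat.card G : ℂ)⁻¹ * ∑ g : G, φ g * conj (∑ u ∈ Y, (u : G → ℂ) g) =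
        ((∑ u ∈ Y, c u : ℕ) : ℂ) := by
      rw [Nat.cast_sum, Finset.sum_congr rfl fun u _ => (hc u).symm]
      simp only [classInner_def, map_sum, Finset.mul_sum]
      exact Finset.sum_comm
    rw [inv_mul_eq_iff_eq_mul₀ hG0] at h1
    have h2 := h.sum_split (F := fun g => φ g * conj (∑ u ∈ Y, (u : G → ℂ) g))
      (fun x => (t : ℂ) * (x - 2) ^ 3)
      (hcl2 (fun g => ∑ u ∈ Y, (u : G → ℂ) g) fun a g =>
        Finset.sum_congr rfl fun u _ => IsIrr.isClassFunction u.2 g a)
      (fun g hg => by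
        rw [hφreg g hg, Finset.sum_congr rfl fun u hu => hYreg u hu g hg, Finset.sum_const,
          nsmul_eq_mul, map_mul, Complex.conj_natCast, map_sub, map_ofNat, fixF,
          Complex.conj_natCast, ← ht]
        ring)
    rw [h1] at h2
    rw [Finset.sum_congr rfl (g := fun g : G =>
      (t : ℂ) * (fixF g ^ 3 - 6 * fixF g ^ 2 + 12 * fixF g - 8)) fun g _ => by ring] at h2
    rw [Finset.sum_congr rfl (g := fun y : (P : Subgroup G) => φ y + 8 * (t : ℂ)) fun y hy => by
      rw [hYsum y (Finset.ne_of_mem_erase hy), map_one]; ring] at h2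
    rw [← Finset.mul_sum, Finset.sum_sub_distrib, Finset.sum_add_distrib, Finset.sum_sub_distrib,
      ← Finset.mul_sum, ← Finset.mul_sum, S1, S2, ← hS3, Finset.sum_const, Finset.card_univ,
      ← Nat.card_eq_fintype_card, nsmul_eq_mul, Finset.sum_add_distrib, hPsum, Finset.sum_const,
      nsmul_eq_mul, h.card_erase_one, ← hn] at h2
    linear_combination h2 + (2 - 4 * (t : ℂ)) * hG +
      (8 * (n : ℂ) * t - (2 - 4 * (t : ℂ)) * 0 - 0) * htC +
      (4 * (n : ℂ) - 8 * (n : ℂ) * t) * htC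
  have hQG :
      (Q : ℂ) * (Nat.card G : ℂ) + 6 * (Nat.card G : ℂ) =
        S4 - 8 * S3 + 32 * (Nat.card G : ℂ) := by
    have h1 := hQ
    rw [classInner_def, inv_mul_eq_iff_eq_mul₀ hG0] at h1
    have h2 := h.sum_split (F := fun g => φ g * conj (φ g)) (fun x => (x - 2) ^ 4)
      (hcl2 _ hφcl)
      (fun g hg => by
        rw [hφreg g hg, map_pow, map_sub, map_ofNat, fixF, Complex.conj_natCast]; ring)
    rw [h1] at h2
    rw [Finset.sum_congr rfl (g := fun g : G =>
      fixF g ^ 4 - 8 * fixF g ^ 3 + 24 * fixF g ^ 2 - 32 * fixF g + 16) fun g _ => by ring] at h2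
    rw [Finset.sum_add_distrib, Finset.sum_sub_distrib, Finset.sum_add_distrib,
      Finset.sum_sub_distrib, ← Finset.mul_sum, ← Finset.mul_sum, ← Finset.mul_sum, S1, S2, ← hS3,
      ← hS4, Finset.sum_const, Finset.card_univ,
      ← Nat.card_eq_fintype_card, nsmul_eq_mul, Finset.sum_sub_distrib, hPsq, Finset.sum_const,
      nsmul_eq_mul, h.card_erase_one, ← hn] at h2
    linear_combination h2 + 6 * hG
  -- `⟨φ, θ⟩ = 1`
  have hML : (∑ u ∈ Y, c u) + 2 = t * c θ := by
    have h1 : (((∑ u ∈ Y, c u) + 2 : ℕ) : ℂ) * (Nat.card G : ℂ) =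
        ((t * c θ : ℕ) : ℂ) * (Nat.card G : ℂ) := by
      push_cast at hM ⊢
      linear_combination hM - (t : ℂ) * hL
    exact_mod_cast mul_right_cancel₀ hG0 h1
  have hone' : ¬ p ∣ orderOf (1 : G) := by
    rw [orderOf_one, Nat.dvd_one]; exact hp.out.ne_one
  have hdY : ∀ u ∈ Y, charDegree (u : G → ℂ) + 2 = p := fun u hu => by
    have h1 := hYreg u hu 1 hone'
    rw [apply_one_eq_charDegree, h.fixF_one] at h1
    have : ((charDegree (u : G → ℂ) + 2 : ℕ) : ℂ) = (p : ℂ) := by
      push_cast; linear_combination h1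
    exact_mod_cast this
  have hdθ : charDegree (θ : G → ℂ) + 1 = p := by
    have h1 := hθ 1
    rw [apply_one_eq_charDegree, h.fixF_one] at h1
    have : ((charDegree (θ : G → ℂ) + 1 : ℕ) : ℂ) = (p : ℂ) := by
      push_cast; linear_combination h1
    exact_mod_cast this
  have htot : ∑ χ : IrrCharacter G, c χ * charDegree (χ : G → ℂ) = (p - 2) * (p - 2) := by
    have h1 := congrFun (classFunction_expansion (IsChar.isClassFunction hφ)) 1
    simp only [Finset.sum_apply, Pi.smul_apply, smul_eq_mul, hc, apply_one_eq_charDegree] at h1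
    have h3 : φ 1 = (((p - 2) * (p - 2) : ℕ) : ℂ) := by
      rw [hφreg 1 hone', h.fixF_one, Nat.cast_mul, Nat.cast_sub (by omega)]
      push_cast; ring
    rw [h3] at h1
    exact_mod_cast h1.symm
  have hSsum : ∀ F : IrrCharacter G → ℕ,
      ∑ χ ∈ insert θ Y, F χ = F θ + ∑ u ∈ Y, F u := fun F => Finset.sum_insert hθY
  have hsplit := Finset.sum_add_sum_compl (insert θ Y)
    (fun χ : IrrCharacter G => c χ * charDegree (χ : G → ℂ))
  rw [htot, hSsum, Finset.sum_congr rfl (s₁ := Y) (g := fun u => c u * (p - 2)) fun u hu => by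
      rw [show charDegree (u : G → ℂ) = p - 2 by have := hdY u hu; omega],
    ← Finset.sum_mul, show charDegree (θ : G → ℂ) = p - 1 by omega] at hsplit
  have hc0 : c θ = 1 := by
    obtain ⟨q, rfl⟩ : ∃ q, p = q + 2 := ⟨p - 2, by omega⟩
    simp only [Nat.add_sub_cancel, show q + 2 - 1 = q + 1 by omega] at hsplit
    rcases Nat.lt_trichotomy (c θ) 1 with h0 | h0 | h0
    · rw [show c θ = 0 by omega, mul_zero] at hML; omega
    · exact h0
    · exfalso
      have h1 : 2 * t ≤ t * c θ := by rw [mul_comm 2]; exact Nat.mul_le_mul_left t h0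
      have h2 : (2 * t - 2) * q ≤ (∑ u ∈ Y, c u) * q := Nat.mul_le_mul_right q (by omega)
      have h3 : 2 * (q + 1) ≤ c θ * (q + 1) := Nat.mul_le_mul_right _ h0
      have h4 : 2 * t - 2 = q - 1 := by omega
      rw [h4, Nat.sub_mul, one_mul] at h2
      have h5 : q ≤ q * q := Nat.le_mul_self q
      omega
  rw [hc0, mul_one] at hML
  rw [hc0] at hsplit
  have hS35 : S3 = 5 * (Nat.card G : ℂ) := by
    rw [hc0] at hL; push_cast at hL; linear_combination -hL
  have hQG' : (Q : ℂ) * (Nat.card G : ℂ) = S4 - 14 * (Nat.card G : ℂ) := by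
    linear_combination hQG - 8 * hS35
  -- a further constituent
  obtain ⟨ψ, hψS, hψ⟩ : ∃ ψ ∈ (insert θ Y)ᶜ, c ψ * charDegree (ψ : G → ℂ) ≠ 0 := by
    refine Finset.exists_ne_zero_of_sum_ne_zero fun h0 => ?_
    rw [h0] at hsplit
    obtain ⟨q, rfl⟩ : ∃ q, p = q + 2 := ⟨p - 2, by omega⟩
    simp only [Nat.add_sub_cancel, one_mul, add_zero] at hsplit
    have h2 : (∑ u ∈ Y, c u) * q + 2 * q = t * q := by rw [← add_mul, hML]
    have h3 : 2 * t * q = (q + 1) * q := by rw [show 2 * t = q + 1 by omega]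
    have h5 : 5 * q ≤ q * q := Nat.mul_le_mul_right q (by omega)
    rw [mul_assoc, add_mul, one_mul] at h3
    omega
  have hQge : t ≤ Q := by
    have h1 := classInner_eq_sum (φ := φ) (ψ := φ) (IsChar.isClassFunction hφ)
    simp only [hc, hQ, Complex.conj_natCast] at h1
    have h2 : Q = ∑ χ : IrrCharacter G, c χ * c χ := by exact_mod_cast h1
    have h3 : ∑ χ ∈ insert ψ (insert θ Y), c χ ≤ ∑ χ : IrrCharacter G, c χ * c χ :=
      (Finset.sum_le_sum_of_subset (Finset.subset_univ _)).trans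
        (Finset.sum_le_sum fun χ _ => Nat.le_mul_self _)
    rw [Finset.sum_insert (Finset.mem_compl.1 hψS), hSsum, hc0, ← h2] at h3
    have : 1 ≤ c ψ := Nat.pos_of_ne_zero (left_ne_zero_of_mul hψ)
    omega
  refine ⟨?_, ?_, fun u hu => ?_⟩
  · have h3 := sum_descFactorial_fixed (H := G) (X := α) 3
    have h4 : ((∑ g : G, (Nat.card (fixedBy α g)).descFactorial 3 : ℕ) : ℂ) = (Nat.card G : ℂ) := by
      push_cast [cast_descFactorial3]
      simp only [fixF] at hS3 S1 S2 hS35
      rw [Finset.sum_congr rfl (g := fun g : G => (Nat.card (fixedBy α g) : ℂ) ^ 3 -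
        3 * (Nat.card (fixedBy α g) : ℂ) ^ 2 + 2 * (Nat.card (fixedBy α g) : ℂ))
          fun g _ => by ring, Finset.sum_add_distrib, Finset.sum_sub_distrib, ← Finset.mul_sum,
        ← Finset.mul_sum, S1, S2, ← hS3, hS35]
      ring
    rw [h3] at h4
    have h5 : Nat.card (Quotient (orbitRel G (Fin 3 ↪ α))) = 1 := by
      have : Nat.card (Quotient (orbitRel G (Fin 3 ↪ α))) * Nat.card G = 1 * Nat.card G := by
        rw [one_mul]; exact_mod_cast h4
      exact Nat.eq_of_mul_eq_mul_right Nat.card_pos this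
    rw [isMultiplyPretransitive_iff]
    intro x y
    haveI := (Nat.card_eq_one_iff_unique.1 h5).1
    exact orbitRel_apply.1 (Quotient.exact (Subsingleton.elim
      (Quotient.mk (orbitRel G (Fin 3 ↪ α)) y) (Quotient.mk _ x)))
  · have h3 := sum_descFactorial_fixed (H := G) (X := α) 4
    have h4 : ((∑ g : G, (Nat.card (fixedBy α g)).descFactorial 4 : ℕ) : ℂ) =
        (Q : ℂ) * (Nat.card G : ℂ) := by
      push_cast [cast_descFactorial4]
      simp only [fixF] at hS3 hS4 S1 S2 hS35
      rw [hQG', Finset.sum_congr rfl (g := fun g : G => (Nat.card (fixedBy α g) : ℂ) ^ 4 -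
        6 * (Nat.card (fixedBy α g) : ℂ) ^ 3 + 11 * (Nat.card (fixedBy α g) : ℂ) ^ 2 -
        6 * (Nat.card (fixedBy α g) : ℂ))
          fun g _ => by ring, Finset.sum_sub_distrib, Finset.sum_add_distrib,
        Finset.sum_sub_distrib, ← Finset.mul_sum, ← Finset.mul_sum, ← Finset.mul_sum, S1, S2,
        ← hS3, ← hS4, hS35]
      ring
    rw [h3] at h4
    have h5 : Nat.card (Quotient (orbitRel G (Fin 4 ↪ α))) = Q :=
      Nat.eq_of_mul_eq_mul_right Nat.card_pos (by exact_mod_cast h4)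
    omega
  · -- involutions
    obtain ⟨y, hy, hy1⟩ := h.exists_mem
    have hu1 : u ≠ 1 := fun e => by rw [e, orderOf_one] at hu; omega
    have hureg : ¬ p ∣ orderOf u := fun e => by
      rw [hu] at e; have := Nat.le_of_dvd two_pos e; omega
    have hne : (fixF u : ℂ) - p ≠ 0 := by
      rw [sub_ne_zero, fixF, Ne, Nat.cast_inj]
      intro e
      refine hu1 (Subtype.ext (Equiv.ext fun x => ?_))
      have hall : fixedBy α u = Set.univ :=
        Set.eq_of_subset_of_ncard_le (Set.subset_univ _) (by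
          rw [Set.ncard_univ, ← Nat.card_coe_set_eq (fixedBy α u), Nat.card_eq_fintype_card,
            h.card_pts]
          omega)
      exact (Set.eq_univ_iff_forall.1 hall x : u • x = x)
    have hcoef : (classSum u * classSum u).coeff y ≠ 0 := by
      rw [coeff_classSum_mul_eq]
      set yy : (P : Subgroup G) := ⟨y, hy⟩ with hyy
      have hyy1 : yy ≠ 1 := fun e => hy1 (congrArg Subtype.val e)
      set m : ℂ := ((Subgroup.centralizer ({u} : Set G)).index : ℂ) with hm
      have hm0 : m ≠ 0 := Nat.cast_ne_zero.2 Subgroup.FiniteIndex.index_ne_zero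
      have hS1 : (trivialIrr : IrrCharacter G) ∉ insert θ Y := by simp [hθne.symm, htY]
      rw [← Finset.sum_subset (Finset.subset_univ (insert trivialIrr (insert θ Y)))
        (fun χ _ hχ => by
          simp only [Finset.mem_insert, not_or] at hχ
          rw [show (χ : G → ℂ) y = 0 from hvan χ hχ.1 hχ.2.1 hχ.2.2 yy hyy1, map_zero, mul_zero]),
        Finset.sum_insert hS1, Finset.sum_insert hθY]
      have hp1 : (p : ℂ) - 1 ≠ 0 := by
        rw [sub_ne_zero, ← Nat.cast_one, Ne, Nat.cast_inj]; omega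
      have hp2 : (p : ℂ) - 2 ≠ 0 := by
        rw [sub_ne_zero, show (2 : ℂ) = ((2 : ℕ) : ℂ) by norm_num, Ne, Nat.cast_inj]; omega
      have hY' : ∑ v ∈ Y, (v : G → ℂ) 1 *
          (Cfsg.centralChar (v : G → ℂ) u * Cfsg.centralChar (v : G → ℂ) u) *
            conj ((v : G → ℂ) y) = m ^ 2 * (fixF u - 2) ^ 2 / ((p : ℂ) - 2) := by
        rw [Finset.sum_congr rfl (g := fun v : IrrCharacter G =>
            m ^ 2 * (fixF u - 2) ^ 2 / ((p : ℂ) - 2) * conj ((v : G → ℂ) y)) fun v hv => by
          rw [Cfsg.centralChar, hYreg v hv u hureg, hYreg v hv 1 hone', h.fixF_one, ← hm]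
          field_simp,
          ← Finset.mul_sum, ← map_sum,
          show ∑ v ∈ Y, (v : G → ℂ) y = 1 from hYsum yy hyy1, map_one, mul_one]
      rw [hY', hconjθ, hθ, hθ, Cfsg.centralChar, Cfsg.centralChar, hθ, h.fixF_one,
        h.fixF_singular (h.singular_of_mem hyy1 : p ∣ orderOf y), ← hm]
      simp only [trivialIrr, map_one, mul_one, div_one, one_mul]
      rw [hθ, h.fixF_one]
      refine mul_ne_zero (inv_ne_zero hG0) ?_
      rw [show m * m + (((p : ℂ) - 1) * (m * (fixF u - 1) / ((p : ℂ) - 1) *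
            (m * (fixF u - 1) / ((p : ℂ) - 1))) * (0 - 1) +
          m ^ 2 * (fixF u - 2) ^ 2 / ((p : ℂ) - 2)) =
          m ^ 2 * (fixF u - p) ^ 2 / (((p : ℂ) - 1) * ((p : ℂ) - 2)) by field_simp; ring]
      exact div_ne_zero (mul_ne_zero (pow_ne_zero 2 hm0) (pow_ne_zero 2 hne)) (mul_ne_zero hp1 hp2)
    obtain ⟨g, hg, hg'⟩ := exists_of_coeff_ne_zero hcoef
    have hgg : g * g = 1 := by
      obtain ⟨d, rfl⟩ := isConj_iff.1 hg
      have huu : u * u = 1 := by rw [← pow_two, ← hu, pow_orderOf_eq_one]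
      calc d * u * d⁻¹ * (d * u * d⁻¹) = d * (u * u) * d⁻¹ := by group
        _ = 1 := by rw [huu]; group
    have hgy : (g⁻¹ * y) * (g⁻¹ * y) = 1 := by
      obtain ⟨d, hd⟩ := isConj_iff.1 hg'
      have huu : u * u = 1 := by rw [← pow_two, ← hu, pow_orderOf_eq_one]
      rw [← hd]
      calc d * u * d⁻¹ * (d * u * d⁻¹) = d * (u * u) * d⁻¹ := by group
        _ = 1 := by rw [huu]; group
    have hgi : g⁻¹ = g := inv_eq_of_mul_eq_one_right hgg
    rw [hgi] at hgy
    have hinv : g * y * g⁻¹ = y⁻¹ := by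
      rw [hgi]
      exact eq_inv_of_mul_eq_one_left (by rw [← hgy]; group)
    rw [← card_fixedBy_of_isConj (X := α) hg]
    exact h.fixed_le_one hy hy1 hinv

end Cfsg.Agent.H84.TwoP
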