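import Cfsg.Agent.H86.PrimeOrderBlock
import Cfsg.Agent.S0157

/-!
# Groups of prime degree `p` with Sylow normalizer of order `2 p`
-/

set_option linter.style.haveILetI false
set_option linter.unusedSectionVars false

namespace Cfsg.Agent.H84.TwoP

open MulAction

variable {α : Type*} [Fintype α] [DecidableEq α] {p : ℕ}

/-- The hypotheses. -/
structure Hyp (p : ℕ) [Fact p.Prime] (G : Subgroup (Equiv.Perm α)) (P : Sylow p G) : Prop where
  card_pts : Fintype.card α = p
  three_lt : 3 < p
  card_norm : Nat.card (Subgroup.normalizer ((P : Subgroup G) : Set G)) = 2 * p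

variable [hp : Fact p.Prime] {G : Subgroup (Equiv.Perm α)} {P : Sylow p G} (h : Hyp p G P)

include h

theorem Hyp.card_sylow : Nat.card (P : Subgroup G) = p := by
  have h1 : Nat.card (P : Subgroup G) ∣ 2 * p := by
    rw [← h.card_norm]; exact Subgroup.card_dvd_of_le Subgroup.le_normalizer
  have hdvd : p ∣ Nat.card G := (dvd_mul_left p 2).trans
    (by rw [← h.card_norm]; exact Subgroup.card_subgroup_dvd_card _)
  obtain ⟨k, hk⟩ := IsPGroup.iff_card.1 P.isPGroup'
  have hk0 : k ≠ 0 := by
    rintro rfl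
    exact P.not_dvd_index (by
      have := (P : Subgroup G).card_mul_index
      rw [hk, pow_zero, one_mul] at this
      rwa [this])
  have hk1 : k ≤ 1 := by
    by_contra hk1
    rw [hk] at h1
    have h2 : p ^ 2 ∣ 2 * p := (pow_dvd_pow p (by omega)).trans h1
    rw [pow_two] at h2
    have := Nat.le_of_dvd two_pos (Nat.dvd_of_mul_dvd_mul_right hp.out.pos h2)
    have := h.three_lt
    omega
  rw [hk, show k = 1 by omega, pow_one]

theorem Hyp.exists_orbit {y : G} (hy : y ∈ (P : Subgroup G)) (hy1 : y ≠ 1) (a b : α) :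
    ∃ k : ℕ, y ^ k • a = b := by
  have hord : orderOf (y : Equiv.Perm α) = p := by
    rw [Subgroup.orderOf_coe]
    have hd := h.card_sylow ▸ orderOf_dvd_natCard (G := (P : Subgroup G)) ⟨y, hy⟩
    rw [Subgroup.orderOf_mk] at hd
    exact ((Nat.dvd_prime hp.out).1 hd).resolve_left fun e => hy1 (orderOf_eq_one_iff.1 e)
  have hcyc : (y : Equiv.Perm α).IsCycle := Equiv.Perm.isCycle_of_prime_order
    (by rw [hord]; exact hp.out) (by
      rw [hord]
      calc (y : Equiv.Perm α).support.card ≤ Fintype.card α := Finset.card_le_univ _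
        _ < 2 * p := by have := hp.out.pos; rw [h.card_pts]; omega)
  have hsupp : (y : Equiv.Perm α).support = Finset.univ := by
    rw [← Finset.card_eq_iff_eq_univ, ← hcyc.orderOf, hord, h.card_pts]
  obtain ⟨k, hk⟩ := hcyc.exists_pow_eq
    (Equiv.Perm.mem_support.1 (hsupp ▸ Finset.mem_univ a))
    (Equiv.Perm.mem_support.1 (hsupp ▸ Finset.mem_univ b))
  exact ⟨k, hk⟩

theorem Hyp.smul_ne {y : G} (hy : y ∈ (P : Subgroup G)) (hy1 : y ≠ 1) (a : α) : y • a ≠ a := by
  intro e
  refine hy1 (Subtype.ext (Equiv.ext fun b => ?_))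
  obtain ⟨k, rfl⟩ := h.exists_orbit hy hy1 a b
  show y • (y ^ k • a) = y ^ k • a
  rw [← mul_smul, ← pow_succ', pow_succ, mul_smul, e]

theorem Hyp.exists_mem : ∃ y ∈ (P : Subgroup G), y ≠ 1 := by
  haveI : Nontrivial (P : Subgroup G) :=
    Finite.one_lt_card_iff_nontrivial.1 (by rw [h.card_sylow]; exact hp.out.one_lt)
  obtain ⟨y, hy⟩ := exists_ne (1 : (P : Subgroup G))
  exact ⟨y, y.2, fun e => hy (Subtype.ext e)⟩

theorem Hyp.transitive : IsPretransitive G α := by
  obtain ⟨y, hy, hy1⟩ := h.exists_mem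
  exact ⟨fun a b => (h.exists_orbit hy hy1 a b).elim fun k hk => ⟨y ^ k, hk⟩⟩

theorem Hyp.mem_of_commute {y c : G} (hy : y ∈ (P : Subgroup G)) (hy1 : y ≠ 1)
    (hc : c * y = y * c) : c ∈ (P : Subgroup G) := by
  obtain ⟨a⟩ : Nonempty α := Fintype.card_pos_iff.1 (by rw [h.card_pts]; exact hp.out.pos)
  obtain ⟨i, hi⟩ := h.exists_orbit hy hy1 a (c • a)
  have hci : c = y ^ i := by
    refine Subtype.ext (Equiv.ext fun b => ?_)
    obtain ⟨k, rfl⟩ := h.exists_orbit hy hy1 a b
    show c • (y ^ k • a) = y ^ i • (y ^ k • a)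
    rw [← mul_smul, ((show Commute c y from hc).pow_right k).eq, mul_smul, ← hi, ← mul_smul,
      ← mul_smul, ← pow_add, ← pow_add, add_comm]
  rw [hci]; exact (P : Subgroup G).pow_mem hy i

theorem Hyp.centralizer_eq {y : G} (hy : y ∈ (P : Subgroup G)) (hy1 : y ≠ 1) :
    Subgroup.centralizer ({y} : Set G) = (P : Subgroup G) := by
  refine le_antisymm (fun c hc => h.mem_of_commute hy hy1 (Subgroup.mem_centralizer_singleton_iff.1 hc))
    fun c hc => Subgroup.mem_centralizer_singleton_iff.2 ?_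
  haveI : Fintype G := Fintype.ofFinite _
  haveI := H86.Abelian.isMulCommutative_sylow P h.card_sylow
  exact H86.Abelian.mul_comm_sylow P hc hy

theorem Hyp.centralizer_sylow :
    Subgroup.centralizer ((P : Subgroup G) : Set G) = (P : Subgroup G) := by
  obtain ⟨y, hy, hy1⟩ := h.exists_mem
  refine le_antisymm ((Subgroup.centralizer_le (Set.singleton_subset_iff.2 hy)).trans
    (h.centralizer_eq hy hy1).le) fun c hc => Subgroup.mem_centralizer_iff.2 fun z hz => ?_
  haveI : Fintype G := Fintype.ofFinite _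
  haveI := H86.Abelian.isMulCommutative_sylow P h.card_sylow
  exact H86.Abelian.mul_comm_sylow P hz hc

theorem Hyp.relIndex_eq :
    (Subgroup.centralizer ((P : Subgroup G) : Set G)).relIndex
      (Subgroup.normalizer ((P : Subgroup G) : Set G)) = 2 := by
  rw [h.centralizer_sylow]
  have h1 := ((P : Subgroup G).subgroupOf (Subgroup.normalizer ((P : Subgroup G) : Set G))).card_mul_index
  rw [h.card_norm, Nat.card_congr (Subgroup.subgroupOfEquivOfLe Subgroup.le_normalizer).toEquiv,
    h.card_sylow, mul_comm 2] at h1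
  exact Nat.eq_of_mul_eq_mul_left hp.out.pos h1

theorem Hyp.card_eq : Nat.card G = Nat.card (Sylow p G) * (2 * p) := by
  rw [← h.card_norm, P.card_eq_index_normalizer]
  exact (Subgroup.index_mul_card _).symm

/-- An element of the normalizer outside `P` inverts `P`. -/
theorem Hyp.inverts {n : G} (hn : n ∈ Subgroup.normalizer ((P : Subgroup G) : Set G))
    (hnP : n ∉ (P : Subgroup G)) {y : G} (hy : y ∈ (P : Subgroup G)) : n * y * n⁻¹ = y⁻¹ := by
  rcases eq_or_ne y 1 with rfl | hy1
  · simp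
  have hsq : n * n ∈ (P : Subgroup G) := by
    have h2 : ((P : Subgroup G).subgroupOf (Subgroup.normalizer ((P : Subgroup G) : Set G))).index = 2 := by
      have := h.relIndex_eq
      rwa [h.centralizer_sylow] at this
    have := Subgroup.mul_self_mem_of_index_two h2 (⟨n, hn⟩ :
      Subgroup.normalizer ((P : Subgroup G) : Set G))
    exact this
  have hmem := (Subgroup.mem_normalizer_iff.1 hn y).1 hy
  have hz : Subgroup.zpowers y = (P : Subgroup G) := by
    refine Subgroup.eq_of_le_of_card_ge (Subgroup.zpowers_le.2 hy) ?_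
    have hd := h.card_sylow ▸ Subgroup.card_dvd_of_le (Subgroup.zpowers_le.2 hy)
    rcases (Nat.dvd_prime hp.out).1 hd with e | e
    · rw [Nat.card_zpowers, orderOf_eq_one_iff] at e; exact absurd e hy1
    · rw [e, h.card_sylow]
  rw [← hz, Subgroup.mem_zpowers_iff] at hmem
  obtain ⟨k, hk⟩ := hmem
  have hy2 : y ^ (k * k) = y := by
    calc y ^ (k * k) = (n * y * n⁻¹) ^ k := by rw [zpow_mul, hk]
      _ = n * (n * y * n⁻¹) * n⁻¹ := by rw [conj_zpow, hk]
      _ = y := by
          haveI : Fintype G := Fintype.ofFinite _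
          haveI := H86.Abelian.isMulCommutative_sylow P h.card_sylow
          have := H86.Abelian.mul_comm_sylow P hsq hy
          calc n * (n * y * n⁻¹) * n⁻¹ = (n * n * y) * (n⁻¹ * n⁻¹) := by group
            _ = y := by rw [this]; group
  have hord : orderOf y = p := by rw [← Nat.card_zpowers, hz, h.card_sylow]
  have h3 : (p : ℤ) ∣ (k - 1) * (k + 1) := by
    rw [← hord, orderOf_dvd_iff_zpow_eq_one, show (k - 1) * (k + 1) = k * k - 1 by ring, zpow_sub,
      zpow_one, hy2, mul_inv_cancel]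
  rcases (Int.Prime.dvd_mul' hp.out h3) with h4 | h4 <;>
    rw [← hord, orderOf_dvd_iff_zpow_eq_one] at h4
  · rw [zpow_sub, zpow_one, mul_inv_eq_one, hk] at h4
    exact absurd (h.mem_of_commute hy hy1 (mul_inv_eq_iff_eq_mul.1 h4)) hnP
  · rw [zpow_add, zpow_one, hk] at h4
    exact mul_eq_one_iff_eq_inv.1 h4

theorem Hyp.exists_inverting :
    ∃ n ∈ Subgroup.normalizer ((P : Subgroup G) : Set G), n ∉ (P : Subgroup G) := by
  by_contra hno
  push Not at hno
  have := Subgroup.card_le_of_le hno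
  rw [h.card_norm, h.card_sylow] at this
  have := h.three_lt
  omega

/-- An element inverting a nontrivial element of `P` fixes at most one point. -/
theorem Hyp.fixed_le_one {y : G} (hy : y ∈ (P : Subgroup G)) (hy1 : y ≠ 1) {g : G}
    (hg : g * y * g⁻¹ = y⁻¹) : Nat.card (fixedBy α g) ≤ 1 := by
  rw [Finite.card_le_one_iff_subsingleton]
  refine ⟨fun ⟨a, ha⟩ ⟨b, hb⟩ => Subtype.ext ?_⟩
  obtain ⟨i, rfl⟩ := h.exists_orbit hy hy1 a b
  have ha' : g • a = a := ha
  have hb' : g • (y ^ i • a) = y ^ i • a := hb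
  have e : g * y ^ i = (y ^ i)⁻¹ * g := by
    rw [← inv_pow, ← hg, conj_pow]; group
  rw [← mul_smul, e, mul_smul, ha', inv_smul_eq_iff, ← mul_smul, ← pow_add, ← two_mul, pow_mul] at hb'
  by_contra hne
  refine h.smul_ne ((P : Subgroup G).pow_mem ((P : Subgroup G).pow_mem hy 2) i) ?_ a hb'.symm
  intro e1
  rw [← pow_mul] at e1
  have hord : orderOf y = p := by
    have hd := h.card_sylow ▸ orderOf_dvd_natCard (G := (P : Subgroup G)) ⟨y, hy⟩
    rw [Subgroup.orderOf_mk] at hd
    exact ((Nat.dvd_prime hp.out).1 hd).resolve_left fun e => hy1 (orderOf_eq_one_iff.1 e)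
  have h5 : p ∣ i := by
    have := orderOf_dvd_of_pow_eq_one e1
    rw [hord] at this
    exact (hp.out.dvd_mul.1 this).resolve_left fun h2 => by
      have := Nat.le_of_dvd two_pos h2; have := h.three_lt; omega
  exact hne (show a = y ^ i • a by rw [orderOf_dvd_iff_pow_eq_one.1 (hord ▸ h5), one_smul])

theorem Hyp.singular_iff {g : G} :
    p ∣ orderOf g ↔ ∃ Q : Sylow p G, g ∈ (Q : Subgroup G) ∧ g ≠ 1 := by
  constructor
  · intro hg
    have hu : g ^ (orderOf g / p) ≠ 1 := fun e => by
      have := Nat.le_of_dvd (Nat.div_pos (Nat.le_of_dvd (orderOf_pos g) hg) hp.out.pos)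
        (orderOf_dvd_of_pow_eq_one e)
      have h2 := Nat.div_mul_cancel hg
      have := Nat.mul_le_mul_left (orderOf g / p) h.three_lt
      have := orderOf_pos g
      omega
    have hup : IsPGroup p (Subgroup.zpowers (g ^ (orderOf g / p))) := IsPGroup.of_card (n := 1) (by
      rw [Nat.card_zpowers, pow_one, orderOf_pow_orderOf_div (orderOf_pos g).ne' hg])
    obtain ⟨Q, hQ⟩ := hup.exists_le_sylow
    refine ⟨Q, ?_, fun e => hu (by rw [e, one_pow])⟩
    obtain ⟨c, hc⟩ := MulAction.exists_smul_eq G P Q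
    rw [← hc] at hQ ⊢
    have hm := Fusion.mem_sylow_smul.1 (hQ (Subgroup.mem_zpowers _))
    refine Fusion.mem_sylow_smul.2 ?_
    refine h.mem_of_commute hm (fun e => hu ?_) ?_
    · have := congrArg (fun z => c * z * c⁻¹) e
      simpa [mul_assoc] using this
    · calc c⁻¹ * g * c * (c⁻¹ * g ^ (orderOf g / p) * c) = c⁻¹ * (g * g ^ (orderOf g / p)) * c := by group
        _ = c⁻¹ * (g ^ (orderOf g / p) * g) * c := by rw [(Commute.self_pow g _).eq]
        _ = _ := by group
  · rintro ⟨Q, hQ, hg1⟩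
    obtain ⟨k, hk⟩ := IsPGroup.iff_orderOf.1 Q.isPGroup' ⟨g, hQ⟩
    rw [Subgroup.orderOf_mk] at hk
    rw [hk]
    exact dvd_pow_self p fun e => hg1 (orderOf_eq_one_iff.1 (by rw [hk, e, pow_zero]))

open scoped Classical in
/-- Sums over the singular elements reduce to `P`. -/
theorem Hyp.sum_singular [Fintype G] [Fintype (P : Subgroup G)] {F : G → ℂ}
    (hF : ∀ c g, F (c * g * c⁻¹) = F g) :
    ∑ g ∈ Finset.univ.filter (fun g : G => p ∣ orderOf g), F g =
      (Nat.card (Sylow p G) : ℂ) * ∑ y ∈ Finset.univ.erase (1 : (P : Subgroup G)), F y := by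
  haveI : Fintype (Sylow p G) := Fintype.ofFinite _
  have huniq : ∀ g : G, g ≠ 1 → ∀ Q R : Sylow p G, g ∈ (Q : Subgroup G) → g ∈ (R : Subgroup G) →
      Q = R := by
    intro g hg1 Q R hQ hR
    have hc : ∀ T : Sylow p G, g ∈ (T : Subgroup G) → (T : Subgroup G) = Subgroup.zpowers g := by
      intro T hT
      refine (Subgroup.eq_of_le_of_card_ge (Subgroup.zpowers_le.2 hT) ?_).symm
      have hTc : Nat.card (T : Subgroup G) = p := by
        rw [T.card_eq_multiplicity, ← P.card_eq_multiplicity, h.card_sylow]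
      have hd := hTc ▸ Subgroup.card_dvd_of_le (Subgroup.zpowers_le.2 hT)
      rcases (Nat.dvd_prime hp.out).1 hd with e | e
      · rw [Nat.card_zpowers, orderOf_eq_one_iff] at e; exact absurd e hg1
      · rw [e, hTc]
    exact Sylow.ext ((hc Q hQ).trans (hc R hR).symm)
  rw [show (Nat.card (Sylow p G) : ℂ) * ∑ y ∈ Finset.univ.erase (1 : (P : Subgroup G)), F y =
      ∑ Q : Sylow p G, ∑ g ∈ Finset.univ.filter (fun g : G => g ∈ (Q : Subgroup G) ∧ g ≠ 1), F g from ?_]
  · rw [← Finset.sum_biUnion]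
    · refine Finset.sum_congr (Finset.ext fun g => ?_) fun _ _ => rfl
      simp only [Finset.mem_filter, Finset.mem_univ, true_and, Finset.mem_biUnion]
      exact h.singular_iff
    · intro Q _ R _ hne
      refine Finset.disjoint_left.2 fun g hQ hR => hne ?_
      simp only [Finset.mem_filter, Finset.mem_univ, true_and] at hQ hR
      exact huniq g hQ.2 Q R hQ.1 hR.1
  · rw [Nat.card_eq_fintype_card, ← nsmul_eq_mul, ← Finset.card_univ, ← Finset.sum_const]
    refine Finset.sum_congr rfl fun Q _ => ?_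
    obtain ⟨c, hc⟩ := MulAction.exists_smul_eq G P Q
    refine Finset.sum_bij (fun (y : (P : Subgroup G)) _ => c * (y : G) * c⁻¹) ?_ ?_ ?_ ?_
    · intro y hy
      simp only [Finset.mem_filter, Finset.mem_univ, true_and]
      refine ⟨?_, fun e => Finset.ne_of_mem_erase hy (Subtype.ext (conj_eq_one_iff.1 e))⟩
      rw [← hc]
      refine Fusion.mem_sylow_smul.2 ?_
      simp [mul_assoc]
    · intro y₁ _ y₂ _ e
      exact Subtype.ext (by simpa using e)
    · intro g hg
      simp only [Finset.mem_filter, Finset.mem_univ, true_and] at hg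
      rw [← hc] at hg
      refine ⟨⟨_, Fusion.mem_sylow_smul.1 hg.1⟩, Finset.mem_erase.2 ⟨fun e => hg.2 ?_, Finset.mem_univ _⟩, by group⟩
      have := congrArg (fun z : (P : Subgroup G) => c * (z : G) * c⁻¹) e
      simpa [mul_assoc] using this
    · intro y _
      exact (hF c y).symm

end Cfsg.Agent.H84.TwoP
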