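import Cfsg.Agent.H84.PrimeDegreeMoments
import Cfsg.Agent.S4702
import Mathlib.GroupTheory.SpecificGroups.Alternating

/-!
# Three-point stabilisers are trivial in groups of prime degree `p` with `|N(P)| = 2 p`
-/

set_option linter.style.haveILetI false
set_option linter.unusedSectionVars false

namespace Cfsg.Agent.H84.TwoP

open MulAction

variable {G : Type*} [Group G] [Finite G] {α : Type*} [Fintype α] [DecidableEq α] [MulAction G α]

open scoped Classical in
/-- The points fixed by the pointwise stabiliser of a triple. -/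
noncomputable def tripleFix (G : Type*) [Group G] [MulAction G α] (e : Fin 3 ↪ α) : Finset α :=
  Finset.univ.filter fun x => ∀ k ∈ stabilizer G e, k • x = x

theorem mem_tripleFix {e : Fin 3 ↪ α} {x : α} :
    x ∈ tripleFix G e ↔ ∀ k ∈ stabilizer G e, k • x = x := by
  simp [tripleFix]

theorem apply_mem_tripleFix (e : Fin 3 ↪ α) (i : Fin 3) : e i ∈ tripleFix G e :=
  mem_tripleFix.2 fun _ hk => congrArg (fun x : Fin 3 ↪ α => x i) hk

theorem tripleFix_eq (h3 : IsMultiplyPretransitive G α 3) {e e' : Fin 3 ↪ α}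
    (he : ∀ i, e' i ∈ tripleFix G e) : tripleFix G e' = tripleFix G e := by
  haveI : IsPretransitive G (Fin 3 ↪ α) := h3
  have hle : stabilizer G e ≤ stabilizer G e' := fun k hk =>
    Function.Embedding.ext fun i => mem_tripleFix.1 (he i) k hk
  have hcard : Nat.card (stabilizer G e') ≤ Nat.card (stabilizer G e) := by
    have h1 := (stabilizer G e).card_mul_index
    have h2 := (stabilizer G e').card_mul_index
    rw [index_stabilizer_of_transitive, ← h1, index_stabilizer_of_transitive] at h2
    exact (Nat.eq_of_mul_eq_mul_right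
      (Nat.pos_of_ne_zero fun h0 => by
        have : Nonempty (Fin 3 ↪ α) := ⟨e⟩
        exact Nat.card_pos.ne' h0) h2).le
  rw [tripleFix, tripleFix, Subgroup.eq_of_le_of_card_ge hle hcard]

/-- A triple with three given distinct entries. -/
theorem exists_triple {x y z : α} (hxy : x ≠ y) (hxz : x ≠ z) (hyz : y ≠ z) :
    ∃ e : Fin 3 ↪ α, e 0 = x ∧ e 1 = y ∧ e 2 = z :=
  ⟨⟨![x, y, z], by
    intro i j h
    fin_cases i <;> fin_cases j <;> first | rfl | simp_all⟩, rfl, rfl, rfl⟩

theorem tripleFix_eq_of_mem (h3 : IsMultiplyPretransitive G α 3) {e : Fin 3 ↪ α} {x y z : α}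
    (hxy : x ≠ y) (hxz : x ≠ z) (hyz : y ≠ z) (hx : x ∈ tripleFix G e) (hy : y ∈ tripleFix G e)
    (hz : z ∈ tripleFix G e) {e' : Fin 3 ↪ α} (h0 : e' 0 = x) (h1 : e' 1 = y) (h2 : e' 2 = z) :
    tripleFix G e' = tripleFix G e :=
  tripleFix_eq h3 fun i => by fin_cases i <;> simp_all

open scoped Classical in
/-- The orbits on quadruples bound the fixed points of a triple stabiliser. -/
theorem card_tripleFix_ge (h3 : IsMultiplyPretransitive G α 3)
    (hodd : ∀ e : Fin 3 ↪ α, ¬ 2 ∣ Nat.card (stabilizer G e)) (e : Fin 3 ↪ α) :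
    3 * (Nat.card (Quotient (orbitRel G (Fin 4 ↪ α))) + 3) ≤
      Fintype.card α + 2 * (tripleFix G e).card := by
  haveI : IsPretransitive G (Fin 3 ↪ α) := h3
  set K := stabilizer G e with hK
  have hex : ∀ q : Quotient (orbitRel G (Fin 4 ↪ α)), ∃ w : Fin 4 ↪ α,
      Quotient.mk _ w = q ∧ ∀ i : Fin 3, w i.castSucc = e i := by
    intro q
    induction q using Quotient.inductionOn with
    | h w =>
      obtain ⟨g, hg⟩ := MulAction.exists_smul_eq G (Fin.castSuccEmb.trans w) e
      refine ⟨g • w, Quotient.sound ⟨g, rfl⟩, fun i => ?_⟩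
      exact congrArg (fun x : Fin 3 ↪ α => x i) hg
  choose w hwq hwe using hex
  let ψ : Quotient (orbitRel G (Fin 4 ↪ α)) ⊕ Fin 3 → Quotient (orbitRel K α) :=
    Sum.elim (fun q => Quotient.mk _ (w q (Fin.last 3))) fun i => Quotient.mk _ (e i)
  have hfixK : ∀ (k : K) (i : Fin 3), k • e i = e i := fun k i =>
    congrArg (fun x : Fin 3 ↪ α => x i) k.2
  have hne : ∀ q i, ∀ k : K, k • e i ≠ w q (Fin.last 3) := by
    intro q i k hk
    rw [hfixK, ← hwe q i] at hk
    exact absurd ((w q).injective hk) (Fin.castSucc_ne_last i)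
  have hψ : Function.Injective ψ := by
    rintro (q | i) (q' | j) hh <;> simp only [ψ, Sum.elim_inl, Sum.elim_inr] at hh
    · obtain ⟨k, hk⟩ := Quotient.exact hh
      refine congrArg Sum.inl ?_
      rw [← hwq q, ← hwq q']
      refine Quotient.sound ⟨(k : G), Function.Embedding.ext fun i => ?_⟩
      induction i using Fin.lastCases with
      | last => exact hk
      | cast i =>
        show (k : G) • w q' i.castSucc = w q i.castSucc
        rw [hwe, hwe]
        exact hfixK k i
    · obtain ⟨k, hk⟩ := Quotient.exact hh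
      exact absurd hk (hne q j k)
    · obtain ⟨k, hk⟩ := Quotient.exact hh.symm
      exact absurd hk (hne q' i k)
    · obtain ⟨k, hk⟩ := Quotient.exact hh
      exact congrArg Sum.inr (e.injective ((hfixK k j).symm.trans hk).symm)
  have hge : Nat.card (Quotient (orbitRel G (Fin 4 ↪ α))) + 3 ≤
      Nat.card (Quotient (orbitRel K α)) := by
    simpa [Nat.card_sum] using Nat.card_le_card_of_injective ψ hψ
  letI : Fintype (Quotient (orbitRel K α)) := Fintype.ofFinite _
  let π : α → Quotient (orbitRel K α) := Quotient.mk _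
  have hterm : ∀ q : Quotient (orbitRel K α), 3 ≤
      (Finset.univ.filter fun x => π x = q).card +
        2 * ((tripleFix G e).filter fun x => π x = q).card := by
    intro q
    induction q using Quotient.inductionOn with
    | h x =>
      by_cases hx : x ∈ tripleFix G e
      · have h1 : 1 ≤ ((tripleFix G e).filter fun z => π z = π x).card :=
          Finset.card_pos.2 ⟨x, Finset.mem_filter.2 ⟨hx, rfl⟩⟩
        have h2 : 1 ≤ (Finset.univ.filter fun z => π z = π x).card :=
          Finset.card_pos.2 ⟨x, Finset.mem_filter.2 ⟨Finset.mem_univ _, rfl⟩⟩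
        show 3 ≤ (Finset.univ.filter fun z => π z = π x).card +
          2 * ((tripleFix G e).filter fun z => π z = π x).card
        omega
      · have horb : (Finset.univ.filter fun z => π z = π x).card = Nat.card (orbit K x) := by
          rw [← Fintype.card_subtype, Nat.card_eq_fintype_card]
          exact Fintype.card_congr (Equiv.subtypeEquivRight fun z =>
            ⟨fun hz => orbitRel_apply.1 (Quotient.exact hz),
              fun hz => Quotient.sound (orbitRel_apply.2 hz)⟩)
        have hdvd : Nat.card (orbit K x) ∣ Nat.card K := by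
          rw [Nat.card_congr (orbitEquivQuotientStabilizer K x)]
          exact Subgroup.card_quotient_dvd_card _
        have hne1 : Nat.card (orbit K x) ≠ 1 := fun h1 => by
          haveI := (Nat.card_eq_one_iff_unique.1 h1).1
          refine hx (mem_tripleFix.2 fun k hk => ?_)
          exact congrArg Subtype.val
            (Subsingleton.elim (⟨k • x, ⟨⟨k, hk⟩, rfl⟩⟩ : orbit K x) ⟨x, mem_orbit_self x⟩)
        have hne0 : 0 < Nat.card (orbit K x) := by
          haveI : Nonempty (orbit K x) := ⟨⟨x, mem_orbit_self x⟩⟩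
          exact Nat.card_pos
        have hne2 : Nat.card (orbit K x) ≠ 2 := fun h2 => hodd e (h2 ▸ hdvd)
        show 3 ≤ (Finset.univ.filter fun z => π z = π x).card +
          2 * ((tripleFix G e).filter fun z => π z = π x).card
        omega
  have hsum := Finset.sum_le_sum (s := Finset.univ) fun q _ => hterm q
  rw [Finset.sum_add_distrib, ← Finset.mul_sum,
    ← Finset.card_eq_sum_card_fiberwise (fun x _ => Finset.mem_univ (π x)),
    ← Finset.card_eq_sum_card_fiberwise (fun x _ => Finset.mem_univ (π x)), Finset.sum_const,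
    Finset.card_univ, Finset.card_univ, smul_eq_mul, ← Nat.card_eq_fintype_card] at hsum
  omega

/-- The block count. -/
theorem tripleFix_eq_univ (h3 : IsMultiplyPretransitive G α 3) {m : ℕ} (hm : 3 ≤ m)
    (hsmall : Fintype.card α + 15 ≤ 4 * m) (hge : ∀ e : Fin 3 ↪ α, m ≤ (tripleFix G e).card)
    (e : Fin 3 ↪ α) : tripleFix G e = Finset.univ := by
  by_contra hne
  obtain ⟨c0, hc0⟩ : ∃ c0, c0 ∉ tripleFix G e := by
    by_contra h0
    push Not at h0
    exact hne (Finset.eq_univ_of_forall h0)
  set F := tripleFix G e with hF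
  set a := e 0 with ha
  have haF : a ∈ F := apply_mem_tripleFix e 0
  have hac0 : a ≠ c0 := fun h => hc0 (h ▸ haF)
  have hsel : ∀ b : {b // b ∈ F.erase a}, ∃ e' : Fin 3 ↪ α,
      e' 0 = a ∧ e' 1 = b.1 ∧ e' 2 = c0 := fun b =>
    exists_triple (Finset.ne_of_mem_erase b.2).symm hac0
      (fun h => hc0 (h ▸ Finset.mem_of_mem_erase b.2))
  choose E hEa hEb hEc using hsel
  set B : {b // b ∈ F.erase a} → Finset α := fun b => tripleFix G (E b) with hB
  have hBa : ∀ b, a ∈ B b := fun b => by simpa [hB, hEa] using apply_mem_tripleFix (G := G) (E b) 0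
  have hBb : ∀ b, b.1 ∈ B b := fun b => by simpa [hB, hEb] using apply_mem_tripleFix (G := G) (E b) 1
  have hBc : ∀ b, c0 ∈ B b := fun b => by simpa [hB, hEc] using apply_mem_tripleFix (G := G) (E b) 2
  have hBF : ∀ b, ∀ x ∈ B b, x ∈ F → x = a ∨ x = b.1 := by
    intro b x hx hxF
    by_contra hno
    push Not at hno
    obtain ⟨e', h0, h1, h2⟩ :=
      exists_triple (Finset.ne_of_mem_erase b.2).symm hno.1.symm hno.2.symm
    have e1 := tripleFix_eq_of_mem h3 (Finset.ne_of_mem_erase b.2).symm hno.1.symm hno.2.symm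
      (hBa b) (hBb b) hx h0 h1 h2
    have e2 := tripleFix_eq_of_mem h3 (Finset.ne_of_mem_erase b.2).symm hno.1.symm hno.2.symm
      haF (Finset.mem_of_mem_erase b.2) hxF h0 h1 h2
    have e3 : c0 ∈ tripleFix G e := by
      rw [← e2, e1]
      exact hBc b
    exact hc0 e3
  set C : {b // b ∈ F.erase a} → Finset α := fun b => B b \ {a, b.1, c0} with hC
  have hdisj : ∀ b b', b ≠ b' → Disjoint (C b) (C b') := by
    intro b b' hbb
    refine Finset.disjoint_left.2 fun x hx hx' => ?_
    simp only [hC, Finset.mem_sdiff, Finset.mem_insert, Finset.mem_singleton, not_or] at hx hx'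
    obtain ⟨e', h0, h1, h2⟩ :=
      exists_triple hac0 (Ne.symm hx.2.1) (Ne.symm hx.2.2.2)
    have e1 := tripleFix_eq_of_mem h3 hac0 (Ne.symm hx.2.1) (Ne.symm hx.2.2.2)
      (hBa b) (hBc b) hx.1 h0 h1 h2
    have e2 := tripleFix_eq_of_mem h3 hac0 (Ne.symm hx.2.1) (Ne.symm hx.2.2.2)
      (hBa b') (hBc b') hx'.1 h0 h1 h2
    have hmem : b'.1 ∈ B b := by
      show b'.1 ∈ tripleFix G (E b)
      rw [← e1, e2]
      exact hBb b'
    rcases hBF b b'.1 hmem (Finset.mem_of_mem_erase b'.2) with h | h
    · exact Finset.ne_of_mem_erase b'.2 h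
    · exact hbb (Subtype.ext h.symm)
  have hCc : ∀ b, m - 3 ≤ (C b).card := fun b => by
    have h1 := Finset.le_card_sdiff {a, b.1, c0} (B b)
    have h2 : ({a, b.1, c0} : Finset α).card ≤ 3 :=
      (Finset.card_insert_le _ _).trans (by have := Finset.card_le_two (a := b.1) (b := c0); omega)
    have : m ≤ (B b).card := hge (E b)
    show m - 3 ≤ (B b \ {a, b.1, c0}).card
    omega
  have hsub : Finset.univ.biUnion C ⊆ (insert c0 F)ᶜ := by
    intro x hx
    obtain ⟨b, -, hxb⟩ := Finset.mem_biUnion.1 hx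
    simp only [hC, Finset.mem_sdiff, Finset.mem_insert, Finset.mem_singleton, not_or] at hxb
    simp only [Finset.mem_compl, Finset.mem_insert, not_or]
    refine ⟨hxb.2.2.2, fun hxF => ?_⟩
    rcases hBF b x hxb.1 hxF with h | h
    · exact hxb.2.1 h
    · exact hxb.2.2.1 h
  have hcard := Finset.card_le_card hsub
  rw [Finset.card_biUnion (fun b _ b' _ hbb => hdisj b b' hbb), Finset.card_compl,
    Finset.card_insert_of_notMem hc0] at hcard
  have hlow : (F.card - 1) * (m - 3) ≤ ∑ b, (C b).card := by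
    refine le_trans ?_ (Finset.card_nsmul_le_sum _ _ _ fun b _ => hCc b)
    rw [Finset.card_univ, Fintype.card_coe, Finset.card_erase_of_mem haF, smul_eq_mul]
  have hmF : m ≤ F.card := hge e
  have hmul : (m - 1) * (m - 3) ≤ (F.card - 1) * (m - 3) :=
    Nat.mul_le_mul_right _ (by omega)
  have hFle : F.card + 1 ≤ Fintype.card α := by
    have := Finset.card_le_univ (insert c0 F)
    rwa [Finset.card_insert_of_notMem hc0] at this
  obtain ⟨r, rfl⟩ : ∃ r, m = r + 3 := ⟨m - 3, by omega⟩
  simp only [Nat.add_sub_cancel, show r + 3 - 1 = r + 2 by omega, ← hF] at hmul hlow hmF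
  nlinarith [hmul, hlow, hmF, hcard, hFle, Nat.sub_add_cancel hFle]

/-- In degree `p ≥ 7` only the identity fixes three points. -/
theorem Hyp.eq_one_of_three_fixed {α : Type*} [Fintype α] [DecidableEq α] {p : ℕ}
    [hp : Fact p.Prime] {G : Subgroup (Equiv.Perm α)} {P : Sylow p G} (h : Hyp p G P) [Fintype G]
    (hp7 : 7 ≤ p) (hnn : ¬ (P : Subgroup G).Normal) :
    IsMultiplyPretransitive G α 3 ∧ ∀ g : G, 3 ≤ Nat.card (fixedBy α g) → g = 1 := by
  classical
  obtain ⟨h3, h4, hinv⟩ := h.exists_moments hp7 hnn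
  refine ⟨h3, fun g hg => ?_⟩
  have hodd : ∀ e : Fin 3 ↪ α, ¬ 2 ∣ Nat.card (stabilizer G e) := fun e h2 => by
    haveI := Fact.mk Nat.prime_two
    obtain ⟨u, hu⟩ := exists_prime_orderOf_dvd_card' (G := stabilizer G e) 2 h2
    have h1 := hinv u (by rw [Subgroup.orderOf_coe, hu])
    have h5 : Nat.card (Fin 3) ≤ Nat.card (fixedBy α (u : G)) :=
      Nat.card_le_card_of_injective
        (fun i => ⟨e i, congrArg (fun x : Fin 3 ↪ α => x i) u.2⟩)
        fun i j hij => e.injective (congrArg Subtype.val hij)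
    rw [Nat.card_fin] at h5
    omega
  have hge : ∀ e : Fin 3 ↪ α, (p + 18) / 4 ≤ (tripleFix G e).card := fun e => by
    have h6 := card_tripleFix_ge h3 hodd e
    rw [h.card_pts] at h6
    have := Nat.odd_iff.1 (hp.out.odd_of_ne_two (by omega))
    have h7 : 3 * (Nat.card (Quotient (orbitRel G (Fin 4 ↪ α))) + 3) ≤
        p + 2 * (tripleFix G e).card := h6
    have h4' : p ≤ 2 * Nat.card (Quotient (orbitRel G (Fin 4 ↪ α))) + 1 := h4
    omega
  letI : Fintype (fixedBy α g) := Fintype.ofFinite _
  obtain ⟨ι⟩ : Nonempty (Fin 3 ↪ fixedBy α g) :=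
    Function.Embedding.nonempty_of_card_le (by
      rw [Fintype.card_fin, ← Nat.card_eq_fintype_card]; exact hg)
  let e : Fin 3 ↪ α := ι.trans (Function.Embedding.subtype _)
  have hge' : g ∈ stabilizer G e := Function.Embedding.ext fun i => (ι i).2
  have hall := tripleFix_eq_univ h3 (m := (p + 18) / 4) (by omega)
    (by rw [h.card_pts]; omega) hge e
  exact Subtype.ext (Equiv.ext fun x =>
    mem_tripleFix.1 (hall ▸ Finset.mem_univ x) g hge')

/-- The small cases. -/
theorem five_case {α : Type*} [Fintype α] [DecidableEq α] {G : Subgroup (Equiv.Perm α)}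
    [hp : Fact (Nat.Prime 5)] {P : Sylow 5 G} (h : Hyp 5 G P)
    (hnn : ¬ (P : Subgroup G).Normal) :
    IsMultiplyPretransitive G α 3 ∧ ∀ g : G, 3 ≤ Nat.card (fixedBy α g) → g = 1 := by
  classical
  have hperm : Nat.card (Equiv.Perm α) = 120 := by
    rw [Nat.card_eq_fintype_card, Fintype.card_perm, h.card_pts]; rfl
  have hdvd : Nat.card G ∣ 120 := hperm ▸ Subgroup.card_subgroup_dvd_card G
  rw [h.card_eq, show 120 = 12 * (2 * 5) from rfl] at hdvd
  have hn := Nat.dvd_of_mul_dvd_mul_right (by norm_num) hdvd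
  have hn5 : Nat.card (Sylow 5 G) % 5 = 1 := card_sylow_modEq_one 5 G
  have hn1 : Nat.card (Sylow 5 G) ≠ 1 := fun h1 => hnn (h.normal_of_card_sylow h1)
  have hn6 : Nat.card (Sylow 5 G) = 6 := by
    have hle := Nat.le_of_dvd (by norm_num) hn
    generalize Nat.card (Sylow 5 G) = n at hn hn5 hn1 hle
    interval_cases n <;> omega
  have hidx : G.index = 2 := by
    have h1 := G.card_mul_index
    rw [hperm, h.card_eq, hn6] at h1
    omega
  have hG : G = alternatingGroup α := Equiv.Perm.eq_alternatingGroup_of_index_eq_two hidx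
  subst hG
  refine ⟨?_, fun g hg => ?_⟩
  · haveI := alternatingGroup.isMultiplyPretransitive α
    refine isMultiplyPretransitive_of_le (n := Nat.card α - 2) ?_ ?_
    · rw [Nat.card_eq_fintype_card, h.card_pts]
    · rw [Nat.card_eq_fintype_card]; omega
  · by_contra hne
    have hgv : (g : Equiv.Perm α) ≠ 1 := fun e => hne (Subtype.ext e)
    have hsupp : (g : Equiv.Perm α).support.card + Nat.card (fixedBy α g) = 5 := by
      have hset : fixedBy α g = ↑((g : Equiv.Perm α).supportᶜ) := Set.ext fun x => by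
        simp only [Finset.coe_compl, Set.mem_compl_iff, Finset.mem_coe, Equiv.Perm.mem_support,
          not_not]
        rfl
      rw [hset, Nat.card_coe_set_eq, Set.ncard_coe_finset, Finset.card_add_card_compl, h.card_pts]
    have h2 : (g : Equiv.Perm α).support.card = 2 := by
      have h1 := Equiv.Perm.one_lt_card_support_of_ne_one hgv
      omega
    have hswap := (Equiv.Perm.card_support_eq_two.1 h2).sign_eq
    rw [Equiv.Perm.mem_alternatingGroup.1 g.2] at hswap
    exact absurd hswap (by decide)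

end Cfsg.Agent.H84.TwoP
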