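import Cfsg.Agent.H84.ItoSylow
import Cfsg.Agent.H85.TwoBlocks

/-!
# Brauer's height zero criterion for the principal block of a `p`-solvable group
-/

namespace Cfsg.Agent.H84

open Cfsg.Agent

theorem principal_height_zero_iff {G : Type*} [Group G] [Finite G] (p : ℕ) [Fact p.Prime]
    (M : Ideal Cfsg.AlgInt) (hM : Cfsg.IsPModular p M) (hsolv : Cfsg.IsPSolvable p G)
    (P : Sylow p G) :
    IsMulCommutative P ↔ ∀ χ ∈ Cfsg.principalBlock M G,
      Cfsg.blockHeight p (Cfsg.principalBlock M G) (χ : G → ℂ) = 0 := by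
  classical
  cases nonempty_fintype G
  set N := Cfsg.pPrimeCore p G with hN
  haveI : N.Normal := Subgroup.sSup_normal _ fun _ h => h.1
  have h1mem : (⟨fun _ => 1, BlockBasic.isIrrCharacter_trivial⟩ : Cfsg.IrrCharacter G) ∈
      Cfsg.principalBlock M G :=
    H85.mem_principalBlock_of_trivial_on_core hM hsolv _ fun n _ => rfl
  have hinf : sInf ((fun ψ : Cfsg.IrrCharacter G => (Cfsg.charDegree (ψ : G → ℂ)).factorization p) ''
      Cfsg.principalBlock M G) = 0 := by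
    refine Nat.sInf_eq_zero.2 (Or.inl ⟨_, h1mem, ?_⟩)
    show (Cfsg.charDegree (fun _ : G => (1 : ℂ))).factorization p = 0
    rw [charDegree_of_eq (n := 1) Nat.cast_one.symm]
    simp
  have hzero : ∀ χ : Cfsg.IrrCharacter G,
      Cfsg.blockHeight p (Cfsg.principalBlock M G) (χ : G → ℂ) = 0 ↔
        ¬ p ∣ Cfsg.charDegree (χ : G → ℂ) := by
    intro χ
    obtain ⟨n, hn0, hn⟩ := CharBasic.IsIrr.exists_degree χ.2
    rw [Cfsg.blockHeight, hinf, Nat.sub_zero, charDegree_of_eq hn, Nat.factorization_eq_zero_iff]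
    constructor
    · rintro (h | h | h)
      · exact absurd Fact.out h
      · exact h
      · omega
    · exact fun h => Or.inr (Or.inl h)
  let π := QuotientGroup.mk' N
  have hsurj : Function.Surjective π := QuotientGroup.mk'_surjective N
  have hPN : (P : Subgroup G) ⊓ N = ⊥ :=
    Cores.disjoint_of_isPGroup_of_coprime P.isPGroup' Cores.coprime_card_pPrimeCore
  have hQ : Cfsg.IsPSolvable p (G ⧸ N) := Cores.isPSolvable_quotient hsolv N
  haveI : Fintype (G ⧸ N) := Fintype.ofFinite _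
  let Pq : Sylow p (G ⧸ N) := P.mapSurjective hsurj
  have hPq : (Pq : Subgroup (G ⧸ N)) = (P : Subgroup G).map π := Sylow.coe_mapSurjective _ _
  constructor
  · intro hab χ hχ
    rw [hzero]
    have htriv : ∀ n ∈ N, (χ : G → ℂ) n = (χ : G → ℂ) 1 := fun n hn =>
      H82.apply_eq_of_mem_principalBlock hM hχ _ Cores.not_dvd_card_pPrimeCore hn
    obtain ⟨ψ, -, hψ, hψi⟩ := CharInduce.IsChar.exists_deflate (CharBasic.IsIrr.isCharacter χ.2) N htriv
    have habq : ∀ a ∈ (Pq : Subgroup (G ⧸ N)), ∀ b ∈ (Pq : Subgroup (G ⧸ N)), a * b = b * a := by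
      rw [hPq]
      rintro _ ⟨a, ha, rfl⟩ _ ⟨b, hb, rfl⟩
      rw [← map_mul, ← map_mul, show a * b = b * a from
        congrArg Subtype.val (hab.is_comm.comm (⟨a, ha⟩ : (P : Subgroup G)) ⟨b, hb⟩)]
    have hle : Cfsg.pCore p (G ⧸ N) ≤ (Pq : Subgroup (G ⧸ N)) := by
      haveI : (Cfsg.pCore p (G ⧸ N)).Normal := Subgroup.sSup_normal _ fun _ h => h.1
      obtain ⟨R, hR⟩ := (Cores.pCore_isPGroup (G := G ⧸ N) (p := p)).exists_le_sylow
      obtain ⟨g, rfl⟩ := MulAction.exists_smul_eq (G ⧸ N) Pq R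
      intro x hx
      have h1 := hR (Subgroup.Normal.conj_mem inferInstance x hx g)
      rw [Sylow.coe_subgroup_smul, Subgroup.mem_pointwise_smul_iff_inv_smul_mem] at h1
      simpa [mul_assoc] using h1
    have hPle : (Pq : Subgroup (G ⧸ N)) ≤ Cfsg.pCore p (G ⧸ N) :=
      le_trans (fun x hx => Subgroup.mem_centralizer_iff.2 fun y hy => habq y (hle hy) x hx)
        (Cores.centralizer_pCore_le hQ Cores.pPrimeCore_quotient_pPrimeCore)
    have hn : (Pq : Subgroup (G ⧸ N)).Normal := by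
      rw [le_antisymm hPle hle]
      exact Subgroup.sSup_normal _ fun _ h => h.1
    have h := not_dvd_degree_of_normal_abelian_sylow Pq hn
      ⟨⟨fun a b => Subtype.ext (habq a a.2 b b.2)⟩⟩ ⟨ψ, hψi χ.2⟩
    rwa [Cfsg.charDegree, show (χ : G → ℂ) 1 = ψ 1 from hψ 1]
  · intro h
    have hdeg : ∀ ψ : Cfsg.IrrCharacter (G ⧸ N), ¬ p ∣ Cfsg.charDegree (ψ : G ⧸ N → ℂ) := by
      intro ψ
      let χ : Cfsg.IrrCharacter G :=
        ⟨fun g => (ψ : G ⧸ N → ℂ) (π g), CharInduce.IsIrr.comp ψ.2 π hsurj⟩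
      have hmem := H85.mem_principalBlock_of_trivial_on_core hM hsolv χ fun n hn => by
        show (ψ : G ⧸ N → ℂ) (π n) = (ψ : G ⧸ N → ℂ) (π 1)
        rw [show π n = 1 from (QuotientGroup.eq_one_iff n).2 hn, map_one]
      have h1 := (hzero χ).1 (h χ hmem)
      exact h1
    obtain ⟨-, hab⟩ := normal_abelian_sylow_of_degrees hQ hdeg Pq
    refine ⟨⟨fun a b => Subtype.ext ?_⟩⟩
    have h1 := hab (π a) (hPq ▸ Subgroup.mem_map_of_mem π a.2) (π b)
      (hPq ▸ Subgroup.mem_map_of_mem π b.2)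
    have h2 : ((b : G) * a)⁻¹ * (a * b) ∈ (P : Subgroup G) ⊓ N := by
      refine ⟨(P : Subgroup G).mul_mem ((P : Subgroup G).inv_mem (mul_mem b.2 a.2)) (mul_mem a.2 b.2), ?_⟩
      show ((b : G) * a)⁻¹ * (a * b) ∈ N
      rw [← QuotientGroup.eq_one_iff]
      show π (((b : G) * a)⁻¹ * (a * b)) = 1
      rw [map_mul, map_inv, map_mul, map_mul, h1, inv_mul_cancel]
    rw [hPN, Subgroup.mem_bot, inv_mul_eq_one] at h2
    exact h2.symm

end Cfsg.Agent.H84
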