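import Cfsg.Agent.CharInduce.Induce
import Cfsg.Agent.CharInduce.Twist
import Cfsg.Agent.CharInduce.Function
import Cfsg.Agent.H85.RootCount
import Mathlib.GroupTheory.Perm.Cycle.Type

/-!
# Real constituents of type `+` of a permutation character
-/

open scoped ComplexConjugate

namespace Cfsg.Agent.H84

open Cfsg.Agent

variable {G : Type*} [Group G] [Fintype G]

theorem indFun_one_of_mem_normalCore (H : Subgroup G) {n : G} (hn : n ∈ H.normalCore) :
    Cfsg.indFun H (fun _ : H => (1 : ℂ)) n = Cfsg.indFun H (fun _ : H => (1 : ℂ)) 1 := by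
  rw [CharInduce.indFun_apply, CharInduce.indFun_apply]
  refine congrArg _ (Finset.sum_congr rfl fun x _ => ?_)
  rw [mul_one, inv_mul_cancel]
  have h : x⁻¹ * n * x ∈ H := by simpa using hn x⁻¹
  rw [CharInduce.extendByZero_of_mem _ h, CharInduce.extendByZero_of_mem _ H.one_mem]

/-- Constituents of `1_H^G` contain the core of `H` in their kernel. -/
theorem apply_eq_one_of_mem_normalCore (H : Subgroup G) (χ : Cfsg.IrrCharacter G)
    (hχ : Cfsg.classInner (Cfsg.indFun H (fun _ : H => (1 : ℂ))) (χ : G → ℂ) ≠ 0)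
    {n : G} (hn : n ∈ H.normalCore) : (χ : G → ℂ) n = (χ : G → ℂ) 1 := by
  obtain ⟨r, hr, he⟩ := CharInduce.IsChar.exists_eq_add
    (CharInduce.IsChar.ind H (CharBasic.IsIrr.isCharacter (CharBasic.isIrrCharacter_one (G := H))))
    χ.2 hχ
  have h := indFun_one_of_mem_normalCore H hn
  rw [he, Pi.add_apply, Pi.add_apply] at h
  have hre := congrArg Complex.re h
  rw [Complex.add_re, Complex.add_re] at hre
  obtain ⟨a, -, ha⟩ := CharBasic.IsIrr.exists_degree χ.2
  obtain ⟨b, hb⟩ := CharBasic.IsChar.exists_degree hr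
  have h1 : ‖(χ : G → ℂ) n‖ ≤ (a : ℝ) := by
    simpa [ha] using CharBasic.IsChar.norm_le (CharBasic.IsIrr.isCharacter χ.2) n
  have h2 : (r n).re ≤ (b : ℝ) := (Complex.re_le_norm _).trans
    (by simpa [hb] using CharBasic.IsChar.norm_le hr n)
  rw [ha, hb, Complex.natCast_re, Complex.natCast_re] at hre
  have h3 : ((χ : G → ℂ) n).re = a :=
    le_antisymm ((Complex.re_le_norm _).trans h1) (by linarith)
  rw [ha]
  refine Complex.ext (by simp [h3]) ?_
  have h5 : Complex.normSq ((χ : G → ℂ) n) ≤ (a : ℝ) ^ 2 := by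
    rw [Complex.normSq_eq_norm_sq]
    exact pow_le_pow_left₀ (norm_nonneg _) h1 2
  rw [Complex.normSq_apply, h3] at h5
  simp only [Complex.natCast_im]
  nlinarith

theorem exists_mem_sq_mem_of_even (H : Subgroup G) (heven : ¬ Odd H.normalCore.index) :
    ∃ u : G, u * u ∈ H ∧ u ∉ H := by
  rw [Subgroup.index_eq_card, Nat.not_odd_iff_even, even_iff_two_dvd] at heven
  obtain ⟨q, hq⟩ := exists_prime_orderOf_dvd_card' 2 heven
  induction q using QuotientGroup.induction_on with
  | _ t =>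
    have ht : t ∉ H.normalCore := fun h => by
      rw [(QuotientGroup.eq_one_iff t).2 h, orderOf_one] at hq
      omega
    have ht2 : t * t ∈ H.normalCore := by
      rw [← QuotientGroup.eq_one_iff, QuotientGroup.mk_mul, ← sq, ← hq, pow_orderOf_eq_one]
    obtain ⟨x, hx⟩ : ∃ x : G, x * t * x⁻¹ ∉ H := by
      by_contra h
      push Not at h
      exact ht fun x => h x
    refine ⟨x * t * x⁻¹, ?_, hx⟩
    have := H.normalCore_le (Subgroup.normalCore_normal H |>.conj_mem _ ht2 x)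
    rwa [show x * t * x⁻¹ * (x * t * x⁻¹) = x * (t * t) * x⁻¹ by group]

theorem sum_indFun_sq (H : Subgroup G) [DecidablePred (· ∈ H)] :
    ∑ u : G, Cfsg.indFun H (fun _ : H => (1 : ℂ)) (u * u) =
      (H.index : ℂ) * ((Finset.univ.filter fun u : G => u * u ∈ H).card : ℂ) := by
  classical
  simp only [CharInduce.indFun_apply, ← Finset.mul_sum]
  rw [Finset.sum_comm]
  have h : ∀ x : G, ∑ u : G, Cfsg.extendByZero H (fun _ : H => (1 : ℂ)) (x⁻¹ * (u * u) * x) =
      ((Finset.univ.filter fun u : G => u * u ∈ H).card : ℂ) := fun x => by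
    rw [Finset.natCast_card_filter]
    refine Fintype.sum_equiv (MulAut.conj x⁻¹).toEquiv _ _ fun u => ?_
    have e : (MulAut.conj x⁻¹).toEquiv u * (MulAut.conj x⁻¹).toEquiv u = x⁻¹ * (u * u) * x := by
      simp [mul_assoc]
    rw [e]
    split_ifs with hm
    · rw [CharInduce.extendByZero_of_mem _ hm]
    · exact Function.extend_apply' _ _ _ (by rintro ⟨y, hy⟩; exact hm (hy ▸ y.2))
  simp only [h, Finset.sum_const, Finset.card_univ, nsmul_eq_mul, ← Nat.card_eq_fintype_card]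
  rw [← H.card_mul_index, Nat.cast_mul]
  field_simp [Nat.cast_ne_zero.2 (Nat.card_pos (α := H)).ne']

theorem unique_plus_constituent_iff (H : Subgroup G) :
    Nat.card {χ : Cfsg.IrrCharacter G //
      Cfsg.classInner (Cfsg.indFun H (fun _ : H => (1 : ℂ))) (χ : G → ℂ) ≠ 0 ∧
      (∀ g : G, (starRingEnd ℂ) ((χ : G → ℂ) g) = (χ : G → ℂ) g) ∧
      (Nat.card G : ℂ)⁻¹ * ∑ g : G, (χ : G → ℂ) (g * g) = 1} = 1 ↔
      Odd H.normalCore.index := by
  classical
  set π := Cfsg.indFun H (fun _ : H => (1 : ℂ)) with hπdef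
  have hπ : Cfsg.IsCharacter G π := CharInduce.IsChar.ind H
    (CharBasic.IsIrr.isCharacter (CharBasic.isIrrCharacter_one (G := H)))
  set one : Cfsg.IrrCharacter G := ⟨fun _ => 1, CharBasic.isIrrCharacter_one⟩ with hone
  have hG : (Nat.card G : ℂ) ≠ 0 := Nat.cast_ne_zero.2 Nat.card_pos.ne'
  have hone1 : Cfsg.classInner π (one : G → ℂ) = 1 := by
    rw [hπdef, CharInduce.classInner_indFun_left _ _ _ (CharBasic.IsIrr.isClassFunction one.2)]
    exact CharBasic.classInner_irr_self (CharBasic.isIrrCharacter_one (G := H))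
  have honeS : Cfsg.classInner π (one : G → ℂ) ≠ 0 ∧
      (∀ g : G, (starRingEnd ℂ) ((one : G → ℂ) g) = (one : G → ℂ) g) ∧
      (Nat.card G : ℂ)⁻¹ * ∑ g : G, (one : G → ℂ) (g * g) = 1 := by
    refine ⟨by rw [hone1]; exact one_ne_zero, fun g => by simp [hone], ?_⟩
    simp [hone, Nat.card_eq_fintype_card]
  have key : Nat.card {χ : Cfsg.IrrCharacter G //
      Cfsg.classInner π (χ : G → ℂ) ≠ 0 ∧
      (∀ g : G, (starRingEnd ℂ) ((χ : G → ℂ) g) = (χ : G → ℂ) g) ∧
      (Nat.card G : ℂ)⁻¹ * ∑ g : G, (χ : G → ℂ) (g * g) = 1} = 1 ↔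
      ∀ χ : Cfsg.IrrCharacter G, Cfsg.classInner π (χ : G → ℂ) ≠ 0 →
        (∀ g : G, (starRingEnd ℂ) ((χ : G → ℂ) g) = (χ : G → ℂ) g) →
        (Nat.card G : ℂ)⁻¹ * ∑ g : G, (χ : G → ℂ) (g * g) = 1 → χ = one := by
    constructor
    · intro h χ h1 h2 h3
      haveI := (Nat.card_eq_one_iff_unique.1 h).1
      exact congrArg Subtype.val (Subsingleton.elim
        (⟨χ, h1, h2, h3⟩ : {χ : Cfsg.IrrCharacter G //
          Cfsg.classInner π (χ : G → ℂ) ≠ 0 ∧
          (∀ g : G, (starRingEnd ℂ) ((χ : G → ℂ) g) = (χ : G → ℂ) g) ∧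
          (Nat.card G : ℂ)⁻¹ * ∑ g : G, (χ : G → ℂ) (g * g) = 1}) ⟨one, honeS⟩)
    · intro h
      exact Nat.card_eq_one_iff_unique.2 ⟨⟨fun a b => Subtype.ext
        ((h _ a.2.1 a.2.2.1 a.2.2.2).trans (h _ b.2.1 b.2.2.1 b.2.2.2).symm)⟩, ⟨⟨one, honeS⟩⟩⟩
  rw [key]
  constructor
  · intro huniq
    by_contra heven
    obtain ⟨t, ht2, ht⟩ := exists_mem_sq_mem_of_even H heven
    choose m hm using fun χ : Cfsg.IrrCharacter G =>
      CharBasic.classInner_isChar_nat hπ (CharBasic.IsIrr.isCharacter χ.2)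
    have hexp : (Nat.card G : ℂ)⁻¹ * ∑ u : G, π (u * u) = ∑ χ : Cfsg.IrrCharacter G,
        (m χ : ℂ) * ((Nat.card G : ℂ)⁻¹ * ∑ u : G, (χ : G → ℂ) (u * u)) := by
      conv_lhs => rw [CharBasic.classFunction_expansion (CharBasic.IsChar.isClassFunction hπ)]
      simp only [Finset.sum_apply, Pi.smul_apply, smul_eq_mul, hm, Finset.mul_sum]
      rw [Finset.sum_comm]
      exact Finset.sum_congr rfl fun χ _ => Finset.sum_congr rfl fun u _ => by ring
    set c := (Finset.univ.filter fun u : G => u * u ∈ H).card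
    have hc : Nat.card H < c := by
      have hlt : (Finset.univ.filter fun u : G => u ∈ H) ⊂ Finset.univ.filter fun u : G => u * u ∈ H := by
        rw [Finset.ssubset_iff_of_subset (fun u hu => by
          simp only [Finset.mem_filter, Finset.mem_univ, true_and] at hu ⊢
          exact H.mul_mem hu hu)]
        exact ⟨t, by simp [ht2], by simp [ht]⟩
      refine lt_of_eq_of_lt ?_ (Finset.card_lt_card hlt)
      rw [Nat.card_eq_fintype_card, Fintype.card_subtype]
    rw [sum_indFun_sq, ← H.card_mul_index, Nat.cast_mul] at hexp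
    have hI : (H.index : ℂ) ≠ 0 := Nat.cast_ne_zero.2 Subgroup.FiniteIndex.index_ne_zero
    have hH : (Nat.card H : ℂ) ≠ 0 := Nat.cast_ne_zero.2 Nat.card_pos.ne'
    have hre := congrArg Complex.re hexp
    have hl : (((Nat.card H : ℂ) * (H.index : ℂ))⁻¹ * ((H.index : ℂ) * (c : ℂ))).re =
        (c : ℝ) / (Nat.card H : ℝ) := by
      rw [show ((Nat.card H : ℂ) * (H.index : ℂ))⁻¹ * ((H.index : ℂ) * (c : ℂ)) =
        (((c : ℝ) / (Nat.card H : ℝ) : ℝ) : ℂ) by push_cast; field_simp, Complex.ofReal_re]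
    have hle : (∑ χ : Cfsg.IrrCharacter G, (m χ : ℂ) *
        (((Nat.card H : ℂ) * (H.index : ℂ))⁻¹ * ∑ u : G, (χ : G → ℂ) (u * u))).re ≤ 1 := by
      rw [Complex.re_sum, ← Finset.add_sum_erase _ _ (Finset.mem_univ one)]
      have h1 : ((m one : ℂ) * (((Nat.card H : ℂ) * (H.index : ℂ))⁻¹ *
          ∑ u : G, (one : G → ℂ) (u * u))).re = 1 := by
        rw [← Nat.cast_mul, H.card_mul_index, honeS.2.2, ← hm one, hone1]
        simp
      rw [h1, add_le_iff_nonpos_right]
      refine Finset.sum_nonpos fun χ hχ => ?_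
      rw [← Nat.cast_mul, H.card_mul_index]
      by_cases hmz : m χ = 0
      · simp [hmz]
      by_cases hreal : ∀ g : G, (starRingEnd ℂ) ((χ : G → ℂ) g) = (χ : G → ℂ) g
      swap
      · simp [H85.sum_sq_eq_zero_of_nonreal χ.2 hreal]
      obtain ⟨ε, hε, hsum⟩ := H85.exists_sign_sum_sq χ.2 hreal
      have hν : (Nat.card G : ℂ)⁻¹ * ∑ u : G, (χ : G → ℂ) (u * u) = ε := by
        rw [hsum]; field_simp
      rcases hε with rfl | rfl
      · exact absurd (huniq χ (by rw [hm]; exact_mod_cast hmz) hreal hν) (Finset.ne_of_mem_erase hχ)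
      · rw [hν]; simp
    rw [← hre, hl, div_le_one (by exact_mod_cast Nat.card_pos)] at hle
    exact absurd (by exact_mod_cast hle : c ≤ Nat.card H) (not_le.2 hc)
  · intro hodd χ hχ hreal _
    obtain ⟨ψ, -, hψ, hirr⟩ := CharInduce.IsChar.exists_deflate (CharBasic.IsIrr.isCharacter χ.2)
      H.normalCore (fun n hn => apply_eq_one_of_mem_normalCore H χ hχ hn)
    cases nonempty_fintype (G ⧸ H.normalCore)
    have h1 := CharInduce.eq_one_of_real_of_odd (G := G ⧸ H.normalCore)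
      (by rwa [← Subgroup.index_eq_card]) (hirr χ.2)
      (fun q => QuotientGroup.induction_on q fun g => by rw [← hψ]; exact hreal g)
    exact Subtype.ext (funext fun g => by rw [hψ, h1])

end Cfsg.Agent.H84
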