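import Cfsg.Agent.S0867
import Cfsg.Agent.Fusion.Basic
import Cfsg.Agent.H84.ItoSylow

/-!
# Squares of the degrees of the characters of `p'`-degree and `p'`-determinantal order
-/

namespace Cfsg.Agent.H84

open Cfsg.Agent

variable {G : Type*} [Group G] [Finite G] {p : ℕ} [hp : Fact p.Prime]

/-- Linear characters of `O^p(G)` have order prime to `p`. -/
theorem hom_pResidual_pow (l : Cfsg.pResidual p G →* ℂˣ) :
    l ^ (ordCompl[p] (Nat.card G)) = 1 := by
  set e := ordCompl[p] (Nat.card G) with he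
  have key : ∀ x (hx : x ∈ Cfsg.pResidual p G), l ⟨x, hx⟩ ^ e = 1 := by
    intro x hx
    induction hx using Subgroup.closure_induction with
    | mem y hy =>
      have hd : orderOf y ∣ e := by
        have h1 : orderOf y ∣ p ^ (Nat.card G).factorization p * e := by
          rw [he, Nat.ordProj_mul_ordCompl_eq_self]
          exact orderOf_dvd_natCard y
        exact (Nat.Coprime.pow_right _ hy).dvd_of_dvd_mul_left h1
      obtain ⟨t, ht⟩ := hd
      rw [← map_pow, ← map_one l]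
      congr 1
      exact Subtype.ext (by simp [ht, pow_mul, pow_orderOf_eq_one])
    | one =>
      rw [← map_pow, ← map_one l]
      congr 1
      exact Subtype.ext (by simp)
    | mul a b ha hb iha ihb =>
      rw [show (⟨a * b, mul_mem ha hb⟩ : Cfsg.pResidual p G) = ⟨a, ha⟩ * ⟨b, hb⟩ from rfl, map_mul,
        mul_pow]
      erw [iha, ihb]
      rw [one_mul]
    | inv a ha iha =>
      rw [show (⟨a⁻¹, inv_mem ha⟩ : Cfsg.pResidual p G) = (⟨a, ha⟩)⁻¹ from rfl, map_inv, inv_pow]
      erw [iha]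
      rw [inv_one]
  exact MonoidHom.ext fun x => key x.1 x.2

/-- A sum of an invariant function over a set with an action of a `p`-group is congruent to the sum
over the fixed points. -/
theorem sum_modEq_fixed {P X : Type*} [Group P] [MulAction P X] [Fintype X] (hP : IsPGroup p P)
    [Finite P] (f : X → ℕ) (hf : ∀ (g : P) (x : X), f (g • x) = f x)
    [DecidablePred fun x : X => ∀ g : P, g • x = x] :
    ((∑ x, f x : ℕ) : ZMod p) =
      ((∑ x ∈ Finset.univ.filter (fun x => ∀ g : P, g • x = x), f x : ℕ) : ZMod p) := by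
  classical
  push_cast
  rw [← Finset.sum_fiberwise_of_maps_to (g := f) (t := Finset.univ.image f)
      (fun x hx => Finset.mem_image_of_mem f hx),
    ← Finset.sum_fiberwise_of_maps_to (s := Finset.univ.filter _) (g := f) (t := Finset.univ.image f)
      (fun x _ => Finset.mem_image_of_mem f (Finset.mem_univ x))]
  refine Finset.sum_congr rfl fun v _ => ?_
  rw [Finset.sum_congr rfl fun x hx => by rw [(Finset.mem_filter.1 hx).2],
    Finset.sum_const, Finset.filter_filter,
    Finset.sum_congr rfl fun x hx => by rw [(Finset.mem_filter.1 hx).2.2],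
    Finset.sum_const, nsmul_eq_mul, nsmul_eq_mul]
  congr 1
  let Y := {x : X // f x = v}
  letI : MulAction P Y :=
    { smul := fun g y => ⟨g • y.1, (hf g y.1).trans y.2⟩
      one_smul := fun y => Subtype.ext (one_smul P y.1)
      mul_smul := fun g h y => Subtype.ext (mul_smul g h y.1) }
  have h := hP.card_modEq_card_fixedPoints Y
  have e : Nat.card (MulAction.fixedPoints P Y) =
      Nat.card {x : X // (∀ g : P, g • x = x) ∧ f x = v} :=
    Nat.card_congr
      { toFun := fun y => ⟨y.1.1, fun g => congrArg Subtype.val (y.2 g), y.1.2⟩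
        invFun := fun x => ⟨⟨x.1, x.2.2⟩, fun g => Subtype.ext (x.2.1 g)⟩
        left_inv := fun y => rfl
        right_inv := fun x => rfl }
  rw [e, Nat.card_eq_fintype_card, Nat.card_eq_fintype_card, Fintype.card_subtype,
    Fintype.card_subtype] at h
  exact (ZMod.natCast_eq_natCast_iff _ _ _).2 h

theorem residual_degree_congr :
    (Nat.card (Cfsg.pResidual p G) : ℤ) ≡
      (∑ᶠ χ ∈ {χ : Cfsg.IrrCharacter G | ¬ p ∣ Cfsg.charDegree (χ : G → ℂ) ∧
        ¬ p ∣ Cfsg.detOrder (χ : G → ℂ)}, (Cfsg.charDegree (χ : G → ℂ) : ℤ) ^ 2) [ZMOD p] := by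
  classical
  cases nonempty_fintype G
  set N := Cfsg.pResidual p G with hN
  haveI hNn : N.Normal := inferInstance
  haveI : Fintype N := Fintype.ofFinite N
  obtain ⟨S⟩ : Nonempty (Sylow p G) := inferInstance
  have hST : (S : Subgroup G) ⊔ N = ⊤ := Fusion.sylow_sup_eq_top S le_rfl
  obtain ⟨a, hidx⟩ : ∃ a, N.index = p ^ a := by
    have h : N.index ∣ Nat.card (S : Subgroup G) := by
      have h3 : N.relIndex ((S : Subgroup G) ⊔ N) = N.relIndex (S : Subgroup G) := by
        rw [sup_comm]; exact Subgroup.relIndex_sup_left _ _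
      rw [hST, Subgroup.relIndex_top_right] at h3
      rw [h3]; exact Subgroup.relIndex_dvd_card _ _
    obtain ⟨k, hk⟩ := S.2.exists_card_eq
    obtain ⟨i, -, hi⟩ := (Nat.dvd_prime_pow hp.out).1 (hk ▸ h)
    exact ⟨i, hi⟩
  have hcop : ∀ d, ¬ p ∣ d → N.index.Coprime d := fun d hd => by
    rw [hidx]; exact ((Nat.Prime.coprime_iff_not_dvd hp.out).2 hd).pow_left a
  have hdetN : ∀ θ : Cfsg.IrrCharacter N, ¬ p ∣ Cfsg.detOrder (θ : N → ℂ) := by
    intro θ h
    obtain ⟨m, ρ, -, hρ⟩ := θ.2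
    rw [CharInduce.detOrder_eq ρ hρ] at h
    exact Nat.not_dvd_ordCompl hp.out Nat.card_pos.ne'
      (h.trans (orderOf_dvd_of_pow_eq_one (hom_pResidual_pow (CharInduce.detHom ρ))))
  letI act : MulAction (S : Subgroup G) (Cfsg.IrrCharacter N) :=
    { smul := fun g θ => ⟨CharInduce.conjFun N (θ : N → ℂ) (g : G)⁻¹,
        CharInduce.isIrrCharacter_conjFun N θ.2 _⟩
      one_smul := fun θ => Subtype.ext (by
        show CharInduce.conjFun N (θ : N → ℂ) ((1 : G))⁻¹ = _
        rw [inv_one, CharInduce.conjFun_one])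
      mul_smul := fun g h θ => Subtype.ext (by
        show CharInduce.conjFun N (θ : N → ℂ) ((g : G) * h)⁻¹ =
          CharInduce.conjFun N (CharInduce.conjFun N (θ : N → ℂ) (h : G)⁻¹) (g : G)⁻¹
        rw [mul_inv_rev, CharInduce.conjFun_mul]) }
  let f : Cfsg.IrrCharacter N → ℕ := fun θ => Cfsg.charDegree (θ : N → ℂ) ^ 2
  have hf : ∀ (g : (S : Subgroup G)) (θ : Cfsg.IrrCharacter N), f (g • θ) = f θ := fun g θ => by
    show Cfsg.charDegree (CharInduce.conjFun N (θ : N → ℂ) (g : G)⁻¹) ^ 2 = _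
    simp only [f, Cfsg.charDegree, CharInduce.conjFun]
    congr 3
    refine congrArg _ ?_
    refine Subtype.ext ?_
    show ((g : G))⁻¹ * ((1 : N) : G) * ((g : G))⁻¹⁻¹ = ((1 : N) : G)
    rw [Subgroup.coe_one]
    group
  have hfix : ∀ θ : Cfsg.IrrCharacter N, (∀ g : (S : Subgroup G), g • θ = θ) ↔
      ∀ x : G, CharInduce.conjFun N (θ : N → ℂ) x = θ := by
    intro θ
    refine ⟨fun h => ?_, fun h g => Subtype.ext (h (g : G)⁻¹)⟩
    have hle : (S : Subgroup G) ⊔ N ≤ CharInduce.inertia N (θ : N → ℂ) := by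
      refine sup_le (fun x hx => ?_) (CharInduce.le_inertia N (CharBasic.IsIrr.isClassFunction θ.2))
      have h1 : CharInduce.conjFun N (θ : N → ℂ) ((⟨x, hx⟩⁻¹ : (S : Subgroup G)) : G)⁻¹ = θ :=
        congrArg Subtype.val (h _)
      simpa [CharInduce.mem_inertia] using h1
    exact fun x => (CharInduce.mem_inertia N).1 (hle (hST ▸ Subgroup.mem_top x))
  have hsum : (Nat.card N : ZMod p) =
      ((∑ θ ∈ Finset.univ.filter (fun θ : Cfsg.IrrCharacter N =>
        (∀ g : (S : Subgroup G), g • θ = θ) ∧ ¬ p ∣ Cfsg.charDegree (θ : N → ℂ)), f θ : ℕ) :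
          ZMod p) := by
    have h0 : Nat.card N = ∑ θ : Cfsg.IrrCharacter N, f θ := by
      refine Nat.cast_injective (R := ℂ) ?_
      rw [← CharBasic.sum_sq_degree]
      push_cast
      refine Finset.sum_congr rfl fun θ _ => ?_
      obtain ⟨n, -, hn⟩ := CharBasic.IsIrr.exists_degree θ.2
      simp [f, charDegree_of_eq hn, hn]
    rw [h0, sum_modEq_fixed S.2 f hf, ← Finset.filter_filter]
    push_cast
    symm
    refine Finset.sum_filter_of_ne fun θ _ hne hd => hne ?_
    simp [f, (ZMod.natCast_eq_zero_iff _ _).2 hd]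
  rw [← ZMod.intCast_eq_intCast_iff, Int.cast_natCast, hsum,
    finsum_mem_eq_toFinset_sum]
  push_cast
  set T := Finset.univ.filter (fun θ : Cfsg.IrrCharacter N =>
    (∀ g : (S : Subgroup G), g • θ = θ) ∧ ¬ p ∣ Cfsg.charDegree (θ : N → ℂ)) with hT
  have hinv : ∀ θ ∈ T, ∀ (g : G) (n : N),
      (θ : N → ℂ) ⟨g * n * g⁻¹, hNn.conj_mem (n : G) n.2 g⟩ = (θ : N → ℂ) n := fun θ hθ g n =>
    congrFun ((hfix θ).1 (Finset.mem_filter.1 hθ).2.1 g) n
  choose n0 hn0pos hn0 using fun θ : Cfsg.IrrCharacter N => CharBasic.IsIrr.exists_degree θ.2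
  have hcopθ : ∀ θ ∈ T, N.index.Coprime (Cfsg.detOrder (θ : N → ℂ) * n0 θ) := fun θ hθ => by
    refine (hcop _ (hdetN θ)).mul_right (hcop _ ?_)
    have := (Finset.mem_filter.1 hθ).2.2
    rwa [charDegree_of_eq (hn0 θ)] at this
  choose φ hφ hφu using fun (θ : Cfsg.IrrCharacter N) (hθ : θ ∈ T) => S0867.result N (θ : N → ℂ) θ.2 (hinv θ hθ) (n0 θ) (hn0 θ)
    (hcopθ θ hθ)
  refine Finset.sum_bij (fun θ hθ => (⟨φ θ hθ, (hφ θ hθ).1⟩ : Cfsg.IrrCharacter G))
    (fun θ hθ => ?_) (fun θ hθ θ' hθ' he => ?_) (fun χ hχ => ?_) (fun θ hθ => ?_)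
  · rw [Set.mem_toFinset]
    refine ⟨?_, ?_⟩
    · show ¬ p ∣ Cfsg.charDegree (φ θ hθ)
      rw [charDegree_of_eq (n := n0 θ) (by rw [← hn0 θ]; exact (hφ θ hθ).2.1 1)]
      have := (Finset.mem_filter.1 hθ).2.2
      rwa [charDegree_of_eq (hn0 θ)] at this
    · show ¬ p ∣ Cfsg.detOrder (φ θ hθ)
      rw [(hφ θ hθ).2.2]; exact hdetN θ
  · have he' : φ θ hθ = φ θ' hθ' := congrArg Subtype.val he
    refine Subtype.ext (funext fun n => ?_)
    rw [← (hφ θ hθ).2.1 n, ← (hφ θ' hθ').2.1 n, he']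
  · rw [Set.mem_toFinset] at hχ
    obtain ⟨nχ, -, hnχ⟩ := CharBasic.IsIrr.exists_degree χ.2
    have hpχ := hχ.1
    rw [charDegree_of_eq hnχ] at hpχ
    have hresne : (fun n : N => (χ : G → ℂ) n) ≠ 0 := fun e =>
      CharBasic.IsIrr.one_ne_zero χ.2 (congrFun e 1)
    obtain ⟨θ, hθ⟩ := CharInduce.exists_constituent
      (CharInduce.IsChar.res (CharBasic.IsIrr.isCharacter χ.2) N) hresne
    obtain ⟨e, he⟩ := CharBasic.classInner_isChar_nat
      (CharInduce.IsChar.res (CharBasic.IsIrr.isCharacter χ.2) N) (CharBasic.IsIrr.isCharacter θ.2)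
    have hdeg := CharInduce.clifford_degree N χ.2 θ.2 hθ
    rw [he, hn0 θ, hnχ] at hdeg
    have h3 : nχ = e * (CharInduce.inertia N (θ : N → ℂ)).index * n0 θ := by exact_mod_cast hdeg
    have htop : CharInduce.inertia N (θ : N → ℂ) = ⊤ := by
      rw [← Subgroup.index_eq_one]
      have h1 : (CharInduce.inertia N (θ : N → ℂ)).index ∣ N.index :=
        Subgroup.index_dvd_of_le (CharInduce.le_inertia N (CharBasic.IsIrr.isClassFunction θ.2))
      obtain ⟨i, -, hi⟩ := (Nat.dvd_prime_pow hp.out).1 (hidx ▸ h1)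
      rcases i with - | i
      · simpa using hi
      · exact absurd (((dvd_pow_self p i.succ_ne_zero).mul_left e).mul_right (n0 θ))
          (by rw [← hi, ← h3]; exact hpχ)
    have hθT : θ ∈ T := Finset.mem_filter.2 ⟨Finset.mem_univ _,
      (hfix θ).2 fun x => (CharInduce.mem_inertia N).1 (htop ▸ Subgroup.mem_top x),
      by rw [charDegree_of_eq (hn0 θ)]; exact fun hd => hpχ (h3 ▸ hd.mul_left _)⟩
    refine ⟨θ, hθT, Subtype.ext ?_⟩
    have hres : ∀ n : N, (χ : G → ℂ) n = (θ : N → ℂ) n := by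
      have hinvf : ∀ x : G, CharInduce.conjFun N (θ : N → ℂ) x = θ := fun x =>
        (CharInduce.mem_inertia N).1 (htop ▸ Subgroup.mem_top x)
      have h1 : (fun _ : N => (1 : ℂ)) * (θ : N → ℂ) = θ := one_mul _
      obtain ⟨-, -, g3⟩ := CharInduce.gallagher N CharBasic.isIrrCharacter_one θ.2
        (CharInduce.conjFun_one_char N) hinvf (by rw [h1]; exact θ.2) (hφ θ hθT).1 (hφ θ hθT).2.1
      obtain ⟨β, hβ, heq⟩ := g3 (χ : G → ℂ) χ.2 (by
        rw [h1, CharInduce.classInner_indFun_left N _ _ (CharBasic.IsIrr.isClassFunction χ.2),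
          ← CharBasic.classInner_conj_symm, he, map_natCast]
        intro h0
        exact hθ (by rw [he, h0]))
      have hβN : ∀ n ∈ N, (β : G → ℂ) n = (β : G → ℂ) 1 := by
        refine (CharInduce.constituent_one_iff N β.2).1 ?_
        rw [CharInduce.mem_above,
          CharInduce.classInner_indFun_left N _ _ (CharBasic.IsIrr.isClassFunction β.2)] at hβ
        intro h
        apply hβ
        rw [← CharInduce.conj_classInner, h, map_zero]
      obtain ⟨ψ, -, hψ, hψi⟩ :=
        CharInduce.IsChar.exists_deflate (CharBasic.IsIrr.isCharacter β.2) N hβN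
      haveI : Fintype (G ⧸ N) := Fintype.ofFinite _
      obtain ⟨b, -, hb, hbd, -⟩ := CharBasic.IsIrr.degree_dvd (hψi β.2)
      have hbI : b ∣ p ^ a := by rw [← hidx]; exact hbd
      have hβ1 : (β : G → ℂ) 1 = b := by rw [hψ 1]; exact hb
      have hχ1 := congrFun heq 1
      rw [Pi.mul_apply, hβ1, hnχ, show φ θ hθT 1 = (n0 θ : ℂ) by
        rw [← hn0 θ]; exact (hφ θ hθT).2.1 1] at hχ1
      have hb1 : b = 1 := by
        have h5 : nχ = b * n0 θ := by exact_mod_cast hχ1.symm
        obtain ⟨i, -, rfl⟩ := (Nat.dvd_prime_pow hp.out).1 hbI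
        rcases i with - | i
        · exact pow_zero p
        · exact absurd (((dvd_pow_self p i.succ_ne_zero)).mul_right (n0 θ)) (h5 ▸ hpχ)
      intro n
      rw [← congrFun heq n, Pi.mul_apply, hβN n n.2, hβ1, hb1, Nat.cast_one, one_mul]
      exact (hφ θ hθT).2.1 n
    exact (hφu θ hθT χ χ.2 hres (hcop _ hχ.2)).symm
  · show ((f θ : ℕ) : ZMod p) = _
    push_cast [f]
    rw [charDegree_of_eq (hn0 θ),
      show Cfsg.charDegree (φ θ hθ) = n0 θ from
        charDegree_of_eq (by rw [← hn0 θ]; exact (hφ θ hθ).2.1 1)]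

end Cfsg.Agent.H84
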