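import Cfsg.Agent.H84.TraceFixed
import Cfsg.Agent.CharBasic.Orth
import Cfsg.Prelude.Def_Blocks
import Mathlib.GroupTheory.Sylow

/-!
# Small characters of groups with TI Sylow subgroups
-/

open Module
open scoped Pointwise

namespace Cfsg.Agent.H84

variable {G : Type*} [Group G] [Finite G] {p : ℕ} [Fact p.Prime]

theorem mem_of_mem_normalizer_of_orderOf (P : Sylow p G) {x : G}
    (hx : x ∈ Subgroup.normalizer ((P : Subgroup G) : Set G)) {k : ℕ} (hk : orderOf x = p ^ k) :
    x ∈ (P : Subgroup G) := by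
  have hz : IsPGroup p (Subgroup.zpowers x) :=
    IsPGroup.of_card (n := k) (by rw [Nat.card_zpowers, hk])
  have hsup : IsPGroup p ((P : Subgroup G) ⊔ Subgroup.zpowers x : Subgroup G) :=
    P.isPGroup'.to_sup_of_normal_left' hz (Subgroup.zpowers_le.2 hx)
  have := P.is_maximal' hsup le_sup_left
  exact this ▸ Subgroup.mem_sup_right (Subgroup.mem_zpowers x)

theorem free_of_TI (P : Sylow p G)
    (hTI : ∀ g : G, g ∉ Subgroup.normalizer ((P : Subgroup G) : Set G) →
      (P : Subgroup G) ⊓ (MulAut.conj g • (P : Subgroup G)) = ⊥)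
    (u : G) (hu : u ∈ (P : Subgroup G)) (hu1 : u ≠ 1) (g : G)
    (hg : g⁻¹ * u * g ∈ Subgroup.normalizer ((P : Subgroup G) : Set G)) :
    g ∈ Subgroup.normalizer ((P : Subgroup G) : Set G) := by
  by_contra hgN
  obtain ⟨k, hk⟩ := IsPGroup.iff_orderOf.1 P.isPGroup' ⟨u, hu⟩
  rw [Subgroup.orderOf_mk] at hk
  have hmem : g⁻¹ * u * g ∈ (P : Subgroup G) :=
    mem_of_mem_normalizer_of_orderOf P hg (k := k) (by
      rw [show g⁻¹ * u * g = MulAut.conj g⁻¹ u by simp,
        MulEquiv.orderOf_eq, hk])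
  have h : u ∈ (P : Subgroup G) ⊓ (MulAut.conj g • (P : Subgroup G)) := by
    refine ⟨hu, ?_⟩
    refine Subgroup.mem_pointwise_smul_iff_inv_smul_mem.2 ?_
    simpa [MulAut.smul_def, MulAut.conj_symm_apply] using hmem
  rw [hTI g hgN] at h
  exact hu1 (Subgroup.mem_bot.1 h)

theorem degree_eq_of_character {n : ℕ} (ρ : Representation ℂ G (Fin n → ℂ)) :
    Cfsg.charDegree ρ.character = n := by
  simp [Cfsg.charDegree]

/-- Leonard's lemma: for a TI Sylow subgroup and `χ(1)² ≤ #P`, the endomorphisms over a subgroup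
containing the normalizer are endomorphisms over `G`. -/
theorem classInner_eq_restrict [Fintype G] (P : Sylow p G)
    (hTI : ∀ g : G, g ∉ Subgroup.normalizer ((P : Subgroup G) : Set G) →
      (P : Subgroup G) ⊓ (MulAut.conj g • (P : Subgroup G)) = ⊥)
    (χ : G → ℂ) (hχ : Cfsg.IsCharacter G χ)
    (hdeg : Cfsg.charDegree χ ^ 2 ≤ Nat.card (P : Subgroup G)) (H : Subgroup G) [Fintype H]
    (hH : Subgroup.normalizer ((P : Subgroup G) : Set G) ≤ H) :
    Cfsg.classInner χ χ = Cfsg.classInner (fun h : H => χ h) (fun h : H => χ h) := by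
  obtain ⟨n, ρ, rfl⟩ := hχ
  rw [degree_eq_of_character] at hdeg
  have hres : (fun h : H => ρ.character h) =
      Representation.character (ρ.comp H.subtype) := rfl
  rw [hres, CharBasic.classInner_character, CharBasic.classInner_character, Nat.cast_inj]
  let L : Representation.IntertwiningMap ρ ρ →ₗ[ℂ]
      Representation.IntertwiningMap (ρ.comp H.subtype) (ρ.comp H.subtype) :=
    { toFun := fun f => ⟨f.toLinearMap, fun h => f.isIntertwining' (h : G)⟩
      map_add' := fun f g => rfl
      map_smul' := fun c f => rfl }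
  refine (LinearEquiv.ofBijective L ⟨fun f g h => ?_, fun f => ?_⟩).finrank_eq
  · exact Representation.IntertwiningMap.toLinearMap_injective _ _
      (congrArg Representation.IntertwiningMap.toLinearMap h :)
  · refine ⟨⟨f.toLinearMap, fun g => ?_⟩, rfl⟩
    exact commute_of_commute (p := p) ρ P _ P.isPGroup' Subgroup.le_normalizer (free_of_TI P hTI)
      (by simpa using hdeg) f.toLinearMap (fun x hx => f.isIntertwining' ⟨x, hH hx⟩) g

end Cfsg.Agent.H84
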