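import Cfsg.Agent.H84.SelfCentralLocal
import Cfsg.Agent.H84.TISylow
import Cfsg.Agent.H84.Kernel
import Mathlib.GroupTheory.Transfer

/-!
# Small characters when the nontrivial elements of a Sylow subgroup have one centralizer
-/

set_option linter.style.haveILetI false
set_option linter.unusedSectionVars false

namespace Cfsg.Agent.H84

open Cfsg.Agent
open scoped ComplexConjugate Pointwise

/-- Equality in the triangle inequality with real bounds. -/
theorem eq_of_sum_eq_bound {ι : Type*} (s : Finset ι) (w : ι → ℕ) (z : ι → ℂ) (r : ι → ℝ)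
    (hz : ∀ i ∈ s, ‖z i‖ ≤ r i)
    (h : ∑ i ∈ s, (w i : ℂ) * z i = ∑ i ∈ s, (w i : ℂ) * (r i : ℂ)) :
    ∀ i ∈ s, w i ≠ 0 → z i = (r i : ℂ) := by
  intro i hi hw
  have h1 := congrArg Complex.re h
  simp only [Complex.re_sum, Complex.mul_re, Complex.natCast_re, Complex.natCast_im, zero_mul,
    sub_zero, Complex.ofReal_re] at h1
  have hle : ∀ j ∈ s, (w j : ℝ) * (z j).re ≤ (w j : ℝ) * r j := fun j hj =>
    mul_le_mul_of_nonneg_left ((Complex.re_le_norm _).trans (hz j hj)) (Nat.cast_nonneg _)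
  have h2 := (Finset.sum_eq_sum_iff_of_le hle).1 h1 i hi
  have h3 : (z i).re = r i := mul_left_cancel₀ (Nat.cast_ne_zero.2 hw) h2
  have h4 : (z i).re = ‖z i‖ :=
    le_antisymm (Complex.re_le_norm _) (h3.symm ▸ hz i hi)
  have h5 := Complex.re_eq_norm.1 h4
  apply Complex.ext
  · rw [Complex.ofReal_re, h3]
  · rw [Complex.ofReal_im]
    exact (Complex.le_def.1 h5).2.symm

section Local

variable {H : Type*} [Group H] [Fintype H] {p : ℕ} [Fact p.Prime] (P : Sylow p H)
  [(P : Subgroup H).Normal]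
  (hstar : ∀ x ∈ (P : Subgroup H), x ≠ 1 → Subgroup.centralizer ({x} : Set H) =
    Subgroup.centralizer ((P : Subgroup H) : Set H))

include hstar

theorem index_dvd_card_sub_one :
    (Subgroup.centralizer ((P : Subgroup H) : Set H)).index ∣
      Nat.card (P : Subgroup H) - 1 := by
  classical
  set S := (Finset.univ.filter fun h : H => h ∈ (P : Subgroup H)).erase 1 with hS
  have hcard : S.card = Nat.card (P : Subgroup H) - 1 := by
    rw [hS, Finset.card_erase_of_mem (Finset.mem_filter.2 ⟨Finset.mem_univ _, one_mem _⟩),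
      Nat.card_eq_fintype_card, Fintype.card_subtype]
  rw [← hcard, Finset.card_eq_sum_card_image ConjClasses.mk]
  refine Finset.dvd_sum fun K hK => ?_
  obtain ⟨x, hx, rfl⟩ := Finset.mem_image.1 hK
  obtain ⟨hx1, hxP⟩ := Finset.mem_erase.1 hx
  have hxP' := (Finset.mem_filter.1 hxP).2
  have h1 : (S.filter fun y => ConjClasses.mk y = ConjClasses.mk x).card =
      (ConjClasses.mk x).carrier.ncard := by
    rw [← Set.ncard_coe_finset]
    congr 1
    ext y
    simp only [hS, Finset.coe_filter, Finset.mem_erase, Finset.mem_filter, Finset.mem_univ,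
      true_and, Set.mem_setOf_eq, ConjClasses.mem_carrier_iff_mk_eq, and_iff_right_iff_imp]
    intro h
    obtain ⟨c, hc⟩ := isConj_iff.1 (ConjClasses.mk_eq_mk_iff_isConj.1 h.symm)
    refine ⟨fun hy => hx1 ?_, hc ▸ Subgroup.Normal.conj_mem ‹_› _ hxP' c⟩
    rw [hy, mul_inv_eq_one] at hc
    exact (mul_eq_left.1 hc)
  rw [h1, H75.ncard_carrier, hstar x hxP' hx1]

/-- Sum over the `p`-regular elements of a function vanishing off `C(P)`. -/
theorem sum_regular_of_vanish {M : Type*} [AddCommMonoid M] (F : H → M)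
    (hF : ∀ h, h ∉ Subgroup.centralizer ((P : Subgroup H) : Set H) → F h = 0)
    [DecidablePred fun h : H => ¬ p ∣ orderOf h] :
    ∑ h ∈ Finset.univ.filter (fun h : H => ¬ p ∣ orderOf h), F h = ∑ a ∈ aset P, F a := by
  symm
  refine Finset.sum_subset (fun a ha => Finset.mem_filter.2 ⟨Finset.mem_univ _,
    ((mem_aset P).1 ha).2⟩) fun h hh hn => hF h fun hC => hn ((mem_aset P).2 ⟨hC,
      (Finset.mem_filter.1 hh).2⟩)

omit hstar in
theorem sum_univ_of_vanish {M : Type*} [AddCommMonoid M] (F : H → M)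
    (hF : ∀ h, h ∉ Subgroup.centralizer ((P : Subgroup H) : Set H) → F h = 0) :
    ∑ h : H, F h = ∑ c ∈ cset P, F c :=
  (Finset.sum_subset (Finset.subset_univ _) fun h _ hn => hF h fun hC =>
    hn ((mem_cset P).2 hC)).symm

end Local

section Global

variable {G : Type*} [Group G] [Finite G] {p : ℕ} [hp : Fact p.Prime] (P : Sylow p G)
  (hstar : ∀ x ∈ (P : Subgroup G), x ≠ 1 → Subgroup.centralizer ({x} : Set G) =
    Subgroup.centralizer ((P : Subgroup G) : Set G))

include hstar

theorem TI_of_centralizer_eq (g : G)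
    (hg : g ∉ Subgroup.normalizer ((P : Subgroup G) : Set G)) :
    (P : Subgroup G) ⊓ (MulAut.conj g • (P : Subgroup G)) = ⊥ := by
  rw [Subgroup.eq_bot_iff_forall]
  intro y ⟨hy, hy'⟩
  by_contra hy1
  apply hg
  have hy'' : g⁻¹ * y * g ∈ (P : Subgroup G) := by
    have h := Subgroup.mem_pointwise_smul_iff_inv_smul_mem.1 hy'
    simpa [MulAut.smul_def, MulAut.conj_symm_apply] using h
  have hc : ∀ u v : G, u ∈ (P : Subgroup G) → v ∈ (P : Subgroup G) → u * v = v * u := by
    intro u v hu hv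
    rcases eq_or_ne v 1 with rfl | hv1
    · simp
    have : v ∈ Subgroup.centralizer ((P : Subgroup G) : Set G) := by
      rw [← hstar v hv hv1, Subgroup.mem_centralizer_singleton_iff]
    exact Subgroup.mem_centralizer_iff.1 this u hu
  rw [Subgroup.mem_normalizer_iff]
  -- both Sylow subgroups lie in the centralizer of `y`
  have key : ∀ z ∈ (P : Subgroup G), g * z * g⁻¹ ∈ (P : Subgroup G) := by
    intro z hz
    have h1 : g * z * g⁻¹ ∈ Subgroup.centralizer ({y} : Set G) := by
      rw [Subgroup.mem_centralizer_singleton_iff]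
      calc g * z * g⁻¹ * y = g * (z * (g⁻¹ * y * g)) * g⁻¹ := by group
        _ = g * ((g⁻¹ * y * g) * z) * g⁻¹ := by rw [hc z _ hz hy'']
        _ = y * (g * z * g⁻¹) := by group
    rw [hstar y hy hy1] at h1
    have hz' : IsPGroup p (Subgroup.zpowers (g * z * g⁻¹)) := by
      obtain ⟨k, hk⟩ := IsPGroup.iff_orderOf.1 P.isPGroup' ⟨z, hz⟩
      rw [Subgroup.orderOf_mk] at hk
      refine IsPGroup.of_card (n := k) ?_
      rw [Nat.card_zpowers, show g * z * g⁻¹ = MulAut.conj g z by simp, MulEquiv.orderOf_eq, hk]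
    have hn : g * z * g⁻¹ ∈ Subgroup.normalizer ((P : Subgroup G) : Set G) :=
      Subgroup.centralizer_le_normalizer _ h1
    have hsup : IsPGroup p ((P : Subgroup G) ⊔ Subgroup.zpowers (g * z * g⁻¹) : Subgroup G) :=
      P.isPGroup'.to_sup_of_normal_left' hz' (Subgroup.zpowers_le.2 hn)
    have := P.is_maximal' hsup le_sup_left
    exact this ▸ Subgroup.mem_sup_right (Subgroup.mem_zpowers _)
  intro z
  refine ⟨key z, fun hz => ?_⟩
  have hmap : (P : Subgroup G).map (MulAut.conj g).toMonoidHom = (P : Subgroup G) := by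
    refine Subgroup.eq_of_le_of_card_ge ?_
      (Subgroup.card_map_of_injective (MulAut.conj g).injective).ge
    rintro _ ⟨w, hw, rfl⟩
    exact key w hw
  rw [← hmap] at hz
  obtain ⟨w, hw, hwz⟩ := hz
  have : w = z := (MulAut.conj g).injective (by simpa using hwz)
  exact this ▸ hw

/-- The hypothesis passes to the normalizer. -/
theorem hstar_normalizer :
    ∀ x ∈ ((P.subtype Subgroup.le_normalizer :
        Sylow p ↥(Subgroup.normalizer ((P : Subgroup G) : Set G))) :
          Subgroup ↥(Subgroup.normalizer ((P : Subgroup G) : Set G))), x ≠ 1 →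
      Subgroup.centralizer ({x} : Set ↥(Subgroup.normalizer ((P : Subgroup G) : Set G))) =
        Subgroup.centralizer (((P.subtype Subgroup.le_normalizer :
          Sylow p ↥(Subgroup.normalizer ((P : Subgroup G) : Set G))) :
            Subgroup ↥(Subgroup.normalizer ((P : Subgroup G) : Set G))) :
              Set ↥(Subgroup.normalizer ((P : Subgroup G) : Set G))) := by
  intro x hx hx1
  have hx' : (x : G) ∈ (P : Subgroup G) := hx
  have h := hstar x hx' (fun h => hx1 (Subtype.ext h))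
  ext n
  rw [Subgroup.mem_centralizer_singleton_iff, Subgroup.mem_centralizer_iff]
  constructor
  · intro hn y hy
    have hn' : (n : G) ∈ Subgroup.centralizer ({(x : G)} : Set G) := by
      rw [Subgroup.mem_centralizer_singleton_iff]; exact congrArg Subtype.val hn
    rw [h] at hn'
    exact Subtype.ext (Subgroup.mem_centralizer_iff.1 hn' _ hy)
  · intro hn
    exact (hn x hx).symm

/-- Sums over `p`-singular elements come from the normalizer. -/
theorem card_mul_sum_singular [Fintype G]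
    [Fintype ↥(Subgroup.normalizer ((P : Subgroup G) : Set G))] (f : G → ℂ)
    (hf : Cfsg.IsClassFunction G f) :
    (Nat.card ↥(Subgroup.normalizer ((P : Subgroup G) : Set G)) : ℂ) *
        ∑ g ∈ Finset.univ.filter (fun g : G => p ∣ orderOf g), f g =
      (Nat.card G : ℂ) * ∑ n ∈ Finset.univ.filter
        (fun n : ↥(Subgroup.normalizer ((P : Subgroup G) : Set G)) => p ∣ orderOf n), f n := by
  classical
  set N := Subgroup.normalizer ((P : Subgroup G) : Set G) with hN
  set S := (Finset.univ : Finset G) ×ˢ Finset.univ.filter (fun n : N => p ∣ orderOf n) with hSdef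
  let π : G × N → G := fun z => z.1 * (z.2 : G) * z.1⁻¹
  have hord : ∀ z : G × N, orderOf (π z) = orderOf z.2 := fun z => by
    rw [← Subgroup.orderOf_coe, show π z = MulAut.conj z.1 (z.2 : G) by simp [π],
      MulEquiv.orderOf_eq]
  have hTI := TI_of_centralizer_eq P hstar
  have hpow : ∀ m : N, p ∣ orderOf m → ((m : G) ^ (orderOf m / p)) ∈ (P : Subgroup G) ∧
      (m : G) ^ (orderOf m / p) ≠ 1 := fun m hm => by
    have ho : orderOf ((m : G) ^ (orderOf m / p)) = p := by
      rw [← Subgroup.orderOf_coe]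
      exact orderOf_pow_orderOf_div (orderOf_pos _).ne' (by rwa [Subgroup.orderOf_coe])
    refine ⟨mem_of_mem_normalizer_of_orderOf P (pow_mem m.2 _) (k := 1) (by rw [ho, pow_one]),
      fun h1 => ?_⟩
    rw [h1, orderOf_one] at ho
    exact hp.out.ne_one ho.symm
  have hmaps : ∀ z ∈ S, π z ∈ Finset.univ.filter (fun g : G => p ∣ orderOf g) := fun z hz => by
    refine Finset.mem_filter.2 ⟨Finset.mem_univ _, ?_⟩
    rw [hord]
    exact (Finset.mem_filter.1 (Finset.mem_product.1 hz).2).2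
  have hfib : ∀ g ∈ Finset.univ.filter (fun g : G => p ∣ orderOf g),
      (S.filter fun z => π z = g).card = Nat.card N := by
    intro g hg
    have hg' := (Finset.mem_filter.1 hg).2
    set y := g ^ (orderOf g / p)
    have hy : orderOf y = p := orderOf_pow_orderOf_div (orderOf_pos g).ne' hg'
    have hz : IsPGroup p (Subgroup.zpowers y) :=
      IsPGroup.of_card (n := 1) (by rw [Nat.card_zpowers, hy, pow_one])
    obtain ⟨Q, hQ⟩ := hz.exists_le_sylow
    obtain ⟨x₀, hx₀⟩ := MulAction.exists_smul_eq G P Q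
    have hyQ : x₀⁻¹ * y * x₀ ∈ (P : Subgroup G) := by
      have h1 := hQ (Subgroup.mem_zpowers y)
      rw [← hx₀, Sylow.coe_subgroup_smul, Subgroup.mem_pointwise_smul_iff_inv_smul_mem] at h1
      simpa [MulAut.smul_def, MulAut.conj_symm_apply] using h1
    have hy1 : x₀⁻¹ * y * x₀ ≠ 1 := fun h1 => by
      have : y = 1 := by
        calc y = x₀ * (x₀⁻¹ * y * x₀) * x₀⁻¹ := by group
          _ = 1 := by rw [h1]; group
      rw [this, orderOf_one] at hy
      exact hp.out.ne_one hy.symm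
    have hc : Commute g y := Commute.self_pow g _
    have hn₀ : x₀⁻¹ * g * x₀ ∈ N := by
      refine Subgroup.centralizer_le_normalizer _ ?_
      rw [← hstar _ hyQ hy1, Subgroup.mem_centralizer_singleton_iff]
      calc x₀⁻¹ * g * x₀ * (x₀⁻¹ * y * x₀) = x₀⁻¹ * (g * y) * x₀ := by group
        _ = x₀⁻¹ * (y * g) * x₀ := by rw [hc.eq]
        _ = _ := by group
    rw [← Finset.card_univ.trans Nat.card_eq_fintype_card.symm]
    symm
    refine Finset.card_bij (fun w _ => (x₀ * (w : G), w⁻¹ * ⟨x₀⁻¹ * g * x₀, hn₀⟩ * w))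
      (fun w _ => ?_) (fun w _ w' _ h => ?_) (fun z hz => ?_)
    · have hval : π (x₀ * (w : G), w⁻¹ * ⟨x₀⁻¹ * g * x₀, hn₀⟩ * w) = g := by
        simp only [π, Subgroup.coe_mul, Subgroup.coe_inv]
        group
      refine Finset.mem_filter.2 ⟨Finset.mem_product.2 ⟨Finset.mem_univ _,
        Finset.mem_filter.2 ⟨Finset.mem_univ _, ?_⟩⟩, hval⟩
      rw [← hord (x₀ * (w : G), w⁻¹ * ⟨x₀⁻¹ * g * x₀, hn₀⟩ * w), hval]
      exact hg'
    · exact Subtype.ext (mul_left_cancel (congrArg Prod.fst h))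
    · obtain ⟨hzS, hzg⟩ := Finset.mem_filter.1 hz
      obtain ⟨x, c⟩ := z
      have hc' := (Finset.mem_filter.1 (Finset.mem_product.1 hzS).2).2
      simp only [π] at hzg
      -- `x₀⁻¹ x` normalizes `P`
      obtain ⟨hcP, hc1⟩ := hpow c hc'
      have hw : x₀⁻¹ * x ∈ N := by
        refine free_of_TI P hTI _ hyQ hy1 (x₀⁻¹ * x) ?_
        have hgc : g ^ (orderOf g / p) = x * (c : G) ^ (orderOf c / p) * x⁻¹ := by
          have ho : orderOf g = orderOf c := by
            rw [← hzg]; exact hord (x, c)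
          rw [← ho, ← conj_pow, hzg]
        have : (x₀⁻¹ * x)⁻¹ * (x₀⁻¹ * y * x₀) * (x₀⁻¹ * x) = (c : G) ^ (orderOf c / p) := by
          rw [show y = g ^ (orderOf g / p) from rfl, hgc]
          group
        rw [this]
        exact Subgroup.le_normalizer hcP
      refine ⟨⟨x₀⁻¹ * x, hw⟩, Finset.mem_univ _, ?_⟩
      refine Prod.ext (by simp) (Subtype.ext ?_)
      simp only [Subgroup.coe_mul, Subgroup.coe_inv]
      rw [← hzg]
      group
  have h2 : ∑ z ∈ S, f (π z) =
      ∑ g ∈ Finset.univ.filter (fun g : G => p ∣ orderOf g), (Nat.card N : ℂ) * f g := by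
    rw [← Finset.sum_fiberwise_of_maps_to hmaps]
    refine Finset.sum_congr rfl fun g hg => ?_
    rw [Finset.sum_congr rfl (g := fun _ => f g) (fun z hz => by rw [(Finset.mem_filter.1 hz).2]),
      Finset.sum_const, hfib g hg, nsmul_eq_mul]
  rw [Finset.mul_sum, ← h2, hSdef, Finset.sum_product, Finset.mul_sum]
  rw [Finset.sum_congr rfl (g := fun _ => ∑ n ∈ Finset.univ.filter
    (fun n : N => p ∣ orderOf n), f n) (fun x _ => Finset.sum_congr rfl fun n _ => hf n x)]
  rw [Finset.sum_const, Finset.card_univ, nsmul_eq_mul, ← Nat.card_eq_fintype_card, Finset.mul_sum]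
  congr! 2
  exact Finset.ext fun _ => by simp

/-- Sums over `p`-regular elements. -/
theorem card_mul_sum_regular [Fintype G]
    [Fintype ↥(Subgroup.normalizer ((P : Subgroup G) : Set G))] (f : G → ℂ)
    (hf : Cfsg.IsClassFunction G f) :
    (Nat.card ↥(Subgroup.normalizer ((P : Subgroup G) : Set G)) : ℂ) *
        ∑ g ∈ Finset.univ.filter (fun g : G => ¬ p ∣ orderOf g), f g =
      (Nat.card ↥(Subgroup.normalizer ((P : Subgroup G) : Set G)) : ℂ) * ∑ g : G, f g -
      (Nat.card G : ℂ) * (∑ n : ↥(Subgroup.normalizer ((P : Subgroup G) : Set G)), f n -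
        ∑ n ∈ Finset.univ.filter
          (fun n : ↥(Subgroup.normalizer ((P : Subgroup G) : Set G)) => ¬ p ∣ orderOf n), f n) := by
  classical
  have h := card_mul_sum_singular P hstar f hf
  rw [← Finset.sum_filter_add_sum_filter_not (Finset.univ : Finset G) (fun g => p ∣ orderOf g) f,
    ← Finset.sum_filter_add_sum_filter_not
      (Finset.univ : Finset ↥(Subgroup.normalizer ((P : Subgroup G) : Set G)))
      (fun n => p ∣ orderOf n) (fun n => f n)]
  linear_combination (-1 : ℂ) * h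

/-- The key step: when `G` is generated by the conjugates of `P`, a nontrivial irreducible
character of degree `x` with `x² + 1 < #P` is linear and `P` is central in its normalizer. -/
theorem linear_and_normalizer_of_small
    (hgen : ∀ K : Subgroup G, K.Normal → (P : Subgroup G) ≤ K → K = ⊤)
    (χ : Cfsg.IrrCharacter G) (h1 : (χ : G → ℂ) ≠ fun _ => 1)
    (hdeg : Cfsg.charDegree (χ : G → ℂ) ^ 2 + 1 < Nat.card (P : Subgroup G)) :
    Cfsg.charDegree (χ : G → ℂ) = 1 ∧ Subgroup.normalizer ((P : Subgroup G) : Set G) ≤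
      Subgroup.centralizer ((P : Subgroup G) : Set G) := by
  classical
  cases nonempty_fintype G
  set N := Subgroup.normalizer ((P : Subgroup G) : Set G) with hN
  haveI : Fintype N := Fintype.ofFinite _
  set Pn : Sylow p N := P.subtype Subgroup.le_normalizer with hPn
  haveI : (Pn : Subgroup N).Normal := by
    rw [hPn, Sylow.coe_subtype]
    exact Subgroup.normal_in_normalizer
  haveI : Fintype (Pn : Subgroup N) := Fintype.ofFinite _
  have hst := hstar_normalizer P hstar
  have hTI := TI_of_centralizer_eq P hstar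
  have hPcard : Nat.card (Pn : Subgroup N) = Nat.card (P : Subgroup G) := by
    rw [hPn, Sylow.coe_subtype]
    exact Nat.card_congr (Subgroup.subgroupOfEquivOfLe Subgroup.le_normalizer).toEquiv
  -- nontrivial characters are nontrivial on `P`
  have hmoves : ∀ W : Cfsg.IrrCharacter G, (W : G → ℂ) ≠ (fun _ => 1) →
      ∃ y ∈ (Pn : Subgroup N), (W : G → ℂ) ((y : N) : G) ≠ (W : G → ℂ) 1 := by
    intro W hW
    by_contra hc
    push Not at hc
    obtain ⟨K, hK, hmem, -⟩ := CharBasic.IsChar.exists_kernel (CharBasic.IsIrr.isCharacter W.2)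
    have hKtop : K = ⊤ := hgen K hK fun y hy =>
      (hmem y).2 (hc ⟨y, Subgroup.le_normalizer hy⟩ hy)
    apply hW
    funext g
    obtain ⟨K', -, hK', -, -, -, hd⟩ := exists_kernel W
    have hK't : K' = ⊤ := eq_top_iff.2 fun g _ => (hK' g).2 ((hmem g).1 (hKtop ▸ trivial))
    rw [hK't, Subgroup.index_top, Nat.dvd_one] at hd
    rw [(hmem g).1 (hKtop ▸ trivial), BlockBasic.apply_one_eq_charDegree, hd, Nat.cast_one]
  -- the restriction to `N` is irreducible
  set x := Cfsg.charDegree (χ : G → ℂ) with hx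
  have hxpos : 0 < x := BlockBasic.charDegree_pos χ
  have hres := classInner_eq_restrict P hTI (χ : G → ℂ) (CharBasic.IsIrr.isCharacter χ.2)
    (le_of_lt (lt_of_le_of_lt (Nat.le_succ _) hdeg)) N le_rfl
  rw [CharBasic.classInner_irr_self χ.2] at hres
  let χN : Cfsg.IrrCharacter N := ⟨fun n => (χ : G → ℂ) n, CharInduce.isIrr_of_norm_one
    (CharInduce.IsChar.res (CharBasic.IsIrr.isCharacter χ.2) _) hres.symm⟩
  have hχN : ∃ y ∈ (Pn : Subgroup N), (χN : N → ℂ) y ≠ (χN : N → ℂ) 1 := hmoves χ h1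
  have hxN : Cfsg.charDegree (χN : N → ℂ) = x := by simp [χN, Cfsg.charDegree, hx]
  obtain ⟨e, d, f, l, hd0, hecard, hxed, hdec, horth, hl1, hf1, hfle, hfnorm, ⟨m, hm1, hm2, hm⟩,
    hlin⟩ := exists_decomp Pn hst χN hχN
  rw [hxN] at hxed
  set A := aset Pn with hA
  set Q := Nat.card (Pn : Subgroup N) with hQ
  have hQ0 : 0 < Q := Nat.card_pos
  have hdeg' : x ^ 2 + 1 < Q := hPcard ▸ hdeg
  have hcardN : Nat.card N = e * (Q * A.card) := by
    rw [← hecard, card_centralizer_eq_mul Pn hst]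
  have hA0 : 0 < A.card := Finset.card_pos.2 ⟨1, one_mem_aset Pn⟩
  have he0 : 0 < e := Nat.pos_of_ne_zero fun h => by
    rw [h, zero_mul] at hxed; omega
  rcases eq_or_ne e 1 with rfl | he1
  · -- `P` is central in `N`, hence acts by scalars
    have htop : Subgroup.centralizer ((Pn : Subgroup N) : Set N) = ⊤ :=
      Subgroup.eq_top_of_card_eq _ (by rw [← hecard, one_mul])
    have hcomm : ∀ n ∈ N, ∀ y ∈ (P : Subgroup G), y * n = n * y := fun n hn y hy => by
      have h : (⟨n, hn⟩ : N) ∈ Subgroup.centralizer ((Pn : Subgroup N) : Set N) := by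
        rw [htop]; trivial
      exact congrArg Subtype.val
        (Subgroup.mem_centralizer_iff.1 h ⟨y, Subgroup.le_normalizer hy⟩ hy)
    refine ⟨?_, fun n hn => Subgroup.mem_centralizer_iff.2 fun y hy => hcomm n hn y hy⟩
    obtain ⟨Z, hZn, hZ⟩ := CharBasic.IsChar.exists_center (CharBasic.IsIrr.isCharacter χ.2)
    have hPZ : (P : Subgroup G) ≤ Z := fun y hy => by
      rw [hZ]
      obtain ⟨n, ρ, hρ, he⟩ := χ.2
      have hn : x = n := by rw [hx, ← he]; exact degree_eq_of_character ρ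
      obtain ⟨c, hc⟩ := CharBasic.schur_scalar ρ (ρ y) fun g =>
        commute_of_commute (p := p) ρ (P : Subgroup G) N P.isPGroup' Subgroup.le_normalizer
          (free_of_TI P hTI) (by rw [Module.finrank_fin_fun, ← hn, ← hPcard]; omega) (ρ y)
          (fun g hg => by rw [← map_mul, ← map_mul, hcomm g hg y hy]) g
      rw [← he, Representation.char_one, Complex.norm_natCast]
      exact (CharBasic.norm_character_eq_iff ρ y).2 ⟨c, hc⟩
    have hall : ∀ g : G, ‖(χ : G → ℂ) g‖ = (x : ℝ) := fun g => by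
      have h : g ∈ Z := by rw [hgen Z hZn hPZ]; trivial
      rw [(hZ g).1 h, BlockBasic.apply_one_eq_charDegree, Complex.norm_natCast]
    have hirr := CharBasic.classInner_irr_self χ.2
    rw [CharBasic.classInner_def, inv_mul_eq_one₀ (Nat.cast_ne_zero.2 Nat.card_pos.ne')] at hirr
    simp only [Complex.mul_conj', hall, Finset.sum_const, Finset.card_univ, nsmul_eq_mul,
      ← Nat.card_eq_fintype_card, Complex.ofReal_natCast] at hirr
    have h2 : Nat.card G = Nat.card G * x ^ 2 := by exact_mod_cast hirr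
    have h3 : x ^ 2 = 1 := (Nat.mul_eq_left Nat.card_pos.ne').1 h2.symm
    exact (pow_eq_one_iff.1 h3).resolve_right two_ne_zero
  exfalso
  have he2 : 2 ≤ e := by omega
  -- the character `U = χ χ̄`
  set V : G → ℝ := fun g => Complex.normSq ((χ : G → ℂ) g) with hV
  set U : G → ℂ := fun g => (χ : G → ℂ) g * conj ((χ : G → ℂ) g) with hU
  have hUV : ∀ g, U g = (V g : ℂ) := fun g => Complex.mul_conj _
  have hconjU : ∀ g, conj (U g) = U g := fun g => by rw [hUV, Complex.conj_ofReal]
  have hUc : Cfsg.IsCharacter G U := CharInduce.IsChar.mul (CharBasic.IsIrr.isCharacter χ.2)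
    (CharInduce.IsChar.conj (CharBasic.IsIrr.isCharacter χ.2))
  have hUN : Cfsg.IsCharacter N (fun n : N => U n) := CharInduce.IsChar.res hUc N
  choose mW hmW using fun W : Cfsg.IrrCharacter G =>
    CharBasic.classInner_isChar_nat hUc (CharBasic.IsIrr.isCharacter W.2)
  choose b hb using fun ψ : Cfsg.IrrCharacter N =>
    CharBasic.classInner_isChar_nat hUN (CharBasic.IsIrr.isCharacter ψ.2)
  choose c hc using fun (W : Cfsg.IrrCharacter G) (ψ : Cfsg.IrrCharacter N) =>
    CharBasic.classInner_isChar_nat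
      (CharInduce.IsChar.res (CharBasic.IsIrr.isCharacter W.2) N)
      (CharBasic.IsIrr.isCharacter ψ.2)
  have hexpG : ∀ g, U g = ∑ W : Cfsg.IrrCharacter G, (mW W : ℂ) * (W : G → ℂ) g := fun g => by
    have h := congrFun (CharBasic.classFunction_expansion
      (CharBasic.IsChar.isClassFunction hUc)) g
    simpa [hmW] using h
  have hexpN : ∀ n : N, U n = ∑ ψ : Cfsg.IrrCharacter N, (b ψ : ℂ) * (ψ : N → ℂ) n := fun n => by
    have h := congrFun (CharBasic.classFunction_expansion
      (CharBasic.IsChar.isClassFunction hUN)) n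
    simpa [hb] using h
  have hexpW : ∀ (W : Cfsg.IrrCharacter G) (n : N),
      (W : G → ℂ) n = ∑ ψ : Cfsg.IrrCharacter N, (c W ψ : ℂ) * (ψ : N → ℂ) n := fun W n => by
    have h := congrFun (CharBasic.classFunction_expansion (CharBasic.IsChar.isClassFunction
      (CharInduce.IsChar.res (CharBasic.IsIrr.isCharacter W.2) N))) n
    simpa [hc] using h
  have hbsum : ∀ ψ, b ψ = ∑ W : Cfsg.IrrCharacter G, mW W * c W ψ := by
    intro ψ
    have h : Cfsg.classInner (fun n : N => U n) (ψ : N → ℂ) =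
        ∑ W : Cfsg.IrrCharacter G, (mW W : ℂ) *
          Cfsg.classInner (fun n : N => (W : G → ℂ) n) (ψ : N → ℂ) := by
      simp only [CharBasic.classInner_def, hexpG, Finset.sum_mul, Finset.mul_sum]
      rw [Finset.sum_comm]
      exact Finset.sum_congr rfl fun W _ => Finset.sum_congr rfl fun n _ => by ring
    simp only [hb, hc] at h
    exact_mod_cast h
  let one : Cfsg.IrrCharacter G := ⟨fun _ => 1, CharBasic.isIrrCharacter_one⟩
  let oneN : Cfsg.IrrCharacter N := ⟨fun _ => 1, CharBasic.isIrrCharacter_one⟩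
  have hm1' : mW one = 1 := by
    have h := hmW one
    have h2 := CharBasic.classInner_irr_self χ.2
    rw [CharBasic.classInner_def] at h2
    simp only [one, CharBasic.classInner_def, hU, map_one, mul_one] at h
    rw [h2] at h
    exact_mod_cast h.symm
  -- the two kinds of characters of `N`
  set K0 := (Finset.univ : Finset (Cfsg.IrrCharacter N)).filter
    fun ψ : Cfsg.IrrCharacter N => ∀ y ∈ (Pn : Subgroup N), (ψ : N → ℂ) y = (ψ : N → ℂ) 1 with hK0
  set K1 := (Finset.univ : Finset (Cfsg.IrrCharacter N)).filter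
    fun ψ : Cfsg.IrrCharacter N => ¬ ∀ y ∈ (Pn : Subgroup N), (ψ : N → ℂ) y = (ψ : N → ℂ) 1 with hK1
  have hsplit : ∀ {M : Type} [AddCommMonoid M] (F : Cfsg.IrrCharacter N → M),
      ∑ ψ : Cfsg.IrrCharacter N, F ψ = ∑ ψ ∈ K0, F ψ + ∑ ψ ∈ K1, F ψ := fun F =>
    (Finset.sum_filter_add_sum_filter_not _ _ F).symm
  have hK1' : ∀ ψ ∈ K1, ∃ y ∈ (Pn : Subgroup N), (ψ : N → ℂ) y ≠ (ψ : N → ℂ) 1 := fun ψ hψ => by
    have h := (Finset.mem_filter.1 hψ).2
    push Not at h
    exact h
  have hK0' : ∀ ψ ∈ K0, ∀ n : N, ∀ y : (Pn : Subgroup N),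
      (ψ : N → ℂ) (n * y) = (ψ : N → ℂ) n := fun ψ hψ n y => by
    obtain ⟨K, -, hmem, hmul⟩ := CharBasic.IsChar.exists_kernel (CharBasic.IsIrr.isCharacter ψ.2)
    exact hmul n y ((hmem _).2 ((Finset.mem_filter.1 hψ).2 y y.2))
  -- each nontrivial constituent moves `P`
  have hW1 : ∀ W : Cfsg.IrrCharacter G, W ≠ one → ∃ ψ ∈ K1, c W ψ ≠ 0 := by
    intro W hW
    by_contra hno
    push Not at hno
    obtain ⟨y, hy, hne⟩ := hmoves W (fun h => hW (Subtype.ext h))
    apply hne
    have hz : ∀ n : N, (W : G → ℂ) n = ∑ ψ ∈ K0, (c W ψ : ℂ) * (ψ : N → ℂ) n := fun n => by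
      rw [hexpW W n, hsplit,
        Finset.sum_eq_zero (s := K1) (fun ψ hψ => by rw [hno ψ hψ, Nat.cast_zero, zero_mul]),
        add_zero]
    rw [hz y, show (W : G → ℂ) 1 = (W : G → ℂ) ((1 : N) : G) from rfl, hz 1]
    exact Finset.sum_congr rfl fun ψ hψ => by rw [(Finset.mem_filter.1 hψ).2 y hy]
  set MW : Cfsg.IrrCharacter G → ℕ := fun W => ∑ ψ ∈ K1, c W ψ * b ψ with hMW
  have hsum1 : ∑ ψ ∈ K1, b ψ * b ψ = ∑ W : Cfsg.IrrCharacter G, mW W * MW W := by
    simp only [hMW, Finset.mul_sum]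
    rw [Finset.sum_comm]
    refine Finset.sum_congr rfl fun ψ _ => ?_
    conv_lhs => rw [hbsum ψ]
    rw [Finset.sum_mul]
    exact Finset.sum_congr rfl fun W _ => by rw [hbsum ψ]; ring
  have hbge : ∀ W ψ, mW W * c W ψ ≤ b ψ := fun W ψ => by
    rw [hbsum ψ]
    exact Finset.single_le_sum (f := fun W => mW W * c W ψ) (fun _ _ => Nat.zero_le _)
      (Finset.mem_univ W)
  have hMge : ∀ W, W ≠ one → mW W ≤ MW W := by
    intro W hW
    obtain ⟨ψ, hψ, hcψ⟩ := hW1 W hW
    refine le_trans ?_ (Finset.single_le_sum (f := fun ψ => c W ψ * b ψ)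
      (fun _ _ => Nat.zero_le _) hψ)
    calc mW W ≤ c W ψ * c W ψ * mW W :=
          Nat.le_mul_of_pos_left _ (Nat.mul_pos (Nat.pos_of_ne_zero hcψ) (Nat.pos_of_ne_zero hcψ))
      _ = c W ψ * (mW W * c W ψ) := by ring
      _ ≤ c W ψ * b ψ := Nat.mul_le_mul_left _ (hbge W ψ)
  set Sb := ∑ ψ : Cfsg.IrrCharacter N, b ψ * b ψ with hSb
  set Sm := ∑ W : Cfsg.IrrCharacter G, mW W * mW W with hSm
  set K2 := ∑ ψ ∈ K0, b ψ * b ψ with hK2
  have hgap : Sm + K2 ≤ Sb + 1 := by
    rw [hSb, hsplit, hSm, ← Finset.add_sum_erase _ _ (Finset.mem_univ one), hm1', hsum1,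
      ← Finset.add_sum_erase _ (fun W => mW W * MW W) (Finset.mem_univ one)]
    have : ∑ W ∈ Finset.univ.erase one, mW W * mW W ≤ ∑ W ∈ Finset.univ.erase one, mW W * MW W :=
      Finset.sum_le_sum fun W hW => Nat.mul_le_mul_left _ (hMge W (Finset.ne_of_mem_erase hW))
    omega
  -- values on `C`
  have hUvan : ∀ n : N, n ∉ Subgroup.centralizer ((Pn : Subgroup N) : Set N) → U n = 0 :=
    fun n hn => by
      show (χN : N → ℂ) n * _ = 0
      rw [apply_eq_zero_of_notMem Pn hst χN hχN hn, zero_mul]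
  have hQc : (Q : ℂ) ≠ 0 := Nat.cast_ne_zero.2 hQ0.ne'
  set uA : N → ℂ := fun a => ∑ i, f i a * conj (f i a) with huA
  have hu : ∀ a ∈ A, ∀ y : (Pn : Subgroup N),
      ∑ ψ ∈ K0, (b ψ : ℂ) * (ψ : N → ℂ) (a * y) = uA a := by
    intro a ha y
    rw [Finset.sum_congr rfl fun ψ hψ => by rw [hK0' ψ hψ a y]]
    apply mul_left_cancel₀ hQc
    calc (Q : ℂ) * ∑ ψ ∈ K0, (b ψ : ℂ) * (ψ : N → ℂ) a
        = ∑ y : (Pn : Subgroup N), U ((a * y : N) : G) := by
          simp only [hexpN]
          rw [Finset.sum_comm, hsplit, Finset.sum_eq_zero (s := K1) (fun ψ hψ => by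
            rw [← Finset.mul_sum, sum_coset_eq_zero _ ψ (hK1' ψ hψ), mul_zero]), add_zero,
            Finset.mul_sum]
          refine Finset.sum_congr rfl fun ψ hψ => ?_
          simp only [hK0' ψ hψ a, Finset.sum_const, Finset.card_univ, nsmul_eq_mul,
            ← Nat.card_eq_fintype_card]
          rw [hQ]
      _ = ∑ y : (Pn : Subgroup N), ∑ i, ∑ j, (f i a * conj (f j a)) * (l i y * conj (l j y)) := by
          refine Finset.sum_congr rfl fun y _ => ?_
          show (χN : N → ℂ) (a * y) * conj ((χN : N → ℂ) (a * y)) = _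
          rw [hdec a ha y, map_sum, Finset.sum_mul_sum]
          exact Finset.sum_congr rfl fun i _ => Finset.sum_congr rfl fun j _ => by
            rw [map_mul]; ring
      _ = (Q : ℂ) * uA a := by
          rw [Finset.sum_comm, huA, Finset.mul_sum]
          refine Finset.sum_congr rfl fun i _ => ?_
          rw [Finset.sum_comm]
          simp only [← Finset.mul_sum, horth, mul_ite, mul_zero, Finset.sum_ite_eq,
            Finset.mem_univ, if_true]
          rw [hQ, mul_comm]
  have hVA : ∀ a ∈ A, (χ : G → ℂ) (a : G) = ∑ i, f i a := fun a ha => by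
    have h := hdec a ha 1
    simp only [OneMemClass.coe_one, mul_one, hl1] at h
    exact h
  -- the norm of the part trivial on `P`
  have hK2eq : e * K2 = ∑ i, ∑ j, m i j := by
    have h : ((Nat.card N : ℂ)) * (K2 : ℂ) =
        ∑ n : N, U n * conj (∑ ψ ∈ K0, (b ψ : ℂ) * (ψ : N → ℂ) n) := by
      rw [hK2, Nat.cast_sum, Finset.mul_sum]
      simp only [map_sum, map_mul, Complex.conj_natCast, Finset.mul_sum]
      rw [Finset.sum_comm]
      refine Finset.sum_congr rfl fun ψ _ => ?_
      have h := hb ψ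
      rw [CharBasic.classInner_def, inv_mul_eq_iff_eq_mul₀ (Nat.cast_ne_zero.2 Nat.card_pos.ne')]
        at h
      rw [Nat.cast_mul, ← mul_assoc, ← h, Finset.sum_mul]
      exact Finset.sum_congr rfl fun n _ => by ring
    rw [sum_univ_of_vanish Pn (fun n : N => U n * conj (∑ ψ ∈ K0, (b ψ : ℂ) * (ψ : N → ℂ) n))
      (fun n hn => by rw [hUvan n hn, zero_mul]), sum_cset Pn hst] at h
    have h2 : ∀ a ∈ A, ∑ y : (Pn : Subgroup N),
        U ((a * y : N) : G) * conj (∑ ψ ∈ K0, (b ψ : ℂ) * (ψ : N → ℂ) (a * y)) =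
        (Q : ℂ) * (uA a * conj (uA a)) := by
      intro a ha
      rw [Finset.sum_congr rfl fun y _ => by rw [hu a ha y], ← Finset.sum_mul]
      have h3 := hu a ha 1
      rw [OneMemClass.coe_one, mul_one] at h3
      rw [← mul_assoc]
      congr 1
      simp only [hexpN]
      rw [Finset.sum_comm, hsplit, Finset.sum_eq_zero (s := K1) (fun ψ hψ => by
        rw [← Finset.mul_sum, sum_coset_eq_zero _ ψ (hK1' ψ hψ), mul_zero]), add_zero, ← h3,
        Finset.mul_sum]
      refine Finset.sum_congr rfl fun ψ hψ => ?_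
      simp only [hK0' ψ hψ a, Finset.sum_const, Finset.card_univ, nsmul_eq_mul,
        ← Nat.card_eq_fintype_card]
      rw [hQ]
    rw [Finset.sum_congr rfl h2, ← Finset.mul_sum] at h
    have h4 : ∑ a ∈ A, uA a * conj (uA a) = (A.card : ℂ) * ∑ i, ∑ j, (m i j : ℂ) := by
      simp only [huA, map_sum, map_mul, Complex.conj_conj, Finset.sum_mul_sum]
      rw [Finset.sum_comm, Finset.mul_sum]
      refine Finset.sum_congr rfl fun i _ => ?_
      rw [Finset.sum_comm, Finset.mul_sum]
      refine Finset.sum_congr rfl fun j _ => ?_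
      rw [← hm i j]
      exact Finset.sum_congr rfl fun a _ => by ring
    rw [h4, hcardN, Nat.cast_mul, Nat.cast_mul] at h
    have h5 : ((e * K2 : ℕ) : ℂ) = ((∑ i, ∑ j, m i j : ℕ) : ℂ) := by
      push_cast
      apply mul_left_cancel₀ (mul_ne_zero hQc (Nat.cast_ne_zero.2 hA0.ne' : (A.card : ℂ) ≠ 0))
      linear_combination h
    exact_mod_cast h5
  have hcl : ∀ {F : G → ℂ}, Cfsg.IsClassFunction G F →
      Cfsg.IsClassFunction G (fun g => F g * conj (F g)) := fun {F} hF g h => by
    show F _ * conj (F _) = _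
    rw [hF]
  -- the fundamental identity
  have hSmU : ∑ g : G, U g * conj (U g) = (Nat.card G : ℂ) * (Sm : ℂ) := by
    have h : Cfsg.classInner U U = (Sm : ℂ) := by
      rw [CharBasic.classInner_eq_sum (CharBasic.IsChar.isClassFunction hUc), hSm, Nat.cast_sum]
      refine Finset.sum_congr rfl fun W _ => ?_
      simp [hmW, ← CharBasic.classInner_conj_symm]
    rw [CharBasic.classInner_def, inv_mul_eq_iff_eq_mul₀ (Nat.cast_ne_zero.2 Nat.card_pos.ne')] at h
    exact h
  have hSbU : ∑ n : N, U n * conj (U n) = (Nat.card N : ℂ) * (Sb : ℂ) := by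
    have h : Cfsg.classInner (fun n : N => U n) (fun n : N => U n) = (Sb : ℂ) := by
      rw [CharBasic.classInner_eq_sum (CharBasic.IsChar.isClassFunction hUN), hSb, Nat.cast_sum]
      refine Finset.sum_congr rfl fun ψ _ => ?_
      simp [hb, ← CharBasic.classInner_conj_symm]
    rw [CharBasic.classInner_def, inv_mul_eq_iff_eq_mul₀ (Nat.cast_ne_zero.2 Nat.card_pos.ne')] at h
    exact h
  have hfund : (Nat.card N : ℂ) *
      ∑ g ∈ Finset.univ.filter (fun g : G => ¬ p ∣ orderOf g), U g * conj (U g) =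
      (Nat.card G : ℂ) * (∑ a ∈ A, U (a : G) * conj (U (a : G)) -
        (Nat.card N : ℂ) * ((Sb : ℂ) - (Sm : ℂ))) := by
    rw [card_mul_sum_regular P hstar (fun g => U g * conj (U g))
      (hcl (CharBasic.IsChar.isClassFunction hUc)), hSmU, hSbU,
      sum_regular_of_vanish Pn hst (fun n : N => U n * conj (U n))
        (fun n hn => by rw [hUvan n hn, zero_mul])]
    ring
  have hstrict : (Nat.card N : ℝ) * ((Sb : ℝ) - (Sm : ℝ)) < ∑ a ∈ A, V (a : G) ^ 2 := by
    set R := ∑ g ∈ Finset.univ.filter (fun g : G => ¬ p ∣ orderOf g), V g ^ 2 with hR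
    have hR0 : 0 < R := by
      refine lt_of_lt_of_le ?_ (Finset.single_le_sum (fun g _ => sq_nonneg (V g))
        (Finset.mem_filter.2 ⟨Finset.mem_univ (1 : G), by
          rw [orderOf_one]; exact hp.out.not_dvd_one⟩))
      refine pow_pos ?_ 2
      exact Complex.normSq_pos.2 (CharBasic.IsIrr.one_ne_zero χ.2)
    have h1 : (Nat.card N : ℝ) * R = (Nat.card G : ℝ) *
        (∑ a ∈ A, V (a : G) ^ 2 - (Nat.card N : ℝ) * ((Sb : ℝ) - (Sm : ℝ))) := by
      have h := hfund
      simp only [hconjU] at h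
      simp only [hUV, ← sq] at h
      apply Complex.ofReal_injective
      push_cast [hR]
      exact h
    have h2 : 0 < (Nat.card N : ℝ) * R := mul_pos (Nat.cast_pos.2 Nat.card_pos) hR0
    rw [h1] at h2
    have := (mul_pos_iff_of_pos_left (Nat.cast_pos.2 Nat.card_pos)).1 h2
    linarith
  -- bounds
  have hV2 : ∀ a ∈ A, V (a : G) ^ 2 ≤ (x : ℝ) ^ 2 * V (a : G) := fun a _ => by
    rw [sq]
    exact mul_le_mul_of_nonneg_right (normSq_le_degree_sq χ _) (Complex.normSq_nonneg _)
  have hmij : ∀ k : ℕ, (∀ i j, (if i = j then k else 1) ≤ m i j) →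
      e * (e - 1) + e * k ≤ e * K2 := by
    intro k hk
    rw [hK2eq]
    refine le_trans (le_of_eq ?_)
      (Finset.sum_le_sum fun i _ => Finset.sum_le_sum fun j _ => hk i j)
    have : ∀ i : Fin e, ∑ j : Fin e, (if i = j then k else 1) = k + (e - 1) := fun i => by
      rw [← Finset.add_sum_erase _ _ (Finset.mem_univ i), if_pos rfl]
      congr 1
      rw [Finset.sum_congr rfl (g := fun _ => 1) (fun j hj => if_neg (Finset.ne_of_mem_erase hj).symm),
        Finset.sum_const, Finset.card_erase_of_mem (Finset.mem_univ i), Finset.card_univ,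
        Fintype.card_fin, smul_eq_mul, mul_one]
    rw [Finset.sum_congr rfl fun i _ => this i, Finset.sum_const, Finset.card_univ,
      Fintype.card_fin, smul_eq_mul]
    ring
  have hK2ge : e ≤ K2 := by
    have h := hmij 1 (fun i j => by rw [ite_self]; exact hm1 i j)
    have h' : e * e ≤ e * K2 := by
      have : e * (e - 1) + e * 1 = e * e := by rw [← mul_add]; congr 1; omega
      omega
    exact Nat.le_of_mul_le_mul_left h' he0
  have hfinish : ∀ L : ℕ, ∑ a ∈ A, V (a : G) ≤ (L : ℝ) * A.card → L ≤ e * (Sb - Sm) → False := by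
    intro L hL hLle
    have hx2 : x ^ 2 < Q := by omega
    have h1 : (Nat.card N : ℝ) * ((Sb : ℝ) - (Sm : ℝ)) < (x : ℝ) ^ 2 * ((L : ℝ) * A.card) := by
      refine lt_of_lt_of_le hstrict ?_
      refine (Finset.sum_le_sum hV2).trans ?_
      rw [← Finset.mul_sum]
      exact mul_le_mul_of_nonneg_left hL (sq_nonneg _)
    have hle : Sm ≤ Sb := by omega
    rw [← Nat.cast_sub hle, hcardN] at h1
    have h2 : e * (Q * A.card) * (Sb - Sm) < x ^ 2 * (L * A.card) := by exact_mod_cast h1
    have h3 : x ^ 2 * (L * A.card) ≤ Q * (e * (Sb - Sm) * A.card) :=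
      Nat.mul_le_mul hx2.le (Nat.mul_le_mul_right _ hLle)
    have h4 : e * (Q * A.card) * (Sb - Sm) = Q * (e * (Sb - Sm) * A.card) := by ring
    omega
  have hVsum : ∑ a ∈ A, (V (a : G) : ℂ) = ∑ i, ∑ j, ∑ a ∈ A, f i a * conj (f j a) := by
    calc ∑ a ∈ A, (V (a : G) : ℂ) = ∑ a ∈ A, ∑ i, ∑ j, f i a * conj (f j a) :=
          Finset.sum_congr rfl fun a ha => by
            rw [← hUV, hU]
            show (χ : G → ℂ) (a : G) * conj ((χ : G → ℂ) (a : G)) = _
            rw [hVA a ha, map_sum, Finset.sum_mul_sum]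
      _ = _ := by rw [Finset.sum_comm]; exact Finset.sum_congr rfl fun i _ => Finset.sum_comm
  rcases Nat.lt_or_ge 1 d with hd1 | hd1
  · -- `d > 1`
    refine hfinish (e * e) ?_ ?_
    · have h1 : ∀ a ∈ A, V (a : G) ≤ (e : ℝ) * ∑ i, Complex.normSq (f i a) := fun a ha => by
        rw [hV]
        show Complex.normSq ((χ : G → ℂ) (a : G)) ≤ _
        rw [hVA a ha, Complex.normSq_eq_norm_sq]
        refine (pow_le_pow_left₀ (norm_nonneg _) (norm_sum_le _ _) 2).trans ?_
        refine sq_sum_le_card_mul_sum_sq.trans ?_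
        simp [Complex.normSq_eq_norm_sq]
      refine (Finset.sum_le_sum h1).trans (le_of_eq ?_)
      rw [← Finset.mul_sum, Finset.sum_comm]
      have h2 : ∀ i, ∑ a ∈ A, Complex.normSq (f i a) = (A.card : ℝ) := fun i => by
        have h := hfnorm i
        simp only [Complex.mul_conj] at h
        exact_mod_cast h
      simp only [h2, Finset.sum_const, Finset.card_univ, Fintype.card_fin, nsmul_eq_mul]
      push_cast
      ring
    · have h := hmij 2 (fun i j => by
        split_ifs with hij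
        · subst hij; exact hm2 hd1 i
        · exact hm1 i j)
      have h' : e * (e + 1) ≤ e * K2 := by
        have : e * (e - 1) + e * 2 = e * (e + 1) := by rw [← mul_add]; congr 1; omega
        omega
      have h'' := Nat.le_of_mul_le_mul_left h' he0
      exact Nat.mul_le_mul_left e (by omega)
  have hd : d = 1 := le_antisymm hd1 hd0
  have hxe : x = e := by rw [hxed, hd, mul_one]
  by_cases hall : ∀ i j, ∀ a ∈ A, f i a = f j a
  swap
  · -- not all equal
    push Not at hall
    obtain ⟨i₀, j₀, a₀, ha₀, hne₀⟩ := hall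
    refine hfinish (∑ i, (Finset.univ.filter fun j => ∀ a ∈ A, f i a = f j a).card) ?_ ?_
    · apply le_of_eq
      apply Complex.ofReal_injective
      push_cast
      rw [hVsum, Finset.sum_mul]
      refine Finset.sum_congr rfl fun i _ => ?_
      rw [← Finset.sum_filter_add_sum_filter_not Finset.univ (fun j => ∀ a ∈ A, f i a = f j a),
        Finset.sum_congr rfl (g := fun _ => ((A.card : ℕ) : ℂ)) (fun j hj => by
          rw [Finset.sum_congr rfl fun a ha => by rw [← (Finset.mem_filter.1 hj).2 a ha]]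
          exact hfnorm i),
        Finset.sum_eq_zero (fun j hj => (hlin hd i j).resolve_left (Finset.mem_filter.1 hj).2),
        add_zero, Finset.sum_const, nsmul_eq_mul]
    · refine le_trans ?_ (Nat.mul_le_mul_left e (show e - 1 ≤ Sb - Sm by omega))
      have h1 : ∀ i, (Finset.univ.filter fun j => ∀ a ∈ A, f i a = f j a).card ≤ e - 1 := by
        intro i
        have : ∃ j, ¬ ∀ a ∈ A, f i a = f j a := by
          by_contra hc
          push Not at hc
          exact hne₀ ((hc i₀ a₀ ha₀).symm.trans (hc j₀ a₀ ha₀))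
        obtain ⟨j, hj⟩ := this
        have hsub : (Finset.univ.filter fun j => ∀ a ∈ A, f i a = f j a) ⊆
            Finset.univ.erase j := fun k hk => Finset.mem_erase.2
          ⟨fun h => hj (h ▸ (Finset.mem_filter.1 hk).2), Finset.mem_univ _⟩
        simpa using Finset.card_le_card hsub
      refine (Finset.sum_le_sum fun i _ => h1 i).trans (le_of_eq ?_)
      simp
  -- the residual configuration
  have i₀ : Fin e := ⟨0, he0⟩
  have hfabs : ∀ a ∈ A, f i₀ a * conj (f i₀ a) = 1 := by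
    intro a ha
    have hle : ∀ a ∈ A, Complex.normSq (f i₀ a) ≤ (1 : ℝ) := fun a ha => by
      have h := hfle i₀ a ha
      rw [hd, Nat.cast_one] at h
      rw [Complex.normSq_eq_norm_sq]
      exact pow_le_one₀ (norm_nonneg _) h
    have h := hfnorm i₀
    simp only [Complex.mul_conj] at h
    have h2 : ∑ a ∈ A, Complex.normSq (f i₀ a) = ∑ a ∈ A, (1 : ℝ) := by
      rw [Finset.sum_const, nsmul_eq_mul, mul_one]
      exact_mod_cast h
    rw [Complex.mul_conj, (Finset.sum_eq_sum_iff_of_le hle).1 h2 a ha, Complex.ofReal_one]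
  have hUA : ∀ a ∈ A, U (a : G) = (e : ℂ) ^ 2 := fun a ha => by
    show (χ : G → ℂ) (a : G) * conj ((χ : G → ℂ) (a : G)) = _
    rw [hVA a ha, Finset.sum_congr rfl (fun i _ => hall i i₀ a ha), Finset.sum_const,
      Finset.card_univ, Fintype.card_fin, nsmul_eq_mul, map_mul, Complex.conj_natCast]
    linear_combination ((e : ℂ) ^ 2) * hfabs a ha
  have huAe : ∀ a ∈ A, uA a = (e : ℂ) := fun a ha => by
    show ∑ i, f i a * conj (f i a) = _
    rw [Finset.sum_congr rfl (g := fun _ => (1 : ℂ)) (fun i _ => by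
      rw [hall i i₀ a ha]; exact hfabs a ha)]
    simp
  have hVA2 : ∑ a ∈ A, V (a : G) ^ 2 = (A.card : ℝ) * (e : ℝ) ^ 4 := by
    rw [Finset.sum_congr rfl (g := fun _ => ((e : ℝ) ^ 4)) (fun a ha => ?_), Finset.sum_const,
      nsmul_eq_mul]
    have h := hUA a ha
    rw [hUV] at h
    have h2 : V (a : G) = (e : ℝ) ^ 2 := by exact_mod_cast h
    rw [h2]; ring
  have hkey : Q * (Sb - Sm) < e ^ 3 := by
    have h1 := hstrict
    have hle : Sm ≤ Sb := by omega
    rw [hVA2, ← Nat.cast_sub hle, hcardN] at h1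
    have h2 : e * (Q * A.card) * (Sb - Sm) < A.card * e ^ 4 := by exact_mod_cast h1
    have h4 : (Q * (Sb - Sm)) * (e * A.card) < e ^ 3 * (e * A.card) := by
      calc (Q * (Sb - Sm)) * (e * A.card) = e * (Q * A.card) * (Sb - Sm) := by ring
        _ < A.card * e ^ 4 := h2
        _ = e ^ 3 * (e * A.card) := by ring
    exact Nat.lt_of_mul_lt_mul_right h4
  have hdiv : e ∣ Q - 1 := by
    have h := index_dvd_card_sub_one Pn hst
    have h2 := (Subgroup.centralizer ((Pn : Subgroup N) : Set N)).card_mul_index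
    rw [← hecard, mul_comm e] at h2
    rwa [mul_left_cancel₀ Nat.card_pos.ne' h2] at h
  obtain ⟨k, hk⟩ := hdiv
  have hdegQ : e ^ 2 + 1 < Q := hxe ▸ hdeg'
  have hk1 : e + 1 ≤ k := by
    by_contra hc
    have : e * k ≤ e * e := Nat.mul_le_mul_left e (by omega)
    have : e ^ 2 = e * e := sq e
    omega
  have hSS : Sb - Sm = e - 1 := by
    refine le_antisymm ?_ (by omega)
    by_contra hc
    have h1 : Q * e ≤ Q * (Sb - Sm) := Nat.mul_le_mul_left Q (by omega)
    have h2 : e ^ 2 * e ≤ Q * e := Nat.mul_le_mul_right e (by omega)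
    have h3 : e ^ 3 = e ^ 2 * e := pow_succ e 2
    omega
  have hk2 : k = e + 1 := by
    refine le_antisymm ?_ hk1
    by_contra hc
    rw [hSS] at hkey
    have h2 : (e * (e + 2) + 1) * (e - 1) ≤ Q * (e - 1) := by
      refine Nat.mul_le_mul_right _ ?_
      have : e * (e + 2) ≤ e * k := Nat.mul_le_mul_left e (by omega)
      omega
    obtain ⟨e', rfl⟩ : ∃ e', e = e' + 2 := ⟨e - 2, by omega⟩
    rw [show e' + 2 - 1 = e' + 1 by omega] at h2 hkey
    nlinarith
  have hQe : Q = e * e + e + 1 := by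
    rw [hk2, mul_add, mul_one] at hk
    omega
  have hK2e : K2 = e := by omega
  have hslack : ∀ W, W ≠ one → mW W ≠ 0 → MW W = mW W := by
    intro W hW hm0
    have hle : ∀ V ∈ Finset.univ.erase one, mW V * mW V ≤ mW V * MW V :=
      fun V hV => Nat.mul_le_mul_left _ (hMge V (Finset.ne_of_mem_erase hV))
    have h : ∑ V ∈ Finset.univ.erase one, mW V * mW V =
        ∑ V ∈ Finset.univ.erase one, mW V * MW V := by
      have hM1 : MW one = 0 := by
        show ∑ ψ ∈ K1, c one ψ * b ψ = 0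
        refine Finset.sum_eq_zero fun ψ hψ => ?_
        have hne : ψ ≠ oneN := fun h => by
          obtain ⟨y, _, hy⟩ := hK1' ψ hψ
          rw [h] at hy
          exact hy rfl
        have h1 := hc one ψ
        rw [show Cfsg.classInner (fun n : N => (one : G → ℂ) n) (ψ : N → ℂ) = 0 from
          CharBasic.classInner_irr_of_ne oneN.2 ψ.2 (fun h => hne (Subtype.ext h.symm))] at h1
        rw [(Nat.cast_eq_zero.1 h1.symm), zero_mul]
      have e1 : Sm = 1 + ∑ V ∈ Finset.univ.erase one, mW V * mW V := by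
        rw [hSm, ← Finset.add_sum_erase _ _ (Finset.mem_univ one), hm1']
      have e2 : Sb = K2 + ∑ V ∈ Finset.univ.erase one, mW V * MW V := by
        rw [hSb, hsplit, hsum1, ← Finset.add_sum_erase _ _ (Finset.mem_univ one), hM1, mul_zero,
          zero_add]
      have := Finset.sum_le_sum hle
      omega
    have h2 := (Finset.sum_eq_sum_iff_of_le hle).1 h W (Finset.mem_erase.2 ⟨hW, Finset.mem_univ _⟩)
    exact (Nat.eq_of_mul_eq_mul_left (Nat.pos_of_ne_zero hm0) h2).symm
  -- a constituent with a `P`-fixed part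
  obtain ⟨ψ₀, hψ₀, hψ₀1, hbψ₀⟩ : ∃ ψ ∈ K0, ψ ≠ oneN ∧ b ψ ≠ 0 := by
    by_contra hc
    push Not at hc
    have h1 : oneN ∈ K0 := Finset.mem_filter.2 ⟨Finset.mem_univ _, fun _ _ => rfl⟩
    have h2 : b oneN = 1 := by
      have h := hb oneN
      have h3 := hres
      simp only [oneN, CharBasic.classInner_def, map_one, mul_one] at h h3
      simp only [hU] at h
      rw [← h3] at h
      exact_mod_cast h.symm
    rw [hK2, Finset.sum_eq_single oneN (fun ψ hψ hne => by rw [hc ψ hψ hne, mul_zero])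
      (fun h => absurd h1 h), h2] at hK2e
    omega
  obtain ⟨W, hmW0, hcW⟩ : ∃ W, mW W ≠ 0 ∧ c W ψ₀ ≠ 0 := by
    rw [hbsum] at hbψ₀
    obtain ⟨W, -, hW⟩ := Finset.exists_ne_zero_of_sum_ne_zero hbψ₀
    exact ⟨W, left_ne_zero_of_mul hW, right_ne_zero_of_mul hW⟩
  have hWone : W ≠ one := fun h => by
    apply hcW
    have h1 := hc W ψ₀
    rw [h, show Cfsg.classInner (fun n : N => (one : G → ℂ) n) (ψ₀ : N → ℂ) = 0 from
      CharBasic.classInner_irr_of_ne oneN.2 ψ₀.2 (fun h' => hψ₀1 (Subtype.ext h'.symm))] at h1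
    rw [h]
    exact Nat.cast_eq_zero.1 h1.symm
  obtain ⟨θ, hθ, hcθ⟩ := hW1 W hWone
  have hθone : c W θ = 1 ∧ b θ = mW W ∧ ∀ ψ ∈ K1, ψ ≠ θ → c W ψ = 0 := by
    have hM := hslack W hWone hmW0
    have hsq : ∑ ψ ∈ K1, c W ψ * c W ψ ≤ 1 := by
      refine Nat.le_of_mul_le_mul_left ?_ (Nat.pos_of_ne_zero hmW0)
      rw [mul_one, Finset.mul_sum]
      conv_rhs => rw [← hM]
      refine Finset.sum_le_sum fun ψ _ => ?_
      calc mW W * (c W ψ * c W ψ) = c W ψ * (mW W * c W ψ) := by ring
        _ ≤ c W ψ * b ψ := Nat.mul_le_mul_left _ (hbge W ψ)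
    rw [← Finset.add_sum_erase _ _ hθ] at hsq
    have hpos : 1 ≤ c W θ * c W θ := Nat.mul_pos (Nat.pos_of_ne_zero hcθ) (Nat.pos_of_ne_zero hcθ)
    have hrest : ∀ ψ ∈ K1, ψ ≠ θ → c W ψ = 0 := fun ψ hψ hne => mul_self_eq_zero.1
      (Finset.sum_eq_zero_iff.1 (show ∑ ψ ∈ K1.erase θ, c W ψ * c W ψ = 0 by omega) ψ
        (Finset.mem_erase.2 ⟨hne, hψ⟩))
    have hc1 : c W θ = 1 := Nat.eq_one_of_mul_eq_one_left (show c W θ * c W θ = 1 by omega)
    refine ⟨hc1, ?_, hrest⟩
    rw [← hM]
    show b θ = ∑ ψ ∈ K1, c W ψ * b ψ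
    rw [Finset.sum_eq_single θ (fun ψ hψ hne => by rw [hrest ψ hψ hne, zero_mul])
      (fun h => absurd hθ h), hc1, one_mul]
  obtain ⟨hcθ1, hbθ, hrest⟩ := hθone
  -- `W` on `C`
  have hdegψ : ∀ ψ : Cfsg.IrrCharacter N, (ψ : N → ℂ) 1 = ((Cfsg.charDegree (ψ : N → ℂ) : ℝ) : ℂ) :=
    fun ψ => by rw [BlockBasic.apply_one_eq_charDegree, Complex.ofReal_natCast]
  have hnle : ∀ (ψ : Cfsg.IrrCharacter N) (n : N),
      ‖(ψ : N → ℂ) n‖ ≤ (Cfsg.charDegree (ψ : N → ℂ) : ℝ) := fun ψ n => by
    refine (CharBasic.IsChar.norm_le (CharBasic.IsIrr.isCharacter ψ.2) n).trans ?_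
    rw [BlockBasic.apply_one_eq_charDegree, Complex.norm_natCast]
  have h1A : (1 : N) ∈ A := one_mem_aset Pn
  have hconst0 : ∀ a ∈ A, ∀ y : (Pn : Subgroup N), ∀ ψ ∈ K0, b ψ ≠ 0 →
      (ψ : N → ℂ) (a * y) = (ψ : N → ℂ) 1 := by
    intro a ha y ψ hψ hb0
    rw [hdegψ ψ]
    refine eq_of_sum_eq_bound K0 b (fun ψ => (ψ : N → ℂ) (a * y))
      (fun ψ => (Cfsg.charDegree (ψ : N → ℂ) : ℝ)) (fun ψ _ => hnle ψ _) ?_ ψ hψ hb0
    rw [hu a ha y, huAe a ha, ← huAe 1 h1A, ← hu 1 h1A 1]
    exact Finset.sum_congr rfl fun ψ _ => by rw [OneMemClass.coe_one, mul_one, hdegψ ψ]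
  set κ := ∑ ψ ∈ K0, c W ψ * Cfsg.charDegree (ψ : N → ℂ) with hκ
  have hκ1 : 1 ≤ κ := le_trans (Nat.mul_pos (Nat.pos_of_ne_zero hcW) (BlockBasic.charDegree_pos ψ₀))
    (Finset.single_le_sum (f := fun ψ : Cfsg.IrrCharacter N =>
      c W ψ * Cfsg.charDegree (ψ : N → ℂ)) (fun _ _ => Nat.zero_le _) hψ₀)
  have hWval : ∀ a ∈ A, ∀ y : (Pn : Subgroup N),
      (W : G → ℂ) ((a * y : N) : G) = (κ : ℂ) + (θ : N → ℂ) (a * y) := by
    intro a ha y
    rw [hexpW W, hsplit, hκ, Nat.cast_sum]
    congr 1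
    · refine Finset.sum_congr rfl fun ψ hψ => ?_
      rw [Nat.cast_mul, ← BlockBasic.apply_one_eq_charDegree]
      rcases eq_or_ne (c W ψ) 0 with h | h
      · rw [h, Nat.cast_zero, zero_mul, zero_mul]
      · rw [hconst0 a ha y ψ hψ fun hb0 => h (by
          have := hbge W ψ
          rw [hb0, Nat.le_zero] at this
          exact (Nat.mul_eq_zero.1 this).resolve_left hmW0)]
    · rw [Finset.sum_eq_single θ (fun ψ hψ hne => by rw [hrest ψ hψ hne, Nat.cast_zero, zero_mul])
        (fun h => absurd hθ h), hcθ1, Nat.cast_one, one_mul]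
  have hθA : ∀ a ∈ A, (θ : N → ℂ) a = (θ : N → ℂ) 1 := by
    intro a ha
    rw [hdegψ θ]
    have hsum : ∀ a ∈ A, ∑ ψ ∈ K1, (b ψ : ℂ) * (ψ : N → ℂ) a = (e : ℂ) ^ 2 - (e : ℂ) := by
      intro a ha
      have h := hexpN a
      rw [hsplit, hUA a ha] at h
      have h2 := hu a ha 1
      rw [OneMemClass.coe_one, mul_one, huAe a ha] at h2
      rw [h2] at h
      linear_combination (-1 : ℂ) * h
    refine eq_of_sum_eq_bound K1 b (fun ψ => (ψ : N → ℂ) a)
      (fun ψ => (Cfsg.charDegree (ψ : N → ℂ) : ℝ)) (fun ψ _ => hnle ψ _) ?_ θ hθ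
      (hbθ ▸ hmW0)
    rw [hsum a ha, ← hsum 1 h1A]
    exact Finset.sum_congr rfl fun ψ _ => by rw [hdegψ ψ]
  have hθe : (θ : N → ℂ) 1 = (e : ℂ) := by
    obtain ⟨e', d', f', l', hd0', hecard', hdeg'', hdec', -, hl1', hf1', hfle', hfnorm', -, -⟩ :=
      exists_decomp Pn hst θ (hK1' θ hθ)
    have hee : e' = e := Nat.eq_of_mul_eq_mul_right Nat.card_pos (hecard'.trans hecard.symm)
    have hf' : ∀ a ∈ A, ∀ i, f' i a = ((d' : ℝ) : ℂ) := by
      intro a ha i
      refine eq_of_sum_eq_bound Finset.univ (fun _ => 1) (fun i => f' i a) (fun _ => (d' : ℝ))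
        (fun i _ => hfle' i a ha) ?_ i (Finset.mem_univ _) one_ne_zero
      have h := hdec' a ha 1
      simp only [OneMemClass.coe_one, mul_one, hl1'] at h
      simp only [Nat.cast_one, one_mul]
      rw [← h, hθA a ha, BlockBasic.apply_one_eq_charDegree, hdeg'']
      simp
    have i' : Fin e' := ⟨0, hee ▸ he0⟩
    have h := hfnorm' i'
    rw [Finset.sum_congr rfl (g := fun _ => ((d' : ℂ)) ^ 2) (fun a ha => by
      rw [hf' a ha i', Complex.conj_ofReal, Complex.ofReal_natCast, sq]), Finset.sum_const,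
      nsmul_eq_mul] at h
    have h2 : A.card * d' ^ 2 = A.card := by exact_mod_cast h
    have hd' : d' = 1 := (pow_eq_one_iff.1 ((Nat.mul_eq_left hA0.ne').1 h2)).resolve_right two_ne_zero
    rw [BlockBasic.apply_one_eq_charDegree, hdeg'', hd', hee, mul_one]
  have hθvan : ∀ n : N, n ∉ Subgroup.centralizer ((Pn : Subgroup N) : Set N) →
      (θ : N → ℂ) n = 0 := fun n hn => apply_eq_zero_of_notMem Pn hst θ (hK1' θ hθ) hn
  have hθC : ∑ n ∈ cset Pn, (θ : N → ℂ) n = 0 := by
    rw [sum_cset Pn hst]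
    exact Finset.sum_eq_zero fun a _ => sum_coset_eq_zero _ θ (hK1' θ hθ) a
  have hθθ : ∑ n ∈ cset Pn, (θ : N → ℂ) n * conj ((θ : N → ℂ) n) = (Nat.card N : ℂ) := by
    rw [← sum_univ_of_vanish Pn (fun n => (θ : N → ℂ) n * conj ((θ : N → ℂ) n))
      (fun n hn => by rw [hθvan n hn, zero_mul])]
    have h := CharBasic.classInner_irr_self θ.2
    rw [CharBasic.classInner_def, inv_mul_eq_one₀ (Nat.cast_ne_zero.2 Nat.card_pos.ne')] at h
    exact h.symm
  have hCc : ((cset Pn).card : ℂ) = (Q : ℂ) * (A.card : ℂ) := by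
    rw [card_cset, card_centralizer_eq_mul Pn hst, Nat.cast_mul]
  have hWC : ∀ n ∈ cset Pn, (W : G → ℂ) n = (κ : ℂ) + (θ : N → ℂ) n := by
    intro n hn
    obtain ⟨a, y, ha, rfl⟩ : ∃ a : N, ∃ y : (Pn : Subgroup N), a ∈ A ∧ a * (y : N) = n := by
      by_contra hc
      push Not at hc
      have h := sum_cset Pn hst (fun c : N => if c = n then (1 : ℂ) else 0)
      rw [Finset.sum_ite_eq' (cset Pn) n, if_pos hn, Finset.sum_eq_zero (fun a ha =>
        Finset.sum_eq_zero fun y _ => if_neg (hc a y ha))] at h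
      exact one_ne_zero h
    exact hWval a ha y
  have hWA : ∀ a ∈ A, (W : G → ℂ) (a : G) = (κ : ℂ) + (e : ℂ) := fun a ha => by
    have h := hWval a ha 1
    simp only [OneMemClass.coe_one, mul_one] at h
    rw [h, hθA a ha, hθe]
  have hsingW : ∀ F : N → ℂ, (∀ n, n ∈ cset Pn ∨ ¬ p ∣ orderOf n) →
      ∑ n : N, F n - ∑ n ∈ Finset.univ.filter (fun n : N => ¬ p ∣ orderOf n), F n =
        ∑ n ∈ cset Pn, F n - ∑ a ∈ A, F a := by
    intro F hh
    have e1 := Finset.sum_filter_add_sum_filter_not (Finset.univ : Finset N)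
      (fun n => ¬ p ∣ orderOf n) F
    have e2 := Finset.sum_filter_add_sum_filter_not (cset Pn) (fun n => ¬ p ∣ orderOf n) F
    have h3 : (cset Pn).filter (fun n => ¬ p ∣ orderOf n) = A := by
      ext n
      simp [hA, mem_aset, mem_cset]
    have h4 : (cset Pn).filter (fun n => ¬¬ p ∣ orderOf n) =
        (Finset.univ : Finset N).filter (fun n => ¬¬ p ∣ orderOf n) := by
      ext n
      simp only [Finset.mem_filter, Finset.mem_univ, true_and, and_iff_right_iff_imp]
      exact fun hn => (hh n).resolve_right hn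
    rw [h3, h4] at e2
    linear_combination e2 - e1
  have hhalf : ∀ n : N, n ∈ cset Pn ∨ ¬ p ∣ orderOf n := fun n => by
    by_cases hn : n ∈ Subgroup.centralizer ((Pn : Subgroup N) : Set N)
    · exact Or.inl ((mem_cset Pn).2 hn)
    · exact Or.inr (not_dvd_orderOf_of_notMem Pn hst hn)
  set Reg := Finset.univ.filter (fun g : G => ¬ p ∣ orderOf g) with hReg
  have hRW : (Nat.card N : ℂ) * ∑ g ∈ Reg, (W : G → ℂ) g * conj ((W : G → ℂ) g) =
      (Nat.card G : ℂ) * (A.card : ℂ) * (((κ : ℂ) + e) ^ 2 - (Q : ℂ) * (κ : ℂ) ^ 2) := by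
    rw [hReg, card_mul_sum_regular P hstar _ (hcl (CharBasic.IsIrr.isClassFunction W.2)),
      hsingW (fun n => (W : G → ℂ) n * conj ((W : G → ℂ) n)) hhalf]
    have h1 : ∑ g : G, (W : G → ℂ) g * conj ((W : G → ℂ) g) = (Nat.card G : ℂ) := by
      have h := CharBasic.classInner_irr_self W.2
      rw [CharBasic.classInner_def, inv_mul_eq_one₀ (Nat.cast_ne_zero.2 Nat.card_pos.ne')] at h
      exact h.symm
    have h2 : ∑ n ∈ cset Pn, (W : G → ℂ) n * conj ((W : G → ℂ) n) =
        (Q : ℂ) * A.card * (κ : ℂ) ^ 2 + (Nat.card N : ℂ) := by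
      rw [Finset.sum_congr rfl (g := fun n => (κ : ℂ) ^ 2 + (κ : ℂ) * (θ : N → ℂ) n +
        (κ : ℂ) * conj ((θ : N → ℂ) n) + (θ : N → ℂ) n * conj ((θ : N → ℂ) n)) (fun n hn => by
          rw [hWC n hn, map_add, Complex.conj_natCast]; ring)]
      rw [Finset.sum_add_distrib, Finset.sum_add_distrib, Finset.sum_add_distrib,
        ← Finset.mul_sum, ← Finset.mul_sum, ← map_sum, hθC, hθθ, Finset.sum_const, nsmul_eq_mul,
        hCc, map_zero]
      ring
    have h3 : ∑ a ∈ A, (W : G → ℂ) (a : G) * conj ((W : G → ℂ) (a : G)) =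
        (A.card : ℂ) * ((κ : ℂ) + e) ^ 2 := by
      rw [Finset.sum_congr rfl (g := fun _ => ((κ : ℂ) + e) ^ 2) (fun a ha => by
        rw [hWA a ha, map_add, Complex.conj_natCast, Complex.conj_natCast, sq]), Finset.sum_const,
        nsmul_eq_mul]
    rw [h1, h2, h3]
    ring
  have hRUW : (Nat.card N : ℂ) * ∑ g ∈ Reg, U g * conj ((W : G → ℂ) g) =
      (Nat.card G : ℂ) * (A.card : ℂ) *
        ((e : ℂ) ^ 2 * ((κ : ℂ) + e) - (e : ℂ) * Q * κ) := by
    rw [hReg, card_mul_sum_regular P hstar (fun g => U g * conj ((W : G → ℂ) g)) (fun g h => by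
        show U _ * conj ((W : G → ℂ) _) = _
        rw [CharBasic.IsIrr.isClassFunction W.2 g h, CharBasic.IsChar.isClassFunction hUc g h]),
      hsingW (fun n => U n * conj ((W : G → ℂ) n)) hhalf]
    have h1 : ∑ g : G, U g * conj ((W : G → ℂ) g) = (Nat.card G : ℂ) * (mW W : ℂ) := by
      have h := hmW W
      rw [CharBasic.classInner_def, inv_mul_eq_iff_eq_mul₀ (Nat.cast_ne_zero.2 Nat.card_pos.ne')]
        at h
      exact h
    have hUC : ∑ n ∈ cset Pn, U n = (Nat.card N : ℂ) := by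
      rw [← sum_univ_of_vanish Pn (fun n : N => U n) hUvan]
      have h := hres
      rw [CharBasic.classInner_def, eq_comm,
        inv_mul_eq_one₀ (Nat.cast_ne_zero.2 Nat.card_pos.ne')] at h
      exact h.symm
    have hUθ : ∑ n ∈ cset Pn, U n * conj ((θ : N → ℂ) n) = (Nat.card N : ℂ) * (mW W : ℂ) := by
      rw [← sum_univ_of_vanish Pn (fun n : N => U n * conj ((θ : N → ℂ) n))
        (fun n hn => by rw [hUvan n hn, zero_mul])]
      have h := hb θ
      rw [CharBasic.classInner_def, inv_mul_eq_iff_eq_mul₀ (Nat.cast_ne_zero.2 Nat.card_pos.ne')]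
        at h
      rw [h, hbθ]
    have h2 : ∑ n ∈ cset Pn, U n * conj ((W : G → ℂ) n) =
        (κ : ℂ) * (Nat.card N : ℂ) + (Nat.card N : ℂ) * (mW W : ℂ) := by
      rw [Finset.sum_congr rfl (g := fun n : N => (κ : ℂ) * U n + U n * conj ((θ : N → ℂ) n))
        (fun n hn => by rw [hWC n hn, map_add, Complex.conj_natCast]; ring),
        Finset.sum_add_distrib, ← Finset.mul_sum, hUC, hUθ]
    have h3 : ∑ a ∈ A, U (a : G) * conj ((W : G → ℂ) (a : G)) =
        (A.card : ℂ) * ((e : ℂ) ^ 2 * ((κ : ℂ) + e)) := by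
      rw [Finset.sum_congr rfl (g := fun _ => (e : ℂ) ^ 2 * ((κ : ℂ) + e)) (fun a ha => by
        rw [hWA a ha, hUA a ha, map_add, Complex.conj_natCast, Complex.conj_natCast]),
        Finset.sum_const, nsmul_eq_mul]
    rw [h1, h2, h3, hcardN]
    push_cast
    ring
  have hκe : κ = 1 := by
    by_contra hne
    have hκ2 : 2 ≤ κ := by omega
    have h1 : (0 : ℝ) ≤ (Nat.card G : ℝ) * (A.card : ℝ) *
        (((κ : ℝ) + e) ^ 2 - (Q : ℝ) * (κ : ℝ) ^ 2) := by
      have h : ((Nat.card G : ℝ) * (A.card : ℝ) *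
          (((κ : ℝ) + e) ^ 2 - (Q : ℝ) * (κ : ℝ) ^ 2) : ℝ) =
          (Nat.card N : ℝ) * ∑ g ∈ Reg, Complex.normSq ((W : G → ℂ) g) := by
        apply Complex.ofReal_injective
        push_cast
        rw [← hRW]
        simp only [Complex.mul_conj]
      rw [h]
      exact mul_nonneg (Nat.cast_nonneg _) (Finset.sum_nonneg fun g _ => Complex.normSq_nonneg _)
    have h2 : (0 : ℝ) < (Nat.card G : ℝ) * (A.card : ℝ) :=
      mul_pos (Nat.cast_pos.2 Nat.card_pos) (Nat.cast_pos.2 hA0)
    have h3 := (mul_nonneg_iff_of_pos_left h2).1 h1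
    rw [hQe] at h3
    push_cast at h3
    have hk2' : (2 : ℝ) ≤ κ := by exact_mod_cast hκ2
    have he' : (2 : ℝ) ≤ e := by exact_mod_cast he2
    have hpos : (0 : ℝ) ≤ ((e : ℝ) * e + e) * κ := by positivity
    nlinarith [mul_le_mul_of_nonneg_right hk2' hpos,
      mul_le_mul_of_nonneg_left hk2' (by positivity : (0 : ℝ) ≤ (e : ℝ) * e)]
  -- the contradiction
  have hRU : (Nat.card N : ℂ) * ∑ g ∈ Reg, U g * conj (U g) =
      (Nat.card G : ℂ) * (A.card : ℂ) * e := by
    rw [hReg, hfund, Finset.sum_congr rfl (g := fun _ => ((e : ℂ) ^ 2) * (e : ℂ) ^ 2) (fun a ha => by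
      rw [hconjU, hUA a ha]), Finset.sum_const, nsmul_eq_mul, hcardN]
    have hS : (Sb : ℂ) - (Sm : ℂ) = (e : ℂ) - 1 := by
      have h : Sb + 1 = Sm + e := by omega
      have h' : ((Sb + 1 : ℕ) : ℂ) = ((Sm + e : ℕ) : ℂ) := by rw [h]
      push_cast at h'
      linear_combination h'
    rw [hS, hQe]
    push_cast
    ring
  have hRWU : (Nat.card N : ℂ) * ∑ g ∈ Reg, (W : G → ℂ) g * conj (U g) =
      (Nat.card G : ℂ) * (A.card : ℂ) * ((e : ℂ) ^ 2 * ((κ : ℂ) + e) - (e : ℂ) * Q * κ) := by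
    have h := congrArg conj hRUW
    simp only [map_mul, map_sum, map_sub, map_add, map_pow, Complex.conj_natCast,
      Complex.conj_conj] at h
    rw [← h]
    congr 1
    exact Finset.sum_congr rfl fun g _ => by ring
  have hzero : ∑ g ∈ Reg, Complex.normSq (U g + (W : G → ℂ) g) = 0 := by
    have h : ((Nat.card N : ℂ)) *
        ((∑ g ∈ Reg, Complex.normSq (U g + (W : G → ℂ) g) : ℝ) : ℂ) = 0 := by
      rw [Complex.ofReal_sum,
        Finset.sum_congr rfl (g := fun g => U g * conj (U g) + U g * conj ((W : G → ℂ) g) +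
          (W : G → ℂ) g * conj (U g) + (W : G → ℂ) g * conj ((W : G → ℂ) g)) (fun g _ => by
            rw [← Complex.mul_conj, map_add]; ring),
        Finset.sum_add_distrib, Finset.sum_add_distrib, Finset.sum_add_distrib, mul_add, mul_add,
        mul_add, hRU, hRUW, hRWU, hRW, hκe, hQe]
      push_cast
      ring
    rcases mul_eq_zero.1 h with h' | h'
    · exact absurd h' (Nat.cast_ne_zero.2 Nat.card_pos.ne')
    · exact_mod_cast h'
  have h1 := (Finset.sum_eq_zero_iff_of_nonneg fun g _ => Complex.normSq_nonneg _).1 hzero 1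
    (Finset.mem_filter.2 ⟨Finset.mem_univ _, by rw [orderOf_one]; exact hp.out.not_dvd_one⟩)
  rw [Complex.normSq_eq_zero, hU] at h1
  simp only [BlockBasic.apply_one_eq_charDegree, Complex.conj_natCast] at h1
  have h2 : x * x + Cfsg.charDegree (W : G → ℂ) = 0 := by exact_mod_cast h1
  have := BlockBasic.charDegree_pos W
  omega

end Global

/-- S4486. -/
theorem proper_normal_or_linear {G : Type*} [Group G] [Finite G] {p : ℕ} [hp : Fact p.Prime]
    (P : Sylow p G)
    (hstar : ∀ x ∈ (P : Subgroup G), x ≠ 1 → Subgroup.centralizer ({x} : Set G) =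
      Subgroup.centralizer ((P : Subgroup G) : Set G))
    (n : ℕ) (hn : Nat.card (P : Subgroup G) = p ^ n) (χ : Cfsg.IrrCharacter G)
    (h1 : (χ : G → ℂ) ≠ fun _ => 1)
    (hdeg : Cfsg.charDegree (χ : G → ℂ) ^ 2 + 1 < p ^ n) :
    (∃ K : Subgroup G, K.Normal ∧ K ≠ ⊤ ∧ (P : Subgroup G) ≤ K) ∨
      ((∃ N : Subgroup G, N.Normal ∧ N.index = p ^ n) ∧
        Cfsg.charDegree (χ : G → ℂ) = 1) := by
  by_cases hex : ∃ K : Subgroup G, K.Normal ∧ K ≠ ⊤ ∧ (P : Subgroup G) ≤ K
  · exact Or.inl hex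
  right
  obtain ⟨hx, hle⟩ := linear_and_normalizer_of_small P hstar (fun K hK hPK => by
    by_contra h; exact hex ⟨K, hK, h, hPK⟩) χ h1 (hn.symm ▸ hdeg)
  refine ⟨⟨MonoidHom.ker (MonoidHom.transferSylow P hle), inferInstance, ?_⟩, hx⟩
  rw [(MonoidHom.ker_transferSylow_isComplement' P hle).symm.index_eq_card, hn]

/-- S4485. -/
theorem normal_of_small_faithful_selfcentral {G : Type*} [Group G] [Finite G] {p : ℕ}
    [hp : Fact p.Prime] (P : Sylow p G)
    (hstar : ∀ x ∈ (P : Subgroup G), x ≠ 1 → Subgroup.centralizer ({x} : Set G) =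
      Subgroup.centralizer ((P : Subgroup G) : Set G))
    (χ : G → ℂ) (hχ : Cfsg.IsCharacter G χ) (hfaith : ∀ g : G, χ g = χ 1 → g = 1)
    (hdeg : Cfsg.charDegree χ ^ 2 + 1 < Nat.card (P : Subgroup G)) :
    (P : Subgroup G).Normal := by
  induction hN : Nat.card G using Nat.strong_induction_on generalizing G with
  | _ N ih =>
    classical
    set K := Subgroup.normalClosure ((P : Subgroup G) : Set G) with hK
    have hPK : (P : Subgroup G) ≤ K := Subgroup.subset_normalClosure
    by_cases hKtop : K = ⊤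
    · -- minimal case: every constituent is linear
      have hgen : ∀ L : Subgroup G, L.Normal → (P : Subgroup G) ≤ L → L = ⊤ := fun L hL hPL =>
        top_le_iff.1 (hKtop ▸ Subgroup.normalClosure_le_normal hPL)
      cases nonempty_fintype G
      choose b hb using fun ξ : Cfsg.IrrCharacter G =>
        CharBasic.classInner_isChar_nat hχ (CharBasic.IsIrr.isCharacter ξ.2)
      have hval : ∀ g, χ g = ∑ ξ : Cfsg.IrrCharacter G, (b ξ : ℂ) * (ξ : G → ℂ) g := fun g => by
        have h := congrFun (CharBasic.classFunction_expansion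
          (CharBasic.IsChar.isClassFunction hχ)) g
        simpa [hb] using h
      have hd : Cfsg.charDegree χ =
          ∑ ξ : Cfsg.IrrCharacter G, b ξ * Cfsg.charDegree (ξ : G → ℂ) := by
        have h := hval 1
        simp only [BlockBasic.apply_one_eq_charDegree] at h
        have h2 : χ 1 = ((∑ ξ : Cfsg.IrrCharacter G, b ξ * Cfsg.charDegree (ξ : G → ℂ) : ℕ) : ℂ) := by
          rw [h]; push_cast; rfl
        rw [Cfsg.charDegree, h2, Complex.natCast_re, Nat.floor_natCast]
      have hlin : ∀ ξ : Cfsg.IrrCharacter G, b ξ ≠ 0 → Cfsg.charDegree (ξ : G → ℂ) = 1 := by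
        intro ξ hξ
        by_cases hone : (ξ : G → ℂ) = fun _ => 1
        · rw [hone]; simp [Cfsg.charDegree]
        refine (linear_and_normalizer_of_small P hstar hgen ξ hone ?_).1
        refine lt_of_le_of_lt ?_ hdeg
        have h : Cfsg.charDegree (ξ : G → ℂ) ≤ Cfsg.charDegree χ := by
          rw [hd]
          refine le_trans (Nat.le_mul_of_pos_left _ (Nat.pos_of_ne_zero hξ))
            (Finset.single_le_sum (f := fun ξ : Cfsg.IrrCharacter G =>
              b ξ * Cfsg.charDegree (ξ : G → ℂ)) (fun _ _ => Nat.zero_le _) (Finset.mem_univ ξ))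
        exact Nat.add_le_add_right (Nat.pow_le_pow_left h 2) 1
      have hcomm : ∀ a b' : G, a * b' = b' * a := by
        intro a b'
        refine commutatorElement_eq_one_iff_mul_comm.1 (hfaith _ ?_)
        rw [hval, hval 1]
        refine Finset.sum_congr rfl fun ξ _ => ?_
        rcases eq_or_ne (b ξ) 0 with h0 | h0
        · rw [h0, Nat.cast_zero, zero_mul, zero_mul]
        · obtain ⟨l, hl⟩ := CharInduce.IsChar.exists_hom_of_degree_one
            (CharBasic.IsIrr.isCharacter ξ.2)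
            (by rw [BlockBasic.apply_one_eq_charDegree, hlin ξ h0, Nat.cast_one])
          rw [hl, hl, map_one, map_commutatorElement,
            commutatorElement_eq_one_iff_commute.2 (Commute.all _ _)]
      exact ⟨fun y hy g => by rwa [hcomm g y, mul_inv_cancel_right]⟩
    · have hlt : Nat.card K < N := by
        rw [← hN]
        refine lt_of_le_of_ne (Subgroup.card_le_card_group K) fun h => hKtop ?_
        exact Subgroup.eq_top_of_card_eq K h
      set Pk : Sylow p K := P.subtype hPK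
      have hk := ih _ hlt Pk (fun y hy hy1 => ?_) (fun k : K => χ k) (CharInduce.IsChar.res hχ K)
        (fun k hk => Subtype.ext (hfaith k hk)) ?_ rfl
      · have hmap : ((Pk : Subgroup K).map K.subtype) = (P : Subgroup G) := by
          rw [Sylow.coe_subtype, Subgroup.map_subgroupOf_eq_of_le hPK]
        haveI : (Pk : Subgroup K).Characteristic := Sylow.characteristic_of_normal Pk hk
        rw [← hmap]
        infer_instance
      · have hy' : (y : G) ∈ (P : Subgroup G) := hy
        have h := hstar y hy' (fun h => hy1 (Subtype.ext h))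
        ext z
        rw [Subgroup.mem_centralizer_singleton_iff, Subgroup.mem_centralizer_iff]
        constructor
        · intro hz w hw
          have hz' : (z : G) ∈ Subgroup.centralizer ({(y : G)} : Set G) := by
            rw [Subgroup.mem_centralizer_singleton_iff]; exact congrArg Subtype.val hz
          rw [h] at hz'
          exact Subtype.ext (Subgroup.mem_centralizer_iff.1 hz' _ hw)
        · intro hz
          exact (hz y hy).symm
      · rw [show Nat.card (Pk : Subgroup K) = Nat.card (P : Subgroup G) by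
          rw [Sylow.coe_subtype]
          exact Nat.card_congr (Subgroup.subgroupOfEquivOfLe hPK).toEquiv]
        exact hdeg

end Cfsg.Agent.H84
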