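import Cfsg.Agent.H84.ClassProd

/-!
# Classes separated by a `p`-subgroup give large degrees
-/

open scoped ComplexConjugate
open MonoidAlgebra

namespace Cfsg.Agent.H84

open Cfsg.Agent.BlockBasic

variable {G : Type*} [Group G] [Finite G] {p : ℕ} [hp : Fact p.Prime]

omit [Finite G] hp in
theorem centralizer_inv (x : G) :
    Subgroup.centralizer ({x⁻¹} : Set G) = Subgroup.centralizer ({x} : Set G) := by
  ext y
  rw [Subgroup.mem_centralizer_singleton_iff, Subgroup.mem_centralizer_singleton_iff]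
  exact ⟨fun h => by simpa using (Commute.inv_right (show Commute y x⁻¹ from h)).eq,
    fun h => (Commute.inv_right (show Commute y x from h)).eq⟩

omit [Finite G] hp in
theorem isConj_inv_inv {x y : G} (h : IsConj x y) : IsConj x⁻¹ y⁻¹ := by
  obtain ⟨c, rfl⟩ := isConj_iff.1 h
  exact isConj_iff.2 ⟨c, by group⟩

omit hp in
theorem sum_subgroup_eq_mul (χ : Cfsg.IrrCharacter G) (P : Subgroup G) [Fintype P] :
    ∃ m : ℕ, ∑ z : P, conj ((χ : G → ℂ) z) = (Nat.card P : ℂ) * m := by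
  obtain ⟨m, hm⟩ := CharBasic.classInner_isChar_nat
    (CharBasic.IsIrr.isCharacter (CharBasic.isIrrCharacter_one (G := P)))
    (CharInduce.IsChar.res (CharBasic.IsIrr.isCharacter χ.2) P)
  refine ⟨m, ?_⟩
  rw [← hm, Cfsg.classInner, mul_inv_cancel_left₀ (Nat.cast_ne_zero.2 Nat.card_pos.ne')]
  simp

/-- If no quotient of two conjugates of `x` is a nontrivial element of the `p`-subgroup `P` of
order `p ^ c`, and `p ^ a` is the `p`-part of `#C(x)`, then `p ^ (c - a)` divides a degree. -/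
theorem exists_pow_dvd_degree (x : G) (P : Subgroup G) (c : ℕ) (hP : Nat.card P = p ^ c)
    (hsep : ∀ g h : G, IsConj x g → IsConj x h → g * h⁻¹ ∈ P → g = h) :
    ∃ χ : Cfsg.IrrCharacter G, p ^ (c - (Nat.card (Subgroup.centralizer ({x} : Set G))).factorization p) ∣
      Cfsg.charDegree (χ : G → ℂ) := by
  classical
  cases nonempty_fintype G
  haveI : Fintype P := Fintype.ofFinite P
  set a := (Nat.card (Subgroup.centralizer ({x} : Set G))).factorization p with ha
  by_contra hc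
  push Not at hc
  have hca : a < c := by
    by_contra h
    push Not at h
    exact hc ⟨fun _ => 1, CharBasic.isIrrCharacter_one⟩ (by
      rw [Nat.sub_eq_zero_of_le h, pow_zero]; exact one_dvd _)
  set b := c - a - 1 with hb
  have hdeg : ∀ χ : Cfsg.IrrCharacter G,
      (Cfsg.charDegree (χ : G → ℂ)).factorization p ≤ b := fun χ => by
    by_contra h
    push Not at h
    exact hc χ ((pow_dvd_pow p (by omega : c - a ≤ (Cfsg.charDegree (χ : G → ℂ)).factorization p)).trans
      (Nat.ordProj_dvd _ _))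
  set L := Nat.card G / p ^ (Nat.card G).factorization p * p ^ b with hL
  have hLdvd : ∀ χ : Cfsg.IrrCharacter G, Cfsg.charDegree (χ : G → ℂ) ∣ L := fun χ => by
    conv_lhs => rw [← Nat.ordProj_mul_ordCompl_eq_self (Cfsg.charDegree (χ : G → ℂ)) p, mul_comm]
    exact Nat.mul_dvd_mul (Nat.ordCompl_dvd_ordCompl_of_dvd (charDegree_dvd χ) p)
      (pow_dvd_pow p (hdeg χ))
  set i := (Subgroup.centralizer ({x} : Set G)).index with hi
  have hzero : ∀ z : P, (classSum x * classSum x⁻¹).coeff (z : G) =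
      if z = 1 then (i : ℂ) else 0 := fun z => by
    rw [coeff_classSum_mul]
    split_ifs with hz
    · subst hz
      rw [hi, ← card_class]
      congr 2
      ext g
      simp only [Finset.mem_filter, Finset.mem_univ, true_and, OneMemClass.coe_one, mul_one]
      exact ⟨fun h => h.1, fun h => ⟨h, isConj_inv_inv h⟩⟩
    · rw [Nat.cast_eq_zero, Finset.card_eq_zero, Finset.filter_eq_empty_iff]
      rintro g - ⟨hg, hg'⟩
      have h := hsep g ((z : G)⁻¹ * g) hg (by simpa using isConj_inv_inv hg') (by simp)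
      exact hz (Subtype.ext (by simpa using mul_right_cancel (show (z : G)⁻¹ * g = 1 * g by
        rw [one_mul]; exact h.symm)))
  choose m hm using fun χ : Cfsg.IrrCharacter G => sum_subgroup_eq_mul χ P
  have hsum : ∑ z : P, (classSum x * classSum x⁻¹).coeff (z : G) = (i : ℂ) := by
    simp [hzero]
  simp only [coeff_classSum_mul_eq, ← Finset.mul_sum] at hsum
  rw [Finset.sum_comm] at hsum
  simp only [← Finset.mul_sum, hm, Cfsg.centralChar, centralizer_inv, ← hi] at hsum
  have hi0 : (i : ℂ) ≠ 0 := Nat.cast_ne_zero.2 Subgroup.FiniteIndex.index_ne_zero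
  have hcard : (Nat.card G : ℂ) = (Nat.card (Subgroup.centralizer ({x} : Set G)) : ℂ) * i := by
    rw [hi, ← Nat.cast_mul, Subgroup.card_mul_index]
  set K := Nat.card (Subgroup.centralizer ({x} : Set G)) with hK
  have hP0 : (Nat.card P : ℂ) ≠ 0 := Nat.cast_ne_zero.2 Nat.card_pos.ne'
  have hK0 : (K : ℂ) ≠ 0 := Nat.cast_ne_zero.2 Nat.card_pos.ne'
  have key : (K : ℂ) = (Nat.card P : ℂ) * ∑ χ : Cfsg.IrrCharacter G,
      (χ : G → ℂ) x * (χ : G → ℂ) x⁻¹ * m χ / (χ : G → ℂ) 1 := by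
    have h2 : ∀ χ : Cfsg.IrrCharacter G, (χ : G → ℂ) 1 *
        ((i : ℂ) * (χ : G → ℂ) x / (χ : G → ℂ) 1 * ((i : ℂ) * (χ : G → ℂ) x⁻¹ / (χ : G → ℂ) 1)) *
          ((Nat.card P : ℂ) * m χ) = (i : ℂ) ^ 2 * (Nat.card P : ℂ) *
          ((χ : G → ℂ) x * (χ : G → ℂ) x⁻¹ * m χ / (χ : G → ℂ) 1) := fun χ => by
      field_simp [irr_one_ne_zero χ.2]
    simp only [h2, ← Finset.mul_sum, hcard] at hsum
    field_simp at hsum
    linear_combination -hsum
  have hint : IsIntegral ℤ (((L * K : ℕ) : ℤ) / ((p ^ c : ℕ) : ℤ) : ℂ) := by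
    have : (((L * K : ℕ) : ℤ) / ((p ^ c : ℕ) : ℤ) : ℂ) =
        ∑ χ : Cfsg.IrrCharacter G, ((L / Cfsg.charDegree (χ : G → ℂ) : ℕ) : ℂ) *
          ((χ : G → ℂ) x * (χ : G → ℂ) x⁻¹ * m χ) := by
      have e : (((L * K : ℕ) : ℤ) / ((p ^ c : ℕ) : ℤ) : ℂ) = (L : ℂ) * (K : ℂ) / (Nat.card P : ℂ) := by
        rw [hP]; push_cast; rfl
      rw [e, key, mul_div_assoc, mul_div_cancel_left₀ _ hP0, Finset.mul_sum]
      refine Finset.sum_congr rfl fun χ _ => ?_
      rw [Nat.cast_div (hLdvd χ) (Nat.cast_ne_zero.2 (charDegree_pos χ).ne'),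
        ← apply_one_eq_charDegree]
      ring
    rw [this]
    refine IsIntegral.sum _ fun χ _ => ?_
    have hn : ∀ n : ℕ, IsIntegral ℤ (n : ℂ) := fun n => by
      simpa using isIntegral_algebraMap (R := ℤ) (A := ℂ) (x := (n : ℤ))
    exact (hn _).mul (((isIntegral_apply χ x).mul (isIntegral_apply χ x⁻¹)).mul (hn _))
  have hdvd := dvd_of_isIntegral_div (by exact_mod_cast pow_ne_zero c hp.out.ne_zero) hint
  rw [Int.natCast_dvd_natCast] at hdvd
  have hm0 : ¬ p ∣ Nat.card G / p ^ (Nat.card G).factorization p :=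
    Nat.not_dvd_ordCompl hp.out Nat.card_pos.ne'
  have hL0 : L ≠ 0 := mul_ne_zero (fun h => hm0 (by rw [h]; exact dvd_zero p)) (pow_ne_zero _ hp.out.ne_zero)
  have hLK : (L * K).factorization p = b + a := by
    rw [Nat.factorization_mul hL0 Nat.card_pos.ne', Finsupp.add_apply, hL,
      Nat.factorization_mul (fun h => hm0 (by rw [h]; exact dvd_zero p)) (pow_ne_zero _ hp.out.ne_zero),
      Finsupp.add_apply, Nat.factorization_eq_zero_of_not_dvd hm0, hp.out.factorization_pow,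
      Finsupp.single_eq_same, zero_add]
  have h5 : c ≤ (L * K).factorization p :=
    (hp.out.pow_dvd_iff_le_factorization (mul_ne_zero hL0 Nat.card_pos.ne')).1 hdvd
  omega

/-- Version for a Sylow subgroup: a `p`-defect zero character, or a quotient of two conjugates is
a nontrivial element of `P`. -/
theorem defect_zero_or_separated (P : Sylow p G) (x : G)
    (hx : ¬ p ∣ Nat.card (Subgroup.centralizer ({x} : Set G))) :
    (∃ χ : Cfsg.IrrCharacter G,
      (Cfsg.charDegree (χ : G → ℂ)).factorization p = (Nat.card G).factorization p) ∨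
    ∃ g h : G, IsConj x g ∧ IsConj x h ∧ g * h⁻¹ ∈ (P : Subgroup G) ∧ g * h⁻¹ ≠ 1 := by
  by_contra hc
  push Not at hc
  obtain ⟨χ, hχ⟩ := exists_pow_dvd_degree (p := p) x (P : Subgroup G) _ P.card_eq_multiplicity
    fun g h hg hh hm => mul_inv_eq_one.1 (hc.2 g h hg hh hm)
  rw [Nat.factorization_eq_zero_of_not_dvd hx, Nat.sub_zero,
    hp.out.pow_dvd_iff_le_factorization (charDegree_pos χ).ne'] at hχ
  exact hc.1 χ (le_antisymm
    ((Nat.factorization_le_iff_dvd (charDegree_pos χ).ne' Nat.card_pos.ne').2 (charDegree_dvd χ) p)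
    hχ)

omit hp in
/-- An element of `p`-power order `≠ 1` has order divisible by `p`. -/
theorem dvd_orderOf_of_eq_pow {u : G} (hu : u ≠ 1) {k : ℕ} (hk : orderOf u = p ^ k) :
    p ∣ orderOf u := by
  rcases Nat.eq_zero_or_pos k with rfl | hk0
  · exact absurd (orderOf_eq_one_iff.1 (by simpa using hk)) hu
  · exact hk ▸ dvd_pow_self p hk0.ne'

/-- An involution inverting an element. -/
theorem inverted_of_involutions {g h : G} (hg : orderOf g = 2) (hh : orderOf h = 2) :
    g * (g * h⁻¹) * g⁻¹ = (g * h⁻¹)⁻¹ := by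
  have hg2 : g⁻¹ = g := inv_eq_of_mul_eq_one_right (by rw [← sq, ← hg, pow_orderOf_eq_one])
  have hh2 : h⁻¹ = h := inv_eq_of_mul_eq_one_right (by rw [← sq, ← hh, pow_orderOf_eq_one])
  rw [mul_inv_rev, inv_inv, hh2, hg2, ← mul_assoc g g h]
  rw [show g * g = 1 by rw [← sq, ← hg, pow_orderOf_eq_one], one_mul]

omit hp [Finite G] in
theorem orderOf_of_isConj {x g : G} (h : IsConj x g) : orderOf g = orderOf x := by
  obtain ⟨c, rfl⟩ := isConj_iff.1 h
  exact MulEquiv.orderOf_eq (MulAut.conj c) x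

theorem exists_pow_dvd_of_not_inverting (x : G) (hx : orderOf x = 2) (P : Subgroup G) (c : ℕ)
    (hP : Nat.card P = p ^ c)
    (hinv : ∀ g : G, IsConj x g → ∀ z ∈ P, z ≠ 1 → g * z * g⁻¹ ≠ z⁻¹) :
    ∃ χ : Cfsg.IrrCharacter G,
      p ^ (c - (Nat.card (Subgroup.centralizer ({x} : Set G))).factorization p) ∣
        Cfsg.charDegree (χ : G → ℂ) :=
  exists_pow_dvd_degree x P c hP fun g h hg hh hm => by
    by_contra hne
    exact hinv g hg _ hm (fun h1 => hne (mul_inv_eq_one.1 h1))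
      (inverted_of_involutions ((orderOf_of_isConj hg).trans hx) ((orderOf_of_isConj hh).trans hx))

theorem defect_zero_or_conj_quotient (p q : ℕ) [Fact p.Prime] [Fact q.Prime]
    (hC : ∀ g : G, g ≠ 1 → (∃ k : ℕ, orderOf g = p ^ k) →
      ¬ q ∣ Nat.card ↥(Subgroup.centralizer ({g} : Set G))) :
    (∃ χ : Cfsg.IrrCharacter G,
      (Cfsg.charDegree (χ : G → ℂ)).factorization p = (Nat.card G).factorization p) ∨
    ∀ z : G, z ≠ 1 → (∃ k : ℕ, orderOf z = q ^ k) →
      ∃ g h : G, IsConj z g ∧ IsConj z h ∧ g * h⁻¹ ≠ 1 ∧ ∃ k : ℕ, orderOf (g * h⁻¹) = p ^ k := by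
  rw [or_iff_not_imp_left]
  rintro hno z hz ⟨k, hk⟩
  have hzC : ¬ p ∣ Nat.card (Subgroup.centralizer ({z} : Set G)) := fun hd => by
    obtain ⟨u, hu⟩ := exists_prime_orderOf_dvd_card' p hd
    rw [← Subgroup.orderOf_coe] at hu
    have hu1 : (u : G) ≠ 1 := fun h => by
      rw [h, orderOf_one] at hu
      exact (Fact.out : p.Prime).ne_one hu.symm
    refine hC u hu1 ⟨1, by rw [hu, pow_one]⟩ ?_
    have hzu : z ∈ Subgroup.centralizer ({(u : G)} : Set G) :=
      Subgroup.mem_centralizer_singleton_iff.2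
        (Subgroup.mem_centralizer_singleton_iff.1 u.2).symm
    have hdz : orderOf z ∣ Nat.card (Subgroup.centralizer ({(u : G)} : Set G)) := by
      rw [← Subgroup.orderOf_mk z hzu]
      exact orderOf_dvd_natCard _
    exact (dvd_orderOf_of_eq_pow hz hk).trans hdz
  obtain ⟨g, h, hg, hh, hm, hne⟩ :=
    (defect_zero_or_separated (p := p) default z hzC).resolve_left hno
  obtain ⟨j, hj⟩ := IsPGroup.iff_orderOf.1 (default : Sylow p G).isPGroup' ⟨_, hm⟩
  rw [Subgroup.orderOf_mk] at hj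
  exact ⟨g, h, hg, hh, hne, j, hj⟩

/-- Some involution inverts a nontrivial `p`-element, or there is a defect zero character. -/
theorem exists_inverted (P : Sylow p G) (h2G : 2 ∣ Nat.card G)
    (hC : ∀ g : G, g ≠ 1 → (∃ k : ℕ, orderOf g = p ^ k) →
      Odd (Nat.card ↥(Subgroup.centralizer ({g} : Set G)))) :
    (∃ χ : Cfsg.IrrCharacter G,
      (Cfsg.charDegree (χ : G → ℂ)).factorization p = (Nat.card G).factorization p) ∨
    ∃ t u : G, orderOf t = 2 ∧ u ∈ (P : Subgroup G) ∧ u ≠ 1 ∧ t * u * t⁻¹ = u⁻¹ := by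
  obtain ⟨x, hx⟩ := exists_prime_orderOf_dvd_card' 2 h2G
  have hxC : ¬ p ∣ Nat.card (Subgroup.centralizer ({x} : Set G)) := fun hd => by
    obtain ⟨u, hu⟩ := exists_prime_orderOf_dvd_card' p hd
    rw [← Subgroup.orderOf_coe] at hu
    have hu1 : (u : G) ≠ 1 := fun h => by
      rw [h, orderOf_one] at hu
      exact hp.out.ne_one hu.symm
    have hxu : x ∈ Subgroup.centralizer ({(u : G)} : Set G) :=
      Subgroup.mem_centralizer_singleton_iff.2
        (Subgroup.mem_centralizer_singleton_iff.1 u.2).symm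
    have hdx : 2 ∣ Nat.card (Subgroup.centralizer ({(u : G)} : Set G)) := by
      rw [← hx, ← Subgroup.orderOf_mk x hxu]
      exact orderOf_dvd_natCard _
    exact (Nat.not_even_iff_odd.2 (hC u hu1 ⟨1, by rw [hu, pow_one]⟩)) (even_iff_two_dvd.2 hdx)
  refine (defect_zero_or_separated P x hxC).imp_right ?_
  rintro ⟨g, h, hg, hh, hm, hne⟩
  exact ⟨g, g * h⁻¹, (orderOf_of_isConj hg).trans hx, hm, hne,
    inverted_of_involutions ((orderOf_of_isConj hg).trans hx) ((orderOf_of_isConj hh).trans hx)⟩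

theorem exists_even_degree_of_real {u t : G} (ht : t * u * t⁻¹ = u⁻¹)
    (hu : u ≠ 1) (hodd : Odd (Nat.card (Subgroup.centralizer ({u} : Set G)))) :
    ∃ χ : Cfsg.IrrCharacter G, Even (Cfsg.charDegree (χ : G → ℂ)) := by
  classical
  by_contra hc
  push Not at hc
  haveI : Fact (Nat.Prime 2) := ⟨Nat.prime_two⟩
  obtain ⟨M, hM⟩ := exists_isPModular Nat.prime_two
  let v : Cfsg.IrrCharacter G → AlgInt := fun χ => ⟨(χ : G → ℂ) u, isIntegral_apply χ u⟩
  have h2 : (2 : AlgInt) ∈ M := hM.2.2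
  have hsq : ∀ s : Finset (Cfsg.IrrCharacter G), (∑ χ ∈ s, v χ) ^ 2 - ∑ χ ∈ s, v χ ^ 2 ∈ M := by
    intro s
    induction s using Finset.induction_on with
    | empty => simp
    | insert χ s hχ ih =>
      rw [Finset.sum_insert hχ, Finset.sum_insert hχ]
      have e : (v χ + ∑ i ∈ s, v i) ^ 2 - (v χ ^ 2 + ∑ i ∈ s, v i ^ 2) =
          2 * (v χ * ∑ i ∈ s, v i) + ((∑ i ∈ s, v i) ^ 2 - ∑ i ∈ s, v i ^ 2) := by ring
      rw [e]
      exact M.add_mem (M.mul_mem_right _ h2) ih
  have hdeg : ∀ χ : Cfsg.IrrCharacter G, (Cfsg.charDegree (χ : G → ℂ) : AlgInt) - 1 ∈ M :=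
    fun χ => by
      obtain ⟨k, hk⟩ := Nat.not_even_iff_odd.1 (hc χ)
      rw [hk]; push_cast; rw [add_sub_cancel_right]
      exact M.mul_mem_right _ h2
  have hzero : ∑ χ : Cfsg.IrrCharacter G, (Cfsg.charDegree (χ : G → ℂ) : AlgInt) * v χ = 0 := by
    apply Subtype.ext
    have := CharBasic.sum_degree_mul_apply u
    rw [if_neg hu] at this
    simp only [apply_one_eq_charDegree] at this
    push_cast
    exact this
  have hcard : ∑ χ : Cfsg.IrrCharacter G, v χ ^ 2 =
      (Nat.card (Subgroup.centralizer ({u} : Set G)) : AlgInt) := by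
    apply Subtype.ext
    push_cast
    rw [← CharBasic.second_orthogonality_self u]
    refine Finset.sum_congr rfl fun χ _ => ?_
    rw [sq, conj_apply_eq_inv, ← ht, CharBasic.IsIrr.isClassFunction χ.2]
  have hsum : ∑ χ : Cfsg.IrrCharacter G, v χ ∈ M := by
    have : ∑ χ : Cfsg.IrrCharacter G, v χ =
        ∑ χ : Cfsg.IrrCharacter G, (Cfsg.charDegree (χ : G → ℂ) : AlgInt) * v χ -
        ∑ χ : Cfsg.IrrCharacter G, ((Cfsg.charDegree (χ : G → ℂ) : AlgInt) - 1) * v χ := by
      simp [sub_mul, Finset.sum_sub_distrib]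
    rw [this, hzero]
    exact M.sub_mem M.zero_mem (sum_mem fun χ _ => M.mul_mem_right _ (hdeg χ))
  have := M.sub_mem (Ideal.pow_mem_of_mem M hsum 2 (by norm_num)) (hsq Finset.univ)
  rw [sub_sub_cancel, hcard, natCast_mem_iff hM] at this
  exact Nat.not_even_iff_odd.2 hodd (even_iff_two_dvd.2 this)

theorem defect_zero_or_even_degree (h2G : 2 ∣ Nat.card G)
    (hC : ∀ g : G, g ≠ 1 → (∃ k : ℕ, orderOf g = p ^ k) →
      Odd (Nat.card ↥(Subgroup.centralizer ({g} : Set G)))) :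
    (∃ χ : Cfsg.IrrCharacter G,
      (Cfsg.charDegree (χ : G → ℂ)).factorization p = (Nat.card G).factorization p) ∨
    ∃ χ : Cfsg.IrrCharacter G, Even (Cfsg.charDegree (χ : G → ℂ)) := by
  refine (exists_inverted (default : Sylow p G) h2G hC).imp_right ?_
  rintro ⟨t, u, -, hu, hu1, htu⟩
  obtain ⟨j, hj⟩ := IsPGroup.iff_orderOf.1 (default : Sylow p G).isPGroup' ⟨u, hu⟩
  rw [Subgroup.orderOf_mk] at hj
  exact exists_even_degree_of_real htu hu1 (hC u hu1 ⟨j, hj⟩)

end Cfsg.Agent.H84
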