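import Cfsg.Agent.H84.SylowKernelSeventeen
import Cfsg.Agent.H84.PermDegreeEighteen

/-!
# Recognition of `PSL(2, 17)` and `PGL(2, 17)` by their Sylow numbers
-/

set_option linter.style.haveILetI false

namespace Cfsg.Agent.H84

/-- `GL / Z` along a field isomorphism. -/
noncomputable def glQuotCongr {R S : Type*} [CommRing R] [CommRing S] (σ : R ≃+* S) :
    (GL (Fin 2) R ⧸ Subgroup.center (GL (Fin 2) R)) ≃*
      (GL (Fin 2) S ⧸ Subgroup.center (GL (Fin 2) S)) :=
  QuotientGroup.congr _ _ (Units.mapEquiv σ.mapMatrix.toMulEquiv) (by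
    generalize (Units.mapEquiv σ.mapMatrix.toMulEquiv : GL (Fin 2) R ≃* GL (Fin 2) S) = M
    ext g
    constructor
    · rintro ⟨z, hz, rfl⟩
      refine Subgroup.mem_center_iff.2 fun y => ?_
      obtain ⟨y, rfl⟩ := M.surjective y
      change M y * M z = M z * M y
      rw [← map_mul, ← map_mul, Subgroup.mem_center_iff.1 hz y]
    · intro hx
      refine ⟨M.symm g, Subgroup.mem_center_iff.2 fun y => M.injective ?_, M.apply_symm_apply g⟩
      rw [map_mul, map_mul, MulEquiv.apply_symm_apply]
      exact Subgroup.mem_center_iff.1 hx _)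

/-- A centreless group with the Sylow numbers of `PSL(2, 17)` is `PSL(2, 17)` or `PGL(2, 17)`. -/
theorem eq_psl_or_pgl_seventeen {G : Type*} [Group G] [Finite G] (hZ : Subgroup.center G = ⊥)
    (h : HasSylowNumbers G) :
    Nonempty (G ≃* Matrix.ProjGenLinGroup (Fin 2) (ZMod 17)) ∨
      Nonempty (G ≃* Matrix.ProjectiveSpecialLinearGroup (Fin 2) (ZMod 17)) := by
  classical
  haveI : Fintype (Sylow 17 G) := Fintype.ofFinite _
  obtain ⟨h18, h17⟩ := h.seventeen
  obtain ⟨htr, d, hd, hlt⟩ := image_spec h18 h17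
  exact recognise_seventeen hZ h (SmallDegree.degree_eighteen
    (by rw [← Nat.card_eq_fintype_card, h18]) _ htr hd hlt)

end Cfsg.Agent.H84
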