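import Cfsg.Agent.H84.SylowNumbersSeventeen
import Cfsg.Agent.H84.PSLSeventeen

/-!
# The action on the Sylow 17-subgroups
-/

set_option linter.style.haveILetI false

namespace Cfsg.Agent.H84

local notation "P17" => Matrix.ProjectiveSpecialLinearGroup (Fin 2) (ZMod 17)
local notation "G17" => Matrix.ProjGenLinGroup (Fin 2) (ZMod 17)

theorem IsPSLSeventeen.of_equiv {L L' : Type*} [Group L] [Group L'] (e : L ≃* L')
    (h : IsPSLSeventeen L) : IsPSLSeventeen L' := by
  obtain ⟨x, hx⟩ := h.exists_eight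
  obtain ⟨y, hy⟩ := h.exists_nine
  refine ⟨(Nat.card_congr e.toEquiv).symm.trans h.card_eq, ?_, fun z hz => ?_,
    ⟨e x, by rw [e.orderOf_eq, hx]⟩, ⟨e y, by rw [e.orderOf_eq, hy]⟩⟩
  · haveI := h.simple
    haveI : Nontrivial L' := e.symm.toEquiv.nontrivial
    exact IsSimpleGroup.isSimpleGroup_of_surjective e.toMonoidHom e.surjective
  · have h1 := h.no_six (e.symm z) (by rw [← map_pow, hz, map_one])
    simpa [← map_pow] using h1

theorem isPSLSeventeen_psl : IsPSLSeventeen P17 :=
  ⟨card_psl_seventeen, isSimpleGroup_psl_seventeen, no_order_six, ⟨_, orderOf_eight⟩,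
    ⟨_, orderOf_nine⟩⟩

theorem card_pgl_seventeen : Nat.card G17 = 2 * 2448 := by
  have h := Linear.card_center_GL (ι := Fin 2) (F := ZMod 17)
  have h2 := Matrix.card_GL_field (𝔽 := ZMod 17) 2
  have h3 := (Subgroup.center (GL (Fin 2) (ZMod 17))).card_eq_card_quotient_mul_card_subgroup
  simp only [Nat.card_units, Nat.card_zmod, ZMod.card, Fintype.card_units, Fin.prod_univ_two,
    Fin.val_zero, Fin.val_one] at h h2
  rw [show Nat.card (GL (Fin 2) (ZMod 17) ⧸ Subgroup.center _) = Nat.card G17 from rfl] at h3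
  rw [h, h2] at h3
  norm_num at h3 ⊢
  omega

/-- Either possible image contains a normal copy of `PSL(2, 17)` of index at most two. -/
theorem exists_psl_copy {Q : Type*} [Group Q] [Finite Q] (h : Nonempty (Q ≃* G17) ∨ Nonempty (Q ≃* P17)) :
    ∃ L : Subgroup Q, L.Normal ∧ L.index ∣ 2 ∧ IsPSLSeventeen L := by
  rcases h with ⟨⟨e⟩⟩ | ⟨⟨e⟩⟩
  · let f : P17 →* Q := e.symm.toMonoidHom.comp Matrix.ProjectiveSpecialLinearGroup.toPGL
    have hf : Function.Injective f :=
      e.symm.injective.comp Matrix.ProjectiveSpecialLinearGroup.toPGL_injective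
    have hL : IsPSLSeventeen f.range := isPSLSeventeen_psl.of_equiv (MonoidHom.ofInjective hf)
    have hidx : f.range.index = 2 := by
      have h1 := f.range.card_mul_index
      rw [hL.card_eq, Nat.card_congr e.toEquiv, card_pgl_seventeen] at h1
      omega
    exact ⟨f.range, Subgroup.normal_of_index_eq_two hidx, hidx.dvd, hL⟩
  · refine ⟨⊤, inferInstance, by simp, ?_⟩
    exact isPSLSeventeen_psl.of_equiv (e.symm.trans Subgroup.topEquiv.symm)

/-- Sylow 2- and 3-normalisers in the image have index at least 153 and 136. -/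
theorem index_normalizer_image {Q : Type*} [Group Q] [Finite Q] (L : Subgroup Q) [L.Normal]
    (hidx : L.index ∣ 2) (hL : IsPSLSeventeen L) {r : ℕ} [Fact r.Prime] (S : Sylow r Q) :
    (r = 2 → 153 ≤ (Subgroup.normalizer ((S : Subgroup Q) : Set Q)).index) ∧
      (r = 3 → 136 ≤ (Subgroup.normalizer ((S : Subgroup Q) : Set Q)).index) := by
  set T : Subgroup L := (S : Subgroup Q).subgroupOf L with hT
  have hTidx : ¬ r ∣ T.index := by
    intro hd
    refine S.not_dvd_index (hd.trans ?_)
    show (S : Subgroup Q).relIndex L ∣ _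
    rw [← relIndex_sup_normal, ← Subgroup.relIndex_mul_index (le_sup_left (b := L) (a := (S : Subgroup Q)))]
    exact dvd_mul_right _ _
  obtain ⟨k, hk⟩ := IsPGroup.iff_card.1 (S.isPGroup'.comap_subtype (K := L))
  change Nat.card T = r ^ k at hk
  have hmul := T.card_mul_index
  rw [hk, hL.card_eq] at hmul
  set N := Subgroup.normalizer ((S : Subgroup Q) : Set Q) with hN
  have hle : N.subgroupOf L ≤ Subgroup.normalizer ((T : Subgroup L) : Set L) := by
    intro x hx
    rw [Subgroup.mem_normalizer_iff]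
    intro y
    exact Subgroup.mem_normalizer_iff.1 (Subgroup.mem_subgroupOf.1 hx) (y : Q)
  have hbound : ∀ b, Nat.card (Subgroup.normalizer ((T : Subgroup L) : Set L)) ≤ b →
      2448 / b ≤ N.index := by
    intro b hb
    have h1 := (N.subgroupOf L).card_mul_index
    rw [hL.card_eq] at h1
    have h2 : Nat.card (N.subgroupOf L) ≤ b :=
      (Nat.le_of_dvd Nat.card_pos (Subgroup.card_dvd_of_le hle)).trans hb
    have h3 : (N.subgroupOf L).index ∣ N.index := by
      show N.relIndex L ∣ _
      rw [← relIndex_sup_normal, ← Subgroup.relIndex_mul_index (le_sup_left (b := L) (a := N))]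
      exact dvd_mul_right _ _
    refine le_trans ?_ (Nat.le_of_dvd (Nat.pos_of_ne_zero Subgroup.index_ne_zero_of_finite) h3)
    refine Nat.div_le_of_le_mul ?_
    rw [← h1]
    exact Nat.mul_le_mul_right _ h2
  constructor
  · rintro rfl
    have hc : Nat.card T = 16 := by
      have hd : 2 ^ k ∣ 2 ^ 4 * 153 := ⟨_, hmul.symm⟩
      have hk4 : k ≤ 4 := (Nat.pow_dvd_pow_iff_le_right (by norm_num)).1
        ((Nat.Coprime.pow_left k (by norm_num)).dvd_of_dvd_mul_right hd)
      rcases Nat.lt_or_eq_of_le hk4 with h4 | h4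
      · exfalso; apply hTidx
        interval_cases k <;> omega
      · rw [hk, h4]; norm_num
    exact le_trans (by norm_num) (hbound 16 (hL.normalizer_two T hc).le)
  · rintro rfl
    have hc : Nat.card T = 9 := by
      have hd : 3 ^ k ∣ 3 ^ 2 * 272 := ⟨_, hmul.symm⟩
      have hk2 : k ≤ 2 := (Nat.pow_dvd_pow_iff_le_right (by norm_num)).1
        ((Nat.Coprime.pow_left k (by norm_num)).dvd_of_dvd_mul_right hd)
      rcases Nat.lt_or_eq_of_le hk2 with h4 | h4
      · exfalso; apply hTidx
        interval_cases k <;> omega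
      · rw [hk, h4]; norm_num
    exact le_trans (by norm_num) (hbound 18 (hL.normalizer_three T hc))

variable {G : Type*} [Group G] [Finite G]

local notation "φ" => MulAction.toPermHom G (Sylow 17 G)

/-- The image on the 18 Sylow 17-subgroups: transitive, of order `18 * 17 * d` with `d < 17`. -/
theorem image_spec [DecidableEq (Sylow 17 G)] (h18 : Nat.card (Sylow 17 G) = 18)
    (h17 : 17 ∣ Nat.card G) :
    MulAction.IsPretransitive (φ).range (Sylow 17 G) ∧
      ∃ d, Nat.card (φ).range = (17 + 1) * 17 * d ∧ d < 17 := by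
  classical
  haveI : Fintype (Sylow 17 G) := Fintype.ofFinite _
  have htr : MulAction.IsPretransitive (φ).range (Sylow 17 G) :=
    ⟨fun A B => by
      obtain ⟨g, hg⟩ := MulAction.exists_smul_eq G A B
      exact ⟨⟨φ g, g, rfl⟩, hg⟩⟩
  haveI := htr
  refine ⟨htr, ?_⟩
  obtain ⟨P⟩ : Nonempty (Sylow 17 G) := inferInstance
  -- no other Sylow subgroup is fixed
  have honly : ∀ A : Sylow 17 G, (∀ g ∈ (P : Subgroup G), g • A = A) → A = P := by
    intro A hA
    have hle : (P : Subgroup G) ≤ Subgroup.normalizer ((A : Subgroup G) : Set G) := fun g hg =>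
      Sylow.smul_eq_iff_mem_normalizer.1 (hA g hg)
    have h1 : (P : Subgroup G) ⊓ Subgroup.normalizer ((A : Subgroup G) : Set G) =
        (P : Subgroup G) ⊓ (A : Subgroup G) := P.isPGroup'.inf_normalizer_sylow A
    rw [inf_eq_left.2 hle] at h1
    exact (Sylow.ext (P.is_maximal' A.isPGroup' (h1 ▸ inf_le_right))).symm.symm
  let H : Subgroup (Equiv.Perm (Sylow 17 G)) := (P : Subgroup G).map φ
  have hHp : IsPGroup 17 H := P.isPGroup'.map _
  obtain ⟨j, hj⟩ := IsPGroup.iff_card.1 hHp
  have hH17 : Nat.card H = 17 := by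
    have hd : 17 ^ j ∣ Nat.factorial 18 := by
      rw [← hj, ← h18, Nat.card_eq_fintype_card (α := Sylow 17 G), ← Fintype.card_perm,
        ← Nat.card_eq_fintype_card]
      exact Subgroup.card_subgroup_dvd_card H
    have hj1 : j ≤ 1 := by
      by_contra hc
      have : 17 ^ 2 ∣ Nat.factorial 18 := (pow_dvd_pow 17 (by omega)).trans hd
      norm_num [Nat.factorial] at this
    rcases Nat.le_one_iff_eq_zero_or_eq_one.1 hj1 with rfl | rfl
    · exfalso
      have hall : ∀ A, A = P := fun A => honly A fun g hg => by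
        have : φ g ∈ H := ⟨g, hg, rfl⟩
        rw [Subgroup.card_eq_one.1 hj, Subgroup.mem_bot] at this
        exact Equiv.congr_fun this A
      have : Nat.card (Sylow 17 G) ≤ 1 := Finite.card_le_one_iff_subsingleton.2
        ⟨fun a b => (hall a).trans (hall b).symm⟩
      omega
    · rw [hj, pow_one]
  set R := MulAction.stabilizer (φ).range P with hR
  have hcard : Nat.card (φ).range = 18 * Nat.card R := by
    rw [← h18, ← MulAction.index_stabilizer_of_transitive (φ).range P, ← hR, Subgroup.index_mul_card]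
  -- the stabiliser normalises the image of `P`
  have hnorm : ∀ σ ∈ R, ∀ τ ∈ H, (σ : Equiv.Perm (Sylow 17 G)) * τ * (σ : Equiv.Perm _)⁻¹ ∈ H := by
    rintro ⟨σ, g, rfl⟩ hσ τ ⟨p, hp, rfl⟩
    have hgP : g • P = P := hσ
    refine ⟨g * p * g⁻¹, ?_, by rw [map_mul, map_mul, map_inv]⟩
    exact (Subgroup.mem_normalizer_iff.1 (Sylow.smul_eq_iff_mem_normalizer.1 hgP) p).1 hp
  have hdvd : 17 ∣ Nat.card R := by
    let i : H → R := fun τ => ⟨⟨τ, by obtain ⟨p, -, e⟩ := τ.2; exact ⟨p, e⟩⟩, by
      obtain ⟨p, hp, e⟩ := τ.2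
      show (τ : Equiv.Perm (Sylow 17 G)) P = P
      rw [← e]
      exact Sylow.smul_eq_iff_mem_normalizer.2 (Subgroup.le_normalizer hp)⟩
    let i' : H →* R := MonoidHom.mk' i fun a b => rfl
    have : Nat.card H ∣ Nat.card R := Subgroup.card_dvd_of_injective i'
      (fun a b e => Subtype.ext (congrArg (fun x : R =>
        ((x : (φ).range) : Equiv.Perm (Sylow 17 G))) (show i a = i b from e)))
    rwa [hH17] at this
  haveI : IsCyclic H := isCyclic_of_prime_card (p := 17) hH17
  let c : R →* MulAut H := MonoidHom.mk' (fun σ =>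
    { toFun := fun τ => ⟨_, hnorm σ σ.2 τ τ.2⟩
      invFun := fun τ => ⟨_, hnorm (σ⁻¹ : R) (σ⁻¹ : R).2 τ τ.2⟩
      left_inv := fun τ => Subtype.ext (by simp [mul_assoc])
      right_inv := fun τ => Subtype.ext (by simp [mul_assoc])
      map_mul' := fun a b => Subtype.ext (by simp [mul_assoc]) })
    fun a b => MulEquiv.ext fun τ => Subtype.ext (by simp [mul_assoc])
  obtain ⟨A, hA⟩ : ∃ A : Sylow 17 G, A ≠ P := by
    by_contra hc
    push Not at hc
    have : Nat.card (Sylow 17 G) ≤ 1 := Finite.card_le_one_iff_subsingleton.2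
      ⟨fun a b => (hc a).trans (hc b).symm⟩
    omega
  -- the `H`-orbit of `A` is everything else
  have horb : ∀ B : Sylow 17 G, B ≠ P → ∃ τ : H, (τ : Equiv.Perm (Sylow 17 G)) A = B := by
    let o : H → {B : Sylow 17 G // B ≠ P} := fun τ => ⟨(τ : Equiv.Perm _) A, fun e => hA (by
      obtain ⟨p, hp, e2⟩ := τ.2
      have hfixP : (τ : Equiv.Perm (Sylow 17 G)) P = P := by
        rw [← e2]; exact Sylow.smul_eq_iff_mem_normalizer.2 (Subgroup.le_normalizer hp)
      exact (τ : Equiv.Perm (Sylow 17 G)).injective (e.trans hfixP.symm))⟩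
    have ho : Function.Injective o := by
      intro a b e
      by_contra hab
      have h1 : ((a⁻¹ * b : H) : Equiv.Perm (Sylow 17 G)) A = A := by
        have e' : (a : Equiv.Perm (Sylow 17 G)) A = (b : Equiv.Perm (Sylow 17 G)) A :=
          congrArg Subtype.val e
        simp [← e']
      have hfx : ∀ τ : H, (τ : Equiv.Perm (Sylow 17 G)) A = A := fun τ => by
        have : τ ∈ Subgroup.zpowers (a⁻¹ * b) :=
          mem_zpowers_of_prime_card (p := 17) hH17 (fun e => hab (inv_mul_eq_one.1 e))
        obtain ⟨k, rfl⟩ := this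
        rw [Subgroup.coe_zpow]
        exact Equiv.Perm.zpow_apply_eq_self_of_apply_eq_self h1 k
      exact hA (honly A fun g hg => hfx ⟨φ g, g, hg, rfl⟩)
    have hsurj : Function.Surjective o := by
      refine ((Nat.bijective_iff_injective_and_card o).2 ⟨ho, ?_⟩).2
      rw [hH17, Nat.card_eq_fintype_card, Fintype.card_subtype_compl, Fintype.card_subtype_eq,
        ← Nat.card_eq_fintype_card, h18]
    intro B hB
    obtain ⟨τ, hτ⟩ := hsurj ⟨B, hB⟩
    exact ⟨τ, congrArg Subtype.val hτ⟩
  have hker : Nat.card c.ker ≤ 17 := by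
    let f : c.ker → {B : Sylow 17 G // B ≠ P} := fun σ =>
      ⟨(((σ : R) : (φ).range) : Equiv.Perm (Sylow 17 G)) A, fun e => hA
        ((((σ : R) : (φ).range) : Equiv.Perm (Sylow 17 G)).injective (e.trans (σ : R).2.symm))⟩
    have hf : Function.Injective f := by
      intro σ σ' e
      refine Subtype.ext (Subtype.ext (Subtype.ext (Equiv.ext fun B => ?_)))
      by_cases hB : B = P
      · rw [hB]; exact (σ : R).2.trans (σ' : R).2.symm
      obtain ⟨τ, rfl⟩ := horb B hB
      have hcomm : ∀ s : c.ker, (((s : R) : (φ).range) : Equiv.Perm (Sylow 17 G)) * τ =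
          τ * (((s : R) : (φ).range) : Equiv.Perm (Sylow 17 G)) := fun s => by
        have e1 : c (s : R) τ = τ := by rw [MonoidHom.mem_ker.1 s.2]; rfl
        exact mul_inv_eq_iff_eq_mul.1 (congrArg Subtype.val e1)
      have e1 := Equiv.congr_fun (hcomm σ) A
      have e2 := Equiv.congr_fun (hcomm σ') A
      simp only [Equiv.Perm.mul_apply] at e1 e2
      rw [e1, e2]
      exact congrArg _ (congrArg Subtype.val e)
    refine (Nat.card_le_card_of_injective f hf).trans (le_of_eq ?_)
    rw [Nat.card_eq_fintype_card, Fintype.card_subtype_compl, Fintype.card_subtype_eq,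
      ← Nat.card_eq_fintype_card, h18]
  have hRle : Nat.card R ≤ 17 * 16 := by
    rw [← c.ker.card_mul_index, Subgroup.index_ker]
    refine Nat.mul_le_mul hker ?_
    refine le_trans (Nat.le_of_dvd Nat.card_pos (Subgroup.card_subgroup_dvd_card c.range)) ?_
    rw [IsCyclic.card_mulAut, hH17]
    decide
  obtain ⟨d, hd⟩ := hdvd
  refine ⟨d, by rw [hcard, hd]; ring, ?_⟩
  omega

end Cfsg.Agent.H84
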