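import Cfsg.Agent.H84.SylowActionSeventeen

/-!
# The kernel on the Sylow 17-subgroups is trivial
-/

set_option linter.style.haveILetI false

namespace Cfsg.Agent.H84

open scoped commutatorElement

variable {G : Type*} [Group G] [Finite G]

local notation "φ" => MulAction.toPermHom G (Sylow 17 G)

/-- A normal subgroup in a centreless group that is covered by centralisers has trivial centre. -/
theorem eq_bot_of_center_le {r : ℕ} [Fact r.Prime] (hZ : Subgroup.center G = ⊥) {O : Subgroup G}
    (hOp : IsPGroup r O) {C K R : Subgroup G} (htop : C ⊔ K ⊔ R = ⊤)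
    (hC : ∀ z ∈ O, ∀ c ∈ C, c * z = z * c)
    (hK : ∀ z ∈ O, (∀ x ∈ O, x * z = z * x) → ∀ k ∈ K, k * z = z * k)
    (hR : ∀ z ∈ O, ∀ s ∈ R, s * z = z * s) : O = ⊥ := by
  by_contra hne
  haveI : Nontrivial O := Subgroup.nontrivial_iff_ne_bot _ |>.2 hne
  haveI : Nontrivial (Subgroup.center O) := hOp.center_nontrivial
  obtain ⟨z, hz1⟩ := exists_ne (1 : Subgroup.center O)
  have hz : ∀ x ∈ O, x * ((z : O) : G) = ((z : O) : G) * x := fun x hx =>
    congrArg Subtype.val (Subgroup.mem_center_iff.1 z.2 ⟨x, hx⟩)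
  have hall : (⊤ : Subgroup G) ≤ Subgroup.centralizer ({((z : O) : G)} : Set G) := by
    rw [← htop]
    refine sup_le (sup_le (fun c hc => ?_) (fun k hk => ?_)) (fun s hs => ?_) <;>
      rw [Subgroup.mem_centralizer_singleton_iff]
    · exact hC _ (z : O).2 c hc
    · exact hK _ (z : O).2 hz k hk
    · exact hR _ (z : O).2 s hs
  have hmem : ((z : O) : G) ∈ Subgroup.center G := Subgroup.mem_center_iff.2 fun g =>
    Subgroup.mem_centralizer_singleton_iff.1 (hall (Subgroup.mem_top g))
  rw [hZ, Subgroup.mem_bot] at hmem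
  exact hz1 (Subtype.ext (Subtype.ext hmem))

/-- The kernel of the action is trivial. -/
theorem kernel_eq_bot (hZ : Subgroup.center G = ⊥) (h : HasSylowNumbers G)
    (hrec : Nonempty ((φ).range ≃* Matrix.ProjGenLinGroup (Fin 2) (ZMod 17)) ∨
      Nonempty ((φ).range ≃* Matrix.ProjectiveSpecialLinearGroup (Fin 2) (ZMod 17))) :
    Function.Injective φ := by
  classical
  haveI f2 : Fact (Nat.Prime 2) := ⟨Nat.prime_two⟩
  haveI f3 : Fact (Nat.Prime 3) := ⟨Nat.prime_three⟩
  obtain ⟨L, hLn, hLi, hL⟩ := exists_psl_copy hrec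
  haveI := hLn
  set π := (φ).rangeRestrict with hπ
  have hπs : Function.Surjective π := (φ).rangeRestrict_surjective
  set K := (φ).ker with hK
  have hπK : π.ker = K := (φ).ker_rangeRestrict
  rw [← MonoidHom.ker_eq_bot_iff]
  -- primes of `PSL(2, 17)`
  have h2448 : 2448 ∣ Nat.card G := by
    rw [← hL.card_eq]
    exact (Subgroup.card_subgroup_dvd_card L).trans (Subgroup.card_range_dvd (φ))
  obtain ⟨hn2, hn3⟩ := h.two_three ((show 2 ∣ 2448 by norm_num).trans h2448)
    ((show 3 ∣ 2448 by norm_num).trans h2448)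
  have hn2' : ∀ r : ℕ, r = 2 → Nat.card (Sylow r G) = Nat.card (Sylow 2 G) := fun r e => e ▸ rfl
  have hn3' : ∀ r : ℕ, r = 3 → Nat.card (Sylow r G) = Nat.card (Sylow 3 G) := fun r e => e ▸ rfl
  -- the kernel normalises the Sylow 2-, 3- and 17-subgroups
  have hsmall : ∀ r : ℕ, ∀ (_ : Fact r.Prime), (r = 2 ∨ r = 3) → ∀ S : Sylow r G,
      K ≤ Subgroup.normalizer ((S : Subgroup G) : Set G) := by
    intro r _ hr S
    set N := Subgroup.normalizer ((S : Subgroup G) : Set G) with hN
    have hSbar : ∃ S' : Sylow r (φ).range, (S' : Subgroup (φ).range) = (S : Subgroup G).map π :=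
      ⟨S.mapSurjective hπs, Sylow.coe_mapSurjective hπs S⟩
    obtain ⟨S', hS'⟩ := hSbar
    have hle : N.map π ≤ Subgroup.normalizer ((S' : Subgroup (φ).range) : Set (φ).range) := by
      rintro _ ⟨g, hg, rfl⟩
      rw [hS', Subgroup.mem_normalizer_iff]
      intro y
      constructor
      · rintro ⟨s, hs, rfl⟩
        exact ⟨g * s * g⁻¹, (Subgroup.mem_normalizer_iff.1 hg s).1 hs, by
          rw [map_mul, map_mul, map_inv]⟩
      · rintro ⟨s, hs, e⟩
        refine ⟨g⁻¹ * s * g, ?_, ?_⟩
        · have := (Subgroup.mem_normalizer_iff.1 (inv_mem hg) s).1 hs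
          rw [inv_inv] at this
          exact this
        · rw [map_mul, map_mul, map_inv, e]; group
    have hb : Nat.card (Sylow r G) ≤
        (Subgroup.normalizer ((S' : Subgroup (φ).range) : Set (φ).range)).index := by
      rcases hr with e | e
      · rw [hn2' r e, hn2]; exact (index_normalizer_image L hLi hL S').1 e
      · rw [hn3' r e, hn3]; exact (index_normalizer_image L hLi hL S').2 e
    have h1 : N.index ≤ (N.map π).index := by
      refine (le_of_eq ?_).trans (hb.trans (Nat.le_of_dvd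
        (Nat.pos_of_ne_zero Subgroup.index_ne_zero_of_finite) (Subgroup.index_dvd_of_le hle)))
      exact S.card_eq_index_normalizer.symm
    rw [Subgroup.index_map, hπK, MonoidHom.range_eq_top.2 hπs, Subgroup.index_top, mul_one] at h1
    by_contra hKN
    have hlt : N < N ⊔ K := lt_of_le_of_ne le_sup_left fun e => hKN (le_sup_right.trans e.ge)
    exact absurd h1 (not_le.2 (Subgroup.index_strictAnti hlt))
  have hseventeen : ∀ S : Sylow 17 G, K ≤ Subgroup.normalizer ((S : Subgroup G) : Set G) :=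
    fun S k hk => Sylow.smul_eq_iff_mem_normalizer.1
      (Equiv.congr_fun (MonoidHom.mem_ker.1 hk) S)
  obtain ⟨P⟩ : Nonempty (Sylow 17 G) := inferInstance
  obtain ⟨T⟩ : Nonempty (Sylow 3 G) := inferInstance
  obtain ⟨S⟩ : Nonempty (Sylow 2 G) := inferInstance
  set O := (P : Subgroup G) ⊓ K with hO
  set K3 := (T : Subgroup G) ⊓ K with hK3
  set K2 := (S : Subgroup G) ⊓ K with hK2
  haveI hOn : O.Normal := sylow_inf_normal K P hseventeen
  haveI hK3n : K3.Normal := sylow_inf_normal K T (hsmall 3 f3 (Or.inr rfl))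
  haveI hK2n : K2.Normal := sylow_inf_normal K S (hsmall 2 f2 (Or.inl rfl))
  -- different primes commute
  have hO3 : O ⊓ K3 = ⊥ := IsPGroup.disjoint_of_ne 17 3 (by norm_num) O K3
    (P.isPGroup'.to_le inf_le_left) (T.isPGroup'.to_le inf_le_left) |>.eq_bot
  -- two normal subgroups mapping onto overgroups of `L`
  let c1 : Subgroup G :=
    (Subgroup.centralizer ((K.map (QuotientGroup.mk' O)) : Set (G ⧸ O))).comap (QuotientGroup.mk' O)
  let c3 : Subgroup G :=
    (Subgroup.centralizer ((K.map (QuotientGroup.mk' K3)) : Set (G ⧸ K3))).comap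
      (QuotientGroup.mk' K3)
  haveI : (K.map (QuotientGroup.mk' O)).Normal :=
    Subgroup.Normal.map inferInstance _ (QuotientGroup.mk'_surjective O)
  haveI : (K.map (QuotientGroup.mk' K3)).Normal :=
    Subgroup.Normal.map inferInstance _ (QuotientGroup.mk'_surjective K3)
  haveI : c1.Normal := Subgroup.Normal.comap inferInstance _
  haveI : c3.Normal := Subgroup.Normal.comap inferInstance _
  have hmemc : ∀ (M : Subgroup G) [M.Normal] (g : G),
      g ∈ (Subgroup.centralizer ((K.map (QuotientGroup.mk' M)) : Set (G ⧸ M))).comap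
        (QuotientGroup.mk' M) ↔ ∀ k ∈ K, ⁅g, k⁆ ∈ M := by
    intro M _ g
    rw [Subgroup.mem_comap, Subgroup.mem_centralizer_iff]
    constructor
    · intro hg k hk
      rw [← QuotientGroup.eq_one_iff, ← QuotientGroup.mk'_apply, map_commutatorElement,
        commutatorElement_eq_one_iff_mul_comm]
      exact (hg _ ⟨k, hk, rfl⟩).symm
    · rintro hg _ ⟨k, hk, rfl⟩
      have := (QuotientGroup.eq_one_iff _).2 (hg k hk)
      rw [← QuotientGroup.mk'_apply, map_commutatorElement,
        commutatorElement_eq_one_iff_mul_comm] at this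
      exact this.symm
  have hmem_inf : ∀ (r : ℕ) (_ : Fact r.Prime) (Q : Sylow r G),
      (∀ S : Sylow r G, K ≤ Subgroup.normalizer ((S : Subgroup G) : Set G)) →
      ∀ g ∈ (Q : Subgroup G), ∀ k ∈ K, ⁅g, k⁆ ∈ (Q : Subgroup G) ⊓ K := by
    intro r _ Q hQ g hg k hk
    rw [commutatorElement_def]
    refine ⟨?_, ?_⟩
    · have h1 := (Subgroup.mem_normalizer_iff.1 (hQ Q hk) g⁻¹).1 ((Q : Subgroup G).inv_mem hg)
      have h2 := (Q : Subgroup G).mul_mem hg h1
      rw [← mul_assoc, ← mul_assoc] at h2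
      exact h2
    · exact K.mul_mem ((inferInstance : K.Normal).conj_mem k hk g) (K.inv_mem hk)
  have hcover : ∀ (r : ℕ) (_ : Fact r.Prime) (Q : Sylow r G), r = 3 ∨ r = 17 →
      ∀ (D : Subgroup G), D.Normal → (Q : Subgroup G) ≤ D → L ≤ D.map π := by
    intro r _ Q hr D hD hQD
    haveI : (D.map π).Normal := hD.map π hπs
    have hd : r ∣ Nat.card L := by rw [hL.card_eq]; rcases hr with e | e <;> simp [e]
    obtain ⟨x, hx⟩ := exists_prime_orderOf_dvd_card' r hd
    have hxp : IsPGroup r (Subgroup.zpowers (x : (φ).range)) := IsPGroup.of_card (n := 1) (by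
      rw [Nat.card_zpowers, Subgroup.orderOf_coe, hx, pow_one])
    obtain ⟨Q', hQ'⟩ := hxp.exists_le_sylow
    let Qb : Sylow r (φ).range := Q.mapSurjective hπs
    obtain ⟨g, hg⟩ := MulAction.exists_smul_eq (φ).range Q' Qb
    have hxD : (x : (φ).range) ∈ D.map π := by
      have h1 : g * (x : (φ).range) * g⁻¹ ∈ (Qb : Subgroup (φ).range) := by
        rw [← hg, Sylow.coe_subgroup_smul]
        exact ⟨x, hQ' (Subgroup.mem_zpowers _), rfl⟩
      rw [Sylow.coe_mapSurjective] at h1
      have h2 := (inferInstance : (D.map π).Normal).conj_mem _ (Subgroup.map_mono hQD h1) g⁻¹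
      simpa [mul_assoc] using h2
    haveI := hL.simple
    rcases (inferInstance : ((D.map π).subgroupOf L).Normal).eq_bot_or_eq_top with e | e
    · exfalso
      have : x = 1 := by
        rw [← Subgroup.mem_bot, ← e]; exact hxD
      rw [this, orderOf_one] at hx
      exact (Fact.out : r.Prime).ne_one hx.symm
    · exact Subgroup.subgroupOf_eq_top.1 e
  have hc1 : L ≤ c1.map π := hcover 17 inferInstance P (Or.inr rfl) c1 inferInstance fun g hg =>
    (hmemc O g).2 fun k hk => hmem_inf 17 inferInstance P hseventeen g hg k hk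
  have hc3 : L ≤ c3.map π := hcover 3 f3 T (Or.inl rfl) c3 inferInstance fun g hg =>
    (hmemc K3 g).2 fun k hk => hmem_inf 3 f3 T (hsmall 3 f3 (Or.inr rfl)) g hg k hk
  -- the centraliser of `K` covers `L`
  set C := Subgroup.centralizer (K : Set G) with hCdef
  have hCsub : c1 ⊓ c3 ≤ C := by
    intro g hg
    rw [Subgroup.mem_centralizer_iff]
    intro k hk
    have h1 := (hmemc O g).1 hg.1 k hk
    have h2 := (hmemc K3 g).1 hg.2 k hk
    have h3 : ⁅g, k⁆ = 1 := by rw [← Subgroup.mem_bot, ← hO3]; exact ⟨h1, h2⟩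
    exact (commutatorElement_eq_one_iff_mul_comm.1 h3).symm
  have hLC : L ≤ C.map π := by
    have hLL : ⁅L, L⁆ = L := by
      haveI := hL.simple
      haveI : (⁅L, L⁆.subgroupOf L).Normal := inferInstance
      rcases (inferInstance : (⁅L, L⁆.subgroupOf L).Normal).eq_bot_or_eq_top with e | e
      · exfalso
        obtain ⟨x, hx⟩ := hL.exists_eight
        obtain ⟨y, hy⟩ := hL.exists_nine
        have hxy : Commute x y := by
          have hm : (⁅x, y⁆ : L) ∈ ⁅L, L⁆.subgroupOf L :=
            Subgroup.mem_subgroupOf.2 (by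
              simpa [commutatorElement_def] using Subgroup.commutator_mem_commutator x.2 y.2)
          rw [e, Subgroup.mem_bot] at hm
          exact commutatorElement_eq_one_iff_mul_comm.1 hm
        refine hL.not_commute (y := y ^ 3) (z := x ^ 4) ?_ ?_ ((hxy.symm.pow_pow 3 4).eq)
        · rw [orderOf_pow, hy]; rfl
        · rw [orderOf_pow, hx]; rfl
      · exact le_antisymm (Subgroup.commutator_le_left L L) (Subgroup.subgroupOf_eq_top.1 e)
    calc L = ⁅L, L⁆ := hLL.symm
      _ ≤ ⁅c1.map π, c3.map π⁆ := Subgroup.commutator_mono hc1 hc3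
      _ = (⁅c1, c3⁆).map π := (Subgroup.map_commutator _ _ _).symm
      _ ≤ C.map π := Subgroup.map_mono
          ((le_inf (Subgroup.commutator_le_left _ _) (Subgroup.commutator_le_right _ _)).trans hCsub)
  -- the kernel, that centraliser and a Sylow 2-subgroup generate
  have htop : C ⊔ K ⊔ (S : Subgroup G) = ⊤ := by
    have h1 : ((C ⊔ (S : Subgroup G)).map π) = ⊤ := by
      rw [← top_le_iff, Subgroup.map_sup]
      let S' : Sylow 2 (φ).range := S.mapSurjective hπs
      have e : L ⊔ (S' : Subgroup (φ).range) = ⊤ := by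
        refine Subgroup.index_eq_one.1 (Nat.eq_one_of_dvd_coprimes ?_
          ((Subgroup.index_dvd_of_le le_sup_left).trans hLi)
          (Subgroup.index_dvd_of_le (le_sup_right (a := L) (b := (S' : Subgroup (φ).range)))))
        exact Nat.prime_two.coprime_iff_not_dvd.2 S'.not_dvd_index
      rw [← e]
      exact sup_le_sup hLC (le_of_eq (Sylow.coe_mapSurjective hπs S))
    have h2 := congrArg (Subgroup.comap π) h1
    rw [Subgroup.comap_map_eq, hπK, Subgroup.comap_top] at h2
    rw [← h2]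
    simp [sup_comm, sup_assoc, sup_left_comm]
  -- only 2, 3 and 17 divide the kernel
  have hgen : O ⊔ K3 ⊔ K2 = K := by
    refine le_antisymm (sup_le (sup_le inf_le_right inf_le_right) inf_le_right) ?_
    rw [← Subgroup.relIndex_eq_one]
    by_contra hne
    set D := O ⊔ K3 ⊔ K2
    obtain ⟨r, hr, hrd⟩ := Nat.exists_prime_and_dvd hne
    have hrK : r ∣ Nat.card K := hrd.trans (Subgroup.index_dvd_card _)
    have hdvd : ∀ {X : Subgroup G}, X ≤ D → X ≤ K → D.relIndex K ∣ X.relIndex K := fun hXD _ =>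
      Subgroup.relIndex_dvd_of_le_left K hXD
    have h2 : r ≠ 2 := fun e => sylow_inf_coprime K S hK2n
      ((dvd_of_eq e.symm).trans (hrd.trans (hdvd le_sup_right inf_le_right)))
    have h3 : r ≠ 3 := fun e => sylow_inf_coprime K T hK3n
      ((dvd_of_eq e.symm).trans (hrd.trans (hdvd (le_sup_right.trans le_sup_left) inf_le_right)))
    have h17 : r ≠ 17 := fun e => sylow_inf_coprime K P hOn
      ((dvd_of_eq e.symm).trans (hrd.trans (hdvd (le_sup_left.trans le_sup_left) inf_le_right)))
    refine h.other_prime P hr h2 h3 h17 hrK ?_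
    rw [Subgroup.index_ker]
    intro hd
    have hmul := L.card_mul_index
    rw [hL.card_eq] at hmul
    rw [← hmul] at hd
    rcases hr.dvd_mul.1 hd with hd | hd
    · rw [show 2448 = 2 ^ 4 * (3 ^ 2 * 17) by norm_num] at hd
      rcases hr.dvd_mul.1 hd with hd | hd
      · exact h2 ((Nat.prime_dvd_prime_iff_eq hr Nat.prime_two).1 (hr.dvd_of_dvd_pow hd))
      · rcases hr.dvd_mul.1 hd with hd | hd
        · exact h3 ((Nat.prime_dvd_prime_iff_eq hr Nat.prime_three).1 (hr.dvd_of_dvd_pow hd))
        · exact h17 ((Nat.prime_dvd_prime_iff_eq hr (by norm_num)).1 hd)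
    · exact h2 ((Nat.prime_dvd_prime_iff_eq hr Nat.prime_two).1 (hd.trans hLi))
  have hCcomm : ∀ z ∈ K, ∀ c ∈ C, c * z = z * c := fun z hz c hc =>
    (Subgroup.mem_centralizer_iff.1 hc z hz).symm
  -- the odd parts are trivial
  have hodd : ∀ (r : ℕ) (_ : Fact r.Prime) (Q : Sylow r G), r ≠ 2 →
      ((Q : Subgroup G) ⊓ K).Normal →
      (∀ A : Subgroup G, A ≤ K → (A = O ∨ A = K3 ∨ A = K2) → A ≠ (Q : Subgroup G) ⊓ K →
        ((Q : Subgroup G) ⊓ K) ⊓ A = ⊥) →
      (Q : Subgroup G) ⊓ K = ⊥ := by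
    intro r _ Q hr2 hn hdis
    haveI := hn
    refine eq_bot_of_center_le hZ (Q.isPGroup'.to_le inf_le_left) htop
      (fun z hz => hCcomm z hz.2) (fun z hz hzc k hk => ?_) (fun z hz s hs => ?_)
    · have hle : K ≤ Subgroup.centralizer ({z} : Set G) := by
        rw [← hgen]
        have key : ∀ A : Subgroup G, A ≤ K → (A = O ∨ A = K3 ∨ A = K2) → A.Normal →
            A ≤ Subgroup.centralizer ({z} : Set G) := fun A hA hA' hAn a ha => by
          rw [Subgroup.mem_centralizer_singleton_iff]
          by_cases he : A = (Q : Subgroup G) ⊓ K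
          · exact hzc a (he ▸ ha)
          haveI := hAn
          exact commute_of_normalize (inf_comm ((Q : Subgroup G) ⊓ K) A ▸ hdis A hA hA' he)
            (Subgroup.normalizer_eq_top (H := (Q : Subgroup G) ⊓ K) ▸ le_top)
            (Subgroup.normalizer_eq_top (H := A) ▸ le_top) ha hz
        exact sup_le (sup_le (key O inf_le_right (Or.inl rfl) hOn)
          (key K3 inf_le_right (Or.inr (Or.inl rfl)) hK3n))
          (key K2 inf_le_right (Or.inr (Or.inr rfl)) hK2n)
      exact Subgroup.mem_centralizer_singleton_iff.1 (hle hk)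
    · refine commute_of_normalize ?_ (Subgroup.normalizer_eq_top (H := (Q : Subgroup G) ⊓ K) ▸ le_top)
        (inf_le_right.trans (hsmall 2 f2 (Or.inl rfl) S)) hs hz
      exact (IsPGroup.disjoint_of_ne 2 r (Ne.symm hr2) _ _ S.isPGroup'
        (Q.isPGroup'.to_le inf_le_left)).eq_bot
  have hO2 : O ⊓ K2 = ⊥ := IsPGroup.disjoint_of_ne 17 2 (by norm_num) O K2
    (P.isPGroup'.to_le inf_le_left) (S.isPGroup'.to_le inf_le_left) |>.eq_bot
  have h32 : K3 ⊓ K2 = ⊥ := IsPGroup.disjoint_of_ne 3 2 (by norm_num) K3 K2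
    (T.isPGroup'.to_le inf_le_left) (S.isPGroup'.to_le inf_le_left) |>.eq_bot
  have hObot : O = ⊥ := hodd 17 inferInstance P (by norm_num) hOn fun A _ hA hne => by
    rcases hA with rfl | rfl | rfl
    · exact absurd rfl hne
    · exact hO3
    · exact hO2
  have h3bot : K3 = ⊥ := hodd 3 f3 T (by norm_num) hK3n fun A _ hA hne => by
    rcases hA with rfl | rfl | rfl
    · rw [inf_comm]; exact hO3
    · exact absurd rfl hne
    · exact h32
  have hKS : K ≤ (S : Subgroup G) := by
    rw [← hgen, hObot, h3bot, bot_sup_eq, bot_sup_eq]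
    exact inf_le_left
  -- the 2-part
  by_contra hne
  haveI : Group.IsNilpotent (S : Subgroup G) := S.isPGroup'.isNilpotent
  have hnb : K.subgroupOf (S : Subgroup G) ≠ ⊥ := fun e => hne (by
    rw [Subgroup.subgroupOf_eq_bot] at e
    exact disjoint_self.1 (e.mono_right hKS))
  obtain ⟨z, hz1⟩ := Subgroup.ne_bot_iff_exists_ne_one.1
    (Cfsg.Agent.H24.inf_center_ne_bot (K.subgroupOf (S : Subgroup G)) hnb)
  have hzK : (((z : (S : Subgroup G))) : G) ∈ K := z.2.1
  have hzS : ∀ s ∈ (S : Subgroup G), s * ((z : (S : Subgroup G)) : G) =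
      ((z : (S : Subgroup G)) : G) * s := fun s hs =>
    congrArg Subtype.val (Subgroup.mem_center_iff.1 z.2.2 ⟨s, hs⟩)
  have hall : (⊤ : Subgroup G) ≤ Subgroup.centralizer ({((z : (S : Subgroup G)) : G)} : Set G) := by
    rw [← htop]
    refine sup_le (sup_le (fun c hc => ?_) (fun k hk => ?_)) (fun s hs => ?_) <;>
      rw [Subgroup.mem_centralizer_singleton_iff]
    · exact hCcomm _ hzK c hc
    · exact hzS k (hKS hk)
    · exact hzS s hs
  have hmem : ((z : (S : Subgroup G)) : G) ∈ Subgroup.center G := Subgroup.mem_center_iff.2 fun g =>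
    Subgroup.mem_centralizer_singleton_iff.1 (hall (Subgroup.mem_top g))
  rw [hZ, Subgroup.mem_bot] at hmem
  exact hz1 (Subtype.ext (Subtype.ext hmem))

/-- The recognition theorem, given the classification of the image. -/
theorem recognise_seventeen (hZ : Subgroup.center G = ⊥) (h : HasSylowNumbers G)
    (hrec : Nonempty ((φ).range ≃* Matrix.ProjGenLinGroup (Fin 2) (ZMod 17)) ∨
      Nonempty ((φ).range ≃* Matrix.ProjectiveSpecialLinearGroup (Fin 2) (ZMod 17))) :
    Nonempty (G ≃* Matrix.ProjGenLinGroup (Fin 2) (ZMod 17)) ∨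
      Nonempty (G ≃* Matrix.ProjectiveSpecialLinearGroup (Fin 2) (ZMod 17)) := by
  have hinj := kernel_eq_bot hZ h hrec
  exact hrec.imp (fun ⟨e⟩ => ⟨(MonoidHom.ofInjective hinj).trans e⟩)
    (fun ⟨e⟩ => ⟨(MonoidHom.ofInjective hinj).trans e⟩)

end Cfsg.Agent.H84
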