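import Cfsg.Agent.H84.OrderTwoFourFourEight
import Cfsg.Agent.H24.Nilp

/-!
# Centreless groups with the Sylow numbers of `PSL(2, 17)`
-/

set_option linter.style.haveILetI false

namespace Cfsg.Agent.H84

variable {G : Type*} [Group G] [Finite G]

theorem commute_of_normalize {A B : Subgroup G} (h : A ⊓ B = ⊥)
    (hA : A ≤ Subgroup.normalizer (B : Set G)) (hB : B ≤ Subgroup.normalizer (A : Set G))
    {a b : G} (ha : a ∈ A) (hb : b ∈ B) : a * b = b * a := by
  have h1 : a * b * a⁻¹ * b⁻¹ ∈ B :=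
    mul_mem ((Subgroup.mem_normalizer_iff.1 (hA ha) b).1 hb) (inv_mem hb)
  have h2 : a * b * a⁻¹ * b⁻¹ ∈ A := by
    have := (Subgroup.mem_normalizer_iff.1 (hB hb) a⁻¹).1 (inv_mem ha)
    simpa [mul_assoc] using mul_mem ha this
  have h3 : a * b * a⁻¹ * b⁻¹ = 1 := by
    rw [← Subgroup.mem_bot, ← h]; exact ⟨h2, h1⟩
  rwa [← commutatorElement_def, commutatorElement_eq_one_iff_mul_comm] at h3

/-- If a normal subgroup `K` normalises every Sylow `r`-subgroup, their traces on `K` are equal. -/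
theorem sylow_inf_eq {r : ℕ} [Fact r.Prime] (K : Subgroup G) (P Q : Sylow r G)
    (hK : ∀ S : Sylow r G, K ≤ Subgroup.normalizer ((S : Subgroup G) : Set G)) :
    (P : Subgroup G) ⊓ K = (Q : Subgroup G) ⊓ K := by
  suffices h : ∀ P Q : Sylow r G, (P : Subgroup G) ⊓ K ≤ (Q : Subgroup G) from
    le_antisymm (le_inf (h P Q) inf_le_right) (le_inf (h Q P) inf_le_right)
  intro P Q
  have hp : IsPGroup r ↥((P : Subgroup G) ⊓ K) := P.isPGroup'.to_le inf_le_left
  have h : (P : Subgroup G) ⊓ K ⊓ Subgroup.normalizer ((Q : Subgroup G) : Set G) =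
      (P : Subgroup G) ⊓ K ⊓ (Q : Subgroup G) := hp.inf_normalizer_sylow Q
  rw [inf_eq_left.2 (inf_le_right.trans (hK Q))] at h
  rw [h]
  exact inf_le_right

theorem sylow_inf_normal {r : ℕ} [Fact r.Prime] (K : Subgroup G) [hKn : K.Normal] (P : Sylow r G)
    (hK : ∀ S : Sylow r G, K ≤ Subgroup.normalizer ((S : Subgroup G) : Set G)) :
    ((P : Subgroup G) ⊓ K).Normal := by
  refine ⟨fun a ha g => ?_⟩
  rw [sylow_inf_eq K P (g • P) hK]
  refine ⟨?_, hKn.conj_mem a ha.2 g⟩
  show g * a * g⁻¹ ∈ ((g • P : Sylow r G) : Subgroup G)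
  rw [Sylow.coe_subgroup_smul]
  exact ⟨a, ha.1, rfl⟩

theorem relIndex_sup_normal (H K : Subgroup G) [K.Normal] :
    H.relIndex (H ⊔ K) = H.relIndex K := by
  have h1 := Subgroup.relIndex_mul_relIndex (H ⊓ K) H (H ⊔ K) inf_le_left le_sup_left
  have h2 := Subgroup.relIndex_mul_relIndex (H ⊓ K) K (H ⊔ K) inf_le_right le_sup_right
  rw [Subgroup.inf_relIndex_left] at h1
  rw [Subgroup.inf_relIndex_right, Subgroup.relIndex_sup_right, ← h1, mul_comm] at h2
  exact (Nat.eq_of_mul_eq_mul_left (Nat.pos_of_ne_zero Subgroup.index_ne_zero_of_finite) h2).symm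

theorem sylow_inf_coprime {r : ℕ} [Fact r.Prime] (K : Subgroup G) [K.Normal] (P : Sylow r G)
    (hn : ((P : Subgroup G) ⊓ K).Normal) : ¬ r ∣ ((P : Subgroup G) ⊓ K).relIndex K := by
  rw [Subgroup.inf_relIndex_right]
  intro h
  refine P.not_dvd_index (h.trans ?_)
  rw [← relIndex_sup_normal, ← Subgroup.relIndex_mul_index (le_sup_left (b := K) (a := (P : Subgroup G)))]
  exact dvd_mul_right _ _

/-- The Sylow numbers of `G` are those of `PSL(2, 17)`. -/
def HasSylowNumbers (G : Type*) [Group G] : Prop :=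
  {c : ℕ | ∃ r : ℕ, r.Prime ∧ r ∣ Nat.card G ∧ c = Nat.card (Sylow r G)} = ({18, 136, 153} : Set ℕ)

theorem HasSylowNumbers.mem (h : HasSylowNumbers G) {r : ℕ} (hr : r.Prime) (hd : r ∣ Nat.card G) :
    Nat.card (Sylow r G) = 18 ∨ Nat.card (Sylow r G) = 136 ∨ Nat.card (Sylow r G) = 153 := by
  have : Nat.card (Sylow r G) ∈ ({18, 136, 153} : Set ℕ) := h ▸ ⟨r, hr, hd, rfl⟩
  simpa using this

theorem sylow_modEq {r : ℕ} (hr : r.Prime) : Nat.card (Sylow r G) % r = 1 := by
  haveI := Fact.mk hr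
  have h := card_sylow_modEq_one r G
  rw [Nat.ModEq, Nat.mod_eq_of_lt hr.one_lt] at h
  exact h

theorem HasSylowNumbers.seventeen (h : HasSylowNumbers G) :
    Nat.card (Sylow 17 G) = 18 ∧ 17 ∣ Nat.card G := by
  have : (18 : ℕ) ∈ {c : ℕ | ∃ r : ℕ, r.Prime ∧ r ∣ Nat.card G ∧ c = Nat.card (Sylow r G)} := by
    rw [show {c : ℕ | ∃ r : ℕ, r.Prime ∧ r ∣ Nat.card G ∧ c = Nat.card (Sylow r G)} = _ from h]
    simp
  obtain ⟨r, hr, hd, he⟩ := this
  have h1 := sylow_modEq (G := G) hr
  rw [← he] at h1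
  have h17 : r ∣ 17 := by
    have := (Nat.modEq_iff_dvd' (show 1 ≤ 18 by norm_num)).1
      (show 1 ≡ 18 [MOD r] by rw [Nat.ModEq, h1, Nat.mod_eq_of_lt hr.one_lt])
    simpa using this
  have := (Nat.prime_dvd_prime_iff_eq hr (by norm_num)).1 h17
  subst this
  exact ⟨he.symm, hd⟩

theorem HasSylowNumbers.two_three (h : HasSylowNumbers G) (h2 : 2 ∣ Nat.card G)
    (h3 : 3 ∣ Nat.card G) : Nat.card (Sylow 2 G) = 153 ∧ Nat.card (Sylow 3 G) = 136 := by
  have a := sylow_modEq (G := G) Nat.prime_two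
  have b := sylow_modEq (G := G) Nat.prime_three
  rcases h.mem Nat.prime_two h2 with e | e | e <;> rcases h.mem Nat.prime_three h3 with f | f | f <;>
    omega

/-- Other primes do not divide the kernel of the action on the Sylow 17-subgroups. -/
theorem HasSylowNumbers.other_prime (h : HasSylowNumbers G) {K : Subgroup G} [K.Normal]
    (P : Sylow 17 G) [((P : Subgroup G) ⊓ K).Normal] {r : ℕ} (hr : r.Prime) (h2 : r ≠ 2)
    (h3 : r ≠ 3) (h17 : r ≠ 17) (hrK : r ∣ Nat.card K) (hidx : ¬ r ∣ K.index) : False := by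
  haveI := Fact.mk hr
  haveI : Fact (Nat.Prime 17) := ⟨by norm_num⟩
  have hd : r ∣ Nat.card G := hrK.trans (Subgroup.card_subgroup_dvd_card _)
  have hmem := h.mem hr hd
  have hmod := sylow_modEq (G := G) hr
  -- the Sylow subgroup lies in `K`
  obtain ⟨R⟩ : Nonempty (Sylow r G) := inferInstance
  have hRK : (R : Subgroup G) ≤ K := by
    obtain ⟨k, hk⟩ := IsPGroup.iff_card.1 R.isPGroup'
    rw [← Subgroup.relIndex_eq_one]
    refine Nat.eq_one_of_dvd_coprimes ((hr.coprime_iff_not_dvd.2 hidx).pow_left k)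
      (hk ▸ ?_) (Subgroup.relIndex_dvd_index_of_normal _ _)
    exact Subgroup.index_dvd_card _
  -- the number of Sylow subgroups is the index inside `K`
  set N := Subgroup.normalizer ((R : Subgroup G) : Set G) with hN
  have hn : Nat.card (Sylow r G) = N.relIndex K := by
    refine R.card_eq_index_normalizer.trans ?_
    show N.index = _
    have hsup : K ⊔ N = ⊤ := by
      have e : N ⊔ K = ⊤ := R.normalizer_sup_eq_top' hRK
      rw [sup_comm, e]
    rw [← Subgroup.relIndex_top_right, ← hsup, sup_comm, relIndex_sup_normal]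
  have h17dvd : 17 ∣ Nat.card (Sylow r G) := by
    rcases hmem with e | e | e
    · rw [e] at hmod
      have h1 : r ∣ 17 := by
        have := (Nat.modEq_iff_dvd' (show 1 ≤ 18 by norm_num)).1
          (show 1 ≡ 18 [MOD r] by rw [Nat.ModEq, hmod, Nat.mod_eq_of_lt hr.one_lt])
        simpa using this
      exact absurd ((Nat.prime_dvd_prime_iff_eq hr (by norm_num)).1 h1) h17
    · rw [e]; norm_num
    · rw [e]; norm_num
  have hle153 : Nat.card (Sylow r G) ≤ 153 := by rcases hmem with e | e | e <;> omega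
  set O := (P : Subgroup G) ⊓ K with hO
  -- `O` normalises `R`
  have hON : O ≤ N := by
    set D := O ⊔ (R : Subgroup G) with hD
    have hRD : (R : Subgroup G) ≤ D := le_sup_right
    let R' : Sylow r D := R.subtype hRD
    have hinj : Nat.card (Sylow r D) ≤ Nat.card (Sylow r G) := by
      refine Nat.card_le_card_of_injective (fun S => Classical.choose (S.exists_comap_subtype_eq))
        fun S S' e => ?_
      have e1 := Classical.choose_spec (S.exists_comap_subtype_eq)
      have e2 := Classical.choose_spec (S'.exists_comap_subtype_eq)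
      exact Sylow.ext (by rw [← e1, ← e2]; simp only at e; rw [e])
    have hpow : ∃ b, Nat.card (Sylow r D) = 17 ^ b := by
      obtain ⟨j, hj⟩ := IsPGroup.iff_card.1 (P.isPGroup'.to_le (inf_le_left : O ≤ (P : Subgroup G)))
      have hd1 : Nat.card (Sylow r D) ∣ (R' : Subgroup D).index := R'.card_dvd_index
      have hd2 : (R' : Subgroup D).index ∣ Nat.card O := by
        show ((R : Subgroup G).subgroupOf D).index ∣ Nat.card O
        rw [show ((R : Subgroup G).subgroupOf D).index = (R : Subgroup G).relIndex D from rfl, hD,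
          sup_comm]
        rw [relIndex_sup_normal]
        exact Subgroup.index_dvd_card _
      obtain ⟨b, -, hb⟩ := (Nat.dvd_prime_pow (show Nat.Prime 17 by norm_num)).1 (hj ▸ hd1.trans hd2)
      exact ⟨b, hb⟩
    obtain ⟨b, hb⟩ := hpow
    have hb0 : b = 0 := by
      have hm := sylow_modEq (G := D) hr
      rw [hb] at hm
      rcases b with _ | _ | b
      · rfl
      · exfalso
        have h16 : r ∣ 16 := by
          have := (Nat.modEq_iff_dvd' (show 1 ≤ 17 by norm_num)).1
            (show 1 ≡ 17 [MOD r] by rw [Nat.ModEq, Nat.mod_eq_of_lt hr.one_lt]; simpa using hm.symm)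
          simpa using this
        exact h2 ((Nat.prime_dvd_prime_iff_eq hr Nat.prime_two).1
          (hr.dvd_of_dvd_pow (show r ∣ 2 ^ 4 from h16)))
      · exfalso
        have : 17 ^ (b + 2) ≤ 153 := hb ▸ hinj.trans hle153
        have : 17 ^ 2 ≤ 17 ^ (b + 2) := Nat.pow_le_pow_right (by norm_num) (by omega)
        omega
    rw [hb0, pow_zero] at hb
    haveI : Subsingleton (Sylow r D) := (Nat.card_eq_one_iff_unique.1 hb).1
    have hnor : ((R' : Subgroup D)).Normal := R'.normal_of_subsingleton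
    have := (Subgroup.normal_subgroupOf_iff_le_normalizer hRD).1 hnor
    exact le_sup_left.trans this
  have h17' : ¬ 17 ∣ O.relIndex K := sylow_inf_coprime K P inferInstance
  refine h17' (h17dvd.trans ?_)
  rw [hn]
  exact Subgroup.relIndex_dvd_of_le_left K hON

end Cfsg.Agent.H84
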