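import Cfsg.Agent.H84.PComplementUnique
import Cfsg.Agent.H84.Kernel
import Cfsg.Agent.BlockBasic.Orth
import Cfsg.Agent.S0910

/-!
# Simple groups of order `p ^ a * q ^ b * r`
-/

set_option linter.style.haveILetI false

namespace Cfsg.Agent.H84

open Cfsg.Agent
open scoped ComplexConjugate

variable {G : Type*} [Group G] [Finite G]

/-- No element of order `p * r`. -/
theorem no_commuting_pair [IsSimpleGroup G] (hna : ∃ a b : G, a * b ≠ b * a) {p q r a b : ℕ}
    (hp : p.Prime) (hq : q.Prime) (hr : r.Prime) (hpr : p ≠ r) (hqr : q ≠ r)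
    (hcard : Nat.card G = p ^ a * q ^ b * r) (g : G) (hpg : p ∣ orderOf g)
    (hrg : r ∣ orderOf g) : False := by
  classical
  haveI := Fact.mk hp
  haveI := Fact.mk hr
  obtain ⟨M, hM⟩ := BlockBasic.exists_isPModular hp
  have hB := BlockBasic.isPBlock_principalBlock (G := G) M
  have hker := BlockBasic.blockKernel_eq_zero_of_regular_of_singular hM hB (g := 1) (h := g)
    (by rw [orderOf_one]; exact hp.not_dvd_one) hpg
  rw [BlockBasic.blockKernel, BlockBasic.finsum_mem_eq_sum_ite] at hker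
  let one : Cfsg.IrrCharacter G := ⟨fun _ => 1, CharBasic.isIrrCharacter_one⟩
  have hone : one ∈ Cfsg.principalBlock M G := BlockBasic.sameBlock_refl hM _
  rw [← Finset.add_sum_erase _ _ (Finset.mem_univ one), if_pos hone] at hker
  simp only [one, map_one, mul_one] at hker
  have hdiv : ∀ χ ∈ Finset.univ.erase one, ∃ z : ℂ, IsIntegral ℤ z ∧
      (if χ ∈ Cfsg.principalBlock M G then (χ : G → ℂ) 1 * conj ((χ : G → ℂ) g) else 0) =
        (q : ℂ) * z := by
    intro χ hχ
    split_ifs with hmem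
    swap
    · exact ⟨0, isIntegral_zero, by simp⟩
    by_cases hq' : q ∣ Cfsg.charDegree (χ : G → ℂ)
    · obtain ⟨c, hc⟩ := hq'
      refine ⟨(c : ℂ) * conj ((χ : G → ℂ) g), (isIntegral_natCast ..).mul ?_, ?_⟩
      · rw [← CharBasic.IsChar.inv_apply (CharBasic.IsIrr.isCharacter χ.2)]
        exact CharBasic.IsChar.isIntegral (CharBasic.IsIrr.isCharacter χ.2) _
      · rw [BlockBasic.apply_one_eq_charDegree, hc]; push_cast; ring
    · refine ⟨0, isIntegral_zero, ?_⟩
      by_cases hr' : r ∣ Cfsg.charDegree (χ : G → ℂ)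
      · have h0 : ¬ r ∣ Nat.card G / Cfsg.charDegree (χ : G → ℂ) := by
          intro h
          have h1 : r * r ∣ Nat.card G := by
            rw [← Nat.mul_div_cancel' (BlockBasic.charDegree_dvd χ)]
            exact Nat.mul_dvd_mul hr' h
          rw [hcard] at h1
          have h2 : r ∣ p ^ a * q ^ b := Nat.dvd_of_mul_dvd_mul_right hr.pos h1
          rcases hr.dvd_mul.1 h2 with h3 | h3
          · exact hpr ((Nat.prime_dvd_prime_iff_eq hr hp).1 (hr.dvd_of_dvd_pow h3)).symm
          · exact hqr ((Nat.prime_dvd_prime_iff_eq hr hq).1 (hr.dvd_of_dvd_pow h3)).symm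
        rw [apply_eq_zero_of_defect_zero χ h0 hrg]
        simp
      · exfalso
        have hd := BlockBasic.charDegree_dvd χ
        rw [hcard] at hd
        have hd2 : Cfsg.charDegree (χ : G → ℂ) ∣ p ^ a * q ^ b :=
          (hr.coprime_iff_not_dvd.2 hr').symm.dvd_of_dvd_mul_right hd
        have hd3 : Cfsg.charDegree (χ : G → ℂ) ∣ p ^ a :=
          (Nat.Coprime.pow_right b (hq.coprime_iff_not_dvd.2 hq').symm).dvd_of_dvd_mul_right hd2
        obtain ⟨i, -, hi⟩ := (Nat.dvd_prime_pow hp).1 hd3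
        exact Finset.ne_of_mem_erase hχ (Subtype.ext (S0910.result p M hM hna χ hmem i
          (by rw [BlockBasic.apply_one_eq_charDegree, hi, Nat.cast_pow])))
  choose! z hz hzeq using hdiv
  rw [Finset.sum_congr rfl hzeq, ← Finset.mul_sum] at hker
  refine hq.not_dvd_one (dvd_of_natCast_eq_mul (IsIntegral.neg (IsIntegral.sum _ hz)) ?_)
  rw [mul_neg, Nat.cast_one]
  linear_combination hker

/-- S0904. -/
theorem centralizer_sylow_eq [IsSimpleGroup G] (p q r a b : ℕ) (hp : p.Prime) (hq : q.Prime)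
    [hr : Fact r.Prime] (hpr : p ≠ r) (hqr : q ≠ r)
    (hcard : Nat.card G = p ^ a * q ^ b * r) (S : Sylow r G) :
    Subgroup.centralizer (S : Set G) = (S : Subgroup G) := by
  have hScard : Nat.card (S : Subgroup G) = r := by
    rw [S.card_eq_multiplicity, hcard, Nat.factorization_mul
      (Nat.mul_ne_zero (pow_ne_zero a hp.ne_zero) (pow_ne_zero b hq.ne_zero)) hr.out.ne_zero,
      Nat.factorization_mul (pow_ne_zero a hp.ne_zero) (pow_ne_zero b hq.ne_zero),
      hp.factorization_pow, hq.factorization_pow, hr.out.factorization]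
    simp [Finsupp.single_apply, hpr, hqr]
  haveI : IsCyclic (S : Subgroup G) := isCyclic_of_prime_card hScard
  have hle : (S : Subgroup G) ≤ Subgroup.centralizer (S : Set G) := fun x hx =>
    Subgroup.mem_centralizer_iff.2 fun y hy => congrArg Subtype.val
      ((IsCyclic.isMulCommutative (α := (S : Subgroup G))).is_comm.comm ⟨y, hy⟩ ⟨x, hx⟩)
  refine (le_antisymm hle ?_).symm
  by_cases hab : ∀ x y : G, x * y = y * x
  · -- the group has prime order
    letI : CommGroup G := { (inferInstance : Group G) with mul_comm := hab }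
    have hprime : (Nat.card G).Prime := IsSimpleGroup.prime_card
    have h1 : r ∣ Nat.card G := ⟨p ^ a * q ^ b, by rw [hcard]; ring⟩
    have h2 := (Nat.prime_dvd_prime_iff_eq hr.out hprime).1 h1
    intro x _
    rw [Subgroup.eq_top_of_card_eq (S : Subgroup G) (by rw [hScard, h2])]
    trivial
  push Not at hab
  by_contra hne
  obtain ⟨x, hxC, hxS⟩ := SetLike.not_le_iff_exists.1 hne
  -- a prime other than `r` divides the order of the centraliser
  have hdvd : ∃ ℓ : ℕ, ℓ.Prime ∧ ℓ ∣ Nat.card (Subgroup.centralizer (S : Set G)) ∧ ℓ ≠ r := by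
    by_contra hc
    push Not at hc
    obtain ⟨k, hk⟩ : ∃ k, Nat.card (Subgroup.centralizer (S : Set G)) = r ^ k :=
      ⟨_, Nat.eq_prime_pow_of_unique_prime_dvd Nat.card_pos.ne' fun {ℓ} hℓ hd => hc ℓ hℓ hd⟩
    have h := S.is_maximal' (IsPGroup.of_card hk) hle
    exact hxS (h ▸ hxC)
  obtain ⟨ℓ, hℓ, hℓd, hℓr⟩ := hdvd
  haveI := Fact.mk hℓ
  obtain ⟨y, hy⟩ := exists_prime_orderOf_dvd_card' ℓ hℓd
  obtain ⟨s, hs⟩ := IsCyclic.exists_ofOrder_eq_natCard (α := (S : Subgroup G))
  have hcomm : Commute (s : G) (y : G) := Subgroup.mem_centralizer_iff.1 y.2 _ s.2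
  have ho : orderOf ((s : G) * y) = r * ℓ := by
    rw [hcomm.orderOf_mul_eq_mul_orderOf_of_coprime]
    · rw [Subgroup.orderOf_coe, Subgroup.orderOf_coe, hs, hScard, hy]
    · rw [Subgroup.orderOf_coe, Subgroup.orderOf_coe, hs, hScard, hy]
      exact (Nat.coprime_primes hr.out hℓ).2 hℓr.symm
  have hℓG : ℓ ∣ p ^ a * q ^ b * r := hcard ▸ hℓd.trans (Subgroup.card_subgroup_dvd_card _)
  rcases hℓ.dvd_mul.1 hℓG with h | h
  · rcases hℓ.dvd_mul.1 h with h' | h'
    · obtain rfl := (Nat.prime_dvd_prime_iff_eq hℓ hp).1 (hℓ.dvd_of_dvd_pow h')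
      exact no_commuting_pair hab hp hq hr.out hpr hqr hcard _ (ho ▸ dvd_mul_left _ _)
        (ho ▸ dvd_mul_right _ _)
    · obtain rfl := (Nat.prime_dvd_prime_iff_eq hℓ hq).1 (hℓ.dvd_of_dvd_pow h')
      exact no_commuting_pair (a := b) (b := a) hab hq hp hr.out hqr hpr (by rw [hcard]; ring) _
        (ho ▸ dvd_mul_left _ _) (ho ▸ dvd_mul_right _ _)
  · exact hℓr ((Nat.prime_dvd_prime_iff_eq hℓ hr.out).1 h)

end Cfsg.Agent.H84
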