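import Mathlib.RingTheory.Valuation.LocalSubring
import Mathlib.RepresentationTheory.Basic
import Mathlib.Analysis.Complex.Basic
import Mathlib.LinearAlgebra.Dimension.Finite
import Mathlib.LinearAlgebra.FiniteDimensional.Basic
import Mathlib.GroupTheory.PGroup
import Mathlib.GroupTheory.FiniteAbelian.Basic
import Mathlib.RepresentationTheory.Subrepresentation
import Mathlib.LinearAlgebra.FreeModule.Finite.Matrix

/-!
# Fixed vectors of modules of small dimension

If a `p`-subgroup `P ≤ N` of `G` acts freely on the cosets of `N` other than `N` itself, then in a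
complex representation of dimension less than `#P` without nonzero `G`-fixed vectors there is no
nonzero `N`-fixed vector.  The proof reduces modulo a valuation of `ℂ` over `p`: a trace from
the trivial subgroup to `P` is divisible by the maximal ideal in dimension less than `#P`.
-/

set_option linter.style.haveILetI false
set_option linter.unusedSectionVars false

namespace Cfsg.Agent.H84

open Module

theorem exists_valuationSubring (p : ℕ) [hp : Fact p.Prime] :
    ∃ A : ValuationSubring ℂ, A.valuation (p : ℂ) < 1 := by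
  let R := (Int.castRingHom ℂ).range
  let q : R := ⟨(p : ℂ), ⟨p, by simp⟩⟩
  have hne : Ideal.span {q} ≠ (⊤ : Ideal R) := fun h => by
    rw [Ideal.span_singleton_eq_top, isUnit_iff_exists_inv] at h
    obtain ⟨⟨b, z, hz⟩, hb⟩ := h
    have hb' : (p : ℂ) * b = 1 := congrArg Subtype.val hb
    rw [← hz, eq_intCast] at hb'
    have h1 : (p : ℤ) * z = 1 := by exact_mod_cast hb'
    have h2 : (p : ℤ) = 1 := Int.eq_one_of_mul_eq_one_right (by positivity) h1
    exact hp.out.ne_one (by exact_mod_cast h2)
  obtain ⟨B, -, hB⟩ := Ideal.image_subset_nonunits_valuationSubring _ hne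
  exact ⟨B, B.mem_nonunits_iff.mp (hB ⟨q, Ideal.mem_span_singleton_self q, rfl⟩)⟩

/-- In characteristic `p`, a nonzero translation invariant additive subgroup of functions on a
finite `p`-group contains a nonzero constant. -/
theorem exists_const_mem {p : ℕ} [hp : Fact p.Prime] {P : Type*} [Group P] [Finite P]
    (hP : IsPGroup p P) {k : Type*} [CommRing k] (hpk : (p : k) = 0)
    (I : AddSubgroup (P → k)) (hI : ∀ (u : P) (a), a ∈ I → (fun g => a (u⁻¹ * g)) ∈ I)
    {a : P → k} (ha : a ∈ I) (ha0 : a ≠ 0) :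
    ∃ c : k, c ≠ 0 ∧ (fun _ => c) ∈ I := by
  haveI : CharP k p := by
    haveI : Nontrivial k := by
      by_contra h
      rw [not_nontrivial_iff_subsingleton] at h
      exact ha0 (funext fun g => Subsingleton.elim _ _)
    exact (CharP.charP_iff_prime_eq_zero hp.out).mpr hpk
  let T : P → (P → k) := fun u g => a (u⁻¹ * g)
  let S : AddSubgroup (P → k) := AddSubgroup.closure (Set.range T)
  have hSI : S ≤ I := (AddSubgroup.closure_le _).2 fun x ⟨u, hu⟩ => hu ▸ hI u a ha
  have haS : a ∈ S := AddSubgroup.subset_closure ⟨1, funext fun g => by simp [T]⟩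
  have htor : ∀ x : P → k, p • x = 0 := fun x => funext fun g => by simp [nsmul_eq_mul]
  haveI : AddGroup.FG S := (AddGroup.fg_iff_addSubgroup_fg S).2
    ((AddSubgroup.fg_iff _).2 ⟨Set.range T, rfl, Set.finite_range T⟩)
  haveI : Finite S := AddCommGroup.finite_of_fg_isAddTorsion S fun x => by
    refine isOfFinAddOrder_iff_nsmul_eq_zero.2 ⟨p, hp.out.pos, Subtype.ext ?_⟩
    simpa using htor x
  have hinv : ∀ (u : P) (x : S), (fun g => (x : P → k) (u⁻¹ * g)) ∈ S := by
    intro u x
    obtain ⟨x, hx⟩ := x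
    induction hx using AddSubgroup.closure_induction with
    | mem y hy =>
      obtain ⟨v, rfl⟩ := hy
      exact AddSubgroup.subset_closure ⟨u * v, funext fun g => by simp [T, mul_assoc]⟩
    | zero => exact S.zero_mem
    | add y z _ _ h1 h2 => exact S.add_mem h1 h2
    | neg y _ h1 => exact S.neg_mem h1
  letI act : MulAction P S :=
    { smul := fun u x => ⟨fun g => (x : P → k) (u⁻¹ * g), hinv u x⟩
      one_smul := fun x => Subtype.ext (funext fun g => by
        show (x : P → k) (1⁻¹ * g) = _; simp)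
      mul_smul := fun u v x => Subtype.ext (funext fun g => by
        show (x : P → k) ((u * v)⁻¹ * g) = (x : P → k) (v⁻¹ * (u⁻¹ * g)); simp [mul_assoc]) }
  have hdvd : p ∣ Nat.card S := by
    have hord : addOrderOf (⟨a, haS⟩ : S) = p := by
      refine addOrderOf_eq_prime (Subtype.ext (htor a)) fun h => ha0 ?_
      exact congrArg Subtype.val h
    exact hord ▸ addOrderOf_dvd_natCard _
  have h0 : (0 : S) ∈ MulAction.fixedPoints P S := fun u => Subtype.ext (funext fun g => rfl)
  obtain ⟨b, hb, hb0⟩ := hP.exists_fixed_point_of_prime_dvd_card_of_fixed_point S hdvd h0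
  have hconst : (b : P → k) = fun _ => (b : P → k) 1 := funext fun g => by
    have h : (fun g' => (b : P → k) (g⁻¹ * g')) g = (b : P → k) g :=
      congrFun (congrArg Subtype.val (hb g)) g
    simpa using h.symm
  refine ⟨(b : P → k) 1, fun hc => hb0 (Subtype.ext ?_), ?_⟩
  · rw [hconst, hc]; rfl
  · rw [← hconst]; exact hSI b.2

section Core

variable {p : ℕ} [hp : Fact p.Prime] {G : Type*} [Group G] [Finite G]
  {W : Type*} [AddCommGroup W] [Module ℂ W] [FiniteDimensional ℂ W]

variable (A : ValuationSubring ℂ) (b : Basis (Fin (finrank ℂ W)) ℂ W) (σ : Representation ℂ G W)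

/-- All translates of `w` have integral coordinates. -/
def Bnd (w : W) : Prop := ∀ g i, A.valuation (b.repr (σ g w) i) ≤ 1

/-- All translates of `w` have coordinates in the maximal ideal. -/
def Small (w : W) : Prop := ∀ g i, A.valuation (b.repr (σ g w) i) < 1

variable {A b σ}

theorem Bnd.translate {w : W} (h : Bnd A b σ w) (x : G) : Bnd A b σ (σ x w) := fun g i => by
  simpa [map_mul] using h (g * x) i

theorem Small.translate {w : W} (h : Small A b σ w) (x : G) : Small A b σ (σ x w) := fun g i => by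
  simpa [map_mul] using h (g * x) i

theorem small_zero : Small A b σ 0 := fun g i => by simp

theorem Small.add {v w : W} (hv : Small A b σ v) (hw : Small A b σ w) :
    Small A b σ (v + w) := fun g i => by
  simp only [map_add, Finsupp.add_apply]
  exact (A.valuation.map_add _ _).trans_lt (max_lt (hv g i) (hw g i))

theorem Small.neg {v : W} (hv : Small A b σ v) : Small A b σ (-v) := fun g i => by
  simpa using hv g i

theorem small_sum {ι : Type*} (s : Finset ι) (f : ι → W) (h : ∀ j ∈ s, Small A b σ (f j)) :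
    Small A b σ (∑ j ∈ s, f j) :=
  Finset.sum_induction f _ (fun _ _ => Small.add) small_zero h

theorem Bnd.small_smul {v : W} (hv : Bnd A b σ v) {c : ℂ} (hc : A.valuation c < 1) :
    Small A b σ (c • v) := fun g i => by
  simp only [map_smul, Finsupp.smul_apply, smul_eq_mul, map_mul]
  exact (mul_le_of_le_one_right' (hv g i)).trans_lt hc

theorem Small.smul {v : W} (hv : Small A b σ v) {c : ℂ} (hc : A.valuation c ≤ 1) :
    Small A b σ (c • v) := fun g i => by
  simp only [map_smul, Finsupp.smul_apply, smul_eq_mul, map_mul]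
  exact (mul_le_of_le_one_left' hc).trans_lt (hv g i)

theorem exists_scaled (w : W) (hw : w ≠ 0) :
    ∃ c : ℂ, c ≠ 0 ∧ Bnd A b σ (c • w) ∧ ¬ Small A b σ (c • w) := by
  haveI : Nonempty (Fin (finrank ℂ W)) := by
    haveI : Nontrivial W := ⟨w, 0, hw⟩
    exact Fin.pos_iff_nonempty.1 finrank_pos
  cases nonempty_fintype G
  obtain ⟨⟨g0, i0⟩, -, hmax⟩ := Finset.exists_max_image Finset.univ
    (fun x : G × Fin (finrank ℂ W) => A.valuation (b.repr (σ x.1 w) x.2)) Finset.univ_nonempty
  set c0 := b.repr (σ g0 w) i0 with hc0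
  have hne : c0 ≠ 0 := by
    intro h
    apply hw
    apply b.repr.injective
    refine Finsupp.ext fun i => ?_
    have := hmax (1, i) (Finset.mem_univ _)
    simp only [h, map_zero, map_one, Module.End.one_apply] at this
    simpa using this
  have hv0 : A.valuation c0 ≠ 0 := by simpa using hne
  refine ⟨c0⁻¹, inv_ne_zero hne, fun g i => ?_, fun hs => ?_⟩
  · simp only [map_smul, Finsupp.smul_apply, smul_eq_mul, map_mul, map_inv₀]
    rw [inv_mul_le_iff₀ (zero_lt_iff.2 hv0), mul_one]
    exact hmax (g, i) (Finset.mem_univ _)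
  · have := hs g0 i0
    simp [← hc0, hne] at this

/-- In dimension less than `#P`, the trace of a bounded vector over a `p`-group `P` is small. -/
theorem small_trace (hA : A.valuation (p : ℂ) < 1) (P : Subgroup G) (hP : IsPGroup p P)
    (hdim : finrank ℂ W < Nat.card P) [Fintype P] {v : W} (hv : Bnd A b σ v) :
    Small A b σ (∑ u : P, σ (u : G) v) := by
  classical
  have hdep : ¬ LinearIndependent ℂ (fun u : P => σ (u : G) v) := fun h => by
    have := h.fintype_card_le_finrank
    rw [Nat.card_eq_fintype_card] at hdim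
    omega
  obtain ⟨α, hα, j, hj⟩ := Fintype.not_linearIndependent_iff.1 hdep
  obtain ⟨u0, -, hmax⟩ := Finset.exists_max_image Finset.univ
    (fun u : P => A.valuation (α u)) ⟨j, Finset.mem_univ j⟩
  have hne : α u0 ≠ 0 := fun h => hj (by simpa [h] using hmax j (Finset.mem_univ j))
  have hv0 : A.valuation (α u0) ≠ 0 := by simpa using hne
  have hβ : ∀ u, α u / α u0 ∈ A := fun u => by
    rw [← A.valuation_le_one_iff, map_div₀, div_le_one₀ (zero_lt_iff.2 hv0)]
    exact hmax u (Finset.mem_univ u)
  let res := IsLocalRing.residue A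
  have hres : ∀ x : A, res x = 0 ↔ A.valuation (x : ℂ) < 1 := fun x => by
    rw [← A.valuation_lt_one_iff, IsLocalRing.residue_eq_zero_iff]
  have hval : ∀ x : A, A.valuation (x : ℂ) ≤ 1 := fun x => A.valuation_le_one x
  -- functions on `P` annihilating `v` modulo the maximal ideal
  let I : AddSubgroup (P → IsLocalRing.ResidueField A) :=
    { carrier := {a | ∃ c : P → A, (∀ u, res (c u) = a u) ∧
        Small A b σ (∑ u : P, (c u : ℂ) • σ (u : G) v)}
      zero_mem' := ⟨0, fun u => map_zero res, by simpa using small_zero⟩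
      add_mem' := fun {a a'} ⟨c, hc, hs⟩ ⟨c', hc', hs'⟩ => ⟨c + c', fun u => by
          simp [map_add, hc u, hc' u], by
          simpa [add_smul, Finset.sum_add_distrib] using hs.add hs'⟩
      neg_mem' := fun {a} ⟨c, hc, hs⟩ => ⟨-c, fun u => by simp [map_neg, hc u], by
          simpa [neg_smul, Finset.sum_neg_distrib] using hs.neg⟩ }
  have hI : ∀ (w : P) (a), a ∈ I → (fun g => a (w⁻¹ * g)) ∈ I := by
    rintro w a ⟨c, hc, hs⟩
    refine ⟨fun g => c (w⁻¹ * g), fun u => hc _, ?_⟩
    convert hs.translate (w : G) using 1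
    rw [map_sum]
    refine Fintype.sum_equiv (Equiv.mulLeft w⁻¹) _ _ fun u => ?_
    simp [map_smul, ← Module.End.mul_apply, ← map_mul, ← mul_assoc]
  have hmem : (fun u => res ⟨_, hβ u⟩) ∈ I := by
    refine ⟨fun u => ⟨_, hβ u⟩, fun u => rfl, ?_⟩
    have h0 : ∑ u : P, (α u / α u0) • σ (u : G) v = 0 := by
      simp [div_eq_inv_mul, mul_smul, ← Finset.smul_sum, hα]
    simpa [h0] using small_zero
  have hmem0 : (fun u => res ⟨_, hβ u⟩) ≠ 0 := fun h => by
    have h1 := (hres _).1 (congrFun h u0)
    simp [hne] at h1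
  have hpk : (p : IsLocalRing.ResidueField A) = 0 := by
    rw [← map_natCast res, hres]
    simpa using hA
  obtain ⟨cbar, hcbar, c, hc, hs⟩ := exists_const_mem hP hpk I hI hmem hmem0
  obtain ⟨c0, hc0⟩ := IsLocalRing.residue_surjective cbar
  have hc1 : A.valuation (c0 : ℂ) = 1 :=
    le_antisymm (hval c0) (not_lt.1 fun h => hcbar (by rw [← hc0]; exact (hres c0).2 h))
  have hdiff : Small A b σ (∑ u : P, ((c0 - c u : A) : ℂ) • σ (u : G) v) :=
    small_sum _ _ fun u _ => (hv.translate _).small_smul ((hres _).1 (by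
      rw [map_sub, hc u]; exact sub_eq_zero.2 hc0))
  have hsum : Small A b σ ((c0 : ℂ) • ∑ u : P, σ (u : G) v) := by
    convert hdiff.add hs using 1
    simp [sub_smul, Finset.smul_sum, Finset.sum_sub_distrib]
  have hne0 : (c0 : ℂ) ≠ 0 := fun h => by simp [h] at hc1
  have := hsum.smul (c := (c0 : ℂ)⁻¹) (by simp [hc1])
  rwa [inv_smul_smul₀ hne0] at this

/-- A representation of dimension less than `#P` without fixed vectors of `G` has no fixed
vectors of `N`, provided `P ≤ N` is a `p`-group fixing no coset of `N` but `N` itself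
semiregularly. -/
theorem eq_zero_of_fixed (σ : Representation ℂ G W) (P N : Subgroup G) (hP : IsPGroup p P)
    (hPN : P ≤ N) (hfree : ∀ u ∈ P, u ≠ 1 → ∀ g : G, g⁻¹ * u * g ∈ N → g ∈ N)
    (hdim : finrank ℂ W < Nat.card P) (hG : ∀ w : W, (∀ g : G, σ g w = w) → w = 0)
    (w : W) (hw : ∀ g ∈ N, σ g w = w) : w = 0 := by
  classical
  by_contra hne
  obtain ⟨A, hA⟩ := exists_valuationSubring p
  let b := finBasis ℂ W
  obtain ⟨c, hc, hbnd, hnot⟩ := exists_scaled (A := A) (b := b) (σ := σ) w hne
  apply hnot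
  cases nonempty_fintype G
  set w' := c • w with hw'def
  have hw' : ∀ g ∈ N, σ g w' = w' := fun g hg => by rw [hw'def, map_smul, hw g hg]
  let t : G ⧸ N → W := fun q => σ q.out w'
  have htmk : ∀ g : G, t (g : G ⧸ N) = σ g w' := fun g => by
    obtain ⟨n, hn⟩ := QuotientGroup.mk_out_eq_mul N g
    show σ _ w' = _
    rw [hn, map_mul, Module.End.mul_apply, hw' _ n.2]
  have hsmul : ∀ (x : G) (q : G ⧸ N), t (x • q) = σ x (t q) := fun x q => by
    induction q using Quotient.inductionOn' with
    | h g =>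
      show t ((x * g : G) : G ⧸ N) = σ x (t (g : G ⧸ N))
      rw [htmk, htmk, map_mul, Module.End.mul_apply]
  have htot : ∑ q : G ⧸ N, t q = 0 := hG _ fun x => by
    rw [map_sum]
    exact Fintype.sum_equiv (MulAction.toPerm x) _ _ fun q => by simp [hsmul]
  let q0 : G ⧸ N := ((1 : G) : G ⧸ N)
  have hq0 : t q0 = w' := by simp [q0, htmk]
  haveI : Fintype P := Fintype.ofFinite P
  have hfix0 : ∀ u : P, (u : G) • q0 = q0 := fun u => by
    show (((u : G) * 1 : G) : G ⧸ N) = _
    exact QuotientGroup.eq.2 (by simpa using hPN u.2)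
  have hfix : ∀ (u : P) (q : G ⧸ N), q ≠ q0 → (u : G) • q = q → u = 1 := by
    intro u q hq hu
    induction q using Quotient.inductionOn' with
    | h g =>
      by_contra h1
      apply hq
      have h2 : g⁻¹ * (u : G)⁻¹ * g ∈ N := by
        have := QuotientGroup.eq.1 (hu.symm : (g : G ⧸ N) = (((u : G) * g : G) : G ⧸ N))
        simpa [mul_assoc] using N.inv_mem this
      exact (QuotientGroup.eq.2 (by
        simpa using N.inv_mem (hfree _ (P.inv_mem u.2) (by simpa using h1) g h2)) :
          (g : G ⧸ N) = q0)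
  suffices hs : ∀ s : Finset (G ⧸ N), q0 ∉ s → (∀ (u : P), ∀ q ∈ s, (u : G) • q ∈ s) →
      Small A b σ (∑ q ∈ s, t q) by
    have h1 := hs (Finset.univ.erase q0) (by simp) fun u q hq => by
      simp only [Finset.mem_erase, Finset.mem_univ, and_true] at hq ⊢
      exact fun h => hq (by rw [← hfix0 u] at h; exact MulAction.injective _ h)
    rw [Finset.sum_erase_eq_sub (Finset.mem_univ _), htot, hq0, zero_sub] at h1
    simpa using h1.neg
  intro s
  induction s using Finset.strongInduction with
  | _ s ih =>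
    intro hs0 hinv
    rcases s.eq_empty_or_nonempty with rfl | ⟨q, hq⟩
    · simpa using small_zero
    let O : Finset (G ⧸ N) := Finset.univ.image fun u : P => (u : G) • q
    have hinj : Function.Injective fun u : P => (u : G) • q := fun u v (huv : (u : G) • q = (v : G) • q) => by
      have := hfix (v⁻¹ * u) q (fun h => hs0 (h ▸ hq)) (by
        rw [Subgroup.coe_mul, mul_smul, huv, ← mul_smul, Subgroup.coe_inv]; simp)
      exact (inv_mul_eq_one.1 this).symm
    have hOs : O ⊆ s := fun x hx => by
      obtain ⟨u, -, rfl⟩ := Finset.mem_image.1 hx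
      exact hinv u q hq
    have hO : Small A b σ (∑ x ∈ O, t x) := by
      rw [Finset.sum_image fun u _ v _ h => hinj h]
      simp only [hsmul]
      exact small_trace hA P hP hdim (hbnd.translate _)
    rw [← Finset.sum_sdiff hOs]
    refine (ih (s \ O) ?_ (fun h => hs0 (Finset.mem_sdiff.1 h).1) fun u x hx => ?_).add hO
    · exact Finset.sdiff_ssubset hOs ⟨q, Finset.mem_image.2 ⟨1, Finset.mem_univ _, by simp⟩⟩
    · obtain ⟨hx1, hx2⟩ := Finset.mem_sdiff.1 hx
      refine Finset.mem_sdiff.2 ⟨hinv u x hx1, fun h => hx2 ?_⟩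
      obtain ⟨v, -, hv⟩ := Finset.mem_image.1 h
      refine Finset.mem_image.2 ⟨u⁻¹ * v, Finset.mem_univ _, ?_⟩
      rw [Subgroup.coe_mul, mul_smul, hv, ← mul_smul, Subgroup.coe_inv]; simp

/-- In a representation of dimension at most `#P` with a nonzero `G`-fixed vector, every
`N`-fixed vector is `G`-fixed. -/
theorem fixed_of_fixed (σ : Representation ℂ G W) (P N : Subgroup G) (hP : IsPGroup p P)
    (hPN : P ≤ N) (hfree : ∀ u ∈ P, u ≠ 1 → ∀ g : G, g⁻¹ * u * g ∈ N → g ∈ N)
    (hdim : finrank ℂ W ≤ Nat.card P) (w0 : W) (hw0 : ∀ g : G, σ g w0 = w0) (hw0' : w0 ≠ 0)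
    (w : W) (hw : ∀ g ∈ N, σ g w = w) (g : G) : σ g w = w := by
  classical
  cases nonempty_fintype G
  let T : W →ₗ[ℂ] W := (Fintype.card G : ℂ)⁻¹ • ∑ x : G, σ x
  have hT : ∀ v, T v = (Fintype.card G : ℂ)⁻¹ • ∑ x : G, σ x v := fun v => by simp [T]
  have hTl : ∀ (x : G) v, σ x (T v) = T v := fun x v => by
    rw [hT, map_smul, map_sum]
    exact congrArg _ (Fintype.sum_equiv (Equiv.mulLeft x) _ _ fun y => by simp)
  have hTr : ∀ (x : G) v, T (σ x v) = T v := fun x v => by
    rw [hT, hT]
    exact congrArg _ (Fintype.sum_equiv (Equiv.mulRight x) _ _ fun y => by simp)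
  have hTfix : ∀ v, (∀ x, σ x v = v) → T v = v := fun v hv => by
    rw [hT]
    simp [hv, Finset.card_univ, ← Nat.cast_smul_eq_nsmul ℂ, smul_smul]
  let S : Subrepresentation σ := ⟨T.ker, fun x v hv => by
    rw [LinearMap.mem_ker] at hv ⊢; rw [hTr, hv]⟩
  have hdimS : finrank ℂ S.toSubmodule < Nat.card P := by
    refine lt_of_lt_of_le (Submodule.finrank_lt ?_) hdim
    intro h
    have hmem : w0 ∈ T.ker := by
      change T.ker = ⊤ at h
      rw [h]; trivial
    rw [LinearMap.mem_ker, hTfix w0 hw0] at hmem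
    exact hw0' hmem
  have hmem : w - T w ∈ S.toSubmodule := by
    show T (w - T w) = 0
    rw [map_sub, hTfix (T w) (fun x => hTl x w), sub_self]
  have h := eq_zero_of_fixed (p := p) S.toRepresentation P N hP hPN hfree hdimS
    (fun v hv => by
      refine Subtype.ext ?_
      have h1 : T (v : W) = 0 := v.2
      rw [hTfix (v : W) fun x => congrArg Subtype.val (hv x)] at h1
      exact h1)
    ⟨_, hmem⟩ (fun x hx => Subtype.ext (by
      show σ x (w - T w) = w - T w
      rw [map_sub, hTl, hw x hx]))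
  have h1 : w - T w = 0 := congrArg Subtype.val h
  rw [sub_eq_zero] at h1
  rw [h1]; exact hTl g w

/-- In a representation `ρ` with `(dim ρ)^2 ≤ #P`, every endomorphism commuting with `N`
commutes with `G`. -/
theorem commute_of_commute {V : Type*} [AddCommGroup V] [Module ℂ V] [FiniteDimensional ℂ V]
    (ρ : Representation ℂ G V) (P N : Subgroup G) (hP : IsPGroup p P)
    (hPN : P ≤ N) (hfree : ∀ u ∈ P, u ≠ 1 → ∀ g : G, g⁻¹ * u * g ∈ N → g ∈ N)
    (hdim : finrank ℂ V ^ 2 ≤ Nat.card P) (f : V →ₗ[ℂ] V)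
    (hf : ∀ g ∈ N, f * ρ g = ρ g * f) (g : G) : f * ρ g = ρ g * f := by
  rcases subsingleton_or_nontrivial V with hV | hV
  · exact LinearMap.ext fun v => Subsingleton.elim _ _
  have hinv : ∀ x : G, ρ x * ρ x⁻¹ = 1 := fun x => by rw [← map_mul, mul_inv_cancel, map_one]
  have hinv' : ∀ x : G, ρ x⁻¹ * ρ x = 1 := fun x => by rw [← map_mul, inv_mul_cancel, map_one]
  have happ : ∀ (x : G) (φ : V →ₗ[ℂ] V), (ρ.linHom ρ) x φ = ρ x * φ * ρ x⁻¹ := fun x φ => by
    rw [Representation.linHom_apply, Module.End.mul_eq_comp, Module.End.mul_eq_comp,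
      LinearMap.comp_assoc]
  have h := fixed_of_fixed (p := p) (ρ.linHom ρ) P N hP hPN hfree
    (by rw [Module.finrank_linearMap, ← sq]; exact hdim) 1
    (fun x => by rw [happ, mul_one, hinv]) one_ne_zero f
    (fun x hx => by rw [happ, ← hf x hx, mul_assoc, hinv, mul_one]) g
  rw [happ] at h
  calc f * ρ g = ρ g * f * ρ g⁻¹ * ρ g := by rw [h]
    _ = ρ g * f := by rw [mul_assoc, hinv', mul_one]

end Core

end Cfsg.Agent.H84
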