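import Cfsg.Agent.H84.TwoDegreesBasic

/-!
# Groups with two character degrees: the structure theorem
-/

set_option linter.style.haveILetI false

namespace Cfsg.Agent.H84

open Cfsg.Agent
open scoped commutatorElement

universe u

variable {G : Type u} [Group G] [Finite G]

/-- Linear characters of a normal subgroup, permuted by conjugation. -/
noncomputable def dualConj (M : Subgroup G) [M.Normal] : G →* CommAut (M →* ℂˣ) where
  toFun g :=
    { toFun := fun l => l.comp (MulAut.conjNormal g⁻¹ : MulAut M).toMonoidHom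
      invFun := fun l => l.comp (MulAut.conjNormal g : MulAut M).toMonoidHom
      left_inv := fun l => MonoidHom.ext fun x => congrArg l (Subtype.ext (by simp [mul_assoc]))
      right_inv := fun l => MonoidHom.ext fun x => congrArg l (Subtype.ext (by simp [mul_assoc]))
      map_mul' := fun l l' => rfl }
  map_one' := MulEquiv.ext fun l => MonoidHom.ext fun x => congrArg l (Subtype.ext (by simp))
  map_mul' g h := MulEquiv.ext fun l => MonoidHom.ext fun x =>
    congrArg l (Subtype.ext (by simp [mul_assoc]))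

theorem dualConj_fix (M : Subgroup G) [hM : M.Normal] (l : M →* ℂˣ) (g : G) :
    dualConj M g l = l ↔ ∀ x : M, l ⟨g⁻¹ * x * g, by simpa using hM.conj_mem x x.2 g⁻¹⟩ = l x := by
  constructor
  · intro h x
    conv_rhs => rw [← h]
    exact congrArg l (Subtype.ext (by simp [mul_assoc]))
  · intro h
    refine MonoidHom.ext fun x => ?_
    rw [← h x]
    exact congrArg l (Subtype.ext (by simp [mul_assoc]))

theorem inertia_hom_eq [Fintype G] (M : Subgroup G) [M.Normal] (l : M →* ℂˣ) :
    CharInduce.inertia M (fun x => (l x : ℂ)) = actStab (dualConj M) l := by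
  ext g
  rw [← Subgroup.inv_mem_iff (actStab _ _), mem_actStab, dualConj_fix, CharInduce.mem_inertia,
    funext_iff]
  refine forall_congr' fun x => ?_
  constructor
  · intro h
    refine Eq.trans (congrArg l (Subtype.ext ?_)) (Units.ext h)
    simp
  · intro h
    rw [← h]
    exact congrArg (fun y => (l y : ℂ)) (Subtype.ext (by simp))

theorem le_actStab (M : Subgroup G) [M.Normal] (hab : ∀ a ∈ M, ∀ b ∈ M, a * b = b * a)
    (l : M →* ℂˣ) : M ≤ actStab (dualConj M) l := fun g hg => by
  rw [mem_actStab, dualConj_fix]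
  intro x
  refine congrArg l (Subtype.ext ?_)
  show g⁻¹ * (x : G) * g = x
  rw [mul_assoc, ← hab g hg x x.2, inv_mul_cancel_left]

/-- The stabiliser of a linear character of a normal Hall subgroup with two degrees. -/
theorem DegreesIn.stab_spec {m : ℕ} (h : DegreesIn G m) (M : Subgroup G) [M.Normal]
    (hab : ∀ a ∈ M, ∀ b ∈ M, a * b = b * a) (hcop : (Nat.card M).Coprime M.index)
    (l : M →* ℂˣ) :
    actStab (dualConj M) l = ⊤ ∨ ((actStab (dualConj M) l).index = m ∧
      ∀ a ∈ actStab (dualConj M) l, ∀ b ∈ actStab (dualConj M) l, a * b * a⁻¹ * b⁻¹ ∈ M) := by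
  classical
  cases nonempty_fintype G
  rw [← inertia_hom_eq]
  set χ : M → ℂ := fun x => (l x : ℂ) with hχdef
  set T := CharInduce.inertia M χ with hT
  refine (eq_or_ne T ⊤).imp_right fun hne => ?_
  have hle : M ≤ T := by rw [hT, inertia_hom_eq]; exact le_actStab M hab l
  let e := Subgroup.subgroupOfEquivOfLe hle
  set N := M.subgroupOf T with hN
  haveI := Fintype.ofFinite T
  haveI := Fintype.ofFinite M
  haveI := Fintype.ofFinite N
  have hχ : Cfsg.IsIrrCharacter M χ := CharInduce.isIrrCharacter_hom l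
  let f : N →* M := {
    toFun := fun n => ⟨((n : T) : G), n.2⟩
    map_one' := rfl
    map_mul' := fun _ _ => rfl }
  obtain ⟨μ, hμ, -, -⟩ := CharInduce.exists_hom_extension_coprime (N := N) (l.comp f)
    (fun g n => by
      have hg : CharInduce.conjFun M χ g = χ := (CharInduce.mem_inertia (N := M)).1 g.2
      exact Units.ext (congrFun hg (f n)))
    (Nat.Coprime.of_dvd (Subgroup.relIndex_dvd_index_of_le hle)
      ((CharInduce.orderOf_hom_dvd_card _).trans (Nat.card_congr e.toEquiv).dvd) hcop.symm)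
  have hμM : ∀ x : M, μ ⟨(x : G), hle x.2⟩ = l x := fun x => by
    rw [hμ ⟨⟨(x : G), hle x.2⟩, x.2⟩]
    rfl
  have key : ∀ ψ : Cfsg.IrrCharacter (T ⧸ N),
      T.index * Cfsg.charDegree (ψ : T ⧸ N → ℂ) = 1 ∨
      T.index * Cfsg.charDegree (ψ : T ⧸ N → ℂ) = m := by
    intro ψ
    set φ : T → ℂ := fun t => (μ t : ℂ) * (inflateIrr N ψ : T → ℂ) t with hφdef
    have hφ : Cfsg.IsIrrCharacter T φ := isIrr_hom_mul μ (inflateIrr N ψ)
    have hres : CharInduce.resTo M hle φ = (Cfsg.charDegree (ψ : T ⧸ N → ℂ) : ℂ) • χ := by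
      funext x
      show φ ⟨(x : G), hle x.2⟩ = _
      rw [hφdef]
      simp only [Pi.smul_apply, smul_eq_mul, hμM]
      rw [mul_comm, hχdef]
      congr 1
      show (ψ : T ⧸ N → ℂ) (QuotientGroup.mk' N _) = _
      rw [QuotientGroup.mk'_apply, (QuotientGroup.eq_one_iff _).2 (show (⟨(x : G), hle x.2⟩ : T) ∈ N
        from x.2), BlockBasic.apply_one_eq_charDegree]
    have hd0 : (Cfsg.charDegree (ψ : T ⧸ N → ℂ) : ℂ) ≠ 0 := by
      rw [← BlockBasic.apply_one_eq_charDegree]
      exact CharBasic.IsIrr.one_ne_zero ψ.2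
    obtain ⟨hirr, -, -⟩ := CharInduce.clifford_correspondence M hχ hle hφ (by
      rw [hres, CharBasic.classInner_smul_left, CharBasic.classInner_irr_self hχ, mul_one]
      exact hd0)
    have hdeg : Cfsg.charDegree (Cfsg.indFun T φ) = T.index * Cfsg.charDegree (ψ : T ⧸ N → ℂ) := by
      refine charDegree_of_eq ?_
      rw [CharInduce.indFun_one, hφdef]
      show (T.index : ℂ) * ((μ 1 : ℂ) * (inflateIrr N ψ : T → ℂ) 1) = _
      rw [map_one, Units.val_one, one_mul, BlockBasic.apply_one_eq_charDegree,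
        charDegree_inflateIrr, Nat.cast_mul]
    rw [← hdeg]
    exact h ⟨_, hirr⟩
  have hidx : T.index ≠ 1 := fun h1 => hne (Subgroup.index_eq_one.1 h1)
  have hm : T.index = m := by
    have h1 := key ⟨_, CharBasic.isIrrCharacter_one⟩
    rw [charDegree_of_eq (n := 1) (by simp), mul_one] at h1
    exact h1.resolve_left hidx
  refine ⟨hm, fun a ha b hb => ?_⟩
  have hlin : ∀ ψ : Cfsg.IrrCharacter (T ⧸ N), Cfsg.charDegree (ψ : T ⧸ N → ℂ) = 1 := by
    intro ψ
    rcases key ψ with h1 | h1
    · exact absurd (Nat.eq_one_of_mul_eq_one_right h1) hidx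
    · exact (Nat.mul_eq_left (hm ▸ Subgroup.index_ne_zero_of_finite)).1 (h1.trans hm.symm)
  have hc := commutative_of_linear hlin (QuotientGroup.mk' N ⟨a, ha⟩) (QuotientGroup.mk' N ⟨b, hb⟩)
  rw [← map_mul, ← map_mul, QuotientGroup.mk'_eq_mk'] at hc
  obtain ⟨z, hz, hz2⟩ := hc
  have hz' : a * b * (z : G) = b * a := congrArg Subtype.val hz2
  have e1 : a * b * a⁻¹ * b⁻¹ = a * b * (z : G)⁻¹ * (a * b)⁻¹ := by
    rw [show (a * b * a⁻¹ * b⁻¹) = a * b * (b * a)⁻¹ by group, ← hz']
    group
  rw [e1]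
  exact (inferInstance : M.Normal).conj_mem _ (M.inv_mem hz) _

/-- The kernel of the action on linear characters centralizes an abelian normal subgroup. -/
theorem commute_of_fix_all (M : Subgroup G) [M.Normal] (hab : ∀ a ∈ M, ∀ b ∈ M, a * b = b * a)
    {g : G} (hg : dualConj M g = 1) {x : G} (hx : x ∈ M) : g * x = x * g := by
  letI : CommGroup M := { (inferInstance : Group M) with
    mul_comm := fun a b => Subtype.ext (hab a a.2 b b.2) }
  set y : M := ⟨g⁻¹ * x * g, by simpa using (inferInstance : M.Normal).conj_mem x hx g⁻¹⟩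
  by_contra hne
  have h1 : y * (⟨x, hx⟩ : M)⁻¹ ≠ 1 := by
    intro h
    rw [mul_inv_eq_one] at h
    have h2 : g⁻¹ * x * g = x := congrArg Subtype.val h
    apply hne
    conv_rhs => rw [← mul_inv_cancel_left g x]
    rw [mul_assoc, mul_assoc, ← mul_assoc g⁻¹ x g, h2]
  obtain ⟨φ, hφ⟩ := CommGroup.exists_apply_ne_one_of_hasEnoughRootsOfUnity M ℂ h1
  apply hφ
  have h3 : φ y = φ ⟨x, hx⟩ := (dualConj_fix M φ g).1 (by rw [hg]; rfl) ⟨x, hx⟩
  rw [map_mul, map_inv, h3, mul_inv_cancel]

/-- A group with two character degrees is nilpotent, or has an abelian normal subgroup of index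
`m` with abelian quotient. -/
theorem DegreesIn.structure_thm {m : ℕ} (h : DegreesIn G m) (hm : m ≠ 0) :
    Group.IsNilpotent G ∨ ∃ C : Subgroup G, C.Normal ∧ (∀ a ∈ C, ∀ b ∈ C, a * b = b * a) ∧
      C.index = m ∧ commutator G ≤ C := by
  classical
  obtain ⟨M, hMn, hab, hcop, hnil⟩ := h.exists_abelian_hall hm
  haveI := hMn
  haveI := hnil
  set ρ := dualConj M with hρ
  have hstab := h.stab_spec M hab hcop
  by_cases hall : ∀ l : M →* ℂˣ, actStab ρ l = ⊤
  · left
    refine isNilpotent_of_ker_le_center (QuotientGroup.mk' M) ?_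
    rw [QuotientGroup.ker_mk']
    intro x hx
    rw [Subgroup.mem_center_iff]
    intro g
    exact commute_of_fix_all M hab (MulEquiv.ext fun l =>
      (mem_actStab ρ).1 ((hall l).symm ▸ Subgroup.mem_top g : g ∈ actStab ρ l)) hx
  right
  push Not at hall
  obtain ⟨l₀, hl₀⟩ := hall
  set K := ρ.ker with hK
  have hMK : M ≤ K := fun g hg => by
    rw [hK, MonoidHom.mem_ker]
    ext l x
    exact congrArg (fun l' : M →* ℂˣ => ((l' x : ℂˣ) : ℂ)) ((mem_actStab ρ).1 (le_actStab M hab l hg))
  have hKs : ∀ l, K ≤ actStab ρ l := fun l g hg => by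
    rw [mem_actStab, MonoidHom.mem_ker.1 hg]; rfl
  haveI : Group.IsNilpotent (G ⧸ K) := nilpotent_of_surjective
    (QuotientGroup.map M K (MonoidHom.id G) hMK) (QuotientGroup.map_surjective_of_surjective M K
      (MonoidHom.id G) (fun y => QuotientGroup.induction_on y fun g => ⟨g, rfl⟩) hMK)
  -- central elements modulo the kernel fixing a moved character lie in the kernel
  have hA : ∀ z : G, (∀ g : G, g * z * g⁻¹ * z⁻¹ ∈ K) → z ∈ actStab ρ l₀ → z ∈ K := by
    intro z hz hzl
    rw [MonoidHom.mem_ker]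
    refine eq_one_of_fix_moved ρ (fun v => (hstab v).imp_right And.left) (fun g => ?_)
      (n := M.index) (e := Nat.card M) ?_ (fun v => CharInduce.hom_pow_card v) hcop.symm hl₀ hzl
    · have e1 := MonoidHom.mem_ker.1 (hz g)
      rw [map_mul, map_mul, map_mul, map_inv, map_inv] at e1
      exact commutatorElement_eq_one_iff_commute.1 (by rwa [commutatorElement_def])
    · rw [← map_pow]
      exact MonoidHom.mem_ker.1 (hMK (Subgroup.pow_index_mem M z))
  set T := actStab ρ l₀ with hTdef
  obtain ⟨hTi, hTc⟩ := (hstab l₀).resolve_left hl₀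
  have hKT : ∀ g : G, QuotientGroup.mk' K g ∈ T.map (QuotientGroup.mk' K) → g ∈ T := by
    rintro g ⟨t, ht, hte⟩
    rw [QuotientGroup.mk'_eq_mk'] at hte
    obtain ⟨k, hk, rfl⟩ := hte
    exact mul_mem ht (hKs l₀ hk)
  -- the quotient by the kernel is abelian
  have hQc : ∀ a b : G ⧸ K, a * b = b * a := by
    refine commutative_of_linear fun χ => ?_
    refine ((h.quotient K) χ).resolve_right fun hχ => ?_
    set A := T.map (QuotientGroup.mk' K) ⊔ Subgroup.center (G ⧸ K) with hAdef
    have hTab : ∀ a ∈ T.map (QuotientGroup.mk' K), ∀ b ∈ T.map (QuotientGroup.mk' K),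
        a * b = b * a := by
      rintro _ ⟨a, ha, rfl⟩ _ ⟨b, hb, rfl⟩
      rw [← map_mul, ← map_mul, QuotientGroup.mk'_eq_mk']
      refine ⟨(a * b)⁻¹ * (b * a), hMK ?_, by group⟩
      have := hTc b⁻¹ (inv_mem hb) a⁻¹ (inv_mem ha)
      simpa [mul_assoc] using this
    have hAab : ∀ a ∈ A, ∀ b ∈ A, a * b = b * a := by
      have hle1 : A ≤ Subgroup.centralizer (A : Set (G ⧸ K)) := by
        refine sup_le ?_ (Subgroup.center_le_centralizer _)
        rw [Subgroup.le_centralizer_iff]
        refine sup_le ?_ (Subgroup.center_le_centralizer _)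
        intro a ha
        rw [Subgroup.mem_centralizer_iff]
        exact fun b hb => hTab b hb a ha
      exact fun a ha b hb => (Subgroup.mem_centralizer_iff.1 (hle1 hb) a ha)
    have h1 := charDegree_le_index A hAab χ
    rw [hχ] at h1
    have hTidx : (T.map (QuotientGroup.mk' K)).index = m := by
      rw [T.index_map_eq (QuotientGroup.mk'_surjective K)
        (by rw [QuotientGroup.ker_mk']; exact hKs l₀), hTi]
    have hlt : T.map (QuotientGroup.mk' K) < A := by
      refine lt_of_le_of_ne le_sup_left fun he => ?_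
      haveI : Nontrivial (G ⧸ K) := by
        refine QuotientGroup.nontrivial_iff.2 fun hKT' => hl₀ ?_
        exact top_le_iff.1 (hKT' ▸ hKs l₀)
      obtain ⟨⟨c, hc⟩, hc1⟩ := Subgroup.ne_bot_iff_exists_ne_one.1
        (Group.IsNilpotent.center_ne_bot (G := G ⧸ K))
      obtain ⟨z, rfl⟩ := QuotientGroup.mk'_surjective K c
      refine hc1 (Subtype.ext ((QuotientGroup.eq_one_iff z).2 (hA z (fun g => ?_) (hKT z (by
        rw [he]; exact Subgroup.mem_sup_right hc)))))
      have e2 := Subgroup.mem_center_iff.1 hc (QuotientGroup.mk' K g)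
      rw [← QuotientGroup.eq_one_iff]
      show QuotientGroup.mk' K (g * z * g⁻¹ * z⁻¹) = 1
      rw [map_mul, map_mul, map_mul, e2, map_inv, map_inv, mul_inv_cancel_right, mul_inv_cancel]
    have h2 := Subgroup.index_strictAnti hlt
    omega
  have hcomK : commutator G ≤ K := by
    rw [commutator_def, Subgroup.commutator_le]
    intro a _ b _
    rw [← QuotientGroup.eq_one_iff, commutatorElement_def]
    show QuotientGroup.mk' K (a * b * a⁻¹ * b⁻¹) = 1
    rw [map_mul, map_mul, map_mul, hQc (QuotientGroup.mk' K a), map_inv, map_inv,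
      mul_inv_cancel_right, mul_inv_cancel]
  have hTK : T = K := le_antisymm (fun z hz => hA z (fun g => hcomK
    (Subgroup.commutator_mem_commutator (Subgroup.mem_top g) (Subgroup.mem_top z))) hz) (hKs l₀)
  refine ⟨K, inferInstance, ?_, hTK ▸ hTi, hcomK⟩
  have hcen : ∀ k ∈ K, ∀ x ∈ M, k * x = x * k := fun k hk x hx =>
    commute_of_fix_all M hab (MonoidHom.mem_ker.1 hk) hx
  intro a ha b hb
  set c := a * b * a⁻¹ * b⁻¹ with hc
  have hKT' : K ≤ T := hTK.ge
  have hcM : c ∈ M := hTc a (hKT' ha) b (hKT' hb)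
  have e1 : a * b * a⁻¹ = c * b := by rw [hc]; group
  have hcb : Commute c b := (hcen b hb c hcM).symm
  have e2 : a * b ^ M.index * a⁻¹ = c ^ M.index * b ^ M.index := by
    rw [← conj_pow, e1, hcb.mul_pow]
  rw [hcen a ha _ (Subgroup.pow_index_mem M b), mul_inv_cancel_right] at e2
  have hc1 : c = 1 := orderOf_eq_one_iff.1 (Nat.eq_one_of_dvd_coprimes hcop
    (Subgroup.orderOf_dvd_natCard M hcM) (orderOf_dvd_of_pow_eq_one (right_eq_mul.1 e2)))
  exact commutatorElement_eq_one_iff_mul_comm.1 hc1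

end Cfsg.Agent.H84
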