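import Cfsg.Agent.H84.TwoDegrees

/-!
# Nilpotent groups with two character degrees
-/

set_option linter.style.haveILetI false

namespace Cfsg.Agent.H84

open Cfsg.Agent
open scoped commutatorElement

universe u

variable {G : Type u} [Group G] [Finite G]

theorem ne_zero_of_degree {m : ℕ}
    (hm : ∃ χ : Cfsg.IrrCharacter G, Cfsg.charDegree (χ : G → ℂ) = m) : m ≠ 0 := by
  obtain ⟨χ, rfl⟩ := hm
  cases nonempty_fintype G
  intro h
  have := CharBasic.IsIrr.one_ne_zero χ.2
  rw [BlockBasic.apply_one_eq_charDegree, h, Nat.cast_zero] at this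
  exact this rfl

theorem eq_one_of_mem_commutator_hom (l : G →* ℂˣ) {g : G} (hg : g ∈ commutator G) : l g = 1 :=
  MonoidHom.mem_ker.1 (Abelianization.commutator_subset_ker l hg)

/-- The derived subgroup of a nilpotent group with two degrees is abelian. -/
theorem DegreesIn.commutator_comm_of_nilpotent {m : ℕ} (h : DegreesIn G m)
    [Group.IsNilpotent G] : ∀ a ∈ commutator G, ∀ b ∈ commutator G, a * b = b * a := by
  classical
  cases nonempty_fintype G
  intro a ha b hb
  rw [← commutatorElement_eq_one_iff_mul_comm]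
  refine CharBasic.eq_one_of_forall_irr ?_
  rintro ⟨χ, hχ⟩
  show χ ⁅a, b⁆ = χ 1
  obtain ⟨H, lam, rfl⟩ := CharInduce.isMonomial_of_nilpotent G hχ
  rcases h ⟨_, hχ⟩ with hd | hd
  · obtain ⟨l, hl⟩ := CharInduce.IsChar.exists_hom_of_degree_one (CharBasic.IsIrr.isCharacter hχ)
      ((BlockBasic.apply_one_eq_charDegree ⟨_, hχ⟩).trans (by rw [hd, Nat.cast_one]))
    rw [hl, hl, map_one, map_commutatorElement,
      commutatorElement_eq_one_iff_mul_comm.2 (mul_comm _ _)]
  haveI := Fintype.ofFinite H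
  have hidx : H.index = m := by
    rw [← hd]
    symm
    refine charDegree_of_eq ?_
    show Cfsg.indFun H (fun h => (lam h : ℂ)) 1 = _
    rw [CharInduce.indFun_one, map_one, Units.val_one, mul_one]
  set θ : G → ℂ := Cfsg.indFun H (fun _ => 1) with hθ
  have hθc : Cfsg.IsCharacter G θ := CharInduce.IsChar.ind H CharInduce.IsChar.one
  have hθ1 : Cfsg.classInner θ (fun _ : G => (1 : ℂ)) = 1 := by
    rw [hθ, CharInduce.classInner_indFun_left H _ _ (fun _ _ => rfl)]
    exact CharBasic.classInner_irr_self CharBasic.isIrrCharacter_one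
  obtain ⟨r, hr, her⟩ := CharInduce.IsChar.exists_eq_add hθc CharBasic.isIrrCharacter_one
    (by rw [hθ1]; exact one_ne_zero)
  -- the derived subgroup fixes every coset of `H`
  have hGH : commutator G ≤ H := by
    intro x hx
    have hker : θ x = θ 1 := by
      rw [her, Pi.add_apply, Pi.add_apply]
      congr 1
      rw [CharBasic.classFunction_expansion (CharBasic.IsChar.isClassFunction hr)]
      simp only [Finset.sum_apply, Pi.smul_apply]
      refine Finset.sum_congr rfl fun ψ _ => ?_
      by_cases h0 : Cfsg.classInner r (ψ : G → ℂ) = 0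
      · simp [h0]
      obtain ⟨b, hb⟩ := CharBasic.IsChar.exists_degree hr
      have hab := CharInduce.IsChar.degree_le_of_constituent hr ψ.2 h0
        (BlockBasic.apply_one_eq_charDegree ψ) hb
      have hdb : m = 1 + b := by
        have h1 := congrFun her 1
        rw [hθ, CharInduce.indFun_one, Pi.add_apply, hb, mul_one, hidx] at h1
        exact_mod_cast h1
      have hψ : Cfsg.charDegree (ψ : G → ℂ) = 1 := (h ψ).resolve_right (by omega)
      obtain ⟨l, hl⟩ := CharInduce.IsChar.exists_hom_of_degree_one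
        (CharBasic.IsIrr.isCharacter ψ.2)
        (by rw [BlockBasic.apply_one_eq_charDegree, hψ, Nat.cast_one])
      rw [hl, hl, map_one, eq_one_of_mem_commutator_hom l hx]
    by_contra hxH
    rw [hθ, CharInduce.indFun_one, mul_one] at hker
    have h0 : ∀ y : G, Cfsg.extendByZero H (fun _ => (1 : ℂ)) (y⁻¹ * x * y) =
        if y⁻¹ * x * y ∈ H then 1 else 0 := fun y => by
      split_ifs with hy
      · rw [CharInduce.extendByZero_of_mem _ hy]
      · rw [CharInduce.extendByZero_of_not_mem _ hy]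
    rw [CharInduce.indFun_apply, Finset.sum_congr rfl (fun y _ => h0 y), Finset.sum_boole,
      inv_mul_eq_iff_eq_mul₀ (CharInduce.card_ne_zero_complex H), ← Nat.cast_mul,
      H.card_mul_index, Nat.cast_inj, Nat.card_eq_fintype_card] at hker
    have := Finset.eq_univ_of_card _ hker ▸ Finset.mem_univ (1 : G)
    exact hxH (by simpa using this)
  have hx : ∀ y : G,
      Cfsg.extendByZero H (fun h => (lam h : ℂ)) (y⁻¹ * ⁅a, b⁆ * y) = 1 := by
    intro y
    have hn : (commutator G).Normal := inferInstance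
    have ha' : y⁻¹ * a * y ∈ H := hGH (by simpa using hn.conj_mem a ha y⁻¹)
    have hb' : y⁻¹ * b * y ∈ H := hGH (by simpa using hn.conj_mem b hb y⁻¹)
    set a' : H := ⟨_, ha'⟩
    set b' : H := ⟨_, hb'⟩
    have he : y⁻¹ * ⁅a, b⁆ * y = ((⁅a', b'⁆ : H) : G) := by
      simp only [a', b', commutatorElement_def, Subgroup.coe_mul, InvMemClass.coe_inv]
      group
    rw [he, CharInduce.extendByZero_coe]
    rw [map_commutatorElement, commutatorElement_eq_one_iff_mul_comm.2 (mul_comm _ _),
      Units.val_one]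
  rw [CharInduce.indFun_one, map_one, Units.val_one, mul_one, CharInduce.indFun_apply,
    Finset.sum_congr rfl (fun y _ => hx y), Finset.sum_const, Finset.card_univ, nsmul_eq_mul,
    mul_one, ← Nat.card_eq_fintype_card, ← H.card_mul_index, Nat.cast_mul, ← mul_assoc,
    inv_mul_cancel₀ (CharInduce.card_ne_zero_complex H), one_mul]

/-- A nilpotent group with two degrees is the product of a `p`-group and an abelian group. -/
theorem DegreesIn.prod_of_nilpotent {m : ℕ} (h : DegreesIn G m)
    (hm : ∃ χ : Cfsg.IrrCharacter G, Cfsg.charDegree (χ : G → ℂ) = m) (hm1 : m ≠ 1)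
    [Group.IsNilpotent G] :
    ∃ p e : ℕ, p.Prime ∧ m = p ^ e ∧ ∃ P A : Subgroup G, P.Normal ∧ A.Normal ∧ IsPGroup p P ∧
      (∀ a ∈ A, ∀ b ∈ A, a * b = b * a) ∧ P ⊓ A = ⊥ ∧ P ⊔ A = ⊤ := by
  classical
  cases nonempty_fintype G
  obtain ⟨χ, hχ⟩ := hm
  have hm0 := ne_zero_of_degree ⟨χ, hχ⟩
  set p := m.minFac with hp
  have hpp : p.Prime := Nat.minFac_prime hm1
  haveI := Fact.mk hpp
  obtain ⟨N, hNn, hNcop, k, hNk⟩ := S4456.result (G := G) p hpp fun ψ hψ => by
    rw [(h ψ).resolve_left hψ]; exact m.minFac_dvd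
  haveI := hNn
  obtain ⟨P⟩ : Nonempty (Sylow p G) := inferInstance
  haveI hPn : (P : Subgroup G).Normal :=
    (Group.isNilpotent_of_finite_tfae.out 0 3 rfl rfl).1 ‹_› p ⟨hpp⟩ P
  have hint : (P : Subgroup G) ⊓ N = ⊥ := by
    obtain ⟨j, hj⟩ := IsPGroup.iff_card.1 P.isPGroup'
    exact Subgroup.inf_eq_bot_of_coprime (hj ▸ (hNcop.symm.pow_left j))
  -- the quotient by the Sylow subgroup is abelian
  have hP' : commutator G ≤ (P : Subgroup G) := by
    have hlin : ∀ ψ : Cfsg.IrrCharacter (G ⧸ (P : Subgroup G)),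
        Cfsg.charDegree (ψ : G ⧸ (P : Subgroup G) → ℂ) = 1 := fun ψ => by
      refine ((h.quotient _) ψ).resolve_right fun hψ => ?_
      obtain ⟨d, -, hd1, hd2, -⟩ := CharBasic.IsIrr.degree_dvd ψ.2
      rw [charDegree_of_eq hd1] at hψ
      rw [← Subgroup.index_eq_card] at hd2
      rw [hψ] at hd2
      exact P.not_dvd_index (m.minFac_dvd.trans hd2)
    rw [commutator_def, Subgroup.commutator_le]
    intro a _ b _
    rw [← QuotientGroup.eq_one_iff, ← QuotientGroup.mk'_apply, map_commutatorElement,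
      commutatorElement_eq_one_iff_mul_comm]
    exact commutative_of_linear hlin _ _
  have hmp : ∃ e, m = p ^ e := by
    by_contra hc
    have hlin : ∀ ψ : Cfsg.IrrCharacter (G ⧸ N), Cfsg.charDegree (ψ : G ⧸ N → ℂ) = 1 := fun ψ => by
      refine ((h.quotient _) ψ).resolve_right fun hψ => ?_
      obtain ⟨d, -, hd1, hd2, -⟩ := CharBasic.IsIrr.degree_dvd ψ.2
      rw [charDegree_of_eq hd1] at hψ
      rw [← Subgroup.index_eq_card, hNk, hψ] at hd2
      obtain ⟨e, -, he⟩ := (Nat.dvd_prime_pow hpp).1 hd2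
      exact hc ⟨e, he⟩
    have hle : commutator G ≤ N := by
      rw [commutator_def, Subgroup.commutator_le]
      intro a _ b _
      rw [← QuotientGroup.eq_one_iff, ← QuotientGroup.mk'_apply, map_commutatorElement,
        commutatorElement_eq_one_iff_mul_comm]
      exact commutative_of_linear hlin _ _
    have hbot : commutator G = ⊥ := le_bot_iff.1 (hint ▸ le_inf hP' hle)
    have hcomm : ∀ a b : G, a * b = b * a := fun a b => by
      rw [← commutatorElement_eq_one_iff_mul_comm, ← Subgroup.mem_bot, ← hbot]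
      exact Subgroup.commutator_mem_commutator (Subgroup.mem_top a) (Subgroup.mem_top b)
    have h1 := CharBasic.commutative_iff_forall_linear.1 hcomm χ
    rw [BlockBasic.apply_one_eq_charDegree, hχ, Nat.cast_eq_one] at h1
    exact hm1 h1
  obtain ⟨e, he⟩ := hmp
  refine ⟨p, e, hpp, he, P, N, hPn, hNn, P.isPGroup', ?_, hint, ?_⟩
  · exact h.commutative_of_coprime N (he ▸ hNcop.pow_right e)
  · refine Subgroup.index_eq_one.1 ?_
    refine Nat.eq_one_of_dvd_coprimes ((hpp.coprime_iff_not_dvd.2 P.not_dvd_index).pow_left k)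
      ?_ (Subgroup.index_dvd_of_le le_sup_left)
    rw [← hNk]
    exact Subgroup.index_dvd_of_le le_sup_right

end Cfsg.Agent.H84
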