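import Cfsg.Agent.H84.TwoDegrees

/-!
# Abelian normal subgroups when all nonlinear degrees equal a prime
-/

set_option linter.style.haveILetI false

namespace Cfsg.Agent.H84

open Cfsg.Agent
open scoped commutatorElement

universe u

section Abstract

variable {A : Type*} [Group A] {V : Type*} [CommGroup V] (ρ : A →* MulAut V)

/-- The group elements moving `v` only inside the cyclic group of a fixed point `c`. -/
def moveIn {c : V} (hc : ∀ g, ρ g c = c) (v : V) : Subgroup A where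
  carrier := {g : A | ρ g v * v⁻¹ ∈ Subgroup.zpowers c}
  one_mem' := by simp
  mul_mem' := fun {a b} (ha : ρ a v * v⁻¹ ∈ Subgroup.zpowers c)
      (hb : ρ b v * v⁻¹ ∈ Subgroup.zpowers c) => by
    show ρ (a * b) v * v⁻¹ ∈ Subgroup.zpowers c
    obtain ⟨i, hi : c ^ i = _⟩ := hb
    have e : ρ b v = c ^ i * v := by rw [hi, inv_mul_cancel_right]
    rw [map_mul, MulAut.mul_apply, e, map_mul, map_zpow, hc, mul_assoc]
    exact mul_mem (Subgroup.zpow_mem_zpowers c i) ha
  inv_mem' := fun {a} (ha : ρ a v * v⁻¹ ∈ Subgroup.zpowers c) => by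
    show ρ a⁻¹ v * v⁻¹ ∈ Subgroup.zpowers c
    obtain ⟨i, hi : c ^ i = _⟩ := ha
    have e : ρ a v = c ^ i * v := by rw [hi, inv_mul_cancel_right]
    have e2 : ρ a (ρ a⁻¹ v * v⁻¹) = c ^ (-i) := by
      rw [map_mul, map_inv, map_inv, MulAut.apply_inv_self, e, mul_inv_rev, mul_inv_cancel_left,
        zpow_neg]
    have e3 : ρ a⁻¹ v * v⁻¹ = c ^ (-i) :=
      (ρ a).injective (by rw [e2, map_zpow, hc])
    rw [e3]
    exact Subgroup.zpow_mem_zpowers c _

/-- If every point stabiliser has index dividing a prime `p` and is normal, two points with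
different stabilisers are moved only inside one group of fixed points of order dividing `p`. -/
theorem exists_common_line [Finite A] {p : ℕ} (hp : p.Prime)
    (hidx : ∀ v : V, actStab ρ v = ⊤ ∨ (actStab ρ v).index = p)
    (hnorm : ∀ v : V, (actStab ρ v).Normal)
    {l μ : V} (hl : actStab ρ l ≠ ⊤) (hμ : actStab ρ μ ≠ ⊤)
    (hne : actStab ρ l ≠ actStab ρ μ) :
    ∃ h : A, ρ h l * l⁻¹ = (ρ h μ * μ⁻¹)⁻¹ ∧ (∀ g, ρ g (ρ h l * l⁻¹) = ρ h l * l⁻¹) ∧
      (ρ h l * l⁻¹) ^ p = 1 ∧
      (∀ g, ρ g l * l⁻¹ ∈ Subgroup.zpowers (ρ h l * l⁻¹)) ∧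
      (∀ g, ρ g μ * μ⁻¹ ∈ Subgroup.zpowers (ρ h l * l⁻¹)) := by
  set T := actStab ρ l with hT
  set T' := actStab ρ μ with hT'
  have hTi := (hidx l).resolve_left hl
  have hT'i := (hidx μ).resolve_left hμ
  have hmax : ∀ {U : Subgroup A}, U.index = p → ∀ {S : Subgroup A}, U ≤ S → S = U ∨ S = ⊤ := by
    intro U hU S hS
    have hd := Subgroup.index_dvd_of_le hS
    rw [hU, Nat.dvd_prime hp] at hd
    rcases hd with h1 | h1
    · exact Or.inr (Subgroup.index_eq_one.1 h1)
    · left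
      symm
      refine Subgroup.eq_of_le_of_card_ge hS (le_of_eq ?_)
      have e1 := U.card_mul_index
      rw [← S.card_mul_index, hU, h1] at e1
      exact (Nat.eq_of_mul_eq_mul_right hp.pos e1).symm
  -- the product is moved by elements of one stabiliser outside the other
  have hnle : ¬ T ≤ T' := fun h => by
    rcases hmax hTi h with h1 | h1
    · exact hne h1.symm
    · exact hμ h1
  obtain ⟨x, hxT, hxT'⟩ := SetLike.not_le_iff_exists.1 hnle
  set T₂ := actStab ρ (l * μ) with hT₂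
  have hxT₂ : x ∉ T₂ := fun h => hxT' (by
    rw [hT₂, mem_actStab, map_mul, (mem_actStab ρ).1 hxT] at h
    exact (mem_actStab ρ).2 (mul_left_cancel h))
  have hT₂i : T₂.index = p := (hidx _).resolve_left fun h =>
    hxT₂ (by rw [hT₂, h]; exact Subgroup.mem_top x)
  -- an element fixing the product and moving both
  have hcap : T ⊓ T' ≤ T₂ := fun g hg => by
    rw [hT₂, mem_actStab, map_mul, (mem_actStab ρ).1 hg.1, (mem_actStab ρ).1 hg.2]
  have hnle2 : ¬ T₂ ≤ T ⊓ T' := fun h => by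
    rcases hmax hT₂i (h.trans inf_le_left) with h1 | h1
    · exact hxT₂ (h1 ▸ hxT)
    · exact hl h1
  obtain ⟨h, hhT₂, hhn⟩ := SetLike.not_le_iff_exists.1 hnle2
  have hprod : (ρ h l * l⁻¹) * (ρ h μ * μ⁻¹) = 1 := by
    rw [mul_mul_mul_comm, ← map_mul, (mem_actStab ρ).1 hhT₂, ← mul_inv, mul_inv_cancel]
  have hhT : h ∉ T := fun hh => hhn ⟨hh, by
    rw [(mem_actStab ρ).1 hh, mul_inv_cancel, one_mul, mul_inv_eq_one] at hprod
    exact hprod⟩
  have hhT' : h ∉ T' := fun hh => hhT (by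
    rw [(mem_actStab ρ).1 hh, mul_inv_cancel, mul_one, mul_inv_eq_one] at hprod
    exact hprod)
  set c := ρ h l * l⁻¹ with hcdef
  have hcμ : c = (ρ h μ * μ⁻¹)⁻¹ := mul_eq_one_iff_eq_inv.1 hprod
  have hfixT : ∀ {v : V} {t : A}, t ∈ actStab ρ v → ρ t (ρ h v * v⁻¹) = ρ h v * v⁻¹ := by
    intro v t ht
    have h1 : h⁻¹ * t * h ∈ actStab ρ v := by simpa using (hnorm v).conj_mem t ht h⁻¹
    rw [map_mul, map_inv, (mem_actStab ρ).1 ht]
    congr 1
    rw [← MulAut.mul_apply, ← map_mul, show t * h = h * (h⁻¹ * t * h) by group, map_mul,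
      MulAut.mul_apply, (mem_actStab ρ).1 h1]
  have hc : ∀ g, ρ g c = c := by
    have hT1 : T ≤ actStab ρ c := fun t ht => hfixT ht
    have hT2 : T' ≤ actStab ρ c := fun t ht => by
      rw [mem_actStab, hcμ, map_inv, hfixT ht]
    have : actStab ρ c = ⊤ := by
      rcases hmax hTi hT1 with h1 | h1
      · rcases hmax hT'i (h1 ▸ hT2) with h2 | h2
        · exact absurd h2 hne
        · exact absurd h2 hl
      · exact h1
    exact fun g => (mem_actStab ρ).1 (by rw [this]; exact Subgroup.mem_top g)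
  have hpow : ∀ i : ℕ, ρ (h ^ i) l * l⁻¹ = c ^ i := by
    intro i
    induction i with
    | zero => simp
    | succ i ih =>
      have e : ρ (h ^ i) l = c ^ i * l := by rw [← ih, inv_mul_cancel_right]
      have e2 : ρ h l = c * l := by rw [hcdef, inv_mul_cancel_right]
      rw [pow_succ', map_mul, MulAut.mul_apply, e, map_mul, map_pow, hc, e2, ← mul_assoc,
        mul_inv_cancel_right, ← pow_succ]
  have hcp : c ^ p = 1 := by
    haveI := hnorm l
    have hm : h ^ p ∈ T := hTi ▸ Subgroup.pow_index_mem T h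
    rw [← hpow, (mem_actStab ρ).1 hm, mul_inv_cancel]
  have hall : ∀ {v : V}, (actStab ρ v).index = p → h ∉ actStab ρ v →
      h ∈ moveIn ρ hc v → ∀ g, g ∈ moveIn ρ hc v := by
    intro v hv hn hh g
    have hle : actStab ρ v ≤ moveIn ρ hc v := fun t ht => by
      show ρ t v * v⁻¹ ∈ Subgroup.zpowers c
      rw [(mem_actStab ρ).1 ht, mul_inv_cancel]
      exact one_mem _
    rcases hmax hv hle with h1 | h1
    · exact absurd (h1 ▸ hh) hn
    · exact h1 ▸ Subgroup.mem_top g
  refine ⟨h, hcμ, hc, hcp, hall hTi hhT (Subgroup.mem_zpowers c), hall hT'i hhT' ?_⟩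
  show ρ h μ * μ⁻¹ ∈ Subgroup.zpowers c
  rw [← inv_inv (ρ h μ * μ⁻¹), ← hcμ]
  exact inv_mem (Subgroup.mem_zpowers c)

/-- If moreover no non-trivial stabiliser is the whole kernel, all points are moved inside one
group of fixed points of order dividing `p`. -/
theorem exists_line [Finite A] {p : ℕ} (hp : p.Prime)
    (hidx : ∀ v : V, actStab ρ v = ⊤ ∨ (actStab ρ v).index = p)
    (hnorm : ∀ v : V, (actStab ρ v).Normal)
    {l μ : V} (hl : actStab ρ l ≠ ⊤) (hμ : actStab ρ μ ≠ ⊤)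
    (hne : actStab ρ l ≠ actStab ρ μ) :
    ∃ c : V, (∀ g, ρ g c = c) ∧ c ^ p = 1 ∧
      ∀ g v, ρ g v * v⁻¹ ∈ Subgroup.zpowers c := by
  obtain ⟨h, -, hc, hcp, hcl, hcμ⟩ := exists_common_line ρ hp hidx hnorm hl hμ hne
  refine ⟨_, hc, hcp, fun g v => ?_⟩
  by_cases hv : actStab ρ v = ⊤
  · have hg : g ∈ actStab ρ v := by rw [hv]; exact Subgroup.mem_top g
    rw [(mem_actStab ρ).1 hg, mul_inv_cancel]
    exact one_mem _
  -- a reference point with another stabiliser, moved only inside the common group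
  obtain ⟨w, hw, hne', hwc⟩ : ∃ w, actStab ρ w ≠ ⊤ ∧ actStab ρ w ≠ actStab ρ v ∧
      ∀ g, ρ g w * w⁻¹ ∈ Subgroup.zpowers (ρ h l * l⁻¹) := by
    by_cases hvl : actStab ρ l = actStab ρ v
    · exact ⟨μ, hμ, fun e => hne (hvl.trans e.symm), hcμ⟩
    · exact ⟨l, hl, hvl, hcl⟩
  obtain ⟨h', -, -, -, -, hv'⟩ := exists_common_line ρ hp hidx hnorm hw hv hne'
  exact Subgroup.zpowers_le.2 (hwc h') (hv' g)

end Abstract

variable {G : Type u} [Group G] [Finite G]

/-- Separation by linear characters of an abelian subgroup. -/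
theorem eq_of_forall_hom (A : Subgroup G) (hab : ∀ a ∈ A, ∀ b ∈ A, a * b = b * a) {x y : A}
    (h : ∀ φ : A →* ℂˣ, φ x = φ y) : x = y := by
  letI : CommGroup A := { (inferInstance : Group A) with
    mul_comm := fun a b => Subtype.ext (hab a a.2 b b.2) }
  by_contra hne
  obtain ⟨φ, hφ⟩ := CommGroup.exists_apply_ne_one_of_hasEnoughRootsOfUnity A ℂ
    (show x * y⁻¹ ≠ 1 from fun e => hne (mul_inv_eq_one.1 e))
  exact hφ (by rw [map_mul, map_inv, h φ, mul_inv_cancel])

/-- Separation from a subgroup. -/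
theorem mem_of_forall_hom (A : Subgroup G) (hab : ∀ a ∈ A, ∀ b ∈ A, a * b = b * a)
    (B : Subgroup A) {x : A} (h : ∀ φ : A →* ℂˣ, B ≤ φ.ker → φ x = 1) : x ∈ B := by
  letI : CommGroup A := { (inferInstance : Group A) with
    mul_comm := fun a b => Subtype.ext (hab a a.2 b b.2) }
  by_contra hne
  obtain ⟨φ, hφ⟩ := CommGroup.exists_apply_ne_one_of_hasEnoughRootsOfUnity (A ⧸ B) ℂ
    (show (QuotientGroup.mk' B x) ≠ 1 from fun e => hne ((QuotientGroup.eq_one_iff x).1 e))
  exact hφ (h (φ.comp (QuotientGroup.mk' B)) fun b hb => by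
    rw [MonoidHom.mem_ker, MonoidHom.comp_apply, QuotientGroup.mk'_apply,
      (QuotientGroup.eq_one_iff b).2 hb, map_one])

/-- The stabiliser of a linear character of an abelian normal subgroup has index `1` or `p`;
in the second case the character extends to the stabiliser. -/
theorem DegreesIn.stab_prime {p : ℕ} (h : DegreesIn G p) (hp : p.Prime) (A : Subgroup G)
    [A.Normal] (hab : ∀ a ∈ A, ∀ b ∈ A, a * b = b * a) (l : A →* ℂˣ) :
    actStab (dualConj A) l = ⊤ ∨ ((actStab (dualConj A) l).index = p ∧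
      ∃ μ : actStab (dualConj A) l →* ℂˣ,
        ∀ a : A, μ ⟨(a : G), le_actStab A hab l a.2⟩ = l a) := by
  classical
  cases nonempty_fintype G
  haveI := Fintype.ofFinite A
  set χ : A → ℂ := fun x => (l x : ℂ) with hχdef
  have hT : CharInduce.inertia A χ = actStab (dualConj A) l := inertia_hom_eq A l
  refine (eq_or_ne _ ⊤).imp_right fun hne => ?_
  have hχ : Cfsg.IsIrrCharacter A χ := CharInduce.isIrrCharacter_hom l
  obtain ⟨θ, hθ⟩ := exists_irr_above (N := A) hχ
  obtain ⟨φ, hφ, hind, f, hf, hres⟩ :=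
    CharInduce.exists_clifford_correspondent A θ.2 hχ hθ
  haveI := Fintype.ofFinite (CharInduce.inertia A χ)
  obtain ⟨d, hd0, hd1, -, -⟩ := CharBasic.IsIrr.degree_dvd hφ
  have hdeg : Cfsg.charDegree (θ : G → ℂ) = (CharInduce.inertia A χ).index * d := by
    refine charDegree_of_eq ?_
    rw [← hind, CharInduce.indFun_one, hd1, Nat.cast_mul]
  have hidx : (CharInduce.inertia A χ).index ≠ 1 := fun h1 =>
    hne (hT ▸ Subgroup.index_eq_one.1 h1)
  have h2 : (CharInduce.inertia A χ).index * d = p := by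
    rcases h θ with h1 | h1
    · exact absurd (Nat.eq_one_of_mul_eq_one_right (hdeg ▸ h1)) hidx
    · exact hdeg ▸ h1
  have h3 : (CharInduce.inertia A χ).index = p :=
    ((Nat.dvd_prime hp).1 ⟨d, h2.symm⟩).resolve_left hidx
  rw [h3, Nat.mul_eq_left hp.ne_zero] at h2
  subst h2
  obtain ⟨μ, hμ⟩ := CharInduce.IsChar.exists_hom_of_degree_one (CharBasic.IsIrr.isCharacter hφ)
    (by rw [hd1, Nat.cast_one])
  refine ⟨hT ▸ h3, μ.comp (Subgroup.inclusion hT.ge), fun a => ?_⟩
  have hf1 : f = 1 := by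
    have e := hres 1
    rw [show (⟨((1 : A) : G), _⟩ : CharInduce.inertia A χ) = 1 from rfl, hd1] at e
    have : (f : ℂ) = 1 := by simpa [hχdef] using e.symm
    exact_mod_cast this
  have e := hres a
  rw [hf1, Nat.cast_one, one_mul, hμ] at e
  exact Units.ext e

end Cfsg.Agent.H84
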