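import Cfsg.Agent.H84.TwoDegreesPrime
import Cfsg.Agent.H84.TwoDegreesNilpotent

/-!
# Degrees `1` and `p`: the centre has index `p³` or some abelian normal subgroup has index `p`
-/

set_option linter.style.haveILetI false

namespace Cfsg.Agent.H84

open Cfsg.Agent
open scoped commutatorElement

universe u

variable {G : Type u} [Group G] [Finite G] {p : ℕ}

/-- Every abelian normal subgroup lies in a maximal one. -/
theorem exists_maximal_abelian_normal (W : Subgroup G) (hW : W.Normal) (hc : IsMulCommutative W) :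
    ∃ A : Subgroup G, W ≤ A ∧ A.Normal ∧ IsMulCommutative A ∧
      ∀ M : Subgroup G, M.Normal → IsMulCommutative M → A ≤ M → M = A := by
  have hfin : ({M : Subgroup G | W ≤ M ∧ M.Normal ∧ IsMulCommutative M}).Finite := Set.toFinite _
  obtain ⟨A, ⟨hWA, hAn, hAc⟩, hmax⟩ := hfin.exists_maximal ⟨W, le_rfl, hW, hc⟩
  exact ⟨A, hWA, hAn, hAc, fun M hMn hMc hle =>
    le_antisymm (hmax ⟨hWA.trans hle, hMn, hMc⟩ hle) hle⟩

/-- The number of irreducible characters is at least `|G| / p²`. -/
theorem DegreesIn.card_le_mul_classes (h : DegreesIn G p) (hp : p.Prime) :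
    Nat.card G ≤ p ^ 2 * Nat.card (ConjClasses G) := by
  classical
  haveI : Finite (Cfsg.IrrCharacter G) := by
    cases nonempty_fintype G
    infer_instance
  haveI := Fintype.ofFinite (Cfsg.IrrCharacter G)
  have h1 : ∑ ψ : Cfsg.IrrCharacter G, Cfsg.charDegree (ψ : G → ℂ) ^ 2 = Nat.card G := by
    exact_mod_cast sum_degree_sq_real (G := G)
  rw [← CharBasic.card_irrCharacter, Nat.card_eq_fintype_card (α := Cfsg.IrrCharacter G), ← h1]
  refine le_trans (Finset.sum_le_card_nsmul _ _ (p ^ 2) fun ψ _ => ?_) ?_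
  · rcases h ψ with h2 | h2 <;> rw [h2]
    · rw [one_pow]; exact Nat.one_le_pow _ _ hp.pos
  · rw [smul_eq_mul, Finset.card_univ, mul_comm]

/-- In a nilpotent group with degrees `1`, `p` and no abelian subgroup of index `p`, the centre
has index `p³`. -/
theorem DegreesIn.index_center_eq [Group.IsNilpotent G] (h : DegreesIn G p) (hp : p.Prime)
    (hG : ∃ a b : G, a * b ≠ b * a)
    (hno : ¬ ∃ A : Subgroup G, A.Normal ∧ (∀ a ∈ A, ∀ b ∈ A, a * b = b * a) ∧ A.index = p) :
    (Subgroup.center G).index = p ^ 3 := by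
  classical
  obtain ⟨A, -, hAn, hAc, hmax⟩ :=
    exists_maximal_abelian_normal (⊥ : Subgroup G) inferInstance inferInstance
  haveI := hAn
  haveI := hAc
  have hD := h.primeData hp hG hno A hmax
  obtain ⟨r, hr2, hr⟩ := hD.index_eq
  have hidx : (Subgroup.center G).index = p ^ (r + 1) := by
    rw [← Subgroup.relIndex_mul_index hD.center_le, hD.relIndex_eq, hr, pow_succ']
  rcases eq_or_lt_of_le hr2 with rfl | hr3
  · exact hidx
  exfalso
  have hclass : commutator G ≤ Subgroup.center G :=
    h.commutator_le_center hp hD (S0015.result A hmax)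
      (by rw [hr]; exact Nat.pow_le_pow_right hp.pos hr3)
  set Z := Subgroup.center G with hZ
  -- centralisers of non-central elements
  have hcent : ∀ g : G, g ∉ Z →
      Nat.card (Subgroup.centralizer ({g} : Set G)) ≤ p * Nat.card Z := by
    intro g hg
    have hW : ∀ y : G, y * g = g * y →
        ∃ M : Subgroup G, M.Normal ∧ IsMulCommutative M ∧ Z ≤ M ∧ g ∈ M ∧ y ∈ M := by
      intro y hy
      refine ⟨Z ⊔ Subgroup.closure {g, y}, ?_, ?_, le_sup_left,
        Subgroup.mem_sup_right (Subgroup.subset_closure (by simp)),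
        Subgroup.mem_sup_right (Subgroup.subset_closure (by simp))⟩
      · refine ⟨fun a ha x => ?_⟩
        have hc := hclass (Subgroup.commutator_mem_commutator (Subgroup.mem_top x)
          (Subgroup.mem_top a))
        rw [show x * a * x⁻¹ = ⁅x, a⁆ * a by rw [commutatorElement_def, inv_mul_cancel_right]]
        exact mul_mem (Subgroup.mem_sup_left hc) ha
      · rw [← Subgroup.le_centralizer_iff_isMulCommutative]
        refine sup_le (Subgroup.center_le_centralizer _) ?_
        rw [Subgroup.le_centralizer_iff]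
        refine sup_le (Subgroup.center_le_centralizer _) ?_
        rw [Subgroup.closure_le]
        intro a ha
        rw [SetLike.mem_coe, Subgroup.mem_centralizer_iff]
        intro b hb
        have hsub : Subgroup.closure ({g, y} : Set G) ≤
            Subgroup.centralizer ({a} : Set G) := by
          rw [Subgroup.closure_le]
          rintro w (rfl | rfl) <;> rcases ha with rfl | rfl <;>
            simp [SetLike.mem_coe, Subgroup.mem_centralizer_singleton_iff, hy]
        exact Subgroup.mem_centralizer_singleton_iff.1 (hsub hb)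
    obtain ⟨M₀, hM₀n, hM₀c, hZM₀, hgM₀, -⟩ := hW g rfl
    obtain ⟨W₀, hW₀, hW₀n, hW₀c, hW₀m⟩ := exists_maximal_abelian_normal M₀ hM₀n hM₀c
    haveI := hW₀n
    haveI := hW₀c
    have hD₀ := h.primeData hp hG hno W₀ hW₀m
    set S := Z ⊔ Subgroup.zpowers g with hS
    have hZS : Z < S := lt_of_le_of_ne le_sup_left fun e => hg (by
      rw [e]; exact Subgroup.mem_sup_right (Subgroup.mem_zpowers g))
    have hall : ∀ W : Subgroup G, PrimeData p W → S ≤ W → S = W := by
      intro W hDW hSW
      have e1 := Subgroup.relIndex_mul_relIndex Z S W hZS.le hSW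
      rw [hDW.relIndex_eq] at e1
      rcases (Nat.dvd_prime hp).1 ⟨_, e1.symm⟩ with h1 | h1
      · exact absurd (Subgroup.relIndex_eq_one.1 h1) (not_le_of_gt hZS)
      · rw [h1, Nat.mul_eq_left hp.ne_zero, Subgroup.relIndex_eq_one] at e1
        exact le_antisymm hSW e1
    have hS₀ : S = W₀ := hall W₀ hD₀ (sup_le hD₀.center_le (Subgroup.zpowers_le.2 (hW₀ hgM₀)))
    have hCS : Subgroup.centralizer ({g} : Set G) ≤ S := by
      intro y hy
      obtain ⟨M, hMn, hMc, -, hgM, hyM⟩ := hW y (Subgroup.mem_centralizer_singleton_iff.1 hy)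
      obtain ⟨W, hMW, hWn, hWc, hWm⟩ := exists_maximal_abelian_normal M hMn hMc
      haveI := hWn
      haveI := hWc
      have hDW := h.primeData hp hG hno W hWm
      rw [hall W hDW (sup_le hDW.center_le (Subgroup.zpowers_le.2 (hMW hgM)))]
      exact hMW hyM
    refine (Nat.le_of_dvd Nat.card_pos (Subgroup.card_dvd_of_le hCS)).trans (le_of_eq ?_)
    rw [hS₀, ← hD₀.relIndex_eq, mul_comm, Subgroup.relIndex, ←
      Nat.card_congr (Subgroup.subgroupOfEquivOfLe hD₀.center_le).toEquiv,
      Subgroup.card_mul_index]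
  -- count commuting pairs
  cases nonempty_fintype G
  let e : {q : G × G // Commute q.1 q.2} ≃ (Σ g : G, Subgroup.centralizer ({g} : Set G)) :=
    { toFun := fun q => ⟨q.1.1, ⟨q.1.2, Subgroup.mem_centralizer_singleton_iff.2 q.2.eq.symm⟩⟩
      invFun := fun s => ⟨(s.1, s.2), (Subgroup.mem_centralizer_singleton_iff.1 s.2.2).symm⟩
      left_inv := fun q => rfl
      right_inv := fun s => rfl }
  have hk := card_comm_eq_card_conjClasses_mul_card G
  rw [Nat.card_congr e, Nat.card_sigma] at hk
  have hb : ∑ g : G, Nat.card (Subgroup.centralizer ({g} : Set G)) ≤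
      Nat.card Z * Nat.card G + Nat.card G * (p * Nat.card Z) := by
    rw [← Finset.sum_filter_add_sum_filter_not Finset.univ (fun g => g ∈ Z)]
    refine Nat.add_le_add ?_ ?_
    · refine (Finset.sum_le_card_nsmul _ _ (Nat.card G) fun g _ =>
        Nat.card_le_card_of_injective _ Subtype.val_injective).trans (le_of_eq ?_)
      rw [smul_eq_mul, ← Fintype.card_subtype, ← Nat.card_eq_fintype_card]
    · refine (Finset.sum_le_card_nsmul _ _ (p * Nat.card Z) fun g hg =>
        hcent g (Finset.mem_filter.1 hg).2).trans ?_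
      rw [smul_eq_mul]
      exact Nat.mul_le_mul_right _ ((Finset.card_le_univ _).trans
        (le_of_eq Nat.card_eq_fintype_card.symm))
  have h2 := h.card_le_mul_classes hp
  have hGc : Nat.card G = Nat.card Z * p ^ (r + 1) := by rw [← Z.card_mul_index, hidx]
  have h3 : Nat.card (ConjClasses G) ≤ Nat.card Z * (1 + p) := by
    refine Nat.le_of_mul_le_mul_right ?_ (Nat.card_pos (α := G))
    rw [← hk]
    refine hb.trans (le_of_eq ?_)
    ring
  have h4 : p ^ 4 ≤ p ^ 2 * (1 + p) := by
    refine le_trans (Nat.pow_le_pow_right hp.pos (show 4 ≤ r + 1 by omega)) ?_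
    refine Nat.le_of_mul_le_mul_left ?_ (Nat.card_pos (α := Z))
    rw [← hGc]
    refine h2.trans ((Nat.mul_le_mul_left _ h3).trans (le_of_eq ?_))
    ring
  rw [show p ^ 4 = p ^ 2 * p ^ 2 by ring] at h4
  have h5 := Nat.le_of_mul_le_mul_left h4 (pow_pos hp.pos 2)
  nlinarith [hp.two_le]

/-- Degrees from an abelian normal subgroup of prime index or a centre of index `p³`. -/
theorem degreesIn_of_index (hp : p.Prime)
    (h : (∃ A : Subgroup G, A.Normal ∧ (∀ a ∈ A, ∀ b ∈ A, a * b = b * a) ∧ A.index = p) ∨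
      (Subgroup.center G).index = p ^ 3) : DegreesIn G p := by
  intro χ
  rcases h with ⟨A, hAn, hab, hi⟩ | hi
  · haveI := hAn
    exact (Nat.dvd_prime hp).1 (hi ▸ charDegree_dvd_index A hab χ)
  · cases nonempty_fintype G
    obtain ⟨d, -, hd, -, hdvd⟩ := CharBasic.IsIrr.degree_dvd χ.2
    rw [← charDegree_of_eq hd, hi] at hdvd
    have h2 := charDegree_sq_le_index_center χ
    rw [hi] at h2
    obtain ⟨i, hi3, he⟩ := (Nat.dvd_prime_pow hp).1 hdvd
    rw [he, ← pow_mul] at h2
    have h6 := (Nat.pow_le_pow_iff_right hp.one_lt).1 h2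
    rcases (show i = 0 ∨ i = 1 by omega) with rfl | rfl
    · exact Or.inl (by rw [he, pow_zero])
    · exact Or.inr (by rw [he, pow_one])

/-- S4459. -/
theorem degrees_one_prime_iff (hG : ∃ a b : G, a * b ≠ b * a) (hp : p.Prime) :
    (DegreesIn G p ∧ ∃ χ : Cfsg.IrrCharacter G, Cfsg.charDegree (χ : G → ℂ) = p) ↔
      ((∃ A : Subgroup G, A.Normal ∧ (∀ a ∈ A, ∀ b ∈ A, a * b = b * a) ∧ A.index = p) ∨
        (Subgroup.center G).index = p ^ 3) := by
  constructor
  · rintro ⟨h, -⟩
    refine (em _).imp_right fun hno => ?_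
    rcases h.structure_thm hp.ne_zero with hn | ⟨C, hC, hab, hi, -⟩
    · haveI := hn
      exact h.index_center_eq hp hG hno
    · exact absurd ⟨C, hC, hab, hi⟩ hno
  · intro h
    refine ⟨degreesIn_of_index hp h, ?_⟩
    obtain ⟨χ, hχ⟩ := exists_nonlinear hG
    exact ⟨χ, ((degreesIn_of_index hp h) χ).resolve_left hχ⟩

end Cfsg.Agent.H84
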