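import Cfsg.Agent.H84.Separated
import Cfsg.Agent.H84.Kernel
import Cfsg.Agent.CharInduce.Ops
import Cfsg.Agent.Cores.PSolvable

/-!
# Defect zero characters for two primes with no elements of order `pq`
-/

set_option linter.style.haveILetI false
set_option linter.unusedSectionVars false

namespace Cfsg.Agent.H84

universe u

theorem not_dvd_centralizer_of_no_pq {G : Type*} [Group G] [Finite G] {p q : ℕ} [Fact p.Prime]
    [Fact q.Prime] (hpq : p ≠ q) (h : ∀ a : G, ¬ (p ∣ orderOf a ∧ q ∣ orderOf a)) (g : G)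
    (hg : g ≠ 1) (hk : ∃ k : ℕ, orderOf g = p ^ k) :
    ¬ q ∣ Nat.card (Subgroup.centralizer ({g} : Set G)) := fun hd => by
  obtain ⟨k, hk⟩ := hk
  obtain ⟨v, hv⟩ := exists_prime_orderOf_dvd_card' q hd
  rw [← Subgroup.orderOf_coe] at hv
  have hcomm : Commute g (v : G) := (Subgroup.mem_centralizer_singleton_iff.1 v.2).symm
  have hord : orderOf (g * (v : G)) = p ^ k * q := by
    rw [hcomm.orderOf_mul_eq_mul_orderOf_of_coprime, hk, hv]
    rw [hk, hv]
    exact ((Nat.coprime_primes Fact.out Fact.out).2 hpq).pow_left k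
  refine h (g * (v : G)) ⟨?_, hord ▸ dvd_mul_left _ _⟩
  rw [hord]
  exact Dvd.dvd.mul_right (hk ▸ dvd_orderOf_of_eq_pow hg hk) _

theorem no_pq_of_centralizer {G : Type*} [Group G] [Finite G] {p q : ℕ} [hp : Fact p.Prime]
    [hq : Fact q.Prime]
    (hC : ∀ g : G, g ≠ 1 → (∃ k : ℕ, orderOf g = p ^ k) →
      ¬ q ∣ Nat.card ↥(Subgroup.centralizer ({g} : Set G))) (a : G) :
    ¬ (p ∣ orderOf a ∧ q ∣ orderOf a) := by
  rintro ⟨hpa, hqa⟩
  have hu : orderOf (a ^ (orderOf a / p)) = p :=
    orderOf_pow_orderOf_div (orderOf_pos a).ne' hpa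
  have hv : orderOf (a ^ (orderOf a / q)) = q :=
    orderOf_pow_orderOf_div (orderOf_pos a).ne' hqa
  refine hC _ (fun h : a ^ (orderOf a / p) = 1 => hp.out.ne_one (by rw [h, orderOf_one] at hu; exact hu.symm))
    ⟨1, by rw [hu, pow_one]⟩ ?_
  have hmem : a ^ (orderOf a / q) ∈ Subgroup.centralizer ({a ^ (orderOf a / p)} : Set G) :=
    Subgroup.mem_centralizer_singleton_iff.2 ((Commute.refl a).pow_pow _ _).eq
  calc q = orderOf (a ^ (orderOf a / q)) := hv.symm
    _ = orderOf (⟨_, hmem⟩ : Subgroup.centralizer ({a ^ (orderOf a / p)} : Set G)) :=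
        (Subgroup.orderOf_mk _ hmem).symm
    _ ∣ _ := orderOf_dvd_natCard _

theorem defect_zero_of_pSolvable (p q : ℕ) [hp : Fact p.Prime] [hq : Fact q.Prime] (hpq : p ≠ q) :
    ∀ (n : ℕ) (G : Type u) [Group G] [Finite G], Nat.card G = n → Cfsg.IsPSolvable p G →
      (∀ a : G, ¬ (p ∣ orderOf a ∧ q ∣ orderOf a)) →
      (∃ χ : Cfsg.IrrCharacter G,
        (Cfsg.charDegree (χ : G → ℂ)).factorization p = (Nat.card G).factorization p) ∨
      (∃ χ : Cfsg.IrrCharacter G,
        (Cfsg.charDegree (χ : G → ℂ)).factorization q = (Nat.card G).factorization q) := by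
  intro n
  induction n using Nat.strong_induction_on with
  | _ n ih =>
    intro G _ _ hn hsolv h
    rcases subsingleton_or_nontrivial G with hG | hG
    · refine Or.inl ⟨⟨fun _ => 1, CharBasic.isIrrCharacter_one⟩, ?_⟩
      rw [Nat.card_of_subsingleton (1 : G)]
      simp [Cfsg.charDegree]
    have hC1 := fun g => not_dvd_centralizer_of_no_pq (p := p) (q := q) hpq h g
    have hC2 := fun g => not_dvd_centralizer_of_no_pq (p := q) (q := p) hpq.symm
      (fun a ha => h a ⟨ha.2, ha.1⟩) g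
    rcases Cores.pCore_ne_bot_or_pPrimeCore_ne_bot hsolv with hN | hN
    · rcases defect_zero_or_conj_quotient (G := G) q p hC2 with h0 | h0
      · exact Or.inr h0
      exfalso
      obtain ⟨⟨z, hz⟩, hz1⟩ := @exists_ne _ ((Subgroup.nontrivial_iff_ne_bot _).2 hN) 1
      have hzne : z ≠ 1 := fun h => hz1 (Subtype.ext h)
      have hpow : ∀ w ∈ Cfsg.pCore p G, ∃ k, orderOf w = p ^ k := fun w hw => by
        obtain ⟨k, hk⟩ := IsPGroup.iff_orderOf.1 Cores.pCore_isPGroup ⟨w, hw⟩
        exact ⟨k, by rwa [Subgroup.orderOf_mk] at hk⟩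
      obtain ⟨g, g', hg, hg', hne, k, hk⟩ := h0 z hzne (hpow z hz)
      obtain ⟨a, rfl⟩ := isConj_iff.1 hg
      obtain ⟨b, rfl⟩ := isConj_iff.1 hg'
      obtain ⟨m, hm⟩ := hpow _ (mul_mem ((inferInstance : (Cfsg.pCore p G).Normal).conj_mem z hz a)
        (inv_mem ((inferInstance : (Cfsg.pCore p G).Normal).conj_mem z hz b)))
      have h1 := dvd_orderOf_of_eq_pow hne hm
      rw [hk] at h1
      exact hpq ((Nat.prime_dvd_prime_iff_eq hp.out hq.out).1 (hp.out.dvd_of_dvd_pow h1))
    · set N := Cfsg.pPrimeCore p G with hNdef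
      have hNp : ¬ p ∣ Nat.card N := Cores.not_dvd_card_pPrimeCore
      by_cases hqN : q ∣ Nat.card N
      · rcases defect_zero_or_conj_quotient (G := G) p q hC1 with h0 | h0
        · exact Or.inl h0
        exfalso
        obtain ⟨z, hz⟩ := exists_prime_orderOf_dvd_card' q hqN
        rw [← Subgroup.orderOf_coe] at hz
        have hzne : (z : G) ≠ 1 := fun h => by
          rw [h, orderOf_one] at hz; exact hq.out.ne_one hz.symm
        obtain ⟨g, g', hg, hg', hne, k, hk⟩ := h0 z hzne ⟨1, by rw [hz, pow_one]⟩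
        obtain ⟨a, rfl⟩ := isConj_iff.1 hg
        obtain ⟨b, rfl⟩ := isConj_iff.1 hg'
        have hmem : a * (z : G) * a⁻¹ * (b * (z : G) * b⁻¹)⁻¹ ∈ N :=
          mul_mem ((inferInstance : N.Normal).conj_mem _ z.2 a)
            (inv_mem ((inferInstance : N.Normal).conj_mem _ z.2 b))
        refine hNp (((dvd_orderOf_of_eq_pow hne hk)).trans ?_)
        rw [← Subgroup.orderOf_mk _ hmem]
        exact orderOf_dvd_natCard _
      have hlt : Nat.card (G ⧸ N) < n := by
        rw [← hn, ← Subgroup.index_eq_card, ← N.card_mul_index]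
        exact lt_mul_left (Nat.pos_of_ne_zero Subgroup.FiniteIndex.index_ne_zero)
          ((Subgroup.one_lt_card_iff_ne_bot _).2 hN)
      have hquot : ∀ a : G ⧸ N, ¬ (p ∣ orderOf a ∧ q ∣ orderOf a) := fun a ha => by
        induction a using QuotientGroup.induction_on with
        | _ a =>
          have := orderOf_map_dvd (QuotientGroup.mk' N) a
          exact h a ⟨ha.1.trans this, ha.2.trans this⟩
      have hfac : ∀ r : ℕ, r.Prime → ¬ r ∣ Nat.card N →
          (Nat.card G).factorization r = (Nat.card (G ⧸ N)).factorization r := fun r hr hrN => by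
        rw [← N.card_mul_index, Nat.factorization_mul Nat.card_pos.ne'
          Subgroup.FiniteIndex.index_ne_zero, Finsupp.add_apply,
          Nat.factorization_eq_zero_of_not_dvd hrN, zero_add, Subgroup.index_eq_card]
      have hinfl : ∀ (r : ℕ) (η : Cfsg.IrrCharacter (G ⧸ N)), ¬ r ∣ Nat.card N → r.Prime →
          (Cfsg.charDegree (η : G ⧸ N → ℂ)).factorization r = (Nat.card (G ⧸ N)).factorization r →
          ∃ χ : Cfsg.IrrCharacter G,
            (Cfsg.charDegree (χ : G → ℂ)).factorization r = (Nat.card G).factorization r :=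
        fun r η hrN hr hη => ⟨⟨_, CharInduce.IsIrr.comp η.2 (QuotientGroup.mk' N)
          (QuotientGroup.mk'_surjective N)⟩, by
            rw [hfac r hr hrN, ← hη]
            simp [Cfsg.charDegree]⟩
      rcases ih _ hlt (G ⧸ N) rfl (Cores.isPSolvable_quotient hsolv N) hquot with
        ⟨η, hη⟩ | ⟨η, hη⟩
      · exact Or.inl (hinfl p η hNp hp.out hη)
      · exact Or.inr (hinfl q η hqN hq.out hη)

theorem defect_zero_of_pSolvable_or {G : Type*} [Group G] [Finite G] (p q : ℕ) [Fact p.Prime]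
    [Fact q.Prime] (hpq : p ≠ q)
    (hC : ∀ g : G, g ≠ 1 → (∃ k : ℕ, orderOf g = p ^ k) →
      ¬ q ∣ Nat.card ↥(Subgroup.centralizer ({g} : Set G)))
    (hsolv : Cfsg.IsPSolvable p G ∨ Cfsg.IsPSolvable q G) :
    (∃ χ : Cfsg.IrrCharacter G,
      (Cfsg.charDegree (χ : G → ℂ)).factorization p = (Nat.card G).factorization p) ∨
    (∃ χ : Cfsg.IrrCharacter G,
      (Cfsg.charDegree (χ : G → ℂ)).factorization q = (Nat.card G).factorization q) := by
  rcases hsolv with h | h
  · exact defect_zero_of_pSolvable p q hpq _ G rfl h (no_pq_of_centralizer hC)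
  · exact (defect_zero_of_pSolvable q p hpq.symm _ G rfl h
      (fun a ha => no_pq_of_centralizer hC a ⟨ha.2, ha.1⟩)).symm

end Cfsg.Agent.H84
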